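import Mathlib
import Cfsg.Prelude.Def_OddOrderLocal
import Cfsg.Agent.Lib.helper29.Trans2
import Cfsg.Agent.Lib.helper29.OmegaFix
import Cfsg.Agent.Lib.helper1.Coprime
import Cfsg.Agent.Lib.helper54.AxB
import Cfsg.Agent.Lib.helper26.PRank
import Cfsg.Agent.Lib.helper30.NarrowIso
import Cfsg.Agent.Lib.helper28.PConn

/-!
# Bender–Glauberman, Lemma 10.3 (modulo the Uniqueness Theorem and Theorem 10.2)

`bg_10_3`: `C_M(X)` is a uniqueness subgroup when `X ≤ M` is an `α(M)'`-subgroup with
`r(C_{M_α}(X)) ≥ 2`.  The Uniqueness Theorem (B–G 9.6 / statement S1403) and the Hall property of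
`M_α` (B–G 10.2(a) / S1405) are hypotheses here.
-/

set_option autoImplicit false

namespace Cfsg.Agent.Lib.helper71.BGA

open Cfsg Subgroup

variable {G : Type*} [Group G]

/-- Monotonicity of uniqueness subgroups below a maximal subgroup. -/
theorem inUniqueMaximal_mono {A K M : Subgroup G} (hAK : A ≤ K) (hKM : K ≤ M) (hM : IsCoatom M)
    (hA : InUniqueMaximal A) : InUniqueMaximal K := by
  obtain ⟨L, ⟨_, _⟩, huniq⟩ := hA
  have hML : M = L := huniq M ⟨hM, hAK.trans hKM⟩
  refine ⟨M, ⟨hM, hKM⟩, ?_⟩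
  rintro L' ⟨hL', hKL'⟩
  rw [hML]; exact huniq L' ⟨hL', hAK.trans hKL'⟩

theorem map_subtype_le_normalizer {M : Subgroup G} (N : Subgroup M) [hN : N.Normal] :
    M ≤ normalizer ((N.map M.subtype : Subgroup G) : Set G) := by
  intro m hm
  rw [mem_normalizer_iff]
  intro x
  constructor
  · rintro ⟨y, hy, rfl⟩
    exact ⟨⟨m, hm⟩ * y * ⟨m, hm⟩⁻¹, hN.conj_mem y hy ⟨m, hm⟩, rfl⟩
  · rintro ⟨y, hy, hyx⟩
    refine ⟨⟨m, hm⟩⁻¹ * y * ⟨m, hm⟩, ?_, ?_⟩
    · have := hN.conj_mem y hy ⟨m, hm⟩⁻¹
      simpa using this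
    · simp only [Subgroup.coe_subtype, Subgroup.coe_mul, Subgroup.coe_inv] at hyx ⊢
      rw [hyx]; group

theorem alphaCore_le (M : Subgroup G) : alphaCore M ≤ M := by
  unfold alphaCore; exact Subgroup.map_subtype_le _

theorem le_normalizer_alphaCore (M : Subgroup G) : M ≤ normalizer (alphaCore M : Set G) := by
  unfold alphaCore; exact map_subtype_le_normalizer _

theorem sigmaCore_le (M : Subgroup G) : sigmaCore M ≤ M := by
  unfold sigmaCore; exact Subgroup.map_subtype_le _

theorem le_normalizer_sigmaCore (M : Subgroup G) : M ≤ normalizer (sigmaCore M : Set G) := by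
  unfold sigmaCore; exact map_subtype_le_normalizer _

theorem relIndex_map_subtype {M : Subgroup G} (N : Subgroup M) :
    (N.map M.subtype).relIndex M = N.index := by
  unfold Subgroup.relIndex Subgroup.subgroupOf
  rw [Subgroup.comap_map_eq_self_of_injective (Subgroup.subtype_injective M)]

/-- A normal subgroup of `M` of index prime to `p` contains every `p`-subgroup of `M`. -/
theorem le_map_of_isPGroup [Finite G] {M : Subgroup G} (N : Subgroup M) [N.Normal] {p : ℕ}
    [hp : Fact p.Prime] (hidx : ¬ p ∣ N.index) {B : Subgroup G} (hBM : B ≤ M) (hB : IsPGroup p B) :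
    B ≤ N.map M.subtype := by
  intro b hb
  have hbM : b ∈ M := hBM hb
  refine ⟨⟨b, hbM⟩, ?_, rfl⟩
  rw [SetLike.mem_coe, ← QuotientGroup.eq_one_iff (N := N)]
  obtain ⟨k, hk⟩ := hB ⟨b, hb⟩
  have hk' : b ^ p ^ k = 1 := by simpa using congrArg Subtype.val hk
  have h1 : ((⟨b, hbM⟩ : M) : M ⧸ N) ^ (p ^ k) = 1 := by
    rw [← QuotientGroup.mk_pow]
    have : (⟨b, hbM⟩ : M) ^ (p ^ k) = 1 := Subtype.ext (by simpa using hk')
    rw [this]; rfl
  have h2 : ((⟨b, hbM⟩ : M) : M ⧸ N) ^ N.index = 1 := by
    rw [Subgroup.index_eq_card]; exact pow_card_eq_one'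
  have hcop : Nat.Coprime (p ^ k) N.index :=
    Nat.Coprime.pow_left k ((Nat.Prime.coprime_iff_not_dvd hp.out).mpr hidx)
  have h3 := pow_gcd_eq_one.mpr ⟨h1, h2⟩
  rw [hcop, pow_one] at h3
  exact h3

theorem not_prankLE_sylow_map [Finite G] {K : Subgroup G} {p : ℕ} [Fact p.Prime] (P : Sylow p K)
    {B : Subgroup G} (hBK : B ≤ K) (hBe : IsElementaryAbelian p B) (hcard : p ^ 2 < Nat.card B) :
    ¬ PRankLE p 2 ↥((P : Subgroup K).map K.subtype) := by
  intro h
  have h1 : PRankLE p 2 ↥(P : Subgroup K) :=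
    (Cfsg.Agent.Lib.helper26.prankLE_map_iff K.subtype K.subtype_injective (P : Subgroup K)).mp h
  have h2 : PRankLE p 2 ↥K := Cfsg.Agent.Lib.helper30.prankLE_of_sylow p 2 P h1
  exact (Cfsg.Agent.Lib.helper28.not_pRankLE_subgroup_iff p 2 K).mpr ⟨B, hBK, hBe, hcard⟩ h2

/-- If the centralizer of the elementary abelian `p`-group `A` (of order at least `p ^ 2`) has
`p`-rank at most two, every element of order dividing `p` centralizing `A` lies in `A`. -/
theorem mem_of_centralizer_rank [Finite G] {p : ℕ} [Fact p.Prime] (A : Subgroup G)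
    (hAc : ∀ a ∈ A, ∀ b ∈ A, a * b = b * a) (hAp : ∀ a ∈ A, a ^ p = 1)
    (hAcard : p ^ 2 ≤ Nat.card A) (hrk : PRankLE p 2 ↥(centralizer (A : Set G)))
    (y : G) (hy : y ∈ centralizer (A : Set G)) (hyp : y ^ p = 1) : y ∈ A := by
  have hS : ∀ u ∈ (A : Set G) ∪ {y}, ∀ v ∈ (A : Set G) ∪ {y}, u * v = v * u := by
    rintro u (hu | hu) v (hv | hv)
    · exact hAc u hu v hv
    · rw [Set.mem_singleton_iff] at hv; subst hv
      exact (mem_centralizer_iff.mp hy u hu)
    · rw [Set.mem_singleton_iff] at hu; subst hu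
      exact (mem_centralizer_iff.mp hy v hv).symm
    · rw [Set.mem_singleton_iff] at hu hv; subst hu; subst hv; rfl
  have hcl : A ⊔ zpowers y = closure ((A : Set G) ∪ {y}) := by
    rw [Subgroup.closure_union, Subgroup.closure_eq, Subgroup.zpowers_eq_closure]
  have hcomm : ∀ u ∈ A ⊔ zpowers y, ∀ v ∈ A ⊔ zpowers y, u * v = v * u := by
    rw [hcl]
    have h1 : closure ((A : Set G) ∪ {y}) ≤ centralizer ((A : Set G) ∪ {y}) := by
      rw [Subgroup.closure_le]
      intro u hu
      rw [SetLike.mem_coe, mem_centralizer_iff]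
      intro v hv
      exact hS v hv u hu
    have h2 : closure ((A : Set G) ∪ {y}) ≤
        centralizer ((closure ((A : Set G) ∪ {y}) : Subgroup G) : Set G) := by
      rw [Subgroup.closure_le]
      intro u hu
      rw [SetLike.mem_coe, mem_centralizer_iff]
      intro v hv
      exact (mem_centralizer_iff.mp (h1 hv) u hu).symm
    intro u hu v hv
    exact (mem_centralizer_iff.mp (h2 hv) u hu)
  have hexp : ∀ u ∈ A ⊔ zpowers y, u ^ p = 1 := by
    intro u hu
    have hu' : u ∈ closure ((A : Set G) ∪ {y}) := hcl ▸ hu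
    induction hu' using Subgroup.closure_induction with
    | mem x hx =>
      rcases hx with hx | hx
      · exact hAp x hx
      · rw [Set.mem_singleton_iff] at hx; subst hx; exact hyp
    | one => exact one_pow p
    | mul x z hx hz ihx ihz =>
      have hxz : Commute x z := hcomm x (hcl ▸ hx) z (hcl ▸ hz)
      rw [hxz.mul_pow, ihx (hcl ▸ hx), ihz (hcl ▸ hz), one_mul]
    | inv x hx ihx => rw [inv_pow, ihx (hcl ▸ hx), inv_one]
  have hle : A ⊔ zpowers y ≤ centralizer (A : Set G) := by
    refine sup_le ?_ ?_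
    · intro a ha
      rw [mem_centralizer_iff]
      intro b hb
      exact hAc b hb a ha
    · rw [Subgroup.zpowers_le]; exact hy
  have hB : Nat.card ↥(A ⊔ zpowers y) ≤ p ^ 2 := by
    by_contra hlt
    push Not at hlt
    refine (Cfsg.Agent.Lib.helper28.not_pRankLE_subgroup_iff p 2 _).mpr
      ⟨A ⊔ zpowers y, hle, ⟨?_, hexp⟩, hlt⟩ hrk
    exact ⟨⟨fun u v => Subtype.ext (hcomm u u.2 v v.2)⟩⟩
  have heq : A = A ⊔ zpowers y := Subgroup.eq_of_le_of_card_ge le_sup_left (hB.trans hAcard)
  rw [heq]
  exact mem_sup_right (mem_zpowers y)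

/-- **Bender–Glauberman, Lemma 10.3**, with the Uniqueness Theorem and the Hall property of `M_α`
as hypotheses. -/
theorem bg_10_3 [Finite G] (hG : IsMinSimpleOddOrder G)
    (hU : ∀ K : Subgroup G, K ≠ ⊤ → ¬ RankLE 1 K →
      (¬ RankLE 2 K ∨ ¬ RankLE 2 (centralizer (K : Set G))) → InUniqueMaximal K)
    (M : Subgroup G) (hM : IsCoatom M) (hHall : IsPiHallOf (alpha M) (alphaCore M) M)
    (X : Subgroup G) (hXM : X ≤ M)
    (hXα : ∀ p : ℕ, p.Prime → p ∣ Nat.card X → p ∉ alpha M)
    (hr : ¬ RankLE 1 ↥(alphaCore M ⊓ centralizer (X : Set G))) :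
    InUniqueMaximal (M ⊓ centralizer (X : Set G)) := by
  classical
  obtain ⟨hodd, -, -, hsolv⟩ := hG
  have hMtop : M ≠ ⊤ := hM.1
  obtain ⟨p, hp, A, hA_le, hAc, hAp, hAcard⟩ :=
    Cfsg.Agent.Lib.helper29.exists_elemAb_of_not_rankLE hr
  have : Fact p.Prime := ⟨hp⟩
  have hAα : A ≤ alphaCore M := hA_le.trans inf_le_left
  have hAX : A ≤ centralizer (X : Set G) := hA_le.trans inf_le_right
  have hAM : A ≤ M := hAα.trans (alphaCore_le M)
  have hApg : IsPGroup p A := fun a => ⟨1, Subtype.ext (by simpa using hAp a a.2)⟩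
  have hAne : A ≠ ⊥ := by
    rintro rfl
    simp only [Subgroup.card_bot, pow_one] at hAcard
    exact absurd hAcard (by have := hp.two_le; omega)
  have hpA : p ∣ Nat.card A := Cfsg.Agent.Lib.helper29.prime_dvd_card_of_exponent hp hAp hAne
  have hpα : p ∈ alpha M := hHall.2.1 p hp (hpA.trans (Subgroup.card_dvd_of_le hAα))
  have hp2 : p ≠ 2 := by
    rintro rfl
    have h2 : 2 ∣ Nat.card G := hpA.trans (Subgroup.card_subgroup_dvd_card A)
    exact (Nat.not_even_iff_odd.mpr hodd) (even_iff_two_dvd.mpr h2)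
  have hAcard2 : p ^ 2 ≤ Nat.card A := by
    obtain ⟨k, hk⟩ := (IsPGroup.iff_card.mp hApg)
    rw [hk] at hAcard ⊢
    have hk2 : 1 < k := (Nat.pow_lt_pow_iff_right hp.one_lt).mp hAcard
    exact Nat.pow_le_pow_right hp.pos hk2
  have hcop : (Nat.card X).Coprime (Nat.card (alphaCore M)) := by
    by_contra h
    obtain ⟨q, hq, h1, h2⟩ := Nat.Prime.not_coprime_iff_dvd.mp h
    exact hXα q hq h1 (hHall.2.1 q hq h2)
  have hXn : X ≤ normalizer (alphaCore M : Set G) := hXM.trans (le_normalizer_alphaCore M)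
  have hsolvα : Group.IsSolvable (alphaCore M) :=
    hsolv _ (fun h => hMtop (top_le_iff.mp (h ▸ alphaCore_le M)))
  have hXA : X ≤ normalizer (A : Set G) :=
    (Subgroup.le_centralizer_iff.mp hAX).trans (Subgroup.centralizer_le_normalizer _)
  obtain ⟨P, hAP, hXP⟩ := Cfsg.Agent.Lib.helper1.exists_invariant_sylow_ge (p := p) X (alphaCore M)
    hXn hcop (Or.inr hsolvα) A hAα hApg hXA
  have hP'pg : IsPGroup p ((P : Subgroup (alphaCore M)).map (alphaCore M).subtype) :=
    P.isPGroup'.map _
  have hP'M : (P : Subgroup (alphaCore M)).map (alphaCore M).subtype ≤ M :=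
    (Subgroup.map_subtype_le _).trans (alphaCore_le M)
  have hrkP' : ¬ PRankLE p 2 ↥((P : Subgroup (alphaCore M)).map (alphaCore M).subtype) := by
    obtain ⟨B, hBM, hBe, hBcard⟩ :=
      (Cfsg.Agent.Lib.helper28.not_pRankLE_subgroup_iff p 2 M).mp hpα.2
    have hBpg : IsPGroup p B := fun b => ⟨1, Subtype.ext (by simpa using hBe.2 b b.2)⟩
    have hidx : ¬ p ∣ (piCore (alpha M) M).index := by
      have := hHall.2.2 p hp hpα
      unfold alphaCore at this
      rwa [relIndex_map_subtype] at this
    have hBα : B ≤ alphaCore M := le_map_of_isPGroup (piCore (alpha M) M) hidx hBM hBpg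
    exact not_prankLE_sylow_map P hBα hBe hBcard
  by_cases hrk : PRankLE p 2 ↥(centralizer (A : Set G))
  · -- `X` centralizes `P`
    have hΩ := mem_of_centralizer_rank A hAc hAp hAcard2 hrk
    have hPX : (P : Subgroup (alphaCore M)).map (alphaCore M).subtype ≤ centralizer (X : Set G) := by
      intro q hq
      rw [mem_centralizer_iff]
      intro d hd
      have hdord : (orderOf d).Coprime p := by
        have h1 : orderOf d ∣ Nat.card X := by
          have := orderOf_dvd_natCard (⟨d, hd⟩ : X)
          rwa [Subgroup.orderOf_mk] at this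
        have h2 : (Nat.card X).Coprime p :=
          Nat.Coprime.coprime_dvd_right (hpA.trans (Subgroup.card_dvd_of_le hAα)) hcop
        exact Nat.Coprime.coprime_dvd_left h1 h2
      have hdA : ∀ x ∈ A, d * x = x * d := fun x hx => mem_centralizer_iff.mp (hAX hx) d hd
      refine Cfsg.Agent.Lib.helper54.thompson_AxB A hApg d hdord hdA _ hP'pg
        (hAP.trans Subgroup.le_normalizer) (hXP hd) ?_ q hq
      intro q' hq' hq'A
      -- `C_P(A)` is centralized by `d`
      have hC : ((P : Subgroup (alphaCore M)).map (alphaCore M).subtype ⊓ centralizer (A : Set G))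
          ≤ centralizer ((zpowers d : Subgroup G) : Set G) := by
        refine Cfsg.Agent.Lib.helper29.centralizes_of_centralizes_omega hp2 _ (zpowers d)
          (hP'pg.to_le inf_le_left) ?_ ?_ ?_
        · rw [Nat.card_zpowers]; exact hdord
        · rw [Subgroup.zpowers_le]
          have hdP := hXP hd
          have hdCA : d ∈ normalizer ((centralizer (A : Set G) : Subgroup G) : Set G) := by
            have hdcen : d ∈ centralizer (A : Set G) := Subgroup.le_centralizer_iff.mp hAX hd
            rw [mem_normalizer_iff]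
            intro x
            rw [mem_centralizer_iff, mem_centralizer_iff]
            constructor
            · intro hx a ha
              have h1 := hx a ha
              have h2 := mem_centralizer_iff.mp hdcen a ha
              have h3 : a * d⁻¹ = d⁻¹ * a := by
                rw [eq_inv_mul_iff_mul_eq, ← mul_assoc, ← h2, mul_assoc, mul_inv_cancel, mul_one]
              calc a * (d * x * d⁻¹) = (a * d) * x * d⁻¹ := by group
                _ = d * (a * x) * d⁻¹ := by rw [h2]; group
                _ = d * (x * a) * d⁻¹ := by rw [h1]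
                _ = d * x * (a * d⁻¹) := by group
                _ = d * x * (d⁻¹ * a) := by rw [h3]
                _ = d * x * d⁻¹ * a := by group
            · intro hx a ha
              have h1 := hx a ha
              have h2 := mem_centralizer_iff.mp hdcen a ha
              have h3 : a * d⁻¹ = d⁻¹ * a := by
                rw [eq_inv_mul_iff_mul_eq, ← mul_assoc, ← h2, mul_assoc, mul_inv_cancel, mul_one]
              have h4 : d * (a * x) * d⁻¹ = d * (x * a) * d⁻¹ := by
                calc d * (a * x) * d⁻¹ = (a * d) * x * d⁻¹ := by rw [h2]; group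
                  _ = a * (d * x * d⁻¹) := by group
                  _ = d * x * d⁻¹ * a := h1
                  _ = d * x * (d⁻¹ * a) := by group
                  _ = d * x * (a * d⁻¹) := by rw [h3]
                  _ = d * (x * a) * d⁻¹ := by group
              exact mul_left_cancel (mul_right_cancel h4)
          rw [mem_normalizer_iff] at hdP hdCA ⊢
          intro x
          rw [Subgroup.mem_inf, Subgroup.mem_inf, hdP x, hdCA x]
        · intro x hx hxp
          have hxA : x ∈ A := hΩ x (Subgroup.mem_inf.mp hx).2 hxp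
          rw [mem_centralizer_iff]
          intro z hz
          obtain ⟨n, rfl⟩ := Subgroup.mem_zpowers_iff.mp hz
          exact ((Commute.zpow_left (hdA x hxA) n)).eq
      have hq'C : q' ∈ centralizer (A : Set G) := by
        rw [mem_centralizer_iff]; intro a ha; exact hq'A a ha
      exact mem_centralizer_iff.mp (hC (Subgroup.mem_inf.mpr ⟨hq', hq'C⟩)) d (mem_zpowers d)
    have hPK : (P : Subgroup (alphaCore M)).map (alphaCore M).subtype ≤
        M ⊓ centralizer (X : Set G) := le_inf hP'M hPX
    apply hU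
    · exact fun h => hMtop (top_le_iff.mp (h ▸ inf_le_left))
    · intro h1
      apply hrkP'
      intro B hB1 hB2
      exact (Cfsg.Agent.Lib.helper26.prankLE_mono hPK (h1 p hp) B hB1 hB2).trans
        (Nat.pow_le_pow_right hp.pos (by norm_num))
    · left
      intro h2
      exact hrkP' (Cfsg.Agent.Lib.helper26.prankLE_mono hPK (h2 p hp))
  · -- `A` is a uniqueness subgroup
    have hAU : InUniqueMaximal A := by
      apply hU
      · exact fun h => hMtop (top_le_iff.mp (h ▸ hAM))
      · intro h1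
        have := h1 p hp ⊤ ⟨⟨fun u v => Subtype.ext (Subtype.ext (hAc u.1 u.1.2 v.1 v.1.2))⟩⟩
          (fun a _ => Subtype.ext (by simpa using hAp a a.2))
        rw [Subgroup.card_top] at this
        exact absurd this (not_le.mpr hAcard)
      · right
        intro h2
        exact hrk (h2 p hp)
    exact inUniqueMaximal_mono (le_inf hAM hAX) inf_le_left hM hAU

end Cfsg.Agent.Lib.helper71.BGA
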