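import Mathlib
import Cfsg.Prelude.Def_OddOrderLocal
import Cfsg.Agent.Lib.helper71.BGTenA
import Cfsg.Agent.Lib.helper65.Fitting
import Cfsg.Agent.Lib.helper30.RankTwoD
import Cfsg.Agent.Lib.helper54.SylowAux

/-!
# Bender–Glauberman, Lemma 10.4 (modulo the Uniqueness Theorem and Theorem 10.2)
-/

set_option autoImplicit false

namespace Cfsg.Agent.Lib.helper71.BGA

open Cfsg Subgroup

variable {G : Type*} [Group G]

/-- Membership in the image in `G` of the centre of a subgroup `Q` of `M`. -/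
theorem mem_center_map_iff {M : Subgroup G} (Q : Subgroup M) (x : G) :
    x ∈ ((center ↥Q).map Q.subtype).map M.subtype ↔
      x ∈ Q.map M.subtype ∧ ∀ s ∈ Q.map M.subtype, s * x = x * s := by
  constructor
  · rintro ⟨y, ⟨z, hz, rfl⟩, rfl⟩
    refine ⟨⟨z.1, z.2, rfl⟩, ?_⟩
    rintro s ⟨t, ht, rfl⟩
    have h1 := Subgroup.mem_center_iff.mp hz ⟨t, ht⟩
    have h2 := congrArg (fun w : Q => ((w : M) : G)) h1
    simpa using h2
  · rintro ⟨⟨y, hy, rfl⟩, hc⟩
    refine ⟨y, ⟨⟨y, hy⟩, ?_, rfl⟩, rfl⟩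
    rw [SetLike.mem_coe, Subgroup.mem_center_iff]
    intro t
    apply Subtype.ext; apply Subtype.ext
    have := hc t.1 ⟨t.1, t.2, rfl⟩
    simpa using this

theorem normalizer_eq_of_isCoatom [IsSimpleGroup G] {M : Subgroup G} (hM : IsCoatom M)
    (hbot : M ≠ ⊥) : normalizer (M : Set G) = M := by
  by_contra hne
  have hlt : M < normalizer (M : Set G) := lt_of_le_of_ne Subgroup.le_normalizer (Ne.symm hne)
  have htop := hM.2 _ hlt
  have hn : M.Normal := Subgroup.normalizer_eq_top_iff.mp htop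
  rcases hn.eq_bot_or_eq_top with h | h
  · exact hbot h
  · exact hM.1 h

theorem isCoatom_map_conj {M : Subgroup G} (hM : IsCoatom M) (g : G) :
    IsCoatom (M.map (MulAut.conj g).toMonoidHom) :=
  (OrderIso.isCoatom_iff (MulEquiv.mapSubgroup (MulAut.conj g)) M).mpr hM

theorem centralizer_zpowers (x : G) :
    centralizer ((zpowers x : Subgroup G) : Set G) = centralizer ({x} : Set G) := by
  ext c
  rw [mem_centralizer_iff, mem_centralizer_iff]
  constructor
  · intro h y hy
    rw [Set.mem_singleton_iff] at hy; subst hy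
    exact h y (mem_zpowers y)
  · intro h y hy
    obtain ⟨n, rfl⟩ := Subgroup.mem_zpowers_iff.mp hy
    exact (Commute.zpow_left (h x rfl) n).eq

/-- General-`k` version of `mem_of_centralizer_rank`. -/
theorem mem_of_centralizer_rank' [Finite G] {p : ℕ} [Fact p.Prime] (k : ℕ) (A : Subgroup G)
    (hAc : ∀ a ∈ A, ∀ b ∈ A, a * b = b * a) (hAp : ∀ a ∈ A, a ^ p = 1)
    (hAcard : p ^ k ≤ Nat.card A) (hrk : PRankLE p k ↥(centralizer (A : Set G)))
    (y : G) (hy : y ∈ centralizer (A : Set G)) (hyp : y ^ p = 1) : y ∈ A := by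
  have hS : ∀ u ∈ (A : Set G) ∪ {y}, ∀ v ∈ (A : Set G) ∪ {y}, u * v = v * u := by
    rintro u (hu | hu) v (hv | hv)
    · exact hAc u hu v hv
    · rw [Set.mem_singleton_iff] at hv; subst hv
      exact (mem_centralizer_iff.mp hy u hu)
    · rw [Set.mem_singleton_iff] at hu; subst hu
      exact (mem_centralizer_iff.mp hy v hv).symm
    · rw [Set.mem_singleton_iff] at hu hv; subst hu; subst hv; rfl
  have hcl : A ⊔ zpowers y = closure ((A : Set G) ∪ {y}) := by
    rw [Subgroup.closure_union, Subgroup.closure_eq, Subgroup.zpowers_eq_closure]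
  have hcomm : ∀ u ∈ A ⊔ zpowers y, ∀ v ∈ A ⊔ zpowers y, u * v = v * u := by
    rw [hcl]
    have h1 : closure ((A : Set G) ∪ {y}) ≤ centralizer ((A : Set G) ∪ {y}) := by
      rw [Subgroup.closure_le]
      intro u hu
      rw [SetLike.mem_coe, mem_centralizer_iff]
      intro v hv
      exact hS v hv u hu
    have h2 : closure ((A : Set G) ∪ {y}) ≤
        centralizer ((closure ((A : Set G) ∪ {y}) : Subgroup G) : Set G) := by
      rw [Subgroup.closure_le]
      intro u hu
      rw [SetLike.mem_coe, mem_centralizer_iff]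
      intro v hv
      exact (mem_centralizer_iff.mp (h1 hv) u hu).symm
    intro u hu v hv
    exact (mem_centralizer_iff.mp (h2 hv) u hu)
  have hexp : ∀ u ∈ A ⊔ zpowers y, u ^ p = 1 := by
    intro u hu
    have hu' : u ∈ closure ((A : Set G) ∪ {y}) := hcl ▸ hu
    induction hu' using Subgroup.closure_induction with
    | mem x hx =>
      rcases hx with hx | hx
      · exact hAp x hx
      · rw [Set.mem_singleton_iff] at hx; subst hx; exact hyp
    | one => exact one_pow p
    | mul x z hx hz ihx ihz =>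
      have hxz : Commute x z := hcomm x (hcl ▸ hx) z (hcl ▸ hz)
      rw [hxz.mul_pow, ihx (hcl ▸ hx), ihz (hcl ▸ hz), one_mul]
    | inv x hx ihx => rw [inv_pow, ihx (hcl ▸ hx), inv_one]
  have hle : A ⊔ zpowers y ≤ centralizer (A : Set G) := by
    refine sup_le ?_ ?_
    · intro a ha
      rw [mem_centralizer_iff]
      intro b hb
      exact hAc b hb a ha
    · rw [Subgroup.zpowers_le]; exact hy
  have hB : Nat.card ↥(A ⊔ zpowers y) ≤ p ^ k := by
    by_contra hlt
    push Not at hlt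
    refine (Cfsg.Agent.Lib.helper28.not_pRankLE_subgroup_iff p k _).mpr
      ⟨A ⊔ zpowers y, hle, ⟨?_, hexp⟩, hlt⟩ hrk
    exact ⟨⟨fun u v => Subtype.ext (hcomm u u.2 v v.2)⟩⟩
  have heq : A = A ⊔ zpowers y := Subgroup.eq_of_le_of_card_ge le_sup_left (hB.trans hAcard)
  rw [heq]
  exact mem_sup_right (mem_zpowers y)

/-- An odd-order `q`-group of `q`-rank at most one is cyclic. -/
theorem isCyclic_of_prankLE_one {R : Type*} [Group R] [Finite R] (q : ℕ) [hq : Fact q.Prime]
    (hq2 : q ≠ 2) (hR : IsPGroup q R) (hr : PRankLE q 1 R) : IsCyclic R := by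
  by_cases hbot : (⊤ : Subgroup R) = ⊥
  · have : Subsingleton R := by
      refine ⟨fun a b => ?_⟩
      have ha : a ∈ (⊥ : Subgroup R) := hbot ▸ Subgroup.mem_top a
      have hb : b ∈ (⊥ : Subgroup R) := hbot ▸ Subgroup.mem_top b
      rw [Subgroup.mem_bot] at ha hb
      rw [ha, hb]
    exact isCyclic_of_subsingleton
  · have hTp : IsPGroup q (⊤ : Subgroup R) := hR.to_subgroup ⊤
    obtain ⟨z, -, hzord, hzc⟩ :=
      Cfsg.Agent.Lib.helper54.exists_central_orderOf_eq_prime hTp hbot
    have hZ : Nat.card (zpowers z) = q := by rw [Nat.card_zpowers, hzord]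
    have hcen : ∀ y : R, y ∈ centralizer ((zpowers z : Subgroup R) : Set R) := by
      intro y
      rw [centralizer_zpowers, mem_centralizer_iff]
      intro w hw
      rw [Set.mem_singleton_iff] at hw; subst hw
      exact (hzc y (Subgroup.mem_top y)).symm
    have hcyc : IsCyclic ↥(⊤ : Subgroup R) := by
      refine Cfsg.Agent.Lib.helper30.isCyclic_of_omega_le q hq2 ⊤ (zpowers z) hTp hZ ?_
      intro x _ hxq
      refine mem_of_centralizer_rank' 1 (zpowers z) ?_ ?_ ?_ ?_ x (hcen x) hxq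
      · intro a ha b hb
        obtain ⟨m, rfl⟩ := Subgroup.mem_zpowers_iff.mp ha
        obtain ⟨n, rfl⟩ := Subgroup.mem_zpowers_iff.mp hb
        exact (Commute.zpow_zpow_self z m n).eq
      · intro a ha
        obtain ⟨m, rfl⟩ := Subgroup.mem_zpowers_iff.mp ha
        rw [← zpow_natCast, ← zpow_mul, mul_comm, zpow_mul, zpow_natCast, ← hzord,
          pow_orderOf_eq_one, one_zpow]
      · rw [hZ, pow_one]
      · exact Cfsg.Agent.Lib.helper26.prankLE_subgroup _ hr
    exact isCyclic_of_surjective (Subgroup.topEquiv : (⊤ : Subgroup R) ≃* R)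
      (Subgroup.topEquiv : (⊤ : Subgroup R) ≃* R).surjective

/-- An odd-order group of rank at most one is a Z-group. -/
theorem isZGroup_of_rankLE_one {H : Type*} [Group H] [Finite H] (hodd : Odd (Nat.card H))
    (hr : RankLE 1 H) : IsZGroup H := by
  refine ⟨fun q hq Q => ?_⟩
  have : Fact q.Prime := ⟨hq⟩
  by_cases hq2 : q = 2
  · subst hq2
    have h1 : Nat.card (Q : Subgroup H) = 1 := by
      obtain ⟨k, hk⟩ := IsPGroup.iff_card.mp Q.isPGroup'
      have hdvd : Nat.card (Q : Subgroup H) ∣ Nat.card H := Subgroup.card_subgroup_dvd_card _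
      rw [hk] at hdvd ⊢
      rcases Nat.eq_zero_or_pos k with rfl | hkpos
      · simp
      · exfalso
        have h2 : 2 ∣ Nat.card H := (dvd_pow_self 2 hkpos.ne').trans hdvd
        exact (Nat.not_even_iff_odd.mpr hodd) (even_iff_two_dvd.mpr h2)
    have : Subsingleton (Q : Subgroup H) := (Nat.card_eq_one_iff_unique.mp h1).1
    exact isCyclic_of_subsingleton
  · exact isCyclic_of_prankLE_one q hq2 Q.isPGroup'
      (Cfsg.Agent.Lib.helper26.prankLE_subgroup _ (hr q hq))

/-- Element form of Lemma 10.3: if `x ∈ M` is a nontrivial `α(M)'`-element with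
`r(C_{M_α}(x)) ≥ 2`, then `M` is the unique maximal subgroup containing `C_G(x)`. -/
theorem bg_10_3_elt [Finite G] (hG : IsMinSimpleOddOrder G)
    (hU : ∀ K : Subgroup G, K ≠ ⊤ → ¬ RankLE 1 K →
      (¬ RankLE 2 K ∨ ¬ RankLE 2 (centralizer (K : Set G))) → InUniqueMaximal K)
    (M : Subgroup G) (hM : IsCoatom M) (hHall : IsPiHallOf (alpha M) (alphaCore M) M)
    (x : G) (hxM : x ∈ M) (hx1 : x ≠ 1)
    (hxα : ∀ q : ℕ, q.Prime → q ∣ orderOf x → q ∉ alpha M)
    (hr : ¬ RankLE 1 ↥(alphaCore M ⊓ centralizer ({x} : Set G))) :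
    centralizer ({x} : Set G) ≤ M ∧
      ∀ L : Subgroup G, IsCoatom L → centralizer ({x} : Set G) ≤ L → L = M := by
  have hG' := hG
  obtain ⟨-, hsimp, hnc, -⟩ := hG
  have := hsimp
  have h3 : InUniqueMaximal (M ⊓ centralizer ((zpowers x : Subgroup G) : Set G)) := by
    refine bg_10_3 hG' hU M hM hHall (zpowers x) ?_ ?_ ?_
    · rw [Subgroup.zpowers_le]; exact hxM
    · intro q hq hqx
      rw [Nat.card_zpowers] at hqx
      exact hxα q hq hqx
    · rw [centralizer_zpowers]; exact hr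
  rw [centralizer_zpowers] at h3
  obtain ⟨L₀, ⟨-, -⟩, huniq⟩ := h3
  have hML : M = L₀ := huniq M ⟨hM, inf_le_left⟩
  have hne : centralizer ({x} : Set G) ≠ ⊤ :=
    Cfsg.Agent.Lib.helper29.centralizer_singleton_ne_top hnc hx1
  have key : ∀ L : Subgroup G, IsCoatom L → centralizer ({x} : Set G) ≤ L → L = M := by
    intro L hL hCL
    rw [hML]
    exact huniq L ⟨hL, inf_le_right.trans hCL⟩
  refine ⟨?_, key⟩
  obtain ⟨L, hL, hCL⟩ := (eq_top_or_exists_le_coatom (centralizer ({x} : Set G))).resolve_left hne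
  rw [← key L hL hCL]; exact hCL

/-- **Bender–Glauberman, Lemma 10.4**, with the Uniqueness Theorem and the needed parts of
Theorem 10.2 as hypotheses. -/
theorem bg_10_4 [Finite G] (hG : IsMinSimpleOddOrder G)
    (hU : ∀ K : Subgroup G, K ≠ ⊤ → ¬ RankLE 1 K →
      (¬ RankLE 2 K ∨ ¬ RankLE 2 (centralizer (K : Set G))) → InUniqueMaximal K)
    (M : Subgroup G) (hM : IsCoatom M) (hHall : IsPiHallOf (alpha M) (alphaCore M) M)
    (hασ : alphaCore M ≤ sigmaCore M)
    (p : ℕ) [Fact p.Prime] (hpM : p ∣ Nat.card M) (hp : p ∉ sigma M) (P : Sylow p M) :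
    ∃ x : G, x ∈ ((center ↥(P : Subgroup M)).map (P : Subgroup M).subtype).map M.subtype ∧
        orderOf x = p ∧ IsZGroup ↥(alphaCore M ⊓ centralizer ({x} : Set G)) ∧
        ¬ (centralizer ({x} : Set G) ≤ M ∧
          ∀ L : Subgroup G, IsCoatom L → centralizer ({x} : Set G) ≤ L → L = M) := by
  classical
  have hG' := hG
  obtain ⟨hodd, hsimp, hnc, hsolv⟩ := hG
  have := hsimp
  have hpp : p.Prime := Fact.out
  have hMbot : M ≠ ⊥ := by
    rintro rfl
    rw [Subgroup.card_bot] at hpM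
    exact hpp.one_lt.ne' (Nat.dvd_one.mp hpM)
  have hNM := normalizer_eq_of_isCoatom hM hMbot
  have hP₁pg : IsPGroup p ((P : Subgroup M).map M.subtype) := P.isPGroup'.map _
  have hP₁ne : (P : Subgroup M).map M.subtype ≠ ⊥ := by
    intro h
    rw [Subgroup.map_eq_bot_iff_of_injective _ (Subgroup.subtype_injective M)] at h
    exact Sylow.ne_bot_of_dvd_card P hpM h
  have hP₁M : (P : Subgroup M).map M.subtype ≤ M := Subgroup.map_subtype_le _
  obtain ⟨x₀, hx₀P, hx₀ord, hx₀c⟩ :=
    Cfsg.Agent.Lib.helper54.exists_central_orderOf_eq_prime hP₁pg hP₁ne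
  have hA : ∃ x : G, (x ∈ (P : Subgroup M).map M.subtype ∧
      ∀ s ∈ (P : Subgroup M).map M.subtype, s * x = x * s) ∧ orderOf x = p ∧
      ¬ (centralizer ({x} : Set G) ≤ M ∧
        ∀ L : Subgroup G, IsCoatom L → centralizer ({x} : Set G) ≤ L → L = M) := by
    by_contra hcon
    push Not at hcon
    apply hp
    refine ⟨hpp, hpM, P, ?_⟩
    intro g hg
    have hx'P : g * x₀ * g⁻¹ ∈ (P : Subgroup M).map M.subtype :=
      (mem_normalizer_iff.mp hg x₀).mp hx₀P
    have hx'c : ∀ s ∈ (P : Subgroup M).map M.subtype,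
        s * (g * x₀ * g⁻¹) = (g * x₀ * g⁻¹) * s := by
      intro s hs
      have h1 : g⁻¹ * s * g ∈ (P : Subgroup M).map M.subtype :=
        (mem_normalizer_iff''.mp hg s).mp hs
      have h2 := hx₀c _ h1
      calc s * (g * x₀ * g⁻¹) = g * (g⁻¹ * s * g * x₀) * g⁻¹ := by group
        _ = g * (x₀ * (g⁻¹ * s * g)) * g⁻¹ := by rw [h2]
        _ = (g * x₀ * g⁻¹) * s := by group
    have hx'ord : orderOf (g * x₀ * g⁻¹) = p := by
      rw [← hx₀ord]; exact (MulAut.conj g).orderOf_eq x₀
    obtain ⟨h0M, -⟩ := hcon x₀ ⟨hx₀P, hx₀c⟩ hx₀ord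
    obtain ⟨-, h'u⟩ := hcon _ ⟨hx'P, hx'c⟩ hx'ord
    have hL : M.map (MulAut.conj g).toMonoidHom = M := by
      apply h'u _ (isCoatom_map_conj hM g)
      intro c hc
      refine ⟨g⁻¹ * c * g, h0M ?_, ?_⟩
      · rw [mem_centralizer_iff] at hc ⊢
        intro y hy
        rw [Set.mem_singleton_iff] at hy; subst hy
        have h5 := hc (g * y * g⁻¹) rfl
        calc y * (g⁻¹ * c * g) = g⁻¹ * (g * y * g⁻¹ * c) * g := by group
          _ = g⁻¹ * (c * (g * y * g⁻¹)) * g := by rw [h5]
          _ = g⁻¹ * c * g * y := by group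
      · simp only [MulEquiv.coe_toMonoidHom, MulAut.conj_apply]; group
    rw [← hNM, mem_normalizer_iff]
    intro m
    constructor
    · intro hm
      rw [← hL]
      exact ⟨m, hm, by simp [MulAut.conj_apply]⟩
    · intro hm
      rw [← hL] at hm
      obtain ⟨m', hm', he⟩ := hm
      have h6 : m' = m := by simpa [MulAut.conj_apply] using he
      exact h6 ▸ hm'
  obtain ⟨x, hxZ, hxord, hxn⟩ := hA
  refine ⟨x, (mem_center_map_iff (P : Subgroup M) x).mpr hxZ, hxord, ?_, hxn⟩
  have hx1 : x ≠ 1 := by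
    rintro rfl
    rw [orderOf_one] at hxord
    exact hpp.one_lt.ne hxord
  have hpα : p ∉ alpha M := by
    intro hpa
    apply hp
    have h1 : ¬ p ∣ (alphaCore M).relIndex M := hHall.2.2 p hpp hpa
    have h2 : p ∣ Nat.card (alphaCore M) := by
      have h7 := Subgroup.card_mul_index (piCore (alpha M) M)
      have h9 : Nat.card (alphaCore M) = Nat.card (piCore (alpha M) M) := by
        unfold alphaCore
        exact Subgroup.card_map_of_injective (Subgroup.subtype_injective M)
      have h10 : (alphaCore M).relIndex M = (piCore (alpha M) M).index := by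
        unfold alphaCore
        exact relIndex_map_subtype _
      rw [h10] at h1
      rw [← h7] at hpM
      rw [h9]
      exact (hpp.dvd_mul.mp hpM).resolve_right h1
    have h3 : p ∣ Nat.card (sigmaCore M) := h2.trans (Subgroup.card_dvd_of_le hασ)
    have h4 : Nat.card (sigmaCore M) = Nat.card (piCore (sigma M) M) := by
      unfold sigmaCore
      exact Subgroup.card_map_of_injective (Subgroup.subtype_injective M)
    rw [h4] at h3
    exact Cfsg.Agent.Lib.helper65.piCore_isPiGrp (sigma M) p hpp h3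
  have hrk : RankLE 1 ↥(alphaCore M ⊓ centralizer ({x} : Set G)) := by
    by_contra hr
    refine hxn (bg_10_3_elt hG' hU M hM hHall x (hP₁M hxZ.1) hx1 ?_ hr)
    intro q hq hqx
    rw [hxord] at hqx
    have h8 := (Nat.prime_dvd_prime_iff_eq hq hpp).mp hqx
    subst h8
    exact hpα
  exact isZGroup_of_rankLE_one (hodd.of_dvd_nat (Subgroup.card_subgroup_dvd_card _)) hrk

end Cfsg.Agent.Lib.helper71.BGA
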