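import Mathlib
import Cfsg.Agent.Lib.helper13.BGExc
import Cfsg.Agent.Lib.helper8.BGTwelve
import Cfsg.Agent.Lib.helper71.BGTenB
import Cfsg.Agent.Lib.helper1.Coprime
import Cfsg.Agent.Lib.helper37.CoprimeGen

/-!
# Auxiliary lemmas for Bender–Glauberman, Proposition 12.4 (statement S1416)

Normal Sylow subgroups of nilpotent normal subgroups, a criterion for `p ∈ σ(M)`, and the
coprime-generation step for an elementary abelian group of order `p ^ 2`.
-/

set_option autoImplicit false

namespace Cfsg.Agent.Lib.helper71.BG12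

open Cfsg Subgroup Cfsg.Agent.Lib.helper13 Cfsg.Agent.Lib.helper8 Cfsg.Agent.Lib.helper71.BGA

variable {G : Type*} [Group G]

theorem le_normalizer_of_forall_conj_mem {M S : Subgroup G}
    (h : ∀ m ∈ M, ∀ s ∈ S, m * s * m⁻¹ ∈ S) : M ≤ normalizer (S : Set G) := by
  intro m hm
  rw [mem_normalizer_iff]
  intro s
  constructor
  · exact fun hs => h m hm s hs
  · intro hs
    have h1 := h m⁻¹ (M.inv_mem hm) _ hs
    have h2 : m⁻¹ * (m * s * m⁻¹) * m⁻¹⁻¹ = s := by group
    rw [h2] at h1; exact h1

theorem normalizer_ne_top' (hG : IsMinSimpleOddOrder G) {D : Subgroup G} (hD1 : D ≠ ⊥)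
    (hDtop : D ≠ ⊤) : normalizer (D : Set G) ≠ ⊤ := by
  obtain ⟨-, hsimp, -, -⟩ := hG
  have := hsimp
  intro htop
  have hn : D.Normal := Subgroup.normalizer_eq_top_iff.mp htop
  rcases hn.eq_bot_or_eq_top with h | h
  · exact hD1 h
  · exact hDtop h

/-- In a nilpotent subgroup `N` normalized by `M`, a Sylow `p`-subgroup of `N` is normalized by `M`. -/
theorem le_normalizer_of_nilpotent [Finite G] {p : ℕ} [Fact p.Prime] {M N S : Subgroup G}
    (hN : Group.IsNilpotent ↥N) (hMN : M ≤ normalizer (N : Set G)) (hSN : S ≤ N)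
    (hS : IsPGroup p S) (hidx : ¬ p ∣ S.relIndex N) : M ≤ normalizer (S : Set G) := by
  classical
  apply le_normalizer_of_forall_conj_mem
  intro m hm s hs
  have hS' : IsPGroup p (S.subgroupOf N) := hS.comap_of_injective N.subtype N.subtype_injective
  let P : Sylow p N := hS'.toSylow hidx
  have hPn : (P : Subgroup N).Normal :=
    ((Group.isNilpotent_of_finite_tfae (G := ↥N)).out 0 3 rfl rfl).mp hN p inferInstance P
  have hTN : S.map (MulAut.conj m).toMonoidHom ≤ N := by
    rintro _ ⟨t, ht, rfl⟩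
    exact (mem_normalizer_iff.mp (hMN hm) t).mp (hSN ht)
  have hT : IsPGroup p (S.map (MulAut.conj m).toMonoidHom) := hS.map _
  have hT' : IsPGroup p ((S.map (MulAut.conj m).toMonoidHom).subgroupOf N) :=
    hT.comap_of_injective N.subtype N.subtype_injective
  obtain ⟨Q, hQ⟩ := hT'.exists_le_sylow
  have hQP : Q = P := by
    have := Sylow.unique_of_normal P hPn
    exact Subsingleton.elim _ _
  have hmemT : m * s * m⁻¹ ∈ S.map (MulAut.conj m).toMonoidHom := ⟨s, hs, rfl⟩
  have hmem : (⟨m * s * m⁻¹, hTN hmemT⟩ : N) ∈ (P : Subgroup N) := by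
    rw [← hQP]
    apply hQ
    rw [mem_subgroupOf]
    exact hmemT
  have hPS : (P : Subgroup N) = S.subgroupOf N := rfl
  rw [hPS, mem_subgroupOf] at hmem
  exact hmem

/-- A Sylow `p`-subgroup of `G` contained in `M` with normalizer in `M` puts `p` in `σ(M)`. -/
theorem mem_sigma_of_sylow [Finite G] {M S : Subgroup G} {p : ℕ} [Fact p.Prime]
    (hS : IsPGroup p S) (hidx : ¬ p ∣ S.index) (hSM : S ≤ M) (hS1 : S ≠ ⊥)
    (hN : normalizer (S : Set G) ≤ M) : p ∈ sigma M := by
  have hpp : p.Prime := Fact.out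
  have hS' : IsPGroup p (S.subgroupOf M) := hS.comap_of_injective M.subtype M.subtype_injective
  have hidx' : ¬ p ∣ (S.subgroupOf M).index := by
    intro h
    apply hidx
    have h1 := Subgroup.relIndex_mul_index hSM
    rw [← h1]
    exact Dvd.dvd.mul_right h _
  refine ⟨hpp, ?_, hS'.toSylow hidx', ?_⟩
  · have h1 : p ∣ Nat.card S := by
      obtain ⟨n, hn⟩ := IsPGroup.iff_card.mp hS
      rcases Nat.eq_zero_or_pos n with rfl | hpos
      · exfalso
        apply hS1
        rw [pow_zero] at hn
        exact Subgroup.card_eq_one.mp hn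
      · rw [hn]; exact dvd_pow_self p hpos.ne'
    exact h1.trans (Subgroup.card_dvd_of_le hSM)
  · have h2 : ((hS'.toSylow hidx' : Sylow p M) : Subgroup M).map M.subtype = S := by
      rw [IsPGroup.toSylow_coe]
      exact Subgroup.map_subgroupOf_eq_of_le hSM
    rw [h2]; exact hN

theorem not_dvd_index_map_of_sigma [Finite G] {M : Subgroup G} {p : ℕ} [Fact p.Prime]
    (hp : p ∈ sigma M) (P : Sylow p M) : ¬ p ∣ ((P : Subgroup M).map M.subtype).index := by
  have hpp : p.Prime := Fact.out
  rw [Subgroup.index_map_subtype]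
  intro h
  rcases hpp.dvd_mul.mp h with h | h
  · exact P.not_dvd_index h
  · exact bg_sigma_not_dvd_index M hp h

theorem exists_card_eq_prime_le [Finite G] {p : ℕ} [Fact p.Prime] {B : Subgroup G}
    (hB : ∀ b ∈ B, b ^ p = 1) (hne : B ≠ ⊥) : ∃ X : Subgroup G, X ≤ B ∧ Nat.card X = p := by
  have hpp : p.Prime := Fact.out
  obtain ⟨b, hb1⟩ := (Subgroup.ne_bot_iff_exists_ne_one).mp hne
  have hb1' : (b : G) ≠ 1 := fun h => hb1 (Subtype.ext h)
  refine ⟨zpowers (b : G), by rw [zpowers_le]; exact b.2, ?_⟩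
  rw [Nat.card_zpowers]
  exact orderOf_eq_prime (hB b b.2) hb1'

/-- Coprime generation: if `A` is elementary abelian of order `p ^ 2` acting on the solvable
`p'`-group `K`, and `A` centralizes `C_K(X)` for every subgroup `X` of order `p` of `A`, then `A`
centralizes `K`. -/
theorem le_centralizer_of_hyperplanes [Finite G] (p : ℕ) [Fact p.Prime] (A K : Subgroup G)
    (hA : IsElementaryAbelian p A) (hA2 : Nat.card A = p ^ 2)
    (hAK : A ≤ normalizer (K : Set G)) (hcop : (Nat.card K).Coprime p)
    (hsolv : Group.IsSolvable K)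
    (h : ∀ X : Subgroup G, X ≤ A → Nat.card X = p →
      K ⊓ centralizer (X : Set G) ≤ centralizer (A : Set G)) :
    K ≤ centralizer (A : Set G) := by
  classical
  have hpp : p.Prime := Fact.out
  obtain ⟨hAc, hAp⟩ := (bg_elemAb_iff A).mp hA
  have hcop' : (Nat.card A).Coprime (Nat.card K) := by
    rw [hA2]; exact Nat.Coprime.pow_left 2 hcop.symm
  have key : K ≤ K ⊓ centralizer (A : Set G) := by
    rw [← Subgroup.relIndex_eq_one]
    by_contra hne
    obtain ⟨q, hq, hqd⟩ := Nat.exists_prime_and_dvd hne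
    have : Fact q.Prime := ⟨hq⟩
    obtain ⟨P, hP⟩ := Cfsg.Agent.Lib.helper1.exists_invariant_sylow (p := q) A K hAK hcop'
      (Or.inr hsolv)
    have hQK : (P : Subgroup K).map K.subtype ≤ K := Subgroup.map_subtype_le _
    have hQ : IsPGroup q ((P : Subgroup K).map K.subtype) := P.isPGroup'.map _
    have hQA : (P : Subgroup K).map K.subtype ≤ centralizer (A : Set G) := by
      by_cases hqp : q = p
      · subst hqp
        have h1 : Nat.card ((P : Subgroup K).map K.subtype) = 1 := by
          obtain ⟨n, hn⟩ := IsPGroup.iff_card.mp hQ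
          have h2 : q ^ n ∣ Nat.card K := hn ▸ Subgroup.card_dvd_of_le hQK
          rcases Nat.eq_zero_or_pos n with rfl | hpos
          · rw [hn, pow_zero]
          · exfalso
            have h3 : q ∣ Nat.card K := (dvd_pow_self q hpos.ne').trans h2
            exact (Nat.Prime.coprime_iff_not_dvd hq).mp hcop.symm h3
        rw [Subgroup.card_eq_one.mp h1]; exact bot_le
      · have h1 := Cfsg.Agent.Lib.helper37.qgroup_le_iSup_centralizer p q (Ne.symm hqp) A
          ((P : Subgroup K).map K.subtype) hAc hAp hQ hP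
        refine h1.trans (iSup_le ?_)
        rintro ⟨B, hBA, hBi⟩
        have hBne : B ≠ ⊥ := by
          rintro rfl
          rw [Subgroup.relIndex_bot_left, hA2] at hBi
          have := hpp.one_lt
          nlinarith
        obtain ⟨X, hXB, hXc⟩ := exists_card_eq_prime_le (p := p) (fun b hb => hAp b (hBA hb)) hBne
        have h2 : centralizer (B : Set G) ≤ centralizer (X : Set G) :=
          Subgroup.centralizer_le hXB
        exact (inf_le_inf hQK h2).trans (h X (hXB.trans hBA) hXc)
    have h5 : (P : Subgroup K).map K.subtype ≤ K ⊓ centralizer (A : Set G) := le_inf hQK hQA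
    have h6 := Subgroup.relIndex_mul_relIndex ((P : Subgroup K).map K.subtype)
      (K ⊓ centralizer (A : Set G)) K h5 inf_le_left
    have h7 : ((P : Subgroup K).map K.subtype).relIndex K = (P : Subgroup K).index :=
      relIndex_map_subtype _
    rw [h7] at h6
    exact P.not_dvd_index (h6 ▸ Dvd.dvd.mul_left hqd _)
  exact key.trans inf_le_right

end Cfsg.Agent.Lib.helper71.BG12
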