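import Mathlib
import Cfsg.Agent.Lib.helper71.BGTwelveAux

/-!
# Bender–Glauberman, Proposition 12.4 (statement S1416) from Lemma 12.3

`bg_12_4_of` derives the statement of S1416 from B-G 12.3 (a), (b') (`P12_3a`, `P12_3b` of the
interface `Cfsg.Agent.Lib.helper13.BGExc`) and the two final steps (iii), (iv), which are taken as
hypotheses here.
-/

set_option autoImplicit false

namespace Cfsg.Agent.Lib.helper71.BG12

open Cfsg Subgroup Cfsg.Agent.Lib.helper13 Cfsg.Agent.Lib.helper8 Cfsg.Agent.Lib.helper71.BGA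

variable {G : Type*} [Group G]

theorem eq_of_inUniqueMaximal {K M L : Subgroup G} (hK : InUniqueMaximal K) (hM : IsCoatom M)
    (hKM : K ≤ M) (hL : IsCoatom L) (hKL : K ≤ L) : L = M := by
  obtain ⟨L₀, -, huniq⟩ := hK
  rw [huniq L ⟨hL, hKL⟩, huniq M ⟨hM, hKM⟩]

theorem isPGroup_of_elemAb {p : ℕ} {B : Subgroup G} (hB : IsElementaryAbelian p B) :
    IsPGroup p B := by
  intro b
  refine ⟨1, ?_⟩
  rw [pow_one]
  exact Subtype.ext (by simpa using hB.2 b b.2)

theorem ne_bot_of_card_sq {p : ℕ} (hp : p.Prime) {A : Subgroup G} (hA2 : Nat.card A = p ^ 2) :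
    A ≠ ⊥ := by
  rintro rfl
  rw [Subgroup.card_bot] at hA2
  have := hp.one_lt
  nlinarith

theorem inUniqueMaximal_of_elemAb (hU : BGUniqHyp G) {q : ℕ} (hq : q.Prime) {B M : Subgroup G}
    (hM : IsCoatom M) (hBM : B ≤ M) (hBe : IsElementaryAbelian q B) (hBcard : q ^ 2 < Nat.card B) :
    InUniqueMaximal B := by
  apply hU B (ne_top_of_le_ne_top hM.1 hBM)
  · intro h
    exact bg_not_rankLE_of_elemAb hq hBe (k := 1)
      (lt_of_le_of_lt (Nat.pow_le_pow_right hq.pos (by norm_num)) hBcard) h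
  · left; exact bg_not_rankLE_of_elemAb hq hBe hBcard

/-- If no subgroup `A₀` of order `p` of `A` has `M` as the only maximal subgroup over `N(A₀)`,
then every such `A₀` has its normalizer in a maximal subgroup other than `M`. -/
theorem exists_coatom_ne [Finite G] (hG : IsMinSimpleOddOrder G) (M : Subgroup G) (hM : IsCoatom M)
    {p : ℕ} [Fact p.Prime] {A : Subgroup G} (hAM : A ≤ M)
    (hH : ¬ ∃ A₀ : Subgroup G, A₀ ≤ A ∧ Nat.card A₀ = p ∧ (normalizer (A₀ : Set G) ≤ M ∧
      ∀ L : Subgroup G, IsCoatom L → normalizer (A₀ : Set G) ≤ L → L = M))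
    (X : Subgroup G) (hXA : X ≤ A) (hXc : Nat.card X = p) :
    ∃ H : Subgroup G, IsCoatom H ∧ H ≠ M ∧ normalizer (X : Set G) ≤ H := by
  have hpp : p.Prime := Fact.out
  by_contra hcon
  push Not at hcon
  apply hH
  have hX1 : X ≠ ⊥ := by
    rintro rfl
    rw [Subgroup.card_bot] at hXc
    exact hpp.one_lt.ne hXc
  have hXtop : X ≠ ⊤ := ne_top_of_le_ne_top hM.1 (hXA.trans hAM)
  obtain ⟨L, hL, hNL⟩ := (eq_top_or_exists_le_coatom (normalizer (X : Set G))).resolve_left
    (normalizer_ne_top' hG hX1 hXtop)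
  have huniq : ∀ L : Subgroup G, IsCoatom L → normalizer (X : Set G) ≤ L → L = M := by
    intro L' hL' hNL'
    by_contra hne
    exact hcon L' hL' hne hNL'
  exact ⟨X, hXA, hXc, (huniq L hL hNL) ▸ hNL, huniq⟩

/-- Case 2 of B-G 12.4: `p ∉ α(M)`. -/
theorem not_mem_alpha [Finite G] (hU : BGUniqHyp G) (M : Subgroup G) (hM : IsCoatom M)
    {p : ℕ} [Fact p.Prime] {A : Subgroup G} (hAM : A ≤ M) (hAe : IsElementaryAbelian p A)
    (hA2 : Nat.card A = p ^ 2)
    (hH' : ∀ X : Subgroup G, X ≤ A → Nat.card X = p →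
      ∃ H : Subgroup G, IsCoatom H ∧ H ≠ M ∧ normalizer (X : Set G) ≤ H) :
    p ∉ alpha M := by
  classical
  have hpp : p.Prime := Fact.out
  rintro ⟨-, hr⟩
  obtain ⟨hAc, hAp⟩ := (bg_elemAb_iff A).mp hAe
  obtain ⟨B, hBM, hBe, hBcard⟩ :=
    (Cfsg.Agent.Lib.helper28.not_pRankLE_subgroup_iff p 2 M).mp hr
  have hApg : IsPGroup p A := IsPGroup.of_card hA2
  have hA' : IsPGroup p (A.subgroupOf M) :=
    hApg.comap_of_injective M.subtype M.subtype_injective
  obtain ⟨P, hP⟩ := hA'.exists_le_sylow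
  set P₁ : Subgroup G := (P : Subgroup M).map M.subtype with hP₁
  have hP₁M : P₁ ≤ M := Subgroup.map_subtype_le _
  have hAP₁ : A ≤ P₁ := by
    intro a ha
    exact ⟨⟨a, hAM ha⟩, hP (mem_subgroupOf.mpr ha), rfl⟩
  have hP₁pg : IsPGroup p P₁ := P.isPGroup'.map _
  have hP₁r : ¬ PRankLE p 2 ↥P₁ := not_prankLE_sylow_map P hBM hBe hBcard
  have hP₁U : InUniqueMaximal P₁ := by
    apply hU P₁ (ne_top_of_le_ne_top hM.1 hP₁M)
    · intro h
      apply hP₁r
      intro C hc he
      exact (h p hpp C hc he).trans (Nat.pow_le_pow_right hpp.pos (by norm_num))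
    · left; intro h; exact hP₁r (h p hpp)
  have hAne : A ≠ ⊥ := ne_bot_of_card_sq hpp hA2
  have hP₁ne : P₁ ≠ ⊥ := by
    intro h
    apply hAne
    rw [h] at hAP₁
    exact le_bot_iff.mp hAP₁
  obtain ⟨z, hzP, hzo, hzc⟩ :=
    Cfsg.Agent.Lib.helper54.exists_central_orderOf_eq_prime hP₁pg hP₁ne
  by_cases hzA : z ∈ A
  · obtain ⟨H, hH, hHM, hNH⟩ := hH' (zpowers z) (by rw [zpowers_le]; exact hzA)
      (by rw [Nat.card_zpowers, hzo])
    apply hHM
    apply eq_of_inUniqueMaximal hP₁U hM hP₁M hH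
    refine le_trans ?_ hNH
    intro s hs
    apply Subgroup.centralizer_le_normalizer
    rw [mem_centralizer_iff]
    intro h hh
    obtain ⟨k, rfl⟩ := mem_zpowers_iff.mp hh
    exact ((Commute.zpow_right (hzc s hs) k)).eq.symm
  · set W : Subgroup G := A ⊔ zpowers z with hW
    have hzp : z ^ p = 1 := by rw [← hzo]; exact pow_orderOf_eq_one z
    have hZe : IsElementaryAbelian p (zpowers z) := by
      rw [bg_elemAb_iff]
      refine ⟨?_, ?_⟩
      · intro a ha b hb
        obtain ⟨i, rfl⟩ := mem_zpowers_iff.mp ha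
        obtain ⟨j, rfl⟩ := mem_zpowers_iff.mp hb
        exact ((Commute.refl z).zpow_zpow i j).eq
      · intro a ha
        obtain ⟨i, rfl⟩ := mem_zpowers_iff.mp ha
        rw [← zpow_natCast, ← zpow_mul, mul_comm, zpow_mul, zpow_natCast, hzp, one_zpow]
    have hWe : IsElementaryAbelian p W := by
      apply bg_elemAb_sup A (zpowers z) hAe hZe
      intro x hx y hy
      obtain ⟨i, rfl⟩ := mem_zpowers_iff.mp hy
      exact (Commute.zpow_right (hzc x (hAP₁ hx)) i).eq
    have hWM : W ≤ M := sup_le hAM (by rw [zpowers_le]; exact hP₁M hzP)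
    have hAW : A < W := by
      refine lt_of_le_of_ne le_sup_left ?_
      intro h
      apply hzA
      rw [h]
      exact (le_sup_right : zpowers z ≤ W) (mem_zpowers z)
    have hWcard : p ^ 2 < Nat.card W := by
      by_contra hle
      push Not at hle
      rw [← hA2] at hle
      exact hAW.ne (Subgroup.eq_of_le_of_card_ge hAW.le hle)
    have hWU : InUniqueMaximal W := inUniqueMaximal_of_elemAb hU hpp hM hWM hWe hWcard
    obtain ⟨X, hXA, hXc⟩ := exists_card_eq_prime_le (p := p) hAp hAne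
    obtain ⟨H, hH, hHM, hNH⟩ := hH' X hXA hXc
    apply hHM
    apply eq_of_inUniqueMaximal hWU hM hWM hH
    refine le_trans ?_ hNH
    refine le_trans ?_ (Subgroup.centralizer_le_normalizer _)
    intro w hw
    rw [mem_centralizer_iff]
    intro x hx
    exact ((bg_elemAb_iff W).mp hWe).1 x ((le_sup_left : A ≤ W) (hXA hx)) w hw

/-- Step (i) of B-G 12.4: `M_α = 1`. -/
theorem alphaCore_eq_bot [Finite G] (hG : IsMinSimpleOddOrder G) (hU : BGUniqHyp G)
    (hF : BGFusHyp G) (h3b : P12_3b G) (M : Subgroup G) (hM : IsCoatom M)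
    {p : ℕ} [Fact p.Prime] {A : Subgroup G} (hAM : A ≤ M) (hAe : IsElementaryAbelian p A)
    (hA2 : Nat.card A = p ^ 2)
    (hH' : ∀ X : Subgroup G, X ≤ A → Nat.card X = p →
      ∃ H : Subgroup G, IsCoatom H ∧ H ≠ M ∧ normalizer (X : Set G) ≤ H)
    (hpα : p ∉ alpha M) : alphaCore M = ⊥ := by
  classical
  have hpp : p.Prime := Fact.out
  obtain ⟨hodd, hsimple, hna, hsolv⟩ := id hG
  obtain ⟨hAc, hAp⟩ := (bg_elemAb_iff A).mp hAe
  have hαM : alphaCore M ≤ M := Subgroup.map_subtype_le _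
  obtain ⟨hHallM, hHallG, -, -, -⟩ := bg_alpha_core_statement hG hU hF M hM
  have hcent : alphaCore M ≤ centralizer (A : Set G) := by
    apply le_centralizer_of_hyperplanes p A (alphaCore M) hAe hA2
      (hAM.trans (le_normalizer_alphaCore M))
    · rw [Nat.coprime_comm, Nat.Prime.coprime_iff_not_dvd hpp]
      intro h
      exact hpα (hHallM.2.1 p hpp h)
    · exact hsolv (alphaCore M) (ne_top_of_le_ne_top hM.1 hαM)
    · intro X hXA hXc
      obtain ⟨H, hH, hHM, hNH⟩ := hH' X hXA hXc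
      exact (h3b M H hM hH hHM p X A hAM hAe hA2 hXA hXc hNH hpα).2
  by_contra hne
  have hcard1 : Nat.card (alphaCore M) ≠ 1 := fun h => hne (Subgroup.card_eq_one.mp h)
  obtain ⟨q, hq, hqd⟩ := Nat.exists_prime_and_dvd hcard1
  have : Fact q.Prime := ⟨hq⟩
  have hqα : q ∈ alpha M := hHallM.2.1 q hq hqd
  obtain ⟨B, hBM, hBe, hBcard⟩ :=
    (Cfsg.Agent.Lib.helper28.not_pRankLE_subgroup_iff q 2 M).mp hqα.2
  have hBα : B ≤ alphaCore M := by
    unfold alphaCore
    exact le_map_of_isPGroup (piCore (alpha M) ↥M) ((bg_alpha_core_main hG hU hF M hM).1 q hqα)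
      hBM (isPGroup_of_elemAb hBe)
  have hBU : InUniqueMaximal B := inUniqueMaximal_of_elemAb hU hq hM hBM hBe hBcard
  have hAne : A ≠ ⊥ := ne_bot_of_card_sq hpp hA2
  obtain ⟨X, hXA, hXc⟩ := exists_card_eq_prime_le (p := p) hAp hAne
  obtain ⟨H, hH, hHM, hNH⟩ := hH' X hXA hXc
  apply hHM
  apply eq_of_inUniqueMaximal hBU hM hBM hH
  exact hBα.trans (hcent.trans ((Subgroup.centralizer_le hXA).trans
    ((Subgroup.centralizer_le_normalizer _).trans hNH)))

/-- Step (ii) of B-G 12.4: if `M_α = 1` then `M'` is nilpotent. -/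
theorem nilpotent_commutator [Finite G] (hG : IsMinSimpleOddOrder G) (hU : BGUniqHyp G)
    (hF : BGFusHyp G) (M : Subgroup G) (hM : IsCoatom M) (hα : alphaCore M = ⊥) :
    Group.IsNilpotent ↥(⁅M, M⁆ : Subgroup G) := by
  obtain ⟨-, -, -, -, hnil⟩ := bg_alpha_core_statement hG hU hF M hM
  have hbot : piCore (alpha M) ↥M = ⊥ := by
    have h1 : (piCore (alpha M) ↥M).map M.subtype = ⊥ := hα
    exact (Subgroup.map_eq_bot_iff_of_injective _ M.subtype_injective).mp h1
  have hinj : Function.Injective (QuotientGroup.mk' (piCore (alpha M) ↥M)) := by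
    rw [← MonoidHom.ker_eq_bot_iff, QuotientGroup.ker_mk', hbot]
  have e1 := Subgroup.equivMapOfInjective (commutator ↥M) _ hinj
  have h1 : Group.IsNilpotent ↥(commutator ↥M) :=
    bg_isNilpotent_of_injective e1.toMonoidHom e1.injective hnil
  have e2 := Subgroup.equivMapOfInjective (commutator ↥M) _ M.subtype_injective
  rw [← Subgroup.map_subtype_commutator]
  exact bg_isNilpotent_of_injective e2.symm.toMonoidHom e2.symm.injective h1

theorem dvd_card_of_isPGroup [Finite G] {p : ℕ} [Fact p.Prime] {S : Subgroup G}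
    (hS : IsPGroup p S) (hS1 : S ≠ ⊥) : p ∣ Nat.card S := by
  obtain ⟨n, hn⟩ := IsPGroup.iff_card.mp hS
  rcases Nat.eq_zero_or_pos n with rfl | hpos
  · exfalso
    apply hS1
    rw [pow_zero] at hn
    exact Subgroup.card_eq_one.mp hn
  · rw [hn]; exact dvd_pow_self p hpos.ne'

theorem mem_sigma_of_dvd_card_sigmaCore [Finite G] (M : Subgroup G) {r : ℕ} (hr : r.Prime)
    (h : r ∣ Nat.card (sigmaCore M)) : r ∈ sigma M := by
  have hcard : Nat.card (sigmaCore M) = Nat.card (piCore (sigma M) ↥M) := by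
    unfold sigmaCore
    exact Subgroup.card_map_of_injective M.subtype_injective
  rw [hcard] at h
  exact Cfsg.Agent.Lib.helper65.piCore_isPiGrp (G := M) (sigma M) r hr h

/-- Step (ii') of B-G 12.4: `M_σ ≤ M'`, so `M_σ` is nilpotent when `M'` is. -/
theorem nilpotent_sigmaCore [Finite G] (hG : IsMinSimpleOddOrder G) (hF : BGFusHyp G)
    (M : Subgroup G) (hM : IsCoatom M) (hnilc : Group.IsNilpotent ↥(⁅M, M⁆ : Subgroup G)) :
    Group.IsNilpotent ↥(sigmaCore M) := by
  have hle : sigmaCore M ≤ ⁅M, M⁆ := by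
    apply bg_le_of_pgroups_le
    intro r _ Q hQσ hQ
    by_cases hQ1 : Q = ⊥
    · rw [hQ1]; exact bot_le
    · have hr : r ∈ sigma M :=
        mem_sigma_of_dvd_card_sigmaCore M Fact.out
          ((dvd_card_of_isPGroup hQ hQ1).trans (Subgroup.card_dvd_of_le hQσ))
      have hQM : Q ≤ M := hQσ.trans (Subgroup.map_subtype_le _)
      have h1 := bg_sylow_le_commutator hG hF M hM hr (Q.subgroupOf M)
        (hQ.comap_of_injective M.subtype M.subtype_injective)
      rw [← Subgroup.map_subtype_commutator]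
      intro x hx
      exact ⟨⟨x, hQM hx⟩, h1 (mem_subgroupOf.mpr hx), rfl⟩
  exact bg_isNilpotent_of_injective (Subgroup.inclusion hle) (Subgroup.inclusion_injective hle)
    hnilc

/-- B-G Proposition 12.4 (the statement S1416), given Lemma 12.3 (a), (b') and the last two steps
(iii) (`p ∈ σ(M)`) and (iv) (`C(A) ≤ M`) as hypotheses. -/
theorem bg_12_4_of [Finite G] (hG : IsMinSimpleOddOrder G) (hU : BGUniqHyp G) (hF : BGFusHyp G)
    (h3a : P12_3a G) (h3b : P12_3b G)
    (hiii : ∀ (M : Subgroup G), IsCoatom M → ∀ (p : ℕ) [Fact p.Prime] (A : Subgroup G), A ≤ M →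
      IsElementaryAbelian p A → Nat.card A = p ^ 2 → p ∉ alpha M →
      Group.IsNilpotent ↥(⁅M, M⁆ : Subgroup G) → sigmaCore M ≤ centralizer (A : Set G) →
      p ∈ sigma M)
    (hiv : ∀ (M : Subgroup G), IsCoatom M → ∀ (p : ℕ) [Fact p.Prime] (A : Subgroup G), A ≤ M →
      IsElementaryAbelian p A → Nat.card A = p ^ 2 → p ∈ sigma M → p ∉ alpha M →
      Group.IsNilpotent ↥(sigmaCore M) → centralizer (A : Set G) ≤ M) :
    BGTwelveFourHyp G := by
  intro M hM p _ A ⟨hAM, hAe, hA2⟩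
  have hpp : p.Prime := Fact.out
  obtain ⟨hodd, hsimple, hna, hsolv⟩ := id hG
  by_cases hH : ∃ A₀ : Subgroup G, A₀ ≤ A ∧ Nat.card A₀ = p ∧ (normalizer (A₀ : Set G) ≤ M ∧
      ∀ L : Subgroup G, IsCoatom L → normalizer (A₀ : Set G) ≤ L → L = M)
  · obtain ⟨A₀, hA₀A, hA₀c, hN, hL⟩ := hH
    refine ⟨?_, ?_⟩
    · exact (Subgroup.centralizer_le hA₀A).trans ((Subgroup.centralizer_le_normalizer _).trans hN)
    · intro hno
      exact absurd ⟨hN, hL⟩ (hno A₀ hA₀A hA₀c)
  · have hH' := exists_coatom_ne hG M hM hAM hH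
    have hpα : p ∉ alpha M := not_mem_alpha hU M hM hAM hAe hA2 hH'
    have hα : alphaCore M = ⊥ := alphaCore_eq_bot hG hU hF h3b M hM hAM hAe hA2 hH' hpα
    have hnilc := nilpotent_commutator hG hU hF M hM hα
    have hnil := nilpotent_sigmaCore hG hF M hM hnilc
    have hσM : sigmaCore M ≤ M := Subgroup.map_subtype_le _
    have hpσ : p ∈ sigma M := by
      by_contra hpσ
      have hcent : sigmaCore M ≤ centralizer (A : Set G) := by
        apply le_centralizer_of_hyperplanes p A (sigmaCore M) hAe hA2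
          (hAM.trans (le_normalizer_sigmaCore M)) (bg_sigmaCore_card_coprime M hpp hpσ)
          (hsolv (sigmaCore M) (ne_top_of_le_ne_top hM.1 hσM))
        intro X hXA hXc
        obtain ⟨H, hH, hHM, hNH⟩ := hH' X hXA hXc
        have h1 := h3a M H hM hH hHM p X A hAM hAe hA2 hXA hXc hNH hpσ
        exact (inf_le_inf_left _ ((Subgroup.centralizer_le_normalizer _).trans hNH)).trans h1
      exact hpσ (hiii M hM p A hAM hAe hA2 hpα hnilc hcent)
    exact ⟨hiv M hM p A hAM hAe hA2 hpσ hpα hnil, fun _ => ⟨hpσ, hα, hnil⟩⟩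

end Cfsg.Agent.Lib.helper71.BG12
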