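import Mathlib
import Cfsg.Agent.Lib.helper71.BGTwelveFour

/-!
# Bender–Glauberman, Proposition 12.4: the last two steps (iii), (iv), and the proposition

`bg124_sigma` is step (iii) (`p ∈ σ(M)`), `bg124_cent` is step (iv) (`C(A) ≤ M`), and `bg_12_4`
is the statement of S1416 from B-G 10.9 and 12.3.
-/

set_option autoImplicit false

namespace Cfsg.Agent.Lib.helper71.BG12

open Cfsg Subgroup Cfsg.Agent.Lib.helper13 Cfsg.Agent.Lib.helper8 Cfsg.Agent.Lib.helper71.BGA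

variable {G : Type*} [Group G]

/-- In a nilpotent subgroup `N`, a Sylow `p`-subgroup `S` of `N` contains every `p`-subgroup of
`N`. -/
theorem le_of_nilpotent_sylow [Finite G] {p : ℕ} [Fact p.Prime] {N S B : Subgroup G}
    (hN : Group.IsNilpotent ↥N) (_hSN : S ≤ N) (hS : IsPGroup p S) (hidx : ¬ p ∣ S.relIndex N)
    (hBN : B ≤ N) (hB : IsPGroup p B) : B ≤ S := by
  classical
  have hS' : IsPGroup p (S.subgroupOf N) := hS.comap_of_injective N.subtype N.subtype_injective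
  let P : Sylow p N := hS'.toSylow hidx
  have hPn : (P : Subgroup N).Normal :=
    ((Group.isNilpotent_of_finite_tfae (G := ↥N)).out 0 3 rfl rfl).mp hN p inferInstance P
  have hB' : IsPGroup p (B.subgroupOf N) := hB.comap_of_injective N.subtype N.subtype_injective
  obtain ⟨Q, hQ⟩ := hB'.exists_le_sylow
  have hQP : Q = P := by
    have := Sylow.unique_of_normal P hPn
    exact Subsingleton.elim _ _
  intro b hb
  have hmem : (⟨b, hBN hb⟩ : N) ∈ (P : Subgroup N) := by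
    rw [← hQP]
    apply hQ
    rw [mem_subgroupOf]
    exact hb
  have hPS : (P : Subgroup N) = S.subgroupOf N := rfl
  rw [hPS, mem_subgroupOf] at hmem
  exact hmem

theorem elemAb_sup_zpowers [Finite G] {p : ℕ} {A : Subgroup G} (hAe : IsElementaryAbelian p A)
    {z : G} (hzp : z ^ p = 1) (hzc : ∀ x ∈ A, x * z = z * x) (hzA : z ∉ A) :
    IsElementaryAbelian p (A ⊔ zpowers z) ∧ Nat.card A < Nat.card ↥(A ⊔ zpowers z) := by
  have hZe : IsElementaryAbelian p (zpowers z) := by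
    rw [bg_elemAb_iff]
    refine ⟨?_, ?_⟩
    · intro a ha b hb
      obtain ⟨i, rfl⟩ := mem_zpowers_iff.mp ha
      obtain ⟨j, rfl⟩ := mem_zpowers_iff.mp hb
      exact ((Commute.refl z).zpow_zpow i j).eq
    · intro a ha
      obtain ⟨i, rfl⟩ := mem_zpowers_iff.mp ha
      rw [← zpow_natCast, ← zpow_mul, mul_comm, zpow_mul, zpow_natCast, hzp, one_zpow]
  have hWe : IsElementaryAbelian p (A ⊔ zpowers z) := by
    apply bg_elemAb_sup A (zpowers z) hAe hZe
    intro x hx y hy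
    obtain ⟨i, rfl⟩ := mem_zpowers_iff.mp hy
    exact (Commute.zpow_right (hzc x hx) i).eq
  refine ⟨hWe, ?_⟩
  by_contra hle
  push Not at hle
  have h : A = A ⊔ zpowers z := Subgroup.eq_of_le_of_card_ge le_sup_left hle
  apply hzA
  rw [h]
  exact (le_sup_right : zpowers z ≤ A ⊔ zpowers z) (mem_zpowers z)

theorem eq_of_coatom_le {M N : Subgroup G} (hM : IsCoatom M) (hMN : M ≤ N) (hN : N ≠ ⊤) :
    N = M := by
  by_contra hne
  exact hN (hM.2 N (lt_of_le_of_ne hMN (Ne.symm hne)))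

theorem commutator_self_le (M : Subgroup G) : (⁅M, M⁆ : Subgroup G) ≤ M := by
  rw [← Subgroup.map_subtype_commutator]; exact Subgroup.map_subtype_le _

theorem le_normalizer_commutator_self (M : Subgroup G) :
    M ≤ normalizer ((⁅M, M⁆ : Subgroup G) : Set G) := by
  rw [← Subgroup.map_subtype_commutator]; exact map_subtype_le_normalizer _

/-- Step (iii) of B-G 12.4: `p ∈ σ(M)`. -/
theorem bg124_sigma [Finite G] (hG : IsMinSimpleOddOrder G) (hU : BGUniqHyp G) (hF : BGFusHyp G)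
    (h9 : P10_9 G) (M : Subgroup G) (hM : IsCoatom M) (hne : sigmaCore M ≠ ⊥)
    (p : ℕ) [Fact p.Prime] (A : Subgroup G)
    (hAM : A ≤ M) (hAe : IsElementaryAbelian p A) (hA2 : Nat.card A = p ^ 2)
    (hpα : p ∉ alpha M) (hnilc : Group.IsNilpotent ↥(⁅M, M⁆ : Subgroup G))
    (hcent : sigmaCore M ≤ centralizer (A : Set G)) : p ∈ sigma M := by
  classical
  have hpp : p.Prime := Fact.out
  by_contra hpσ
  obtain ⟨hAc, hAp⟩ := (bg_elemAb_iff A).mp hAe
  have hr2 : PRankLE p 2 ↥M := by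
    by_contra h; exact hpα ⟨hpp, h⟩
  have hr1 : ¬ PRankLE p 1 ↥M := by
    rw [Cfsg.Agent.Lib.helper28.not_pRankLE_subgroup_iff]
    refine ⟨A, hAM, hAe, ?_⟩
    rw [hA2, pow_one]
    nlinarith [hpp.one_lt]
  have hAmax := (bg_tau2_statement hG hU M hM p hr2 hr1).2 A hAM hAe hA2
  have hcard1 : Nat.card (sigmaCore M) ≠ 1 := fun h => hne (Subgroup.card_eq_one.mp h)
  obtain ⟨q, hq, hqd⟩ := Nat.exists_prime_and_dvd hcard1
  have : Fact q.Prime := ⟨hq⟩
  have hqσ : q ∈ sigma M := mem_sigma_of_dvd_card_sigmaCore M hq hqd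
  have hqp : q ≠ p := by rintro rfl; exact hpσ hqσ
  obtain ⟨-, hqM, Pq, hNPq⟩ := id hqσ
  set Q : Subgroup G := (Pq : Subgroup M).map M.subtype with hQ
  have hQpg : IsPGroup q Q := Pq.isPGroup'.map _
  have hQM : Q ≤ M := Subgroup.map_subtype_le _
  have hQσ : Q ≤ sigmaCore M := bg_pgroup_le_sigmaCore hG hU hF M hM hqσ Q hQM hQpg
  have hQC : Q ≤ centralizer (A : Set G) := hQσ.trans hcent
  have hQidx : ¬ q ∣ Q.index := not_dvd_index_map_of_sigma hqσ Pq
  have hQne : Q ≠ ⊥ := by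
    intro h
    apply hQidx
    rw [h, Subgroup.index_bot]
    exact hqM.trans (Subgroup.card_subgroup_dvd_card M)
  have hqC : q ∣ Nat.card (centralizer (A : Set G)) :=
    (dvd_card_of_isPGroup hQpg hQne).trans (Subgroup.card_dvd_of_le hQC)
  have hAQ : A ≤ normalizer (Q : Set G) := by
    refine le_trans ?_ (Subgroup.centralizer_le_normalizer _)
    intro a ha
    rw [mem_centralizer_iff]
    intro x hx
    exact (mem_centralizer_iff.mp (hQC hx) a ha).symm
  have hQmax : Q ∈ maxInvSubgroups ⊤ A {q} := by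
    refine ⟨⟨le_top, ?_, hAQ⟩, ?_⟩
    · intro r hr hrd
      obtain ⟨n, hn⟩ := IsPGroup.iff_card.mp hQpg
      rw [hn] at hrd
      exact (Nat.prime_dvd_prime_iff_eq hr hq).mp (hr.dvd_of_dvd_pow hrd)
    · rintro R ⟨-, hRπ, -⟩ hQR
      have hRpg : IsPGroup q R := by
        have h1 := Nat.eq_prime_pow_of_unique_prime_dvd (n := Nat.card R) (p := q)
          Nat.card_pos.ne' (fun {d} hd hdd => hRπ d hd hdd)
        exact IsPGroup.of_card h1
      exact le_antisymm (bg_pgroup_max_of_not_dvd hQR hRpg hQidx) hQR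
  obtain ⟨S, hAS, hSc, -⟩ := h9 p A hAe hA2 hAmax q Q hq hqp hqC hQmax
  have hSM' : (S : Subgroup G) ≤ ⁅M, M⁆ := hSc.trans (Subgroup.commutator_mono hNPq hNPq)
  have hcM : (⁅M, M⁆ : Subgroup G) ≤ M := commutator_self_le M
  have hidx : ¬ p ∣ (S : Subgroup G).relIndex ⁅M, M⁆ := by
    intro h
    exact S.not_dvd_index (h.trans (Dvd.intro _ (Subgroup.relIndex_mul_index hSM')))
  have hMNS : M ≤ normalizer ((S : Subgroup G) : Set G) :=
    le_normalizer_of_nilpotent hnilc (le_normalizer_commutator_self M) hSM' S.isPGroup' hidx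
  have hS1 : (S : Subgroup G) ≠ ⊥ := by
    intro h
    apply ne_bot_of_card_sq hpp hA2
    rw [h] at hAS
    exact le_bot_iff.mp hAS
  have hStop : (S : Subgroup G) ≠ ⊤ := ne_top_of_le_ne_top hM.1 (hSM'.trans hcM)
  have hNS : normalizer ((S : Subgroup G) : Set G) = M :=
    eq_of_coatom_le hM hMNS (normalizer_ne_top' hG hS1 hStop)
  exact hpσ (mem_sigma_of_sylow S.isPGroup' S.not_dvd_index (hSM'.trans hcM) hS1 hNS.le)

/-- Step (iv) of B-G 12.4: `C(A) ≤ M`. -/
theorem bg124_cent [Finite G] (hG : IsMinSimpleOddOrder G) (hU : BGUniqHyp G) (hF : BGFusHyp G)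
    (M : Subgroup G) (hM : IsCoatom M) (p : ℕ) [Fact p.Prime] (A : Subgroup G)
    (hAM : A ≤ M) (hAe : IsElementaryAbelian p A) (hA2 : Nat.card A = p ^ 2)
    (hpσ : p ∈ sigma M) (hpα : p ∉ alpha M) (hnil : Group.IsNilpotent ↥(sigmaCore M)) :
    centralizer (A : Set G) ≤ M := by
  classical
  have hpp : p.Prime := Fact.out
  obtain ⟨hAc, hAp⟩ := (bg_elemAb_iff A).mp hAe
  have hApg : IsPGroup p A := IsPGroup.of_card hA2
  have hr2 : PRankLE p 2 ↥M := by
    by_contra h; exact hpα ⟨hpp, h⟩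
  obtain ⟨-, -, P, hNP⟩ := id hpσ
  set P₁ : Subgroup G := (P : Subgroup M).map M.subtype with hP₁
  have hP₁pg : IsPGroup p P₁ := P.isPGroup'.map _
  have hP₁M : P₁ ≤ M := Subgroup.map_subtype_le _
  have hσM : sigmaCore M ≤ M := Subgroup.map_subtype_le _
  have hP₁σ : P₁ ≤ sigmaCore M := bg_pgroup_le_sigmaCore hG hU hF M hM hpσ P₁ hP₁M hP₁pg
  have hidx : ¬ p ∣ P₁.relIndex (sigmaCore M) := by
    intro h
    have h6 := Subgroup.relIndex_mul_relIndex P₁ (sigmaCore M) M hP₁σ hσM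
    have h7 : P₁.relIndex M = (P : Subgroup M).index := relIndex_map_subtype _
    rw [h7] at h6
    exact P.not_dvd_index (h6 ▸ Dvd.dvd.mul_right h _)
  have hMN : M ≤ normalizer (P₁ : Set G) :=
    le_normalizer_of_nilpotent hnil (le_normalizer_sigmaCore M) hP₁σ hP₁pg hidx
  have hAσ : A ≤ sigmaCore M := bg_pgroup_le_sigmaCore hG hU hF M hM hpσ A hAM hApg
  have hAP₁ : A ≤ P₁ := le_of_nilpotent_sylow hnil hP₁σ hP₁pg hidx hAσ hApg
  have hAne : A ≠ ⊥ := ne_bot_of_card_sq hpp hA2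
  have hP₁ne : P₁ ≠ ⊥ := by
    intro h
    apply hAne
    rw [h] at hAP₁
    exact le_bot_iff.mp hAP₁
  set Z₁ : Subgroup G := closure {z | z ∈ P₁ ∧ (∀ s ∈ P₁, s * z = z * s) ∧ z ^ p = 1} with hZ₁
  have hZA : Z₁ ≤ A := by
    rw [hZ₁, closure_le]
    rintro z ⟨hzP, hzc, hzp⟩
    by_contra hzA
    obtain ⟨hWe, hWcard⟩ := elemAb_sup_zpowers hAe hzp (fun x hx => hzc x (hAP₁ hx)) hzA
    have hWM : A ⊔ zpowers z ≤ M := sup_le hAM (by rw [zpowers_le]; exact hP₁M hzP)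
    rw [hA2] at hWcard
    exact (Cfsg.Agent.Lib.helper28.not_pRankLE_subgroup_iff p 2 M).mpr
      ⟨A ⊔ zpowers z, hWM, hWe, hWcard⟩ hr2
  have hZne : Z₁ ≠ ⊥ := by
    obtain ⟨z, hzP, hzo, hzc⟩ :=
      Cfsg.Agent.Lib.helper54.exists_central_orderOf_eq_prime hP₁pg hP₁ne
    have hzZ : z ∈ Z₁ := by
      apply Subgroup.subset_closure
      exact ⟨hzP, hzc, by rw [← hzo]; exact pow_orderOf_eq_one z⟩
    intro h
    rw [h, mem_bot] at hzZ
    rw [hzZ, orderOf_one] at hzo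
    exact hpp.one_lt.ne hzo
  have hconj : ∀ m ∈ M, ∀ s ∈ Z₁, m * s * m⁻¹ ∈ Z₁ := by
    intro m hm s hs
    have h1 : Z₁.map (MulAut.conj m).toMonoidHom ≤ Z₁ := by
      rw [hZ₁, MonoidHom.map_closure, closure_le]
      rintro _ ⟨z, ⟨hzP, hzc, hzp⟩, rfl⟩
      apply Subgroup.subset_closure
      refine ⟨?_, ?_, ?_⟩
      · exact (mem_normalizer_iff.mp (hMN hm) z).mp hzP
      · intro s hs
        have hs' : m⁻¹ * s * m⁻¹⁻¹ ∈ P₁ :=
          (mem_normalizer_iff.mp (hMN (M.inv_mem hm)) s).mp hs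
        have h2 := hzc _ hs'
        show s * (m * z * m⁻¹) = m * z * m⁻¹ * s
        have h3 : s * (m * z * m⁻¹) = m * ((m⁻¹ * s * m⁻¹⁻¹) * z) * m⁻¹ := by group
        rw [h3, h2]; group
      · show (m * z * m⁻¹) ^ p = 1
        rw [conj_pow, hzp]; group
    exact h1 ⟨s, hs, rfl⟩
  have hMNZ : M ≤ normalizer (Z₁ : Set G) := le_normalizer_of_forall_conj_mem hconj
  have hNZ : normalizer (Z₁ : Set G) = M :=
    eq_of_coatom_le hM hMNZ
      (normalizer_ne_top' hG hZne (ne_top_of_le_ne_top hM.1 (hZA.trans hAM)))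
  exact (Subgroup.centralizer_le hZA).trans
    ((Subgroup.centralizer_le_normalizer _).trans hNZ.le)

/-- B-G Proposition 12.4 (the statement S1416) from B-G 10.9, 12.3 (a), (b') and `M_σ ≠ 1`. -/
theorem bg_12_4 [Finite G] (hG : IsMinSimpleOddOrder G) (hU : BGUniqHyp G) (hF : BGFusHyp G)
    (hne : ∀ M : Subgroup G, IsCoatom M → sigmaCore M ≠ ⊥) (h9 : P10_9 G)
    (h3a : P12_3a G) (h3b : P12_3b G) : BGTwelveFourHyp G :=
  bg_12_4_of hG hU hF h3a h3b
    (fun M hM p _ A hAM hAe hA2 hpα hnilc hcent =>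
      bg124_sigma hG hU hF h9 M hM (hne M hM) p A hAM hAe hA2 hpα hnilc hcent)
    (fun M hM p _ A hAM hAe hA2 hpσ hpα hnil =>
      bg124_cent hG hU hF M hM p A hAM hAe hA2 hpσ hpα hnil)

end Cfsg.Agent.Lib.helper71.BG12
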