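import Mathlib
import Cfsg.Agent.Lib.helper71.BGTwelveFourB
import Cfsg.Agent.Lib.helper26.Basic
import Cfsg.Agent.S1406
import Cfsg.Agent.S1414

/-!
# Bender–Glauberman, Lemma 12.3 (a), (b') from 11.2, 11.4, 11.7

`p12_3a` and `p12_3b` prove the interface statements `P12_3a`, `P12_3b` of
`Cfsg.Agent.Lib.helper13.BGExc` from `P11_2`, `P11_4`, `P11_7`.
-/

set_option autoImplicit false

namespace Cfsg.Agent.Lib.helper71.BG12

open Cfsg Subgroup Cfsg.Agent.Lib.helper13 Cfsg.Agent.Lib.helper8 Cfsg.Agent.Lib.helper71.BGA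

variable {G : Type*} [Group G]

theorem orderOf_dvd_card_of_mem [Finite G] {K : Subgroup G} {x : G} (hx : x ∈ K) :
    orderOf x ∣ Nat.card K := by
  have h := orderOf_dvd_natCard (⟨x, hx⟩ : K)
  rwa [Subgroup.orderOf_mk] at h

theorem mem_alpha_of_dvd_card_alphaCore [Finite G] (M : Subgroup G) {r : ℕ} (hr : r.Prime)
    (h : r ∣ Nat.card (alphaCore M)) : r ∈ alpha M := by
  have hcard : Nat.card (alphaCore M) = Nat.card (piCore (alpha M) ↥M) := by
    unfold alphaCore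
    exact Subgroup.card_map_of_injective M.subtype_injective
  rw [hcard] at h
  exact Cfsg.Agent.Lib.helper65.piCore_isPiGrp (G := M) (alpha M) r hr h

/-- An element of order dividing `n`, with `n` prime to the index of the normal subgroup `N`, lies
in `N`. -/
theorem mem_of_pow_eq_one_of_coprime_index {X : Type*} [Group X] [Finite X] (N : Subgroup X)
    [N.Normal] {y : X} {n : ℕ} (hy : y ^ n = 1) (hcop : n.Coprime N.index) : y ∈ N := by
  rw [← QuotientGroup.eq_one_iff (N := N)]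
  have h1 : ((y : X ⧸ N)) ^ n = 1 := by rw [← QuotientGroup.mk_pow, hy]; rfl
  have h2 : ((y : X ⧸ N)) ^ N.index = 1 := by
    rw [Subgroup.index_eq_card]; exact pow_card_eq_one'
  have h3 := orderOf_dvd_of_pow_eq_one h1
  have h4 := orderOf_dvd_of_pow_eq_one h2
  have h5 : orderOf (y : X ⧸ N) ∣ Nat.gcd n N.index := Nat.dvd_gcd h3 h4
  have h6 : Nat.gcd n N.index = 1 := hcop
  rw [h6] at h5
  exact orderOf_eq_one_iff.mp (Nat.dvd_one.mp h5)

theorem eq_of_map_conj_of_mem_left {M₁ M₂ : Subgroup G} {k : G}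
    (h : M₁ = M₂.map (MulAut.conj k).toMonoidHom) (hk : k ∈ M₁) : M₁ = M₂ := by
  apply le_antisymm
  · intro x hx
    have h1 : k * x * k⁻¹ ∈ M₁ := M₁.mul_mem (M₁.mul_mem hk hx) (M₁.inv_mem hk)
    rw [h] at h1
    obtain ⟨y, hy, hyx⟩ := h1
    have hyx' : k * y * k⁻¹ = k * x * k⁻¹ := hyx
    have hyx2 : y = x := by
      have h2 := congrArg (fun t => k⁻¹ * t * k) hyx'
      simpa [mul_assoc] using h2
    rw [← hyx2]; exact hy
  · intro y hy
    have h1 : k * y * k⁻¹ ∈ M₁ := by rw [h]; exact ⟨y, hy, rfl⟩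
    have h2 : k⁻¹ * (k * y * k⁻¹) * k ∈ M₁ := M₁.mul_mem (M₁.mul_mem (M₁.inv_mem hk) h1) hk
    have h3 : k⁻¹ * (k * y * k⁻¹) * k = y := by group
    rw [h3] at h2; exact h2

theorem eq_of_map_conj_of_mem_right {M₁ M₂ : Subgroup G} {k : G}
    (h : M₁ = M₂.map (MulAut.conj k).toMonoidHom) (hk : k ∈ M₂) : M₁ = M₂ := by
  rw [h]
  apply le_antisymm
  · rintro _ ⟨y, hy, rfl⟩
    exact M₂.mul_mem (M₂.mul_mem hk hy) (M₂.inv_mem hk)
  · intro x hx
    refine ⟨k⁻¹ * x * k, M₂.mul_mem (M₂.mul_mem (M₂.inv_mem hk) hx) hk, ?_⟩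
    show k * (k⁻¹ * x * k) * k⁻¹ = x
    group

/-- If `q ∈ α(M₁) ∩ σ(M₂)` then `M₁` is conjugate to `M₂`. -/
theorem exists_conj_of_alpha_sigma [Finite G] (hU : BGUniqHyp G) {M₁ M₂ : Subgroup G}
    (hM₁ : IsCoatom M₁) (hM₂ : IsCoatom M₂) {q : ℕ} (hqα : q ∈ alpha M₁) (hqσ : q ∈ sigma M₂) :
    ∃ k : G, M₁ = M₂.map (MulAut.conj k).toMonoidHom := by
  have hq : q.Prime := hqα.1
  have : Fact q.Prime := ⟨hq⟩
  obtain ⟨B, hBM, hBe, hBcard⟩ :=
    (Cfsg.Agent.Lib.helper28.not_pRankLE_subgroup_iff q 2 M₁).mp hqα.2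
  have hBU : InUniqueMaximal B := inUniqueMaximal_of_elemAb hU hq hM₁ hBM hBe hBcard
  obtain ⟨-, -, Pq, -⟩ := id hqσ
  have hidx : ¬ q ∣ ((Pq : Subgroup M₂).map M₂.subtype).index :=
    not_dvd_index_map_of_sigma hqσ Pq
  have hQpg : IsPGroup q ((Pq : Subgroup M₂).map M₂.subtype) := Pq.isPGroup'.map _
  obtain ⟨g, hg⟩ := Cfsg.Agent.Lib.helper26.exists_conj_le_sylow (hQpg.toSylow hidx) B
    (isPGroup_of_elemAb hBe)
  refine ⟨g⁻¹, ?_⟩
  have hBH' : B ≤ M₂.map (MulAut.conj g⁻¹).toMonoidHom := by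
    intro b hb
    have h1 : g * b * g⁻¹ ∈ (Pq : Subgroup M₂).map M₂.subtype :=
      (IsPGroup.mem_toSylow hQpg hidx).mp (hg b hb)
    refine ⟨g * b * g⁻¹, Subgroup.map_subtype_le _ h1, ?_⟩
    show g⁻¹ * (g * b * g⁻¹) * g⁻¹⁻¹ = b
    group
  exact (eq_of_inUniqueMaximal hBU hM₁ hBM (isCoatom_map_conj hM₂ g⁻¹) hBH').symm

/-- The commutator `d a d⁻¹ a⁻¹` (`d ∈ H`, `a ∈ A`) lies in `H_σ` if its order is prime to `p`. -/
theorem comm_mem_sigmaCore [Finite G] (hG : IsMinSimpleOddOrder G) (hU : BGUniqHyp G)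
    (hF : BGFusHyp G) (h7 : P11_7 G) (H : Subgroup G) (hH : IsCoatom H) (p : ℕ) [Fact p.Prime]
    (A₀ A : Subgroup G) (hAH : A ≤ H) (hAe : IsElementaryAbelian p A) (hA2 : Nat.card A = p ^ 2)
    (hA₀A : A₀ ≤ A) (hA₀c : Nat.card A₀ = p) (hN : normalizer (A₀ : Set G) ≤ H)
    (d a : G) (hd : d ∈ H) (ha : a ∈ A) (hcop : (orderOf (d * a * d⁻¹ * a⁻¹)).Coprime p) :
    d * a * d⁻¹ * a⁻¹ ∈ sigmaCore H := by
  have hpp : p.Prime := Fact.out
  have hAp : IsPGroup p A := IsPGroup.of_card hA2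
  have hnH := le_normalizer_sigmaCore H
  by_cases hpH : p ∈ sigma H
  · have h1 : A ≤ sigmaCore H := bg_pgroup_le_sigmaCore hG hU hF H hH hpH A hAH hAp
    have h2 : d * a * d⁻¹ ∈ sigmaCore H := (mem_normalizer_iff.mp (hnH hd) a).mp (h1 ha)
    exact (sigmaCore H).mul_mem h2 ((sigmaCore H).inv_mem (h1 ha))
  · have hE : Exc H p A₀ A := ⟨hH, hpp, hpH, hAH, hAe, hA2, hA₀A, hA₀c, hN⟩
    have hnS := h7 H p A₀ A hE
    have hcS : d * a * d⁻¹ * a⁻¹ ∈ sigmaCore H ⊔ A := by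
      have h2 : d * a * d⁻¹ ∈ sigmaCore H ⊔ A :=
        (mem_normalizer_iff.mp (hnS hd) a).mp ((le_sup_right : A ≤ sigmaCore H ⊔ A) ha)
      exact (sigmaCore H ⊔ A).mul_mem h2
        ((sigmaCore H ⊔ A).inv_mem ((le_sup_right : A ≤ sigmaCore H ⊔ A) ha))
    have hmap : (piCore (sigma H) ↥H ⊔ A.subgroupOf H).map H.subtype = sigmaCore H ⊔ A := by
      rw [Subgroup.map_sup, Subgroup.map_subgroupOf_eq_of_le hAH]
      rfl
    have hc' : d * a * d⁻¹ * a⁻¹ ∈ (piCore (sigma H) ↥H ⊔ A.subgroupOf H).map H.subtype := by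
      rw [hmap]; exact hcS
    obtain ⟨y, hy, hyc⟩ := hc'
    have hA' : IsPGroup p (A.subgroupOf H) :=
      hAp.comap_of_injective H.subtype H.subtype_injective
    have hcop' : (orderOf y).Coprime p := by
      have h3 : orderOf (H.subtype y) = orderOf y :=
        orderOf_injective H.subtype H.subtype_injective y
      rw [← h3, hyc]; exact hcop
    have h3 := bg_mem_of_mem_sup_pgroup (piCore (sigma H) ↥H) (A.subgroupOf H) hA' y hy hcop'
    rw [← hyc]
    exact ⟨y, h3, rfl⟩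

/-- B-G Lemma 12.3 (a). -/
theorem p12_3a [Finite G] (hG : IsMinSimpleOddOrder G) (hU : BGUniqHyp G) (hF : BGFusHyp G)
    (h4 : P11_4 G) (h7 : P11_7 G) : P12_3a G := by
  intro M H hM hH hHM p _ A₀ A hAM hAe hA2 hA₀A hA₀c hN hpσ
  classical
  have hpp : p.Prime := Fact.out
  obtain ⟨hAc, hAp⟩ := (bg_elemAb_iff A).mp hAe
  have hApg : IsPGroup p A := IsPGroup.of_card hA2
  have hCA₀ : centralizer (A₀ : Set G) ≤ H := (Subgroup.centralizer_le_normalizer _).trans hN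
  have hAH : A ≤ H := by
    intro a ha
    apply hCA₀
    rw [mem_centralizer_iff]
    intro b hb
    exact hAc b (hA₀A hb) a ha
  have hA₀1 : A₀ ≠ ⊥ := by
    rintro rfl
    rw [Subgroup.card_bot] at hA₀c
    exact hpp.one_lt.ne hA₀c
  have hA₀pg : IsPGroup p A₀ := IsPGroup.of_card (n := 1) (by rw [hA₀c, pow_one])
  rintro d ⟨hdσ, hdH⟩
  rw [mem_centralizer_iff]
  intro a ha
  have hxM : d * a * d⁻¹ * a⁻¹ ∈ sigmaCore M := by
    have h1 : a * d⁻¹ * a⁻¹ ∈ sigmaCore M :=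
      (mem_normalizer_iff.mp (le_normalizer_sigmaCore M (hAM ha)) d⁻¹).mp
        ((sigmaCore M).inv_mem hdσ)
    have h2 : d * a * d⁻¹ * a⁻¹ = d * (a * d⁻¹ * a⁻¹) := by group
    rw [h2]; exact (sigmaCore M).mul_mem hdσ h1
  have hcop : (orderOf (d * a * d⁻¹ * a⁻¹)).Coprime p :=
    Nat.Coprime.coprime_dvd_left (orderOf_dvd_card_of_mem hxM)
      (bg_sigmaCore_card_coprime M hpp hpσ)
  have hxH : d * a * d⁻¹ * a⁻¹ ∈ sigmaCore H :=
    comm_mem_sigmaCore hG hU hF h7 H hH p A₀ A hAH hAe hA2 hA₀A hA₀c hN d a hdH ha hcop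
  have hx1 : d * a * d⁻¹ * a⁻¹ = 1 := by
    by_contra hne
    by_cases hpH : p ∈ sigma H
    · have ho : orderOf (d * a * d⁻¹ * a⁻¹) ≠ 1 := fun h => hne (orderOf_eq_one_iff.mp h)
      obtain ⟨q, hq, hqd⟩ := Nat.exists_prime_and_dvd ho
      have : Fact q.Prime := ⟨hq⟩
      have hqM : q ∈ sigma M :=
        mem_sigma_of_dvd_card_sigmaCore M hq (hqd.trans (orderOf_dvd_card_of_mem hxM))
      have hqH : q ∈ sigma H :=
        mem_sigma_of_dvd_card_sigmaCore H hq (hqd.trans (orderOf_dvd_card_of_mem hxH))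
      have hqp : q ≠ p := by rintro rfl; exact hpσ hqM
      have hqα : q ∉ alpha H := by
        intro hqα
        obtain ⟨k, hk⟩ := exists_conj_of_alpha_sigma hU hH hM hqα hqM
        have hA₀k : A₀.map (MulAut.conj k).toMonoidHom ≤ H := by
          rw [hk]; exact Subgroup.map_mono (hA₀A.trans hAM)
        obtain ⟨h, hh, c, hc, hkc⟩ := hF H hH p hpH A₀ hA₀pg hA₀1 (hA₀A.trans hAH) k hA₀k
        have hkH : k ∈ H := by rw [hkc]; exact H.mul_mem hh (hCA₀ hc)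
        exact hHM (eq_of_map_conj_of_mem_left hk hkH)
      have hqβ : q ∉ beta H := fun h => hqα h.1
      obtain ⟨-, -, -, -, h14⟩ := Cfsg.Agent.S1414.result hG H hH
      obtain ⟨-, ⟨P, N, hNn, hNc⟩, -⟩ := h14 q hq hqH.2.1 hqβ
      have hAσ : A ≤ sigmaCore H := bg_pgroup_le_sigmaCore hG hU hF H hH hpH A hAH hApg
      have hidx : N.index = Nat.card P := hNc.symm.index_eq_card
      obtain ⟨n, hn⟩ := IsPGroup.iff_card.mp P.isPGroup'
      have hcopidx : p.Coprime N.index := by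
        rw [hidx, hn]
        exact Nat.Coprime.pow_right n ((Nat.coprime_primes hpp hq).mpr (Ne.symm hqp))
      have h1 : d * a * d⁻¹ ∈ sigmaCore H :=
        (mem_normalizer_iff.mp (le_normalizer_sigmaCore H hdH) a).mp (hAσ ha)
      have h2 : a⁻¹ ∈ sigmaCore H := (sigmaCore H).inv_mem (hAσ ha)
      have e1 : (⟨d * a * d⁻¹, h1⟩ : sigmaCore H) ∈ N := by
        apply mem_of_pow_eq_one_of_coprime_index N (n := p) _ hcopidx
        apply Subtype.ext
        show (d * a * d⁻¹) ^ p = 1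
        rw [conj_pow, hAp a ha]; group
      have e2 : (⟨a⁻¹, h2⟩ : sigmaCore H) ∈ N := by
        apply mem_of_pow_eq_one_of_coprime_index N (n := p) _ hcopidx
        apply Subtype.ext
        show (a⁻¹) ^ p = 1
        rw [inv_pow, hAp a ha, inv_one]
      have e3 : (⟨d * a * d⁻¹ * a⁻¹, hxH⟩ : sigmaCore H) ∈ N := by
        have h3 : (⟨d * a * d⁻¹ * a⁻¹, hxH⟩ : sigmaCore H) = ⟨d * a * d⁻¹, h1⟩ * ⟨a⁻¹, h2⟩ :=
          Subtype.ext rfl
        rw [h3]; exact N.mul_mem e1 e2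
      have e4 : orderOf (d * a * d⁻¹ * a⁻¹) ∣ Nat.card N := by
        have h5 := orderOf_dvd_card_of_mem e3
        rwa [Subgroup.orderOf_mk] at h5
      have e5 : ¬ q ∣ Nat.card N := by
        rw [← hNc.index_eq_card]; exact P.not_dvd_index
      exact e5 (hqd.trans e4)
    · have hE : Exc H p A₀ A := ⟨hH, hpp, hpH, hAH, hAe, hA2, hA₀A, hA₀c, hN⟩
      apply hHM
      symm
      apply h4 H p A₀ A hE M hM hAM
      intro hbot
      have h3 : d * a * d⁻¹ * a⁻¹ ∈ sigmaCore M ⊓ sigmaCore H := ⟨hxM, hxH⟩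
      rw [hbot, mem_bot] at h3
      exact hne h3
  have h5 : d * a = a * d := by
    have h6 : d * a = (d * a * d⁻¹ * a⁻¹) * (a * d) := by group
    rw [h6, hx1, one_mul]
  exact h5.symm

/-- B-G Lemma 12.3 (b'). -/
theorem p12_3b [Finite G] (hG : IsMinSimpleOddOrder G) (hU : BGUniqHyp G) (hF : BGFusHyp G)
    (h2 : P11_2 G) (h7 : P11_7 G) : P12_3b G := by
  intro M H hM hH hHM p _ A₀ A hAM hAe hA2 hA₀A hA₀c hN hpα
  classical
  have hpp : p.Prime := Fact.out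
  obtain ⟨hAc, hAp⟩ := (bg_elemAb_iff A).mp hAe
  have hApg : IsPGroup p A := IsPGroup.of_card hA2
  have hCA₀ : centralizer (A₀ : Set G) ≤ H := (Subgroup.centralizer_le_normalizer _).trans hN
  have hAH : A ≤ H := by
    intro a ha
    apply hCA₀
    rw [mem_centralizer_iff]
    intro b hb
    exact hAc b (hA₀A hb) a ha
  have hA₀1 : A₀ ≠ ⊥ := by
    rintro rfl
    rw [Subgroup.card_bot] at hA₀c
    exact hpp.one_lt.ne hA₀c
  have hA₀pg : IsPGroup p A₀ := IsPGroup.of_card (n := 1) (by rw [hA₀c, pow_one])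
  refine ⟨?_, ?_⟩
  · by_contra hr
    have h6 := Cfsg.Agent.S1406.result hG M hM A₀ (hA₀A.trans hAM) (by
      intro r hr hrd
      rw [hA₀c] at hrd
      have hrp : r = p := (Nat.prime_dvd_prime_iff_eq hr hpp).mp hrd
      rw [hrp]; exact hpα) hr
    exact hHM (eq_of_inUniqueMaximal h6 hM inf_le_left hH (inf_le_right.trans hCA₀))
  · rintro d ⟨hdα, hdC⟩
    rw [mem_centralizer_iff]
    intro a ha
    have hdH : d ∈ H := hCA₀ hdC
    have hxM : d * a * d⁻¹ * a⁻¹ ∈ alphaCore M := by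
      have h1 : a * d⁻¹ * a⁻¹ ∈ alphaCore M :=
        (mem_normalizer_iff.mp (le_normalizer_alphaCore M (hAM ha)) d⁻¹).mp
          ((alphaCore M).inv_mem hdα)
      have h2' : d * a * d⁻¹ * a⁻¹ = d * (a * d⁻¹ * a⁻¹) := by group
      rw [h2']; exact (alphaCore M).mul_mem hdα h1
    have hcop : (orderOf (d * a * d⁻¹ * a⁻¹)).Coprime p := by
      rw [Nat.coprime_comm, Nat.Prime.coprime_iff_not_dvd hpp]
      intro h
      exact hpα (mem_alpha_of_dvd_card_alphaCore M hpp (h.trans (orderOf_dvd_card_of_mem hxM)))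
    have hxH : d * a * d⁻¹ * a⁻¹ ∈ sigmaCore H :=
      comm_mem_sigmaCore hG hU hF h7 H hH p A₀ A hAH hAe hA2 hA₀A hA₀c hN d a hdH ha hcop
    have hx1 : d * a * d⁻¹ * a⁻¹ = 1 := by
      by_contra hne
      have ho : orderOf (d * a * d⁻¹ * a⁻¹) ≠ 1 := fun h => hne (orderOf_eq_one_iff.mp h)
      obtain ⟨q, hq, hqd⟩ := Nat.exists_prime_and_dvd ho
      have hqα : q ∈ alpha M :=
        mem_alpha_of_dvd_card_alphaCore M hq (hqd.trans (orderOf_dvd_card_of_mem hxM))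
      have hqH : q ∈ sigma H :=
        mem_sigma_of_dvd_card_sigmaCore H hq (hqd.trans (orderOf_dvd_card_of_mem hxH))
      obtain ⟨k, hk⟩ := exists_conj_of_alpha_sigma hU hM hH hqα hqH
      by_cases hpH : p ∈ sigma H
      · have hA₀k : A₀.map (MulAut.conj k⁻¹).toMonoidHom ≤ H := by
          rintro _ ⟨b, hb, rfl⟩
          have hbM : b ∈ M := hAM (hA₀A hb)
          rw [hk] at hbM
          obtain ⟨y, hy, hyb⟩ := hbM
          have hyb' : k * y * k⁻¹ = b := hyb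
          show k⁻¹ * b * k⁻¹⁻¹ ∈ H
          rw [← hyb']
          have h3 : k⁻¹ * (k * y * k⁻¹) * k⁻¹⁻¹ = y := by group
          rw [h3]; exact hy
        obtain ⟨h, hh, c, hc, hkc⟩ := hF H hH p hpH A₀ hA₀pg hA₀1 (hA₀A.trans hAH) k⁻¹ hA₀k
        have hkH : k ∈ H := by
          have h3 : k⁻¹ ∈ H := by rw [hkc]; exact H.mul_mem hh (hCA₀ hc)
          simpa using H.inv_mem h3
        exact hHM (eq_of_map_conj_of_mem_right hk hkH).symm
      · have hE : Exc H p A₀ A := ⟨hH, hpp, hpH, hAH, hAe, hA2, hA₀A, hA₀c, hN⟩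
        have hkH : k ∉ H := fun hkH => hHM (eq_of_map_conj_of_mem_right hk hkH).symm
        have hAk : A ≤ H.map (MulAut.conj k).toMonoidHom := by rw [← hk]; exact hAM
        have h := (h2 H p A₀ A hE k hkH hAk).1
        rw [← hk] at h
        have hmem : d * a * d⁻¹ * a⁻¹ ∈ sigmaCore H ⊓ M :=
          ⟨hxH, (Subgroup.map_subtype_le _ : alphaCore M ≤ M) hxM⟩
        rw [h, mem_bot] at hmem
        exact hne hmem
    have h5 : d * a = a * d := by
      have h6 : d * a = (d * a * d⁻¹ * a⁻¹) * (a * d) := by group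
      rw [h6, hx1, one_mul]
    exact h5.symm

end Cfsg.Agent.Lib.helper71.BG12
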