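import Mathlib
import Cfsg.Prelude.Def_Transfer
import Cfsg.Agent.Lib.helper1.Coprime
import Cfsg.Agent.Lib.helper1.ThompsonFpf
import Cfsg.Agent.Lib.helper65.MinNormal
import Cfsg.Agent.Lib.helper66.WardStmt

/-!
Ward's theorem (fixed-point-free elementary abelian group of order `p ^ 2` acting on a finite
solvable group forces Fitting height at most two): the group-theoretic reduction to the core
statement `Cfsg.Agent.Lib.helper66.WardCoreStmt` (helper71).

Main result: `Cfsg.Agent.Lib.helper71.ward_of_core`.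
-/

set_option autoImplicit false
set_option linter.style.haveILetI false
set_option linter.unusedSectionVars false

namespace Cfsg.Agent.Lib.helper71.WardR

open Subgroup
open scoped commutatorElement

universe u

section generic

variable {G : Type*} [Group G]

/-- An element all of whose powers of prime power order lie in `K` lies in `K`. -/
theorem mem_of_ppow [Finite G] (K : Subgroup G) :
    ∀ (n : ℕ) (g : G), orderOf g = n →
      (∀ z ∈ zpowers g, ∀ p k : ℕ, p.Prime → z ^ (p ^ k) = 1 → z ∈ K) → g ∈ K := by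
  intro n
  induction n using Nat.strong_induction_on with
  | _ n ih =>
    intro g hg h
    by_cases h1 : n = 1
    · have : g = 1 := orderOf_eq_one_iff.mp (hg.trans h1)
      rw [this]; exact K.one_mem
    have hn0 : n ≠ 0 := by rw [← hg]; exact (orderOf_pos g).ne'
    have hp : (n.minFac).Prime := Nat.minFac_prime h1
    obtain ⟨k, m, hpm, hnm⟩ := Nat.exists_eq_pow_mul_and_not_dvd hn0 n.minFac hp.ne_one
    have hk : k ≠ 0 := by
      rintro rfl
      rw [pow_zero, one_mul] at hnm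
      exact hpm (hnm ▸ Nat.minFac_dvd n)
    have hcop : Nat.Coprime (n.minFac ^ k) m :=
      Nat.Coprime.pow_left k ((Nat.Prime.coprime_iff_not_dvd hp).mpr hpm)
    have hm0 : 0 < m := by
      rcases Nat.eq_zero_or_pos m with h0 | h0
      · rw [h0, mul_zero] at hnm; exact absurd hnm hn0
      · exact h0
    have hmn : m < n := by
      have h2 : 1 < n.minFac ^ k := Nat.one_lt_pow hk hp.one_lt
      calc m = 1 * m := (one_mul m).symm
        _ < n.minFac ^ k * m := Nat.mul_lt_mul_of_pos_right h2 hm0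
        _ = n := hnm.symm
    have h2 : g ^ m ∈ K := by
      apply h (g ^ m) (Subgroup.pow_mem _ (mem_zpowers g) m) n.minFac k hp
      rw [← pow_mul, mul_comm, ← hnm, ← hg, pow_orderOf_eq_one]
    have h3 : g ^ (n.minFac ^ k) ∈ K := by
      have ho : orderOf (g ^ (n.minFac ^ k)) ∣ m := by
        apply orderOf_dvd_of_pow_eq_one
        rw [← pow_mul, ← hnm, ← hg, pow_orderOf_eq_one]
      have hlt : orderOf (g ^ (n.minFac ^ k)) < n := lt_of_le_of_lt (Nat.le_of_dvd hm0 ho) hmn
      apply ih _ hlt (g ^ (n.minFac ^ k)) rfl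
      intro z hz q j hq hzq
      apply h z _ q j hq hzq
      exact (zpowers_le.mpr (Subgroup.pow_mem _ (mem_zpowers g) _)) hz
    have hb := Nat.gcd_eq_gcd_ab (n.minFac ^ k) m
    rw [hcop] at hb
    have h4 : g = (g ^ (n.minFac ^ k)) ^ (Nat.gcdA (n.minFac ^ k) m) *
        (g ^ m) ^ (Nat.gcdB (n.minFac ^ k) m) := by
      rw [← zpow_natCast g (n.minFac ^ k), ← zpow_natCast g m, ← zpow_mul, ← zpow_mul,
        ← zpow_add, ← hb]
      simp
    rw [h4]
    exact K.mul_mem (K.zpow_mem h3 _) (K.zpow_mem h2 _)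

/-- Power trick: replace a preimage of a `t`-element by a `t`-element preimage. -/
theorem exists_pow_part [Finite G] {H : Type*} [Group H] (f : G →* H) {t : ℕ} (ht : t.Prime)
    (n : G) (β : ℕ) (hu : (f n) ^ (t ^ β) = 1) :
    ∃ m α : ℕ, (n ^ m) ^ (t ^ α) = 1 ∧ f (n ^ m) = f n := by
  obtain ⟨α, m₀, hm₀, hnm⟩ := Nat.exists_eq_pow_mul_and_not_dvd (orderOf_pos n).ne' t ht.ne_one
  have hcop : Nat.Coprime m₀ (t ^ (β + 1)) :=
    Nat.Coprime.pow_right _ ((Nat.Prime.coprime_iff_not_dvd ht).mpr hm₀).symm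
  have h1 : 1 < t ^ (β + 1) := Nat.one_lt_pow (Nat.succ_ne_zero β) ht.one_lt
  obtain ⟨m', -, hm'⟩ := Nat.exists_mul_mod_eq_one_of_coprime hcop h1
  refine ⟨m₀ * m', α, ?_, ?_⟩
  · rw [← pow_mul]
    have : m₀ * m' * t ^ α = orderOf n * m' := by rw [hnm]; ring
    rw [this, pow_mul, pow_orderOf_eq_one, one_pow]
  · rw [map_pow]
    have hu' : (f n) ^ (t ^ (β + 1)) = 1 := by rw [pow_succ, pow_mul, hu, one_pow]
    rw [pow_eq_pow_mod (m₀ * m') hu', hm', pow_one]

/-- In a nilpotent subgroup, elements of coprime orders commute. -/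
theorem comm_of_nilp (M : Subgroup G) (hM : Group.IsNilpotent M) (x y : G) (hx : x ∈ M)
    (hy : y ∈ M) (hc : (orderOf x).Coprime (orderOf y)) : x * y = y * x := by
  have h1 := Cfsg.Agent.Lib.helper1.commute_of_coprime_orderOf_of_isNilpotent ↥M ⟨x, hx⟩ ⟨y, hy⟩
    (by rw [Subgroup.orderOf_mk, Subgroup.orderOf_mk]; exact hc)
  exact congrArg Subtype.val h1.eq

theorem mem_normalizer_of_comm' (D : Subgroup G) (h : G) (hh : ∀ d ∈ D, h * d = d * h) :
    h ∈ normalizer (D : Set G) := by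
  rw [mem_normalizer_iff]
  intro d
  constructor
  · intro hd
    have : h * d * h⁻¹ = d := by rw [hh d hd]; group
    rw [this]; exact hd
  · intro hd
    have h1 := hh _ hd
    have h3 : h * d * h⁻¹ * h = h * d := by group
    rw [h3] at h1
    have h2 : d = h * d * h⁻¹ := (mul_left_cancel h1).symm
    rw [h2]; exact hd

theorem pg_elt0 {q : ℕ} {Q : Subgroup G} (hQ : IsPGroup q Q) {u : G}
    (hu : u ∈ Q) : ∃ β : ℕ, u ^ (q ^ β) = 1 := by
  obtain ⟨β, hβ⟩ := hQ ⟨u, hu⟩
  exact ⟨β, by simpa using congrArg Subtype.val hβ⟩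

/-- If `g` and `g⁻¹`-conjugation both preserve... : membership in the normalizer from a conjugation
stable family. -/
theorem mem_normalizer_of_forall (D L : Subgroup G) (hD : ∀ g ∈ L, ∀ d ∈ D, g * d * g⁻¹ ∈ D)
    (g : G) (hg : g ∈ L) : g ∈ normalizer (D : Set G) := by
  rw [mem_normalizer_iff]
  intro d
  constructor
  · exact hD g hg d
  · intro hd
    have := hD g⁻¹ (L.inv_mem hg) _ hd
    have h2 : g⁻¹ * (g * d * g⁻¹) * g⁻¹⁻¹ = d := by group
    rwa [h2] at this

end generic

section thompson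

variable {G : Type u} [Group G] [Finite G]

/-- Thompson's theorem, conjugation form for a subgroup normalized by `y`. -/
theorem nilp_of_fpf (M : Subgroup G) (y : G) (r : ℕ) (hr : r.Prime) (hy : y ^ r = 1)
    (hyM : ∀ m ∈ M, y * m * y⁻¹ ∈ M) (hfpf : ∀ n ∈ M, y * n = n * y → n = 1) :
    Group.IsNilpotent M := by
  have hpow : ∀ (i : ℕ) (m : G), m ∈ M → y ^ i * m * (y ^ i)⁻¹ ∈ M := by
    intro i
    induction i with
    | zero => intro m hm; simpa using hm
    | succ i ih =>
      intro m hm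
      have := hyM _ (ih m hm)
      have h2 : y * (y ^ i * m * (y ^ i)⁻¹) * y⁻¹ = y ^ (i + 1) * m * (y ^ (i + 1))⁻¹ := by
        rw [pow_succ']; group
      rwa [h2] at this
  have hyinv : y⁻¹ = y ^ (r - 1) := by
    have : y ^ (r - 1) * y = 1 := by rw [← pow_succ, Nat.sub_add_cancel hr.one_lt.le, hy]
    exact (eq_inv_of_mul_eq_one_left this).symm
  have hyM' : ∀ m ∈ M, y⁻¹ * m * y ∈ M := by
    intro m hm
    have := hpow (r - 1) m hm
    rw [← hyinv, inv_inv] at this
    exact this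
  let φ : ↥M ≃* ↥M :=
    { toFun := fun m => ⟨y * m * y⁻¹, hyM m m.2⟩
      invFun := fun m => ⟨y⁻¹ * m * y, hyM' m m.2⟩
      left_inv := fun m => Subtype.ext (by simp [mul_assoc])
      right_inv := fun m => Subtype.ext (by simp [mul_assoc])
      map_mul' := fun a b => Subtype.ext (by simp [mul_assoc]) }
  have hφ : ∀ n : ↥M, φ n = n → n = 1 := by
    intro n hn
    apply Subtype.ext
    apply hfpf n n.2
    have h1 : y * (n : G) * y⁻¹ = n := congrArg Subtype.val hn
    calc y * (n : G) = y * n * y⁻¹ * y := by group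
      _ = n * y := by rw [h1]
  have h2 : ∀ (i : ℕ) (n : ↥M), (((⇑φ)^[i] n : ↥M) : G) = y ^ i * n * (y ^ i)⁻¹ := by
    intro i
    induction i with
    | zero => intro n; simp
    | succ i ih =>
      intro n
      rw [Function.iterate_succ_apply']
      show y * (((⇑φ)^[i] n : ↥M) : G) * y⁻¹ = _
      rw [ih, pow_succ']
      group
  have hφr : ∀ n : ↥M, (⇑φ)^[r] n = n := by
    intro n
    apply Subtype.ext
    rw [h2, hy]
    simp
  exact Cfsg.Agent.Lib.helper1.nilpotent_of_fpf_prime_aux r hr _ ↥M rfl φ hφ hφr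

theorem le_sup_zpowers' {p : ℕ} (hp : p.Prime) (A : Subgroup G)
    (hAcard : Nat.card A = p ^ 2) {a c : G} (ha : a ∈ A) (hc : c ∈ A) (hcp : c ^ p = 1)
    (hc1 : c ≠ 1) (hac : a ∉ zpowers c) : A ≤ zpowers c ⊔ zpowers a := by
  haveI : Fact p.Prime := ⟨hp⟩
  have hB : zpowers c ⊔ zpowers a ≤ A :=
    sup_le (Subgroup.zpowers_le.mpr hc) (Subgroup.zpowers_le.mpr ha)
  have h1 : Nat.card (zpowers c) = p := by rw [Nat.card_zpowers, orderOf_eq_prime hcp hc1]
  have h2 : Nat.card (zpowers c) ∣ Nat.card (zpowers c ⊔ zpowers a : Subgroup G) :=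
    Subgroup.card_dvd_of_le le_sup_left
  have h3 : Nat.card (zpowers c ⊔ zpowers a : Subgroup G) ∣ p ^ 2 := by
    rw [← hAcard]
    exact Subgroup.card_dvd_of_le hB
  obtain ⟨k, hk2, hk⟩ := (Nat.dvd_prime_pow hp).mp h3
  have hk1 : k ≠ 1 := by
    rintro rfl
    rw [pow_one] at hk
    have h4 : zpowers c = zpowers c ⊔ zpowers a :=
      Subgroup.eq_of_le_of_card_ge le_sup_left (by rw [hk, h1])
    apply hac
    rw [h4]
    exact (le_sup_right : zpowers a ≤ zpowers c ⊔ zpowers a) (Subgroup.mem_zpowers a)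
  have hk0 : k ≠ 0 := by
    rintro rfl
    rw [pow_zero] at hk
    rw [hk, h1] at h2
    exact hp.one_lt.ne' (Nat.dvd_one.mp h2)
  have hk' : k = 2 := by omega
  rw [hk'] at hk
  have h5 : zpowers c ⊔ zpowers a = A :=
    Subgroup.eq_of_le_of_card_ge hB (by rw [hk, hAcard])
  rw [h5]

theorem exists_gen2 {p : ℕ} (hp : p.Prime) (A : Subgroup G)
    (hAp : ∀ a ∈ A, a ^ p = 1) (hAcard : Nat.card A = p ^ 2) (b : G) (hb : b ∈ A) (hb1 : b ≠ 1) :
    ∃ b' ∈ A, ∀ x : G, x * b = b * x → x * b' = b' * x → ∀ a ∈ A, x * a = a * x := by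
  haveI : Fact p.Prime := ⟨hp⟩
  have h1 : ∃ b' ∈ A, b' ∉ zpowers b := by
    by_contra hcon
    push Not at hcon
    have hle : A ≤ zpowers b := fun a ha => hcon a ha
    have h2 := Subgroup.card_le_of_le hle
    rw [hAcard, Nat.card_zpowers, orderOf_eq_prime (hAp b hb) hb1] at h2
    have h3 : p < p ^ 2 := by
      have := hp.one_lt
      nlinarith
    omega
  obtain ⟨b', hb', hb'n⟩ := h1
  refine ⟨b', hb', ?_⟩
  intro x hxb hxb' a ha
  have hle := le_sup_zpowers' hp A hAcard hb' hb (hAp b hb) hb1 hb'n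
  have h3 : zpowers b ⊔ zpowers b' ≤ centralizer ({x} : Set G) := by
    apply sup_le
    · rw [zpowers_le, mem_centralizer_iff]
      intro h hh
      rw [Set.mem_singleton_iff] at hh
      subst hh
      exact hxb
    · rw [zpowers_le, mem_centralizer_iff]
      intro h hh
      rw [Set.mem_singleton_iff] at hh
      subst hh
      exact hxb'
  have h4 := h3 (hle ha)
  rw [mem_centralizer_iff] at h4
  exact h4 x rfl

/-- Lifting centralizers through a homomorphism in a coprime action. -/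
theorem lift_comm {M : Type*} [Group M] (ρ : G →* M) (N B : Subgroup G) [hN : N.Normal]
    (hcop : (Nat.card B).Coprime (Nat.card N)) (hB : ∀ a ∈ B, ∀ b ∈ B, a * b = b * a)
    (n : G) (hn : n ∈ N) (h : ∀ a ∈ B, ρ a * ρ n = ρ n * ρ a) :
    ∃ c ∈ N, (∀ a ∈ B, a * c = c * a) ∧ ρ c = ρ n := by
  have hK : (N ⊓ ρ.ker).Normal := inferInstance
  have hsolv : Group.IsSolvable B :=
    Group.isSolvable_of_comm (fun a b => Subtype.ext (hB a a.2 b b.2))
  have hcop' : (Nat.card B).Coprime (Nat.card (N ⊓ ρ.ker : Subgroup G)) :=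
    Nat.Coprime.coprime_dvd_right (Subgroup.card_dvd_of_le inf_le_left) hcop
  have hBK : B ≤ normalizer ((N ⊓ ρ.ker : Subgroup G) : Set G) := by
    rw [normalizer_eq_top]; exact le_top
  obtain ⟨c, hc, hcn⟩ := Cfsg.Agent.Lib.helper1.coset_fixed B (N ⊓ ρ.ker) hBK hcop'
    (Or.inl hsolv) n (by
      intro a ha
      refine Subgroup.mem_inf.mpr ⟨?_, ?_⟩
      · exact N.mul_mem (hN.conj_mem n hn a) (N.inv_mem hn)
      · rw [MonoidHom.mem_ker]
        simp only [map_mul, map_inv]
        rw [h a ha]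
        group)
  obtain ⟨hcn1, hcn2⟩ := Subgroup.mem_inf.mp hcn
  refine ⟨c, ?_, ?_, ?_⟩
  · have : c = c * n⁻¹ * n := by group
    rw [this]; exact N.mul_mem hcn1 hn
  · intro a ha
    rw [mem_centralizer_iff] at hc
    exact hc a ha
  · have h1 := hcn2
    rw [MonoidHom.mem_ker, map_mul, map_inv] at h1
    exact mul_inv_eq_one.mp h1

/-- The centralizer in `N` of a nonidentity element of `A` is nilpotent (Thompson). -/
theorem nilp_cent {p : ℕ} (hp : p.Prime) (N A : Subgroup G) [hN : N.Normal]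
    (hAc : ∀ a ∈ A, ∀ b ∈ A, a * b = b * a) (hAp : ∀ a ∈ A, a ^ p = 1)
    (hAcard : Nat.card A = p ^ 2)
    (hfpf : ∀ n ∈ N, (∀ a ∈ A, a * n = n * a) → n = 1) (b : G) (hb : b ∈ A) (hb1 : b ≠ 1) :
    Group.IsNilpotent ↥(N ⊓ centralizer ({b} : Set G)) := by
  obtain ⟨b', hb', hgen⟩ := exists_gen2 hp A hAp hAcard b hb hb1
  apply nilp_of_fpf (N ⊓ centralizer ({b} : Set G)) b' p hp (hAp b' hb')
  · intro m hm
    obtain ⟨hm1, hm2⟩ := Subgroup.mem_inf.mp hm
    refine Subgroup.mem_inf.mpr ⟨hN.conj_mem m hm1 b', ?_⟩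
    rw [mem_centralizer_iff] at hm2 ⊢
    intro h hh
    rw [Set.mem_singleton_iff] at hh
    subst hh
    have hc1 : Commute h b' := hAc h hb b' hb'
    have hc2 : Commute h m := hm2 h rfl
    exact ((hc1.mul_right hc2).mul_right hc1.inv_right).eq
  · intro n hn hcomm
    obtain ⟨hn1, hn2⟩ := Subgroup.mem_inf.mp hn
    apply hfpf n hn1
    intro a ha
    rw [mem_centralizer_iff] at hn2
    exact (hgen n (hn2 b rfl).symm hcomm.symm a ha).symm

end thompson

section sylow

variable {M : Type*} [Group M] [Finite M]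

/-- The `t`-part of a nilpotent subgroup. -/
theorem exists_tpart (L : Subgroup M) (hLnil : Group.IsNilpotent ↥L) (t : ℕ) [Fact t.Prime] :
    ∃ Q : Subgroup M, Q ≤ L ∧ IsPGroup t Q ∧ (∀ y ∈ L, (∃ e : ℕ, y ^ (t ^ e) = 1) → y ∈ Q) ∧
      ∀ g ∈ normalizer (L : Set M), g ∈ normalizer (Q : Set M) := by
  obtain ⟨PL⟩ : Nonempty (Sylow t ↥L) := Sylow.nonempty
  have hallL : ∀ (p : ℕ) (_ : Fact p.Prime) (P : Sylow p ↥L), (P : Subgroup ↥L).Normal := by
    have htf := Group.isNilpotent_of_finite_tfae (G := ↥L)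
    exact (htf.out 0 3).mp hLnil
  have hPLn : (PL : Subgroup ↥L).Normal := hallL t inferInstance PL
  have hQ : IsPGroup t ((PL : Subgroup ↥L).map L.subtype) := PL.isPGroup'.map _
  have hQL : (PL : Subgroup ↥L).map L.subtype ≤ L := by
    rintro _ ⟨y, -, rfl⟩
    exact y.2
  have hQ2 : ∀ y ∈ L, (∃ e : ℕ, y ^ (t ^ e) = 1) → y ∈ (PL : Subgroup ↥L).map L.subtype := by
    intro y hy ⟨e, he⟩
    have hz : IsPGroup t (zpowers (⟨y, hy⟩ : ↥L)) := by
      have h1 : orderOf (⟨y, hy⟩ : ↥L) ∣ t ^ e := by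
        rw [Subgroup.orderOf_mk]
        exact orderOf_dvd_of_pow_eq_one he
      obtain ⟨i, -, hi⟩ := (Nat.dvd_prime_pow (Fact.out : t.Prime)).mp h1
      apply IsPGroup.of_card (n := i)
      rw [Nat.card_zpowers, hi]
    obtain ⟨PL', hPL'⟩ := hz.exists_le_sylow
    obtain ⟨g, hg⟩ := MulAction.exists_smul_eq ↥L PL PL'
    have h2 : PL' = PL := by
      rw [← hg]
      exact Sylow.smul_eq_of_normal
    rw [h2] at hPL'
    exact Subgroup.mem_map.mpr ⟨⟨y, hy⟩, hPL' (mem_zpowers _), rfl⟩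
  refine ⟨_, hQL, hQ, hQ2, ?_⟩
  intro g hg
  apply mem_normalizer_of_forall _ (normalizer (L : Set M)) ?_ g hg
  intro g hg d hd
  apply hQ2
  · exact (mem_normalizer_iff.mp hg d).mp (hQL hd)
  · obtain ⟨β, hβ⟩ := pg_elt0 hQ hd
    exact ⟨β, by rw [conj_pow, hβ]; group⟩

/-- A Sylow subgroup of `H` normalized by a term of the lower central series of `H` is normal
in `H`. -/
theorem sylow_normal_of_lcs (H : Subgroup M) (j : ℕ) (s : ℕ) [Fact s.Prime] (P : Sylow s ↥H)
    (hLS : H.lowerCentralSeries j ≤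
      normalizer (((P : Subgroup ↥H).map H.subtype : Subgroup M) : Set M)) :
    (P : Subgroup ↥H).Normal := by
  have hγ : ∀ i, i ≤ j → (⊤ : Subgroup ↥H).lowerCentralSeries (j - i) ≤
      normalizer ((P : Subgroup ↥H) : Set ↥H) := by
    intro i
    induction i with
    | zero =>
      intro _ y hy
      have hyL : (y : M) ∈ H.lowerCentralSeries j := by
        rw [← top_subtype_lowerCentralSeries H j]
        exact Subgroup.mem_map_of_mem _ hy
      have h1 := hLS hyL
      rw [mem_normalizer_iff] at h1 ⊢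
      intro h
      have h2 := h1 (h : M)
      constructor
      · intro hh
        have h3 := h2.mp (Subgroup.mem_map_of_mem _ hh)
        obtain ⟨w, hw, hwe⟩ := Subgroup.mem_map.mp h3
        have h4 : w = y * h * y⁻¹ := Subtype.ext (by simpa using hwe)
        rw [← h4]
        exact hw
      · intro hh
        have h3 := h2.mpr (Subgroup.mem_map.mpr ⟨y * h * y⁻¹, hh, by simp⟩)
        obtain ⟨w, hw, hwe⟩ := Subgroup.mem_map.mp h3
        have h4 : w = h := Subtype.ext hwe
        rw [← h4]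
        exact hw
    | succ i ih =>
      intro hi
      have h1 := ih (by omega)
      have h2 : j - i = (j - (i + 1)) + 1 := by omega
      rw [h2, Subgroup.lowerCentralSeries_succ] at h1
      have hnn : normalizer ((normalizer ((P : Subgroup ↥H) : Set ↥H) : Subgroup ↥H) : Set ↥H) =
          normalizer ((P : Subgroup ↥H) : Set ↥H) := Sylow.normalizer_normalizer P
      rw [← hnn, le_normalizer_iff_commutator_le_left, commutator_comm]
      exact (commutator_mono le_rfl le_top).trans h1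
  have h0 := hγ j le_rfl
  rw [Nat.sub_self, Subgroup.lowerCentralSeries_zero] at h0
  exact normalizer_eq_top_iff.mp (top_le_iff.mp h0)

/-- Nilpotency from normality of invariant Sylow subgroups. -/
theorem nilp_of_sylow (H Ab : Subgroup M) {p : ℕ}
    (hHp : ∀ w ∈ H, ∀ e : ℕ, w ^ (p ^ e) = 1 → w = 1)
    (hAbH : Ab ≤ normalizer (H : Set M)) (hcop : (Nat.card Ab).Coprime (Nat.card H))
    (hsolv : Group.IsSolvable Ab)
    (h : ∀ (s : ℕ) [Fact s.Prime], s ≠ p → ∀ P : Sylow s ↥H,
      Ab ≤ normalizer (((P : Subgroup ↥H).map H.subtype : Subgroup M) : Set M) →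
      (P : Subgroup ↥H).Normal) : Group.IsNilpotent ↥H := by
  have hall : ∀ (s : ℕ) (_ : Fact s.Prime) (P : Sylow s ↥H), (P : Subgroup ↥H).Normal := by
    intro s hsf P
    by_cases hsp : s = p
    · subst hsp
      have h1 : (P : Subgroup ↥H) = ⊥ := by
        rw [Subgroup.eq_bot_iff_forall]
        intro x hx
        obtain ⟨β, hβ⟩ := pg_elt0 P.isPGroup' hx
        apply Subtype.ext
        exact hHp x x.2 β (by simpa using congrArg Subtype.val hβ)
      rw [h1]
      infer_instance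
    · obtain ⟨P₀, hP₀⟩ := Cfsg.Agent.Lib.helper1.exists_invariant_sylow (p := s) Ab H hAbH hcop
        (Or.inl hsolv)
      have hn := h s hsp P₀ hP₀
      obtain ⟨g, hg⟩ := MulAction.exists_smul_eq ↥H P₀ P
      have h2 : P = P₀ := by
        rw [← hg]
        exact Sylow.smul_eq_of_normal
      rw [h2]
      exact hn
  have htf := Group.isNilpotent_of_finite_tfae (G := ↥H)
  exact (htf.out 0 3).mpr hall

end sylow

section action

variable {Γ : Type u} [Group Γ] [Finite Γ]

/-- The conjugation action of `Γ` on a normal subgroup `V`. -/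
def rho (V : Subgroup Γ) [V.Normal] : Γ →* MulAut ↥V := MulAut.conjNormal

theorem rho_apply (V : Subgroup Γ) [V.Normal] (g : Γ) (v : ↥V) :
    ((rho V g v : ↥V) : Γ) = g * v * g⁻¹ := MulAut.conjNormal_apply g v

theorem mem_ker_rho (V : Subgroup Γ) [V.Normal] (g : Γ) :
    g ∈ (rho V).ker ↔ ∀ v ∈ V, g * v = v * g := by
  rw [MonoidHom.mem_ker]
  constructor
  · intro h v hv
    have h1 : ((rho V g ⟨v, hv⟩ : ↥V) : Γ) = v := by rw [h]; rfl
    rw [rho_apply] at h1
    calc g * v = g * v * g⁻¹ * g := by group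
      _ = v * g := by rw [h1]
  · intro h
    ext v
    rw [rho_apply, h v v.2]
    simp

theorem map_mem_normalizer {M : Type*} [Group M] (f : Γ →* M) (K : Subgroup Γ) [hK : K.Normal]
    (g : Γ) : f g ∈ normalizer ((K.map f : Subgroup M) : Set M) := by
  apply le_normalizer_map f
  rw [normalizer_eq_top]
  exact Subgroup.mem_map_of_mem f (Subgroup.mem_top g)

/-- A normal `r`-subgroup of the automorphism group induced on a minimal normal `r`-subgroup is
trivial. -/
theorem rgroup_eq_bot (V : Subgroup Γ) [V.Normal] {r : ℕ} (hr : r.Prime)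
    (hV0 : V ≠ ⊥) (hVr : ∀ v ∈ V, v ^ r = 1)
    (hVmin : ∀ W : Subgroup Γ, W.Normal → W ≤ V → W = ⊥ ∨ W = V)
    (Q : Subgroup (MulAut V)) (hQ : IsPGroup r Q)
    (hQn : ∀ g : Γ, rho V g ∈ normalizer (Q : Set (MulAut V))) : Q = ⊥ := by
  haveI : Fact r.Prime := ⟨hr⟩
  let W₀ : Subgroup ↥V :=
    { carrier := {v | ∀ u ∈ Q, u v = v}
      mul_mem' := fun {a b} ha hb u hu => by rw [map_mul, ha u hu, hb u hu]
      one_mem' := fun u _ => map_one u
      inv_mem' := fun {a} ha u hu => by rw [map_inv, ha u hu] }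
  have hW₀ : ∀ v : ↥V, v ∈ W₀ ↔ ∀ u ∈ Q, u v = v := fun v => Iff.rfl
  have hWn : (W₀.map V.subtype).Normal := by
    constructor
    intro w hw g
    obtain ⟨v, hv, rfl⟩ := Subgroup.mem_map.mp hw
    refine Subgroup.mem_map.mpr ⟨rho V g v, ?_, ?_⟩
    · rw [hW₀]
      intro u hu
      have h1 := (mem_normalizer_iff''.mp (hQn g)) u
      have h2 := (hW₀ v).mp hv _ (h1.mp hu)
      have h3 : u (rho V g v) = rho V g (((rho V g)⁻¹ * u * rho V g) v) := by
        simp [MulAut.mul_apply]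
      rw [h3, h2]
    · simp [rho_apply]
  have hWV : W₀.map V.subtype ≤ V := by
    rintro _ ⟨v, -, rfl⟩
    exact v.2
  have hW0 : W₀.map V.subtype ≠ ⊥ := by
    have hVp : IsPGroup r ↥V := fun v =>
      ⟨1, by rw [pow_one]; exact Subtype.ext (by simpa using hVr v v.2)⟩
    have hcard : r ∣ Nat.card ↥V := by
      obtain ⟨n, hn⟩ := IsPGroup.iff_card.mp hVp
      have hn0 : n ≠ 0 := by
        rintro rfl
        rw [pow_zero] at hn
        exact hV0 (Subgroup.card_eq_one.mp hn)
      rw [hn]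
      exact dvd_pow_self r hn0
    obtain ⟨b, hb, hb1⟩ := hQ.exists_fixed_point_of_prime_dvd_card_of_fixed_point ↥V hcard
      (a := (1 : ↥V)) (by
        rw [MulAction.mem_fixedPoints]
        intro u
        exact smul_one u)
    intro hbot
    have hbW : (b : Γ) ∈ W₀.map V.subtype := by
      refine Subgroup.mem_map.mpr ⟨b, ?_, rfl⟩
      rw [hW₀]
      intro u hu
      have := MulAction.mem_fixedPoints.mp hb ⟨u, hu⟩
      exact this
    rw [hbot, Subgroup.mem_bot] at hbW
    exact hb1 (Subtype.ext hbW).symm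
  have hWeq : W₀.map V.subtype = V := (hVmin _ hWn hWV).resolve_left hW0
  rw [Subgroup.eq_bot_iff_forall]
  intro u hu
  ext v
  have hv : (v : Γ) ∈ W₀.map V.subtype := by rw [hWeq]; exact v.2
  obtain ⟨v', hv', hvv⟩ := Subgroup.mem_map.mp hv
  have : v' = v := Subtype.ext hvv
  rw [this] at hv'
  rw [(hW₀ v).mp hv' u hu]
  rfl

/-- Application of the core statement to a `t`-subgroup `Q` and an `s`-subgroup `R₁` of the image
of `N` in `Aut V`. -/
theorem core_apply (hcore : Cfsg.Agent.Lib.helper66.WardCoreStmt.{u})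
    (N V A : Subgroup Γ) [hN : N.Normal] [hVn : V.Normal] {p r : ℕ} (hp : p.Prime) (hr : r.Prime)
    (hrp : r ≠ p)
    (hAc : ∀ a ∈ A, ∀ b ∈ A, a * b = b * a) (hAp : ∀ a ∈ A, a ^ p = 1)
    (hAcard : Nat.card A = p ^ 2) (hcop : (Nat.card N).Coprime p)
    (hfpf : ∀ n ∈ N, (∀ a ∈ A, a * n = n * a) → n = 1)
    (hVN : V ≤ N) (hVc : ∀ x ∈ V, ∀ y ∈ V, x * y = y * x) (hVr : ∀ v ∈ V, v ^ r = 1)
    (hinj : ∀ a ∈ A, rho V a = 1 → a = 1)
    {t s : ℕ} (ht : t.Prime) (hs : s.Prime) (hts : t ≠ s) (htr : t ≠ r) (htp : t ≠ p)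
    (hsp : s ≠ p)
    (Q R₁ : Subgroup (MulAut V))
    (hQH : Q ≤ N.map (rho V)) (hRH : R₁ ≤ N.map (rho V))
    (hQ : IsPGroup t Q) (hR : IsPGroup s R₁)
    (hAQ : A.map (rho V) ≤ normalizer (Q : Set (MulAut V)))
    (hAR : A.map (rho V) ≤ normalizer (R₁ : Set (MulAut V)))
    (hRQ : R₁ ≤ normalizer (Q : Set (MulAut V))) :
    ∀ u ∈ Q, ∀ x ∈ R₁, u * x = x * u := by
  have hcopA : (Nat.card A).Coprime (Nat.card N) := by
    rw [hAcard]
    exact (Nat.Coprime.pow_right 2 hcop).symm
  have hlift : ∀ (q : ℕ), q.Prime → ∀ (b : Γ), b ∈ A → ∀ (w : MulAut V), w ∈ N.map (rho V) →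
      (∃ β : ℕ, w ^ (q ^ β) = 1) → w * rho V b = rho V b * w →
      ∃ c ∈ N ⊓ centralizer ({b} : Set Γ), (∃ α : ℕ, c ^ (q ^ α) = 1) ∧ rho V c = w := by
    intro q hq b hb w hw ⟨β, hβ⟩ hwb
    obtain ⟨n, hn, rfl⟩ := Subgroup.mem_map.mp hw
    have hcopb : (Nat.card (zpowers b)).Coprime (Nat.card N) := by
      rw [Nat.card_zpowers]
      exact Nat.Coprime.coprime_dvd_left (orderOf_dvd_of_pow_eq_one (hAp b hb)) hcop.symm
    obtain ⟨c, hcN, hcb, hρc⟩ := lift_comm (rho V) N (zpowers b) hcopb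
      (by
        intro a ha a' ha'
        obtain ⟨i, rfl⟩ := Subgroup.mem_zpowers_iff.mp ha
        obtain ⟨i', rfl⟩ := Subgroup.mem_zpowers_iff.mp ha'
        rw [← zpow_add, ← zpow_add, add_comm])
      n hn (by
        intro a ha
        obtain ⟨i, rfl⟩ := Subgroup.mem_zpowers_iff.mp ha
        rw [map_zpow]
        exact ((Commute.zpow_left (show Commute (rho V b) (rho V n) from hwb.symm) i)).eq)
    obtain ⟨m, α, hm1, hm2⟩ := exists_pow_part (rho V) hq c β (by rw [hρc]; exact hβ)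
    refine ⟨c ^ m, ?_, ⟨α, hm1⟩, by rw [hm2, hρc]⟩
    refine Subgroup.mem_inf.mpr ⟨N.pow_mem hcN m, ?_⟩
    rw [mem_centralizer_iff]
    intro h hh
    rw [Set.mem_singleton_iff] at hh
    subst hh
    exact ((show Commute h c from hcb h (mem_zpowers h)).pow_right m).eq
  have hAbar_c : ∀ a ∈ A.map (rho V), ∀ b ∈ A.map (rho V), a * b = b * a := by
    intro a' ha' b' hb'
    obtain ⟨a, ha, rfl⟩ := Subgroup.mem_map.mp ha'
    obtain ⟨b, hb, rfl⟩ := Subgroup.mem_map.mp hb'
    rw [← map_mul, ← map_mul, hAc a ha b hb]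
  have hAbar_p : ∀ a ∈ A.map (rho V), a ^ p = 1 := by
    intro a' ha'
    obtain ⟨a, ha, rfl⟩ := Subgroup.mem_map.mp ha'
    rw [← map_pow, hAp a ha, map_one]
  have hAbar_card : Nat.card (A.map (rho V)) = p ^ 2 := by
    rw [← hAcard]
    symm
    apply Nat.card_eq_of_bijective ((rho V).subgroupMap A)
    refine ⟨?_, (rho V).subgroupMap_surjective A⟩
    rw [injective_iff_map_eq_one]
    intro a ha
    apply Subtype.ext
    apply hinj a a.2
    exact congrArg Subtype.val ha
  have hAbar_fpf : ∀ v : ↥V, (∀ a' ∈ A.map (rho V), a' v = v) → v = 1 := by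
    intro v hv
    apply Subtype.ext
    apply hfpf v (hVN v.2)
    intro a ha
    have h1 := hv (rho V a) (Subgroup.mem_map_of_mem (rho V) ha)
    have h2 : a * (v : Γ) * a⁻¹ = v := by
      have := congrArg Subtype.val h1
      rwa [rho_apply] at this
    calc a * (v : Γ) = a * v * a⁻¹ * a := by group
      _ = v * a := by rw [h2]
  have hC : ∀ w ∈ N.map (rho V), (∀ a' ∈ A.map (rho V), a' * w = w * a') → w = 1 := by
    intro w hw hwa
    obtain ⟨n, hn, rfl⟩ := Subgroup.mem_map.mp hw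
    obtain ⟨c, hcN, hcA, hρc⟩ := lift_comm (rho V) N A hcopA hAc n hn
      (fun a ha => hwa (rho V a) (Subgroup.mem_map_of_mem (rho V) ha))
    have := hfpf c hcN hcA
    rw [← hρc, this, map_one]
  have hN1 : ∀ b' ∈ A.map (rho V), b' ≠ 1 → ∀ u ∈ Q, ∀ x ∈ R₁, u * b' = b' * u →
      x * b' = b' * x → u * x = x * u := by
    intro b' hb' hb'1 u hu x hx hub hxb
    obtain ⟨b, hb, rfl⟩ := Subgroup.mem_map.mp hb'
    have hb1 : b ≠ 1 := by
      rintro rfl
      exact hb'1 (map_one (rho V))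
    obtain ⟨c₁, hc₁, ⟨α₁, hα₁⟩, rfl⟩ := hlift t ht b hb u (hQH hu) (pg_elt0 hQ hu) hub
    obtain ⟨c₂, hc₂, ⟨α₂, hα₂⟩, rfl⟩ := hlift s hs b hb x (hRH hx) (pg_elt0 hR hx) hxb
    have hnil := nilp_cent hp N A hAc hAp hAcard hfpf b hb hb1
    have hco : (orderOf c₁).Coprime (orderOf c₂) := by
      have h1 := orderOf_dvd_of_pow_eq_one hα₁
      have h2 := orderOf_dvd_of_pow_eq_one hα₂
      exact Nat.Coprime.coprime_dvd_left h1 (Nat.Coprime.coprime_dvd_right h2
        (Nat.Coprime.pow _ _ ((Nat.coprime_primes ht hs).mpr hts)))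
    have := comm_of_nilp _ hnil c₁ c₂ hc₁ hc₂ hco
    rw [← map_mul, ← map_mul, this]
  have hN2 : ∀ b' ∈ A.map (rho V), b' ≠ 1 → ∀ u ∈ Q, u * b' = b' * u →
      ∀ v : ↥V, b' v = v → u v = v := by
    intro b' hb' hb'1 u hu hub v hv
    obtain ⟨b, hb, rfl⟩ := Subgroup.mem_map.mp hb'
    have hb1 : b ≠ 1 := by
      rintro rfl
      exact hb'1 (map_one (rho V))
    obtain ⟨c₁, hc₁, ⟨α₁, hα₁⟩, rfl⟩ := hlift t ht b hb u (hQH hu) (pg_elt0 hQ hu) hub
    have hnil := nilp_cent hp N A hAc hAp hAcard hfpf b hb hb1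
    have hvC : (v : Γ) ∈ N ⊓ centralizer ({b} : Set Γ) := by
      refine Subgroup.mem_inf.mpr ⟨hVN v.2, ?_⟩
      rw [mem_centralizer_iff]
      intro h hh
      rw [Set.mem_singleton_iff] at hh
      subst hh
      have h2 : h * (v : Γ) * h⁻¹ = v := by
        have := congrArg Subtype.val hv
        rwa [rho_apply] at this
      calc h * (v : Γ) = h * v * h⁻¹ * h := by group
        _ = v * h := by rw [h2]
    have hco : (orderOf c₁).Coprime (orderOf (v : Γ)) := by
      have h1 := orderOf_dvd_of_pow_eq_one hα₁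
      have h2 := orderOf_dvd_of_pow_eq_one (hVr v v.2)
      exact Nat.Coprime.coprime_dvd_left h1 (Nat.Coprime.coprime_dvd_right h2
        (Nat.Coprime.pow_left _ ((Nat.coprime_primes ht hr).mpr htr)))
    have h3 := comm_of_nilp _ hnil c₁ v hc₁ hvC hco
    apply Subtype.ext
    rw [rho_apply, h3]
    group
  exact hcore ↥V r p t s hr hp ht hs hrp htp hsp hts.symm htr
    (fun x y => Subtype.ext (hVc x x.2 y y.2)) (fun v => Subtype.ext (by simpa using hVr v v.2))
    (A.map (rho V)) Q R₁ hAbar_c hAbar_p hAbar_card hAbar_fpf hQ hR hAQ hAR hRQ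
    (fun u hu h => hC u (hQH hu) h) (fun x hx h => hC x (hRH hx) h) hN1 hN2

/-- The image of `N` in `Aut V` is nilpotent: some term of the lower central series of `N`
centralizes `V`. -/
theorem exists_lcs_le_ker (hcore : Cfsg.Agent.Lib.helper66.WardCoreStmt.{u})
    (N V A : Subgroup Γ) [hN : N.Normal] [hVn : V.Normal] {p r : ℕ} (hp : p.Prime) (hr : r.Prime)
    (hAc : ∀ a ∈ A, ∀ b ∈ A, a * b = b * a) (hAp : ∀ a ∈ A, a ^ p = 1)
    (hAcard : Nat.card A = p ^ 2) (hcop : (Nat.card N).Coprime p)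
    (hfpf : ∀ n ∈ N, (∀ a ∈ A, a * n = n * a) → n = 1)
    (hVN : V ≤ N) (hV0 : V ≠ ⊥) (hVc : ∀ x ∈ V, ∀ y ∈ V, x * y = y * x)
    (hVr : ∀ v ∈ V, v ^ r = 1)
    (hVmin : ∀ W : Subgroup Γ, W.Normal → W ≤ V → W = ⊥ ∨ W = V)
    (j k : ℕ) (hjk : (N.lowerCentralSeries j).lowerCentralSeries k ≤ V) :
    ∃ j' : ℕ, N.lowerCentralSeries j' ≤ (rho V).ker := by
  by_cases hinj : ∀ a ∈ A, rho V a = 1 → a = 1
  swap
  · push Not at hinj
    obtain ⟨a, ha, hρa, ha1⟩ := hinj
    have hnil := nilp_cent hp N A hAc hAp hAcard hfpf a ha ha1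
    obtain ⟨k', hk'⟩ := (isNilpotent_iff_lowerCentralSeries _).mp hnil
    refine ⟨k', ?_⟩
    rw [← Subgroup.map_eq_bot_iff, map_lowerCentralSeries]
    have hcopa : (Nat.card (zpowers a)).Coprime (Nat.card N) := by
      rw [Nat.card_zpowers]
      exact Nat.Coprime.coprime_dvd_left (orderOf_dvd_of_pow_eq_one (hAp a ha)) hcop.symm
    have hle : N.map (rho V) ≤ (N ⊓ centralizer ({a} : Set Γ)).map (rho V) := by
      rintro _ ⟨n, hn, rfl⟩
      obtain ⟨c, hcN, hcb, hρc⟩ := lift_comm (rho V) N (zpowers a) hcopa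
        (by
          intro x hx y hy
          obtain ⟨i, rfl⟩ := Subgroup.mem_zpowers_iff.mp hx
          obtain ⟨i', rfl⟩ := Subgroup.mem_zpowers_iff.mp hy
          rw [← zpow_add, ← zpow_add, add_comm])
        n hn (by
          intro a' ha'
          obtain ⟨i, rfl⟩ := Subgroup.mem_zpowers_iff.mp ha'
          rw [map_zpow, hρa, one_zpow, one_mul, mul_one])
      refine ⟨c, Subgroup.mem_inf.mpr ⟨hcN, ?_⟩, hρc⟩
      rw [mem_centralizer_iff]
      intro h hh
      rw [Set.mem_singleton_iff] at hh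
      subst hh
      exact hcb h (mem_zpowers h)
    have h1 : ((N ⊓ centralizer ({a} : Set Γ)).map (rho V)).lowerCentralSeries k' = ⊥ := by
      rw [← map_lowerCentralSeries, hk', Subgroup.map_bot]
    rw [eq_bot_iff, ← h1]
    exact Subgroup.lowerCentralSeries_mono k' hle
  haveI : Fact p.Prime := ⟨hp⟩
  have hVker : V ≤ (rho V).ker := by
    intro v hv
    rw [mem_ker_rho]
    intro w hw
    exact hVc v hv w hw
  have hrp : r ≠ p := by
    rintro rfl
    obtain ⟨⟨v, hv⟩, hv1⟩ := (Subgroup.ne_bot_iff_exists_ne_one).mp hV0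
    have hv1' : v ≠ 1 := fun h => hv1 (Subtype.ext h)
    have h1 : orderOf v = r := orderOf_eq_prime (hVr v hv) hv1'
    have h2 : r ∣ Nat.card N := h1 ▸ Subgroup.orderOf_dvd_natCard N (hVN hv)
    exact hr.one_lt.ne' (hcop.symm.eq_one_of_dvd h2)
  have hHp : ∀ w ∈ N.map (rho V), ∀ e : ℕ, w ^ (p ^ e) = 1 → w = 1 := by
    intro w hw e he
    have h1 : orderOf w ∣ p ^ e := orderOf_dvd_of_pow_eq_one he
    have h2 : orderOf w ∣ Nat.card N :=
      (Subgroup.orderOf_dvd_natCard _ hw).trans (Subgroup.card_map_dvd N (rho V))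
    have h3 : (orderOf w).Coprime (orderOf w) :=
      Nat.Coprime.coprime_dvd_left h2 (Nat.Coprime.coprime_dvd_right h1
        (Nat.Coprime.pow_right e hcop))
    exact orderOf_eq_one_iff.mp ((Nat.coprime_self _).mp h3)
  have hAbH : A.map (rho V) ≤
      normalizer ((N.map (rho V) : Subgroup (MulAut V)) : Set (MulAut V)) := by
    rintro _ ⟨a, -, rfl⟩
    exact map_mem_normalizer (rho V) N a
  have hcopAH : (Nat.card (A.map (rho V))).Coprime (Nat.card (N.map (rho V))) := by
    have h1 := Subgroup.card_map_dvd A (rho V)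
    have h2 := Subgroup.card_map_dvd N (rho V)
    rw [hAcard] at h1
    exact Nat.Coprime.coprime_dvd_left h1 (Nat.Coprime.coprime_dvd_right h2
      (Nat.Coprime.pow_left 2 hcop.symm))
  have hAbsolv : Group.IsSolvable (A.map (rho V)) := by
    apply Group.isSolvable_of_comm
    rintro ⟨_, a, ha, rfl⟩ ⟨_, b, hb, rfl⟩
    apply Subtype.ext
    show rho V a * rho V b = rho V b * rho V a
    rw [← map_mul, ← map_mul, hAc a ha b hb]
  have hLeq : (N.map (rho V)).lowerCentralSeries j = (N.lowerCentralSeries j).map (rho V) :=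
    (map_lowerCentralSeries N (rho V) j).symm
  have hLnil : Group.IsNilpotent ↥((N.map (rho V)).lowerCentralSeries j) := by
    rw [isNilpotent_iff_lowerCentralSeries]
    refine ⟨k, ?_⟩
    rw [hLeq, ← map_lowerCentralSeries, Subgroup.map_eq_bot_iff]
    exact hjk.trans hVker
  have hΓL : ∀ g : Γ, rho V g ∈ normalizer
      (((N.map (rho V)).lowerCentralSeries j : Subgroup (MulAut V)) : Set (MulAut V)) := by
    intro g
    rw [hLeq]
    exact map_mem_normalizer (rho V) (N.lowerCentralSeries j) g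
  have hLH : (N.map (rho V)).lowerCentralSeries j ≤ N.map (rho V) :=
    Subgroup.lowerCentralSeries_le_self _ j
  have hHL : N.map (rho V) ≤ normalizer
      (((N.map (rho V)).lowerCentralSeries j : Subgroup (MulAut V)) : Set (MulAut V)) :=
    Subgroup.self_le_normalizer_lowerCentralSeries _ j
  have hHnil : Group.IsNilpotent ↥(N.map (rho V)) := by
    apply nilp_of_sylow (N.map (rho V)) (A.map (rho V)) hHp hAbH hcopAH hAbsolv
    intro s hsf hsp P hPA
    apply sylow_normal_of_lcs (N.map (rho V)) j s P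
    have hSH : (P : Subgroup ↥(N.map (rho V))).map (N.map (rho V)).subtype ≤ N.map (rho V) := by
      rintro _ ⟨y, -, rfl⟩
      exact y.2
    have hSp : IsPGroup s ((P : Subgroup ↥(N.map (rho V))).map (N.map (rho V)).subtype) :=
      P.isPGroup'.map _
    intro x hx
    apply mem_of_ppow _ (orderOf x) x rfl
    intro z hz t e htp hzt
    have hzL : z ∈ (N.map (rho V)).lowerCentralSeries j := (zpowers_le.mpr hx) hz
    haveI : Fact t.Prime := ⟨htp⟩
    obtain ⟨Q, hQL, hQ, hQ2, hQn⟩ := exists_tpart _ hLnil t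
    have hzQ : z ∈ Q := hQ2 z hzL ⟨e, hzt⟩
    by_cases h1 : t = p
    · rw [h1] at hzt
      rw [hHp z (hLH hzL) e hzt]
      exact one_mem _
    by_cases h2 : t = r
    · rw [h2] at hQ
      have hQbot := rgroup_eq_bot V hr hV0 hVr hVmin Q hQ (fun g => hQn _ (hΓL g))
      rw [hQbot, Subgroup.mem_bot] at hzQ
      rw [hzQ]
      exact one_mem _
    by_cases h3 : t = s
    · rw [h3] at hQ
      apply le_normalizer
      have hQHn : (Q.subgroupOf (N.map (rho V))).Normal :=
        (normal_subgroupOf_iff_le_normalizer (hQL.trans hLH)).mpr (fun h hh => hQn h (hHL hh))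
      have hQHp : IsPGroup s (Q.subgroupOf (N.map (rho V))) := hQ.comap_subtype
      have hle := Cfsg.Agent.Lib.helper1.normal_pgroup_le_sylow
        (Q.subgroupOf (N.map (rho V))) hQHp P
      exact Subgroup.mem_map.mpr ⟨⟨z, hLH hzL⟩, hle (mem_subgroupOf.mpr hzQ), rfl⟩
    · apply mem_normalizer_of_comm'
      intro d hd
      exact core_apply hcore N V A hp hr hrp hAc hAp hAcard hcop hfpf hVN hVc hVr hinj htp
        hsf.out h3 h2 h1 hsp Q _ (hQL.trans hLH) hSH hQ hSp
        (fun a ha => hQn a (by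
          obtain ⟨a₀, -, rfl⟩ := Subgroup.mem_map.mp ha
          exact hΓL a₀))
        hPA (fun x hx => hQn x (hHL (hSH hx))) z hzQ d hd
  obtain ⟨j', hj'⟩ := (isNilpotent_iff_lowerCentralSeries (N.map (rho V))).mp hHnil
  refine ⟨j', ?_⟩
  rw [← Subgroup.map_eq_bot_iff, map_lowerCentralSeries]
  exact hj'

end action

section main

/-- Internal form of Ward's theorem (modulo the core statement): a normal `p'`-subgroup `N` of a
finite solvable group `Γ` on which an elementary abelian subgroup `A` of order `p ^ 2` acts without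
fixed points has a nilpotent term of its lower central series. -/
theorem fit2 (hcore : Cfsg.Agent.Lib.helper66.WardCoreStmt.{u}) {p : ℕ} (hp : p.Prime) :
    ∀ (n : ℕ) (Γ : Type u) [Group Γ] [Finite Γ], Nat.card Γ = n → Group.IsSolvable Γ →
      ∀ (N A : Subgroup Γ), N.Normal →
        (∀ a ∈ A, ∀ b ∈ A, a * b = b * a) → (∀ a ∈ A, a ^ p = 1) → Nat.card A = p ^ 2 →
        (Nat.card N).Coprime p →
        (∀ n ∈ N, (∀ a ∈ A, a * n = n * a) → n = 1) →
        ∃ j k : ℕ, (N.lowerCentralSeries j).lowerCentralSeries k = ⊥ := by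
  intro n
  induction n using Nat.strong_induction_on with
  | _ n ih =>
    intro Γ _ _ hn hsolv N A hN hAc hAp hAcard hcop hfpf
    by_cases hN0 : N = ⊥
    · exact ⟨0, 0, by rw [hN0]; rfl⟩
    obtain ⟨V, hVn, hVN, hV0, hVmin⟩ : ∃ V : Subgroup Γ, V.Normal ∧ V ≤ N ∧ V ≠ ⊥ ∧
        ∀ W : Subgroup Γ, W.Normal → W ≤ V → W = ⊥ ∨ W = V := by
      have hex : ∃ m : ℕ, ∃ V : Subgroup Γ, V.Normal ∧ V ≤ N ∧ V ≠ ⊥ ∧ Nat.card V = m :=
        ⟨_, N, hN, le_rfl, hN0, rfl⟩
      classical
      obtain ⟨V, hVn, hVN, hV0, hVc⟩ := Nat.find_spec hex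
      refine ⟨V, hVn, hVN, hV0, ?_⟩
      intro W hWn hWV
      by_cases hW0 : W = ⊥
      · exact Or.inl hW0
      right
      have h1 : Nat.find hex ≤ Nat.card W :=
        Nat.find_min' hex ⟨W, hWn, hWV.trans hVN, hW0, rfl⟩
      exact Subgroup.eq_of_le_of_card_ge hWV (by rw [hVc]; exact h1)
    haveI := hVn
    haveI := hN
    haveI := hsolv
    obtain ⟨r, hr, hVc, hVr, -⟩ := Cfsg.Agent.Lib.helper65.minNormal_solvable_elementary V hVn
      inferInstance hV0 (fun K hK hKV => hVmin K hK hKV)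
    have hlt : Nat.card (Γ ⧸ V) < n := by
      rw [← hn, ← Subgroup.index_eq_card, ← Subgroup.index_mul_card V]
      have h1 : 1 < Nat.card V := (Subgroup.one_lt_card_iff_ne_bot V).mpr hV0
      have h2 : 0 < V.index := Nat.pos_of_ne_zero Subgroup.index_ne_zero_of_finite
      nlinarith
    have hAN : ∀ a ∈ A, a ∈ N → a = 1 := by
      intro a ha haN
      have h1 : orderOf a ∣ p := orderOf_dvd_of_pow_eq_one (hAp a ha)
      have h2 : orderOf a ∣ Nat.card N := Subgroup.orderOf_dvd_natCard N haN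
      have h3 : (orderOf a).Coprime (orderOf a) :=
        Nat.Coprime.coprime_dvd_left h2 (Nat.Coprime.coprime_dvd_right h1 hcop)
      exact orderOf_eq_one_iff.mp ((Nat.coprime_self _).mp h3)
    obtain ⟨j, k, hjk⟩ := ih (Nat.card (Γ ⧸ V)) hlt (Γ ⧸ V) rfl inferInstance
      (N.map (QuotientGroup.mk' V)) (A.map (QuotientGroup.mk' V))
      (hN.map _ (QuotientGroup.mk'_surjective V))
      (by
        rintro _ ⟨a, ha, rfl⟩ _ ⟨b, hb, rfl⟩
        rw [← map_mul, ← map_mul, hAc a ha b hb])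
      (by
        rintro _ ⟨a, ha, rfl⟩
        rw [← map_pow, hAp a ha, map_one])
      (by
        rw [← hAcard]
        symm
        apply Nat.card_eq_of_bijective ((QuotientGroup.mk' V).subgroupMap A)
        refine ⟨?_, (QuotientGroup.mk' V).subgroupMap_surjective A⟩
        rw [injective_iff_map_eq_one]
        intro a ha
        apply Subtype.ext
        have h1 : (QuotientGroup.mk' V) (a : Γ) = 1 := congrArg Subtype.val ha
        rw [QuotientGroup.mk'_apply, QuotientGroup.eq_one_iff] at h1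
        exact hAN a a.2 (hVN h1))
      (Nat.Coprime.coprime_dvd_left (Subgroup.card_map_dvd N _) hcop)
      (by
        rintro _ ⟨n₀, hn₀, rfl⟩ hcomm
        have hcopAV : (Nat.card A).Coprime (Nat.card V) := by
          rw [hAcard]
          exact Nat.Coprime.coprime_dvd_right (Subgroup.card_dvd_of_le hVN)
            (Nat.Coprime.pow_left 2 hcop.symm)
        have hsolvA : Group.IsSolvable A :=
          Group.isSolvable_of_comm (fun a b => Subtype.ext (hAc a a.2 b b.2))
        obtain ⟨c, hc, hcn⟩ := Cfsg.Agent.Lib.helper1.coset_fixed A V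
          (by rw [normalizer_eq_top]; exact le_top) hcopAV (Or.inl hsolvA) n₀ (by
            intro a ha
            have h1 : (QuotientGroup.mk' V) a * (QuotientGroup.mk' V) n₀ =
                (QuotientGroup.mk' V) n₀ * (QuotientGroup.mk' V) a :=
              hcomm _ (Subgroup.mem_map_of_mem (QuotientGroup.mk' V) ha)
            apply (QuotientGroup.eq_one_iff _).mp
            show (QuotientGroup.mk' V) (a * n₀ * a⁻¹ * n₀⁻¹) = 1
            rw [map_mul, map_mul, map_mul, map_inv, map_inv, h1]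
            group)
        have hcN : c ∈ N := by
          have : c = c * n₀⁻¹ * n₀ := by group
          rw [this]
          exact N.mul_mem (hVN hcn) hn₀
        have hc1 : c = 1 := hfpf c hcN (fun a ha => (mem_centralizer_iff.mp hc) a ha)
        rw [hc1, one_mul] at hcn
        have hn₀V : n₀ ∈ V := by simpa using V.inv_mem hcn
        rw [QuotientGroup.mk'_apply, QuotientGroup.eq_one_iff]
        exact hn₀V)
    rw [← map_lowerCentralSeries, ← map_lowerCentralSeries, Subgroup.map_eq_bot_iff,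
      QuotientGroup.ker_mk'] at hjk
    obtain ⟨j', hj'⟩ := exists_lcs_le_ker hcore N V A hp hr hAc hAp hAcard hcop hfpf hVN hV0
      hVc hVr hVmin j k hjk
    refine ⟨max j j', k + 1, ?_⟩
    rw [Subgroup.lowerCentralSeries_succ, eq_bot_iff, commutator_le]
    intro x hx y hy
    have hxV : x ∈ V := hjk (Subgroup.lowerCentralSeries_mono k
      (N.lowerCentralSeries_antitone (le_max_left j j')) hx)
    have hyK : y ∈ (rho V).ker := hj' (N.lowerCentralSeries_antitone (le_max_right j j') hy)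
    rw [mem_ker_rho] at hyK
    rw [Subgroup.mem_bot, commutatorElement_def, ← hyK x hxV]
    group

/-- Ward's theorem modulo the core statement, lower central series form. -/
theorem ward_lcs (hcore : Cfsg.Agent.Lib.helper66.WardCoreStmt.{u}) {G : Type u} [Group G]
    [Finite G] (hG : Group.IsSolvable G) {p : ℕ} (hp : p.Prime) (A : Subgroup (MulAut G))
    (hAc : ∀ a ∈ A, ∀ b ∈ A, a * b = b * a) (hAp : ∀ a ∈ A, a ^ p = 1)
    (hcard : Nat.card A = p ^ 2) (hfpf : ∀ g : G, (∀ a ∈ A, a g = g) → g = 1) :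
    ∃ j k : ℕ, ((⊤ : Subgroup G).lowerCentralSeries j).lowerCentralSeries k = ⊥ := by
  haveI : Fact p.Prime := ⟨hp⟩
  haveI : Finite (G ⋊[A.subtype] ↥A) := Finite.of_equiv _ SemidirectProduct.equivProd.symm
  haveI hsolvA : Group.IsSolvable ↥A :=
    Group.isSolvable_of_comm (fun a b => Subtype.ext (hAc a a.2 b b.2))
  haveI hsolvΓ : Group.IsSolvable (G ⋊[A.subtype] ↥A) :=
    Group.isSolvable_of_ker_le_range (SemidirectProduct.inl : G →* G ⋊[A.subtype] ↥A)
      SemidirectProduct.rightHom (by rw [SemidirectProduct.range_inl_eq_ker_rightHom])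
  have hNn : (SemidirectProduct.inl : G →* G ⋊[A.subtype] ↥A).range.Normal := by
    rw [SemidirectProduct.range_inl_eq_ker_rightHom]
    infer_instance
  have hcopG : (Nat.card G).Coprime p := by
    have hAp' : IsPGroup p ↥A := IsPGroup.of_card (n := 2) hcard
    have h1 := hAp'.card_modEq_card_fixedPoints G
    have h2 : Nat.card (MulAction.fixedPoints ↥A G) = 1 := by
      rw [Nat.card_eq_one_iff_unique]
      refine ⟨⟨?_⟩, ⟨⟨1, ?_⟩⟩⟩
      · rintro ⟨x, hx⟩ ⟨y, hy⟩
        have hx1 : x = 1 := hfpf x (fun a ha => hx ⟨a, ha⟩)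
        have hy1 : y = 1 := hfpf y (fun a ha => hy ⟨a, ha⟩)
        exact Subtype.ext (hx1.trans hy1.symm)
      · intro a
        exact smul_one a
    rw [h2] at h1
    rw [Nat.coprime_comm, Nat.Prime.coprime_iff_not_dvd hp]
    intro hdvd
    have h3 : Nat.card G ≡ 0 [MOD p] := (Nat.modEq_zero_iff_dvd).mpr hdvd
    have h4 : 1 ≡ 0 [MOD p] := h1.symm.trans h3
    have h5 : p ∣ 1 := (Nat.modEq_zero_iff_dvd).mp h4
    exact hp.one_lt.ne' (Nat.dvd_one.mp h5)
  obtain ⟨j, k, hjk⟩ := fit2 hcore hp (Nat.card (G ⋊[A.subtype] ↥A)) (G ⋊[A.subtype] ↥A) rfl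
    hsolvΓ (SemidirectProduct.inl : G →* G ⋊[A.subtype] ↥A).range
    (SemidirectProduct.inr : ↥A →* G ⋊[A.subtype] ↥A).range hNn
    (by
      rintro _ ⟨a, rfl⟩ _ ⟨b, rfl⟩
      rw [← map_mul, ← map_mul]
      congr 1
      exact Subtype.ext (hAc a a.2 b b.2))
    (by
      rintro _ ⟨a, rfl⟩
      rw [← map_pow]
      have h1 : a ^ p = 1 := Subtype.ext (by simpa using hAp a a.2)
      rw [h1, map_one])
    (by
      rw [← hcard]
      exact (Nat.card_congr (MonoidHom.ofInjective SemidirectProduct.inr_injective).toEquiv).symm)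
    (by
      have h1 : Nat.card (SemidirectProduct.inl : G →* G ⋊[A.subtype] ↥A).range = Nat.card G :=
        (Nat.card_congr (MonoidHom.ofInjective SemidirectProduct.inl_injective).toEquiv).symm
      rw [h1]
      exact hcopG)
    (by
      rintro _ ⟨g, rfl⟩ hcomm
      have hg1 : g = 1 := by
        apply hfpf
        intro a ha
        have h1 := hcomm (SemidirectProduct.inr ⟨a, ha⟩) ⟨⟨a, ha⟩, rfl⟩
        have h2 : (SemidirectProduct.inl (A.subtype ⟨a, ha⟩ g) : G ⋊[A.subtype] ↥A) =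
            SemidirectProduct.inl g := by
          rw [SemidirectProduct.inl_aut, h1, map_inv]
          group
        exact SemidirectProduct.inl_injective h2
      rw [hg1, map_one])
  refine ⟨j, k, ?_⟩
  have h1 : (SemidirectProduct.inl : G →* G ⋊[A.subtype] ↥A).range =
      (⊤ : Subgroup G).map SemidirectProduct.inl := MonoidHom.range_eq_map _
  rw [h1, ← map_lowerCentralSeries, ← map_lowerCentralSeries] at hjk
  exact (Subgroup.map_eq_bot_iff_of_injective _ SemidirectProduct.inl_injective).mp hjk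

end main

end Cfsg.Agent.Lib.helper71.WardR

/-- **Ward's theorem modulo the core statement**: a finite solvable group admitting an elementary
abelian group of automorphisms of order `p ^ 2` without nontrivial common fixed points has Fitting
height at most two. -/
theorem Cfsg.Agent.Lib.helper71.ward_of_core.{u}
    (hcore : Cfsg.Agent.Lib.helper66.WardCoreStmt.{u}) {G : Type u} [Group G] [Finite G]
    (hG : Group.IsSolvable G) {p : ℕ} (hp : p.Prime) (A : Subgroup (MulAut G))
    (hA : Cfsg.IsElementaryAbelian p A) (hcard : Nat.card A = p ^ 2)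
    (hfpf : ∀ g : G, (∀ a ∈ A, a g = g) → g = 1) :
    ∃ F : Fin (2 + 1) → Subgroup G, F 0 = ⊥ ∧ F (Fin.last 2) = ⊤ ∧ Monotone F ∧
      (∀ i, (F i).Normal) ∧
      ∀ i : Fin 2, ∃ k : ℕ, (F i.succ).lowerCentralSeries k ≤ F i.castSucc := by
  obtain ⟨hAcomm, hAp⟩ := hA
  have hAc : ∀ a ∈ A, ∀ b ∈ A, a * b = b * a := by
    intro a ha b hb
    exact congrArg Subtype.val (isMulCommutative_iff.mp hAcomm ⟨a, ha⟩ ⟨b, hb⟩)
  obtain ⟨j, k, hjk⟩ := Cfsg.Agent.Lib.helper71.WardR.ward_lcs hcore hG hp A hAc hAp hcard hfpf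
  refine ⟨![⊥, (⊤ : Subgroup G).lowerCentralSeries j, ⊤], rfl, rfl, ?_, ?_, ?_⟩
  · rw [Fin.monotone_iff_le_succ]
    intro i
    fin_cases i
    · exact bot_le
    · exact le_top
  · intro i
    fin_cases i
    · exact (inferInstance : (⊥ : Subgroup G).Normal)
    · exact (inferInstance : ((⊤ : Subgroup G).lowerCentralSeries j).Normal)
    · exact (inferInstance : (⊤ : Subgroup G).Normal)
  · intro i
    fin_cases i
    · exact ⟨k, hjk.le⟩
    · exact ⟨j, le_rfl⟩
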