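/-
Bender-Glauberman, towards Theorem 14.2(a) (statement S1430): the regularity hypothesis `RegHyp`
of `Cfsg.Agent.Lib.helper87.BG142` (no element of prime order outside `κ(M)` of a complement `E`
commutes with an element of prime order of a Hall `κ(M)`-subgroup `K ≤ E`, when `κ(M) ⊆ τ₁(M)`)
is reduced to its only open case `NAHyp`:

  `r ∈ τ₂(M)`, the Sylow `r`-subgroups of `G` nonabelian, `A ≤ E` elementary abelian of order `r ^ 2`,
  `P ≤ E` of order `p ∈ τ₁(M)` with `C_{M_σ}(P) ≠ 1`; then `P` does not centralize `A ∩ C_G(M_σ)`.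

When the Sylow `r`-subgroups are abelian, `N_G(A)/C_G(A)` is abelian (`bg8_comm_le_cent`), so
`N_G(A)` normalizes the fixed line `C_A(P)`, whose normalizer lies in `M` (S1418(3)), against
`N_G(A) ≰ M` (S1418(2)).
-/
import Mathlib
import Cfsg.Agent.S1403
import Cfsg.Agent.S1404
import Cfsg.Agent.S1417
import Cfsg.Agent.S1418
import Cfsg.Agent.S1419
import Cfsg.Agent.S1428
import Cfsg.Agent.Lib.helper87.BG1430Asm
import Cfsg.Agent.Lib.helper36.BG8PAD
import Cfsg.Agent.Lib.helper60.BGCentU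
import Cfsg.Agent.Lib.helper25.BG1428B2M

set_option autoImplicit false
open Cfsg

namespace Cfsg.Agent.Lib.helper71.BGRegNA

open Cfsg.Agent.Lib.helper8 Cfsg.Agent.Lib.helper97

variable {G : Type*} [Group G]

/-- The open case of (O-a): in the nonabelian-Sylow `τ₂` situation, a singular subgroup `P` of
order `p ∈ τ₁(M)` of `E` does not centralize `A ∩ C_G(M_σ)`. -/
def NAHyp (G : Type*) [Group G] : Prop :=
  ∀ (M : Subgroup G), IsCoatom M → ∀ (E : Subgroup G), IsComplIn E (sigmaCore M) M →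
    ∀ (r : ℕ) [Fact r.Prime], r ∈ tau2 M →
      (∀ S : Sylow r G, ¬ IsMulCommutative (S : Subgroup G)) →
      ∀ (A : Subgroup G), A ≤ E → IsElementaryAbelian r A → Nat.card A = r ^ 2 →
        ∀ (p : ℕ), p ∈ tau1 M → ∀ (P : Subgroup G), P ≤ E → Nat.card P = p →
          sigmaCore M ⊓ Subgroup.centralizer (P : Set G) ≠ ⊥ →
          A ⊓ Subgroup.centralizer (sigmaCore M : Set G) ≤ Subgroup.centralizer (P : Set G) →
          False

theorem mem_cent_zpowers {c x : G} :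
    c ∈ Subgroup.centralizer ((Subgroup.zpowers x : Subgroup G) : Set G) ↔ x * c = c * x := by
  rw [Cfsg.Agent.Lib.helper87.BG142.cent_zpowers]
  exact Cfsg.Agent.Lib.helper87.BG142.mem_cent_singleton

/-- An element of prime order `p ∈ κ(M)` of `M` centralizes a non-identity element of `M_σ`. -/
theorem kappa_singular [Finite G] (M : Subgroup G) (p : ℕ) (hp : p ∈ kappa M) (x : G)
    (hxM : x ∈ M) (hx : orderOf x = p) :
    ∃ c ∈ sigmaCore M, c ≠ 1 ∧ x * c = c * x := by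
  have hpp : p.Prime := hp.1
  have : Fact p.Prime := ⟨hpp⟩
  have hxp : IsPGroup p (Subgroup.zpowers (⟨x, hxM⟩ : ↥M)) := by
    apply IsPGroup.of_card (n := 1)
    rw [Nat.card_zpowers, pow_one, Subgroup.orderOf_mk, hx]
  obtain ⟨P₁, hP₁⟩ := hxp.exists_le_sylow
  obtain ⟨hcyc, x₀, hx₀P, hx₀1, y, hyσ, hy1, hcomm⟩ := hp.2.2.2 P₁
  have hxP₁ : (⟨x, hxM⟩ : ↥M) ∈ (P₁ : Subgroup ↥M) := hP₁ (Subgroup.mem_zpowers _)
  -- `p ∣ orderOf x₀`
  have hdvd : p ∣ orderOf x₀ := by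
    obtain ⟨k, hk⟩ := (P₁.2 ⟨x₀, hx₀P⟩)
    have hk' : x₀ ^ p ^ k = 1 := by
      have := congrArg Subtype.val hk
      simpa using this
    have h1 : orderOf x₀ ∣ p ^ k := orderOf_dvd_of_pow_eq_one hk'
    obtain ⟨j, -, hj⟩ := (Nat.dvd_prime_pow hpp).mp h1
    rw [hj]
    have hj0 : j ≠ 0 := by
      rintro rfl
      rw [pow_zero, orderOf_eq_one_iff] at hj
      exact hx₀1 hj
    exact dvd_pow_self p hj0
  have hpow : (⟨x, hxM⟩ : ↥M) ^ orderOf x₀ = 1 := by
    obtain ⟨t, ht⟩ := hdvd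
    rw [ht, pow_mul]
    have : (⟨x, hxM⟩ : ↥M) ^ p = 1 := by
      apply Subtype.ext
      show x ^ p = 1
      rw [← hx]; exact pow_orderOf_eq_one x
    rw [this, one_pow]
  have hmem := Cfsg.Agent.Lib.helper25.BG1428.mem_zpowers_of_isCyclic (G := ↥M) hcyc hx₀P hxP₁ hpow
  obtain ⟨k, hk⟩ := Subgroup.mem_zpowers_iff.mp hmem
  have hxk : x = (x₀ : G) ^ k := by
    have := congrArg Subtype.val hk
    simpa using this.symm
  refine ⟨y, hyσ, hy1, ?_⟩
  rw [hxk]
  have hc : Commute (x₀ : G) y := hcomm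
  exact (hc.zpow_left k).eq

/-- An element of prime order `r ∉ κ(M)` of a complement `E` of `M_σ` which centralizes a
non-identity element of `M_σ` has `r ∈ τ₂(M)`. -/
theorem tau2_of_singular [Finite G] (hG : IsMinSimpleOddOrder G) (M : Subgroup G)
    (hM : IsCoatom M) (E : Subgroup G) (hE : IsComplIn E (sigmaCore M) M) (y : G) (hyE : y ∈ E)
    (hyp : (orderOf y).Prime) (hyκ : orderOf y ∉ kappa M) (c : G) (hcσ : c ∈ sigmaCore M)
    (hc1 : c ≠ 1) (hyc : y * c = c * y) : orderOf y ∈ tau2 M := by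
  obtain ⟨hodd, -, -, -⟩ := id hG
  have : Fact (orderOf y).Prime := ⟨hyp⟩
  have hU : BGUniqHyp G := fun K hK h1 h2 => Cfsg.Agent.S1403.result hG K hK h1 h2
  have hF : BGFusHyp G := by
    intro M hM p hp X hXp hX1 hXM g hg
    have : Fact p.Prime := ⟨hp.1⟩
    exact (Cfsg.Agent.S1404.result hG M hM p hp X hXp hX1 hXM).1 g hg
  have hyM : y ∈ M := hE.1 hyE
  have hy1 : y ≠ 1 := by
    rintro rfl
    rw [orderOf_one] at hyp
    exact Nat.not_prime_one hyp
  have hpσ : orderOf y ∉ sigma M := by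
    intro hp
    have hQp : IsPGroup (orderOf y) (Subgroup.zpowers y) :=
      IsPGroup.of_card (n := 1) (by rw [Nat.card_zpowers, pow_one])
    have h1 : Subgroup.zpowers y ≤ sigmaCore M :=
      bg_pgroup_le_sigmaCore hG hU hF M hM hp _ (Subgroup.zpowers_le.mpr hyM) hQp
    have h2 : y ∈ E ⊓ sigmaCore M := Subgroup.mem_inf.mpr ⟨hyE, h1 (Subgroup.mem_zpowers _)⟩
    rw [hE.2.2.1] at h2
    exact hy1 (Subgroup.mem_bot.mp h2)
  have hr2 : PRankLE (orderOf y) 2 M := by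
    by_contra h
    exact hpσ (bg_alpha_sub_sigma hG hU M hM ⟨hyp, h⟩)
  refine ⟨hyp, hpσ, hr2, ?_⟩
  intro hr1
  apply hyκ
  have hpM : orderOf y ∣ Nat.card M := by
    have h := orderOf_dvd_natCard (⟨y, hyM⟩ : ↥M)
    rwa [Subgroup.orderOf_mk] at h
  refine ⟨hyp, hpM, hpσ, ?_⟩
  intro P₀
  have hcyc : IsCyclic P₀ := bg_sylow_cyclic_of_prank_one hodd (le_refl M) (orderOf y) hr1 P₀
  refine ⟨hcyc, ?_⟩
  have hxp : IsPGroup (orderOf y) (Subgroup.zpowers (⟨y, hyM⟩ : ↥M)) := by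
    apply IsPGroup.of_card (n := 1)
    rw [Nat.card_zpowers, pow_one, Subgroup.orderOf_mk]
  obtain ⟨P₁, hP₁⟩ := hxp.exists_le_sylow
  obtain ⟨g, hg⟩ := MulAction.exists_smul_eq ↥M P₁ P₀
  have hxP₁ : (⟨y, hyM⟩ : ↥M) ∈ P₁ := hP₁ (Subgroup.mem_zpowers _)
  have hmem : g * ⟨y, hyM⟩ * g⁻¹ ∈ P₀ := by
    rw [← hg]
    apply (bg_mem_smul_sylow P₁ g _).mpr
    have : g⁻¹ * (g * ⟨y, hyM⟩ * g⁻¹) * g = ⟨y, hyM⟩ := by group
    rw [this]; exact hxP₁
  have hgN := Cfsg.Agent.Lib.helper13.le_normalizer_sigmaCore M g.2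
  rw [Subgroup.mem_normalizer_iff] at hgN
  refine ⟨g * ⟨y, hyM⟩ * g⁻¹, hmem, ?_, (g : G) * c * (g : G)⁻¹, (hgN _).mp hcσ, ?_, ?_⟩
  · intro h
    apply hy1
    have h' : (⟨y, hyM⟩ : ↥M) = 1 := by
      have := congrArg (fun z => g⁻¹ * z * g) h
      simpa [mul_assoc] using this
    exact congrArg Subtype.val h'
  · intro h
    apply hc1
    have := congrArg (fun z => (g : G)⁻¹ * z * (g : G)) h
    simpa [mul_assoc] using this
  · show (g : G) * y * (g : G)⁻¹ * ((g : G) * c * (g : G)⁻¹) =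
      (g : G) * c * (g : G)⁻¹ * ((g : G) * y * (g : G)⁻¹)
    calc (g : G) * y * (g : G)⁻¹ * ((g : G) * c * (g : G)⁻¹)
        = (g : G) * (y * c) * (g : G)⁻¹ := by group
      _ = (g : G) * (c * y) * (g : G)⁻¹ := by rw [hyc]
      _ = (g : G) * c * (g : G)⁻¹ * ((g : G) * y * (g : G)⁻¹) := by group

/-- The normalizer of a subgroup `R` of prime order lies in `M` as soon as `M` is the only maximal
subgroup containing `C_G(R)`. -/
theorem normalizer_le_of_uniq [Finite G] (hG : IsMinSimpleOddOrder G) (M R : Subgroup G)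
    (hM : IsCoatom M) (hRM : R ≤ M) (hR1 : R ≠ ⊥)
    (hu : ∀ L : Subgroup G, IsCoatom L → Subgroup.centralizer (R : Set G) ≤ L → L = M) :
    Subgroup.normalizer (R : Set G) ≤ M := by
  obtain ⟨-, hsimple, -, -⟩ := id hG
  have := hsimple
  have hNtop : Subgroup.normalizer (R : Set G) ≠ ⊤ := by
    intro h
    have hXn : R.Normal := Subgroup.normalizer_eq_top_iff.mp h
    rcases hXn.eq_bot_or_eq_top with h1 | h1
    · exact hR1 h1
    · apply hM.1
      rw [eq_top_iff, ← h1]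
      exact hRM
  obtain ⟨L, hL, hNL⟩ := (eq_top_or_exists_le_coatom _).resolve_left hNtop
  have hLM := hu L hL ((Subgroup.centralizer_le_normalizer _).trans hNL)
  rw [← hLM]
  exact hNL

/-- **(O-a) from (NA).**  If `κ(M) ⊆ τ₁(M)`, the regularity hypothesis `RegHyp M K` holds for every
Hall `κ(M)`-subgroup `K`, provided the nonabelian-Sylow case `NAHyp` is excluded. -/
theorem regHyp_of_na [Finite G] (hG : IsMinSimpleOddOrder G) (hNA : NAHyp G) (M : Subgroup G)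
    (hM : IsCoatom M) (K : Subgroup G) (hK : IsPiHallOf (kappa M) K M)
    (hκ : ∀ p ∈ kappa M, p ∈ tau1 M) : Cfsg.Agent.Lib.helper87.BG142.RegHyp M K := by
  intro E hE hKE x hxK y hyE hxp hyp hyκ hxy
  have hxE : x ∈ E := hKE hxK
  have hpκ : orderOf x ∈ kappa M :=
    hK.2.1 _ hxp (Cfsg.Agent.Lib.helper87.BG142.prime_dvd_card_of_mem hxK)
  have hpτ : orderOf x ∈ tau1 M := hκ _ hpκ
  obtain ⟨c, hcσ, hc1, hxc⟩ := kappa_singular M (orderOf x) hpκ x (hE.1 hxE) rfl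
  have hPE : Subgroup.zpowers x ≤ E := Subgroup.zpowers_le.mpr hxE
  have hRE : Subgroup.zpowers y ≤ E := Subgroup.zpowers_le.mpr hyE
  have hcP : c ∈ sigmaCore M ⊓ Subgroup.centralizer ((Subgroup.zpowers x : Subgroup G) : Set G) :=
    Subgroup.mem_inf.mpr ⟨hcσ, mem_cent_zpowers.mpr hxc⟩
  have hY : sigmaCore M ⊓ Subgroup.centralizer ((Subgroup.zpowers x : Subgroup G) : Set G) ≠ ⊥ := by
    intro h
    rw [h] at hcP
    exact hc1 (Subgroup.mem_bot.mp hcP)
  -- S1428 for prime order subgroups of `E` centralizing `x`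
  have h28 : ∀ a : G, a ∈ E → (orderOf a).Prime → x * a = a * x → a * c = c * a := by
    intro a haE hap hxa
    have hR : Subgroup.zpowers a ≤
        E ⊓ Subgroup.centralizer ((Subgroup.zpowers x : Subgroup G) : Set G) := by
      rw [Subgroup.zpowers_le]
      exact Subgroup.mem_inf.mpr ⟨haE, mem_cent_zpowers.mpr hxa⟩
    have h := Cfsg.Agent.S1428.result hG M hM E hE (orderOf x) hpτ (Subgroup.zpowers x) hPE
      (Nat.card_zpowers x) (Subgroup.zpowers a) hR (by rw [Nat.card_zpowers]; exact hap)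
    exact mem_cent_zpowers.mp (Subgroup.mem_inf.mp (h hcP)).2
  have hyc : y * c = c * y := h28 y hyE hyp hxy
  have hrτ : orderOf y ∈ tau2 M := tau2_of_singular hG M hM E hE y hyE hyp hyκ c hcσ hc1 hyc
  have : Fact (orderOf y).Prime := ⟨hyp⟩
  have hy1 : y ≠ 1 := by
    rintro rfl
    rw [orderOf_one] at hyp
    exact Nat.not_prime_one hyp
  obtain ⟨A, hAE, hAe, hAc⟩ := bg7_exists_elemAb_compl M E hE (orderOf y) hrτ
  obtain ⟨⟨hEA, hsub⟩, ⟨-, -, hNA'⟩, huniq⟩ :=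
    Cfsg.Agent.S1418.result hG M hM E hE (orderOf y) hrτ A ⟨hAE, hAe, hAc⟩
  have hRA : Subgroup.zpowers y ≤ A := hsub _ hRE (Nat.card_zpowers y)
  have hyA : y ∈ A := hRA (Subgroup.mem_zpowers y)
  have hRσ : sigmaCore M ⊓ Subgroup.centralizer ((Subgroup.zpowers y : Subgroup G) : Set G) ≠ ⊥ := by
    intro h
    have h1 : c ∈ sigmaCore M ⊓ Subgroup.centralizer ((Subgroup.zpowers y : Subgroup G) : Set G) :=
      Subgroup.mem_inf.mpr ⟨hcσ, mem_cent_zpowers.mpr hyc⟩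
    rw [h] at h1
    exact hc1 (Subgroup.mem_bot.mp h1)
  obtain ⟨-, hRu⟩ := huniq _ hRA (Nat.card_zpowers y) hRσ
  have hR1 : Subgroup.zpowers y ≠ ⊥ := by
    intro h
    have h1 : y ∈ (⊥ : Subgroup G) := h ▸ Subgroup.mem_zpowers y
    exact hy1 (Subgroup.mem_bot.mp h1)
  have hNR : Subgroup.normalizer ((Subgroup.zpowers y : Subgroup G) : Set G) ≤ M :=
    normalizer_le_of_uniq hG M _ hM (hRE.trans hE.1) hR1 hRu
  have hAel := (bg_elemAb_iff A).mp hAe
  -- `x` does not centralize `A`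
  have hCA : sigmaCore M ⊓ Subgroup.centralizer (A : Set G) = ⊥ :=
    (Cfsg.Agent.S1417.result hG M hM (orderOf y) hrτ A ⟨hAE.trans hE.1, hAe, hAc⟩).2.2.2.1
  have hxA : ¬ ∀ a ∈ A, x * a = a * x := by
    intro h
    have h1 : c ∈ sigmaCore M ⊓ Subgroup.centralizer (A : Set G) := by
      refine Subgroup.mem_inf.mpr ⟨hcσ, ?_⟩
      rw [Subgroup.mem_centralizer_iff]
      intro a ha
      by_cases ha1 : a = 1
      · rw [ha1, one_mul, mul_one]
      · have hao : orderOf a = orderOf y :=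
          orderOf_eq_prime (hAel.2 a ha) ha1
        exact h28 a (hAE ha) (by rw [hao]; exact hyp) (h a ha)
    rw [hCA] at h1
    exact hc1 (Subgroup.mem_bot.mp h1)
  -- `C_A(x) = ⟨y⟩`
  have hRD : Subgroup.zpowers y ≤ A ⊓ Subgroup.centralizer ({x} : Set G) := by
    rw [Subgroup.zpowers_le]
    exact Subgroup.mem_inf.mpr ⟨hyA, Cfsg.Agent.Lib.helper87.BG142.mem_cent_singleton.mpr hxy⟩
  have hDA : A ⊓ Subgroup.centralizer ({x} : Set G) ≠ A := by
    intro h
    apply hxA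
    intro a ha
    have h1 : a ∈ A ⊓ Subgroup.centralizer ({x} : Set G) := by rw [h]; exact ha
    exact Cfsg.Agent.Lib.helper87.BG142.mem_cent_singleton.mp (Subgroup.mem_inf.mp h1).2
  have hDcard : Nat.card ↥(A ⊓ Subgroup.centralizer ({x} : Set G)) = orderOf y := by
    have h1 : Nat.card ↥(A ⊓ Subgroup.centralizer ({x} : Set G)) ∣ orderOf y ^ 2 := by
      rw [← hAc]
      exact Subgroup.card_dvd_of_le inf_le_left
    obtain ⟨k, hk2, hk⟩ := (Nat.dvd_prime_pow hyp).mp h1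
    have h2 : orderOf y ∣ Nat.card ↥(A ⊓ Subgroup.centralizer ({x} : Set G)) := by
      have := Subgroup.card_dvd_of_le hRD
      rwa [Nat.card_zpowers] at this
    have hk0 : k ≠ 0 := by
      rintro rfl
      rw [hk, pow_zero] at h2
      exact hyp.one_lt.ne' (Nat.dvd_one.mp h2)
    have hk2' : k ≠ 2 := by
      rintro rfl
      apply hDA
      apply Subgroup.eq_of_le_of_card_ge inf_le_left
      rw [hk, hAc]
    have hk1 : k = 1 := by omega
    rw [hk, hk1, pow_one]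
  have hDR : Subgroup.zpowers y = A ⊓ Subgroup.centralizer ({x} : Set G) := by
    apply Subgroup.eq_of_le_of_card_ge hRD
    rw [hDcard, Nat.card_zpowers]
  by_cases hS : ∀ S : Sylow (orderOf y) G, ¬ IsMulCommutative (S : Subgroup G)
  · -- nonabelian Sylow subgroups: `⟨y⟩ = A ∩ C(M_σ)`
    have h19 := (Cfsg.Agent.S1419.result hG M hM E hE (orderOf y) hrτ hS A ⟨hAE, hAe, hAc⟩).2.2
      (Subgroup.zpowers y) hRE (Nat.card_zpowers y)
    have hRA0 : Subgroup.zpowers y = A ⊓ Subgroup.centralizer (sigmaCore M : Set G) := by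
      by_contra hne
      exact hRσ (h19 hne).1
    apply hNA M hM E hE (orderOf y) hrτ hS A hAE hAe hAc (orderOf x) hpτ (Subgroup.zpowers x) hPE
      (Nat.card_zpowers x) hY
    rw [← hRA0, Subgroup.zpowers_le]
    exact mem_cent_zpowers.mpr hxy
  · -- abelian Sylow subgroups
    push Not at hS
    obtain ⟨S₀, hS₀⟩ := hS
    have hAp : IsPGroup (orderOf y) A := IsPGroup.of_card hAc
    obtain ⟨S₁, hAS₁⟩ := hAp.exists_le_sylow
    obtain ⟨g, hg⟩ := MulAction.exists_smul_eq G S₀ S₁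
    have hSab : ∀ a ∈ (S₁ : Subgroup G), ∀ b ∈ (S₁ : Subgroup G), a * b = b * a := by
      intro a ha b hb
      rw [← hg] at ha hb
      have ha' := (bg_mem_smul_sylow S₀ g a).mp ha
      have hb' := (bg_mem_smul_sylow S₀ g b).mp hb
      have hcomm : (⟨g⁻¹ * a * g, ha'⟩ : (S₀ : Subgroup G)) * ⟨g⁻¹ * b * g, hb'⟩ =
          ⟨g⁻¹ * b * g, hb'⟩ * ⟨g⁻¹ * a * g, ha'⟩ := isMulCommutative_iff.mp hS₀ _ _
      have h1 : g⁻¹ * a * g * (g⁻¹ * b * g) = g⁻¹ * b * g * (g⁻¹ * a * g) :=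
        congrArg Subtype.val hcomm
      have h2 : g⁻¹ * (a * b) * g = g⁻¹ * (b * a) * g := by
        calc g⁻¹ * (a * b) * g = g⁻¹ * a * g * (g⁻¹ * b * g) := by group
          _ = g⁻¹ * b * g * (g⁻¹ * a * g) := h1
          _ = g⁻¹ * (b * a) * g := by group
      exact mul_left_cancel (mul_right_cancel h2)
    have c8 : BG8Ctx M E A (orderOf y) S₁ := ⟨hM, hE, hrτ, ⟨hAE, hAe, hAc⟩, hSab, hAS₁⟩
    have hcomm := Cfsg.Agent.Lib.helper36.bg8_comm_le_cent hG c8
    have hxN : x ∈ Subgroup.normalizer (A : Set G) := hEA hxE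
    -- every element of `N_G(A)` conjugates `y` into `⟨y⟩`
    have key : ∀ n ∈ Subgroup.normalizer (A : Set G), n * y * n⁻¹ ∈ Subgroup.zpowers y := by
      intro n hn
      rw [hDR]
      refine Subgroup.mem_inf.mpr ⟨(Subgroup.mem_normalizer_iff.mp hn y).mp hyA, ?_⟩
      rw [Cfsg.Agent.Lib.helper87.BG142.mem_cent_singleton]
      have hc0 := hcomm n⁻¹ (inv_mem hn) x hxN
      have hyc0 := Subgroup.mem_centralizer_iff.mp hc0 y hyA
      -- `n⁻¹ x n = c₀ x` with `c₀` centralizing `A`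
      have e1 : n⁻¹ * x * n = (n⁻¹ * x * n⁻¹⁻¹ * x⁻¹) * x := by group
      calc x * (n * y * n⁻¹) = n * ((n⁻¹ * x * n) * y) * n⁻¹ := by group
        _ = n * ((n⁻¹ * x * n⁻¹⁻¹ * x⁻¹) * x * y) * n⁻¹ := by rw [e1]
        _ = n * ((n⁻¹ * x * n⁻¹⁻¹ * x⁻¹) * (y * x)) * n⁻¹ := by rw [mul_assoc _ x y, hxy]
        _ = n * (((n⁻¹ * x * n⁻¹⁻¹ * x⁻¹) * y) * x) * n⁻¹ := by rw [mul_assoc _ y x]
        _ = n * ((y * (n⁻¹ * x * n⁻¹⁻¹ * x⁻¹)) * x) * n⁻¹ := by rw [hyc0]
        _ = n * (y * (n⁻¹ * x * n)) * n⁻¹ := by rw [mul_assoc y _ x, ← e1]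
        _ = n * y * n⁻¹ * x := by group
    have keyz : ∀ n ∈ Subgroup.normalizer (A : Set G), ∀ h ∈ Subgroup.zpowers y,
        n * h * n⁻¹ ∈ Subgroup.zpowers y := by
      intro n hn h hh
      obtain ⟨k, rfl⟩ := Subgroup.mem_zpowers_iff.mp hh
      have : n * y ^ k * n⁻¹ = (n * y * n⁻¹) ^ k := by
        rw [conj_zpow]
      rw [this]
      exact Subgroup.zpow_mem _ (key n hn) k
    apply hNA'
    intro n hn
    apply hNR
    rw [Subgroup.mem_normalizer_iff]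
    intro h
    constructor
    · exact keyz n hn h
    · intro hh
      have := keyz n⁻¹ (inv_mem hn) _ hh
      have e : n⁻¹ * (n * h * n⁻¹) * n⁻¹⁻¹ = h := by group
      rwa [e] at this

end Cfsg.Agent.Lib.helper71.BGRegNA
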