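import Mathlib
import Cfsg.Agent.Lib.helper71.BGTwelveFourB
import Cfsg.Agent.Lib.helper13.BG11a
import Cfsg.Agent.Lib.helper12.FrobTools
import Cfsg.Agent.Lib.helper24.StrEmb

/-!
# Bender–Glauberman: `Ω₁` of a Sylow `p`-subgroup of `M` for `p ∉ σ(M) ∪ κ(M)` (statement S1429)

From B-G Theorem 12.5 (statement S1417, taken as a hypothesis) in the rank two case, and from
Thompson's theorem on fixed-point-free automorphisms of prime order in the rank one case.
-/

set_option autoImplicit false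

namespace Cfsg.Agent.Lib.helper71.BG13

open Cfsg Subgroup Cfsg.Agent.Lib.helper13 Cfsg.Agent.Lib.helper8 Cfsg.Agent.Lib.helper71.BGA
  Cfsg.Agent.Lib.helper71.BG12

variable {G : Type*} [Group G]

theorem closure_pow_eq_one_mem {S₁ : Subgroup G} {p : ℕ}
    (hcomm : ∀ x ∈ S₁, ∀ y ∈ S₁, x * y = y * x) :
    ∀ a ∈ closure {x : G | x ∈ S₁ ∧ x ^ p = 1}, a ∈ S₁ ∧ a ^ p = 1 := by
  intro a ha
  induction ha using Subgroup.closure_induction with
  | mem x hx => exact hx
  | one => exact ⟨S₁.one_mem, one_pow p⟩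
  | mul x y _ _ hx hy =>
    refine ⟨S₁.mul_mem hx.1 hy.1, ?_⟩
    have hc : Commute x y := hcomm x hx.1 y hy.1
    rw [hc.mul_pow, hx.2, hy.2, one_mul]
  | inv x _ hx => exact ⟨S₁.inv_mem hx.1, by rw [inv_pow, hx.2, inv_one]⟩

theorem card_le_of_prankLE [Finite G] {p k : ℕ} {M A : Subgroup G} (hr : PRankLE p k ↥M)
    (hAM : A ≤ M) (hAe : IsElementaryAbelian p A) : Nat.card A ≤ p ^ k := by
  by_contra h
  push Not at h
  exact (Cfsg.Agent.Lib.helper28.not_pRankLE_subgroup_iff p k M).mpr ⟨A, hAM, hAe, h⟩ hr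

/-- B-G: for `p ∈ π(M) ∖ (σ(M) ∪ κ(M))` and `S` a Sylow `p`-subgroup of `M`, `A = Ω₁(S)` has order
at most `p ^ 2`, `C_{M_σ}(A) = 1` and `M_σ` is nilpotent. -/
theorem bg_omega_sylow [Finite G] (hG : IsMinSimpleOddOrder G) (hU : BGUniqHyp G)
    (h17 : ∀ (M : Subgroup G), IsCoatom M → ∀ (p : ℕ) [Fact p.Prime], p ∈ tau2 M →
      ∀ A : Subgroup G, A ≤ M → IsElementaryAbelian p A → Nat.card A = p ^ 2 →
      Group.IsNilpotent (sigmaCore M) ∧ (∀ P : Sylow p M, IsMulCommutative (P : Subgroup M)) ∧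
        sigmaCore M ⊓ centralizer (A : Set G) = ⊥)
    (M : Subgroup G) (hM : IsCoatom M) (p : ℕ) [Fact p.Prime] (hpM : p ∣ Nat.card M)
    (hpσ : p ∉ sigma M) (hpκ : p ∉ kappa M) (S : Sylow p M) :
    Nat.card ↥(closure {x : G | x ∈ (S : Subgroup M).map M.subtype ∧ x ^ p = 1}) ≤ p ^ 2 ∧
      sigmaCore M ⊓ centralizer
        ((closure {x : G | x ∈ (S : Subgroup M).map M.subtype ∧ x ^ p = 1} : Subgroup G) : Set G)
          = ⊥ ∧
      Group.IsNilpotent (sigmaCore M) := by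
  classical
  have hpp : p.Prime := Fact.out
  obtain ⟨hodd, hsimple, hna, hsolv⟩ := id hG
  set S₁ : Subgroup G := (S : Subgroup M).map M.subtype with hS₁
  set A : Subgroup G := closure {x : G | x ∈ S₁ ∧ x ^ p = 1} with hA
  have hS₁M : S₁ ≤ M := Subgroup.map_subtype_le _
  have hAS : A ≤ S₁ := by rw [hA, closure_le]; exact fun x hx => hx.1
  have hAM : A ≤ M := hAS.trans hS₁M
  have hr2 : PRankLE p 2 ↥M := by
    by_contra h
    exact hpσ (bg_alpha_sub_sigma hG hU M hM ⟨hpp, h⟩)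
  have hS₁pg : IsPGroup p S₁ := S.isPGroup'.map _
  -- commutativity of `S` gives that `A` is elementary abelian
  have hAe_of : IsMulCommutative (S : Subgroup M) → IsElementaryAbelian p A := by
    intro hSc
    have hcomm : ∀ x ∈ S₁, ∀ y ∈ S₁, x * y = y * x := by
      rintro _ ⟨x, hx, rfl⟩ _ ⟨y, hy, rfl⟩
      have h1 : (⟨x, hx⟩ : (S : Subgroup M)) * ⟨y, hy⟩ = ⟨y, hy⟩ * ⟨x, hx⟩ := mul_comm' _ _
      have h2 : x * y = y * x := congrArg Subtype.val h1
      exact congrArg Subtype.val h2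
    have h := closure_pow_eq_one_mem (p := p) hcomm
    exact (bg_elemAb_iff A).mpr
      ⟨fun a ha b hb => hcomm a (h a ha).1 b (h b hb).1, fun a ha => (h a ha).2⟩
  by_cases hr1 : PRankLE p 1 ↥M
  · -- rank one: `Ω₁(S)` acts fixed-point-freely on `M_σ`
    have hcyc : IsCyclic (S : Subgroup M) := bg_sylow_cyclic_of_prank_one hodd (le_refl M) p hr1 S
    have hAe : IsElementaryAbelian p A := hAe_of IsCyclic.isMulCommutative
    have hcard : Nat.card A ≤ p ^ 2 :=
      (card_le_of_prankLE hr1 hAM hAe).trans (Nat.pow_le_pow_right hpp.pos (by norm_num))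
    -- unfold `p ∉ κ(M)`
    have hκ : ¬ ∀ P : Sylow p M, IsCyclic P ∧ ∃ x : M, x ∈ (P : Subgroup M) ∧ x ≠ 1 ∧
        ∃ y ∈ sigmaCore M, y ≠ 1 ∧ (x : G) * y = y * x :=
      fun h => hpκ ⟨hpp, hpM, hpσ, h⟩
    push Not at hκ
    obtain ⟨P₀, hP₀⟩ := hκ
    have hP₀' := hP₀ (bg_sylow_cyclic_of_prank_one hodd (le_refl M) p hr1 P₀)
    -- an element of order `p` of `S`
    have hSne : (S : Subgroup M) ≠ ⊥ := S.ne_bot_of_dvd_card hpM
    have hS₁ne : S₁ ≠ ⊥ := by
      intro h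
      apply hSne
      exact (Subgroup.map_eq_bot_iff_of_injective _ M.subtype_injective).mp h
    obtain ⟨z, hzS, hzo, -⟩ :=
      Cfsg.Agent.Lib.helper54.exists_central_orderOf_eq_prime hS₁pg hS₁ne
    have hzp : z ^ p = 1 := by rw [← hzo]; exact pow_orderOf_eq_one z
    have hz1 : z ≠ 1 := by
      rintro rfl
      rw [orderOf_one] at hzo
      exact hpp.one_lt.ne hzo
    have hzM : z ∈ M := hS₁M hzS
    have hzA : z ∈ A := Subgroup.subset_closure ⟨hzS, hzp⟩
    -- conjugate `z` into `P₀`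
    obtain ⟨h, hhM, hh⟩ := Cfsg.Agent.Lib.helper24.exists_conj_le_sylow M P₀ (zpowers z)
      (by rw [zpowers_le]; exact hzM)
      (IsPGroup.of_card (n := 1) (by rw [Nat.card_zpowers, hzo, pow_one]))
    obtain ⟨x', hx'P, hx'z⟩ := hh z (mem_zpowers z)
    have hx'z' : (x' : G) = h * z * h⁻¹ := hx'z
    have hx'1 : x' ≠ 1 := by
      rintro rfl
      apply hz1
      have h1 : h * z * h⁻¹ = 1 := hx'z'.symm
      have h2 : z = h⁻¹ * (h * z * h⁻¹) * h := by group
      rw [h2, h1]; group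
    -- fixed-point-freeness
    have hfpf : ∀ n ∈ sigmaCore M, z * n = n * z → n = 1 := by
      intro n hn hcomm
      by_contra hn1
      have hy : h * n * h⁻¹ ∈ sigmaCore M :=
        (mem_normalizer_iff.mp (Cfsg.Agent.Lib.helper71.BGA.le_normalizer_sigmaCore M hhM) n).mp hn
      have hy1 : h * n * h⁻¹ ≠ 1 := by
        intro h1
        apply hn1
        have h2 : n = h⁻¹ * (h * n * h⁻¹) * h := by group
        rw [h2, h1]; group
      apply hP₀' x' hx'P hx'1 (h * n * h⁻¹) hy hy1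
      rw [hx'z']
      have h3 : h * z * h⁻¹ * (h * n * h⁻¹) = h * (z * n) * h⁻¹ := by group
      have h4 : h * n * h⁻¹ * (h * z * h⁻¹) = h * (n * z) * h⁻¹ := by group
      rw [h3, h4, hcomm]
    refine ⟨hcard, ?_, ?_⟩
    · rw [eq_bot_iff]
      rintro n ⟨hnσ, hnC⟩
      rw [mem_bot]
      apply hfpf n hnσ
      exact (mem_centralizer_iff.mp hnC z hzA)
    · have hnil := Cfsg.Agent.Lib.helper12.isNilpotent_of_fpf_conj (piCore (sigma M) M)
        (⟨z, hzM⟩ : M) p hpp (Subtype.ext (by simpa using hzp)) (by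
          intro n hn hcomm
          have h1 : (n : G) = 1 := hfpf (n : G) ⟨n, hn, rfl⟩ (congrArg Subtype.val hcomm)
          exact Subtype.ext h1)
      exact (isNilpotent_sigmaCore_iff M).mpr hnil
  · -- rank two: `p ∈ τ₂(M)`
    have hτ : p ∈ tau2 M := ⟨hpp, hpσ, hr2, hr1⟩
    obtain ⟨B, hBM, hBe, hBcard⟩ :=
      (Cfsg.Agent.Lib.helper28.not_pRankLE_subgroup_iff p 1 M).mp hr1
    have hBpg : IsPGroup p B := isPGroup_of_elemAb hBe
    have hB2 : Nat.card B = p ^ 2 := by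
      obtain ⟨n, hn⟩ := IsPGroup.iff_card.mp hBpg
      have h1 : Nat.card B ≤ p ^ 2 := card_le_of_prankLE hr2 hBM hBe
      rw [hn] at h1 hBcard ⊢
      have h2 : 1 < n := (Nat.pow_lt_pow_iff_right hpp.one_lt).mp hBcard
      have h3 : n ≤ 2 := (Nat.pow_le_pow_iff_right hpp.one_lt).mp h1
      have h4 : n = 2 := by omega
      rw [h4]
    obtain ⟨hnil, hSc, -⟩ := h17 M hM p hτ B hBM hBe hB2
    have hAe : IsElementaryAbelian p A := hAe_of (hSc S)
    have hcard : Nat.card A ≤ p ^ 2 := card_le_of_prankLE hr2 hAM hAe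
    -- a conjugate of `B` lies in `A`
    obtain ⟨h, hhM, hh⟩ := Cfsg.Agent.Lib.helper24.exists_conj_le_sylow M S B hBM hBpg
    have hBA : B.map (MulAut.conj h).toMonoidHom ≤ A := by
      rintro _ ⟨b, hb, rfl⟩
      apply Subgroup.subset_closure
      refine ⟨hh b hb, ?_⟩
      show (h * b * h⁻¹) ^ p = 1
      rw [conj_pow, hBe.2 b hb]; group
    have hcard' : p ^ 2 ≤ Nat.card A := by
      have h5 : Nat.card (B.map (MulAut.conj h).toMonoidHom) = Nat.card B :=
        Subgroup.card_map_of_injective (f := (MulAut.conj h).toMonoidHom) (MulAut.conj h).injective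
      rw [← hB2, ← h5]
      exact Subgroup.card_le_of_le hBA
    have hA2 : Nat.card A = p ^ 2 := le_antisymm hcard hcard'
    exact ⟨hcard, (h17 M hM p hτ A hAM hAe hA2).2.2, hnil⟩

end Cfsg.Agent.Lib.helper71.BG13
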