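import Mathlib
import Cfsg.Prelude.Def_OddOrderLocal
import Cfsg.Agent.Lib.helper69.BGKappaB
import Cfsg.Agent.Lib.helper8.BGTen8
import Cfsg.Agent.Lib.helper54.BGSigmaNe
import Cfsg.Agent.S1350
import Cfsg.Agent.S1414
import Cfsg.Agent.S1423
import Cfsg.Agent.S1426

/-!
# Bender–Glauberman: elements of prime order of `K* = C_{M_σ}(K)` (towards 14.7)

The frozen statement S1430 is taken as a hypothesis (`helper69.H1430`).

* `ks_mem_comm` (KEY LEMMA, paper proof by helper13): a `p`-element of `K* = M_σ ⊓ C(K)` with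
  `p ∉ β(M)` lies in `⁅M_σ, M_σ⁆`.
* `ks_cent_unique`: for `X ≤ K*` of prime order, `C_G(X) ≤ M` and `M` is the only maximal subgroup
  containing `C_G(X)`.
* `bg1367`: the statement S1367 from S1430.
-/

set_option autoImplicit false

namespace Cfsg.Agent.Lib.helper71.BGKs

open Cfsg Subgroup
open scoped Pointwise commutatorElement
open Cfsg.Agent.Lib.helper69
open Cfsg.Agent.Lib.helper29 (exists_mul_of_mem_sup_of_le_normalizer exists_ne_one_of_ne_bot)

variable {G : Type*} [Group G]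

/-- Bezout for membership. -/
theorem mem_of_pow_mem_of_coprime {X : Type*} [Group X] (S : Subgroup X) (a : X) {m n : ℕ}
    (hm : a ^ m ∈ S) (hn : a ^ n ∈ S) (hmn : m.Coprime n) : a ∈ S := by
  have h0 : Nat.gcd m n = 1 := hmn
  have h1 : (m : ℤ) * Nat.gcdA m n + (n : ℤ) * Nat.gcdB m n = 1 := by
    have := Nat.gcd_eq_gcd_ab m n
    rw [h0] at this
    rw [← this]; simp
  have h2 : a = (a ^ m) ^ (Nat.gcdA m n) * (a ^ n) ^ (Nat.gcdB m n) := by
    rw [← zpow_natCast, ← zpow_natCast, ← zpow_mul, ← zpow_mul, ← zpow_add, h1, zpow_one]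
  rw [h2]
  exact S.mul_mem (S.zpow_mem hm _) (S.zpow_mem hn _)

/-- Powers of `t * c` modulo a subgroup `D ∋ c` normalized by `t`. -/
theorem pow_mul_mem (D : Subgroup G) (t c : G) (ht : ∀ d ∈ D, t⁻¹ * d * t ∈ D) (hc : c ∈ D) :
    ∀ n : ℕ, (t ^ n)⁻¹ * (t * c) ^ n ∈ D := by
  intro n
  induction n with
  | zero => simp
  | succ n ih =>
    have e : (t ^ (n + 1))⁻¹ * (t * c) ^ (n + 1) = (t⁻¹ * ((t ^ n)⁻¹ * (t * c) ^ n) * t) * c := by
      rw [pow_succ, pow_succ, mul_inv_rev]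
      simp only [mul_assoc]
    rw [e]
    exact D.mul_mem (ht _ ih) hc

/-- The three Hall subgroups `U`, `K`, `M_σ` of `M` (for the primes outside `κ ∪ σ`, in `κ`, in `σ`)
factorise `M`: `U` is a complement of `K M_σ`.  (Extracted from `helper69.bgk_1352`.) -/
theorem compl_of_hall [Finite G] {M K U : Subgroup G}
    (hHall : IsPiHallOf (sigma M) (sigmaCore M) M) (hK : IsPiHallOf (kappa M) K M)
    (hUH : IsPiHallOf {q | q.Prime ∧ q ∉ kappa M ∧ q ∉ sigma M} U M) :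
    IsComplIn U (K ⊔ sigmaCore M) M := by
  have hMsM : sigmaCore M ≤ M := Cfsg.Agent.Lib.helper71.BGA.sigmaCore_le M
  have hDM : K ⊔ sigmaCore M ≤ M := sup_le hK.1 hMsM
  have hcs := bgk_card_sup hK hHall
  have hcop1 : (Nat.card U).Coprime (Nat.card ↥(K ⊔ sigmaCore M)) := by
    rw [← hcs]
    apply Nat.coprime_of_dvd
    intro k hk h1 h2
    have hπ := hUH.2.1 k hk h1
    rcases (Nat.Prime.dvd_mul hk).mp h2 with h | h
    · exact hπ.2.2 (hHall.2.1 k hk h)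
    · exact hπ.2.1 (hK.2.1 k hk h)
  apply bgk_isComplIn_of_card hUH.1 hDM
    (disjoint_iff.mp (Subgroup.disjoint_of_coprime_natCard hcop1))
  have e1 := bgk_card_mul_relIndex hUH.1
  have e2 := bgk_card_mul_relIndex hDM
  have eK := Subgroup.relIndex_mul_relIndex K (K ⊔ sigmaCore M) M le_sup_left hDM
  have eS := Subgroup.relIndex_mul_relIndex (sigmaCore M) (K ⊔ sigmaCore M) M le_sup_right hDM
  have hcop2 : ((K ⊔ sigmaCore M).relIndex M).Coprime (U.relIndex M) := by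
    apply Nat.coprime_of_dvd
    intro q hq h1 h2
    refine hUH.2.2 q hq ⟨hq, fun hqk => ?_, fun hqs => ?_⟩ h2
    · exact hK.2.2 q hq hqk (by rw [← eK]; exact Dvd.dvd.mul_left h1 _)
    · exact hHall.2.2 q hq hqs (by rw [← eS]; exact Dvd.dvd.mul_left h1 _)
  have d1 : Nat.card U ∣ (K ⊔ sigmaCore M).relIndex M := by
    apply hcop1.dvd_of_dvd_mul_left
    rw [e2, ← e1]; exact dvd_mul_right _ _
  have d2 : (K ⊔ sigmaCore M).relIndex M ∣ Nat.card U := by
    apply hcop2.dvd_of_dvd_mul_right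
    rw [e1, ← e2]; exact dvd_mul_left _ _
  have e3 := Nat.dvd_antisymm d1 d2
  rw [e3, mul_comm]; exact e2

/-- KEY LEMMA (paper proof: helper13).  `M = K U M_σ` with `K ≤ N(U)`, some `k ∈ K#` acting
fixed-point-freely on `U`; `x ∈ K* = M_σ ⊓ C(K)` with `x ^ p = 1`, `p ∉ β(M)`.
Then `x ∈ ⁅M_σ, M_σ⁆`. -/
theorem ks_mem_comm [Finite G] (hG : IsMinSimpleOddOrder G) (M : Subgroup G) (hM : IsCoatom M)
    (K U : Subgroup G) (hK : IsPiHallOf (kappa M) K M)
    (hC : IsComplIn U (K ⊔ sigmaCore M) M) (hKU : K ≤ normalizer (U : Set G))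
    (hreg : ∃ k ∈ K, k ≠ 1 ∧ U ⊓ centralizer ({k} : Set G) = ⊥)
    (p : ℕ) (hp : p.Prime) (hpβ : p ∉ beta M)
    (x : G) (hx : x ∈ sigmaCore M ⊓ centralizer (K : Set G)) (hxp : x ^ p = 1) :
    x ∈ ⁅sigmaCore M, sigmaCore M⁆ := by
  by_cases hx1 : x = 1
  · rw [hx1]; exact Subgroup.one_mem _
  have hpF : Fact p.Prime := ⟨hp⟩
  have hHall : IsPiHallOf (sigma M) (sigmaCore M) M := (Cfsg.Agent.S1350.result hG M hM).1
  have hMsM : sigmaCore M ≤ M := Cfsg.Agent.Lib.helper71.BGA.sigmaCore_le M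
  have hMsn := Cfsg.Agent.Lib.helper71.BGA.le_normalizer_sigmaCore M
  have hMsn' := Subgroup.le_normalizer_iff.mp hMsn
  have hUM : U ≤ M := hC.1
  have hKM : K ≤ M := hK.1
  have hKUn := Subgroup.le_normalizer_iff.mp hKU
  have hord : orderOf x = p := orderOf_eq_prime hxp hx1
  have hpMs : p ∣ Nat.card (sigmaCore M) := by
    have := Subgroup.orderOf_dvd_natCard (sigmaCore M) hx.1
    rwa [hord] at this
  have hpσ : p ∈ sigma M := hHall.2.1 p hp hpMs
  have hpM : p ∣ Nat.card M := hpMs.trans (Subgroup.card_dvd_of_le hMsM)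
  -- `E = U K` is a complement of `M_σ`
  have hE : IsComplIn (U ⊔ K) (sigmaCore M) M := by
    refine ⟨sup_le hUM hKM, hMsM, ?_, fun m hm => ?_⟩
    · rw [eq_bot_iff]
      rintro y ⟨hyE, hyS⟩
      obtain ⟨u, hu, k, hk, rfl⟩ := exists_mul_of_mem_sup_of_le_normalizer hKU hyE
      have hu' : u ∈ K ⊔ sigmaCore M := by
        have e : u = (u * k) * k⁻¹ := by group
        rw [e]
        exact Subgroup.mul_mem _ (Subgroup.mem_sup_right hyS)
          (Subgroup.mem_sup_left (K.inv_mem hk))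
      have hu1 : u = 1 := by
        have h2 : u ∈ U ⊓ (K ⊔ sigmaCore M) := ⟨hu, hu'⟩
        rw [hC.2.2.1, Subgroup.mem_bot] at h2; exact h2
      rw [hu1, one_mul] at hyS ⊢
      have h3 : k ∈ K ⊓ sigmaCore M := ⟨hk, hyS⟩
      rw [bgk_K_inf_sigmaCore hK hHall] at h3; exact h3
    · obtain ⟨u, hu, b, hb, rfl⟩ := hC.2.2.2 m hm
      rw [sup_comm] at hb
      obtain ⟨s, hs, k, hk, rfl⟩ := exists_mul_of_mem_sup_of_le_normalizer (hKM.trans hMsn) hb
      refine ⟨u * k, Subgroup.mul_mem _ (Subgroup.mem_sup_left hu) (Subgroup.mem_sup_right hk),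
        k⁻¹ * s * k, ?_, by group⟩
      have h4 := hMsn' k⁻¹ (M.inv_mem (hKM hk)) s hs
      simpa using h4
  obtain ⟨h26a, h26b, -⟩ := Cfsg.Agent.S1426.result hG M hM (U ⊔ K) hE
  have hS_le : sigmaCore M ≤ ⁅M, M⁆ := by
    calc sigmaCore M = ⁅sigmaCore M, U ⊔ K⁆ := h26b.symm
      _ ≤ ⁅M, M⁆ := Subgroup.commutator_mono hMsM hE.1
  have hU_le : U ≤ ⁅M, M⁆ := by
    obtain ⟨k, hk, hk1, hregk⟩ := hreg
    have hφ : ∀ v : U, (v : G) * k * (v : G)⁻¹ * k⁻¹ ∈ U := fun v => by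
      have h1 : k * (v : G)⁻¹ * k⁻¹ ∈ U := hKUn k hk _ (U.inv_mem v.2)
      have e : (v : G) * k * (v : G)⁻¹ * k⁻¹ = (v : G) * (k * (v : G)⁻¹ * k⁻¹) := by group
      rw [e]; exact U.mul_mem v.2 h1
    let φ : U → U := fun v => ⟨_, hφ v⟩
    have hinj : Function.Injective φ := by
      intro v w hvw
      have h1 : (v : G) * k * (v : G)⁻¹ * k⁻¹ = (w : G) * k * (w : G)⁻¹ * k⁻¹ :=
        congrArg Subtype.val hvw
      have h3 : (v : G) * k * (v : G)⁻¹ = (w : G) * k * (w : G)⁻¹ := mul_right_cancel h1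
      have h2 : (w : G)⁻¹ * (v : G) ∈ U ⊓ centralizer ({k} : Set G) := by
        refine Subgroup.mem_inf.mpr ⟨U.mul_mem (U.inv_mem w.2) v.2, ?_⟩
        rw [Subgroup.mem_centralizer_iff]
        intro h hh
        rw [Set.mem_singleton_iff.mp hh]
        calc k * ((w : G)⁻¹ * (v : G))
            = (w : G)⁻¹ * ((w : G) * k * (w : G)⁻¹) * (v : G) := by group
          _ = (w : G)⁻¹ * ((v : G) * k * (v : G)⁻¹) * (v : G) := by rw [h3]
          _ = (w : G)⁻¹ * (v : G) * k := by group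
      rw [hregk, Subgroup.mem_bot] at h2
      apply Subtype.ext
      have e : (v : G) = (w : G) * ((w : G)⁻¹ * (v : G)) := by group
      rw [e, h2, mul_one]
    have hsurj := Finite.surjective_of_injective hinj
    intro u hu
    obtain ⟨v, hv⟩ := hsurj ⟨u, hu⟩
    have h1 : (v : G) * k * (v : G)⁻¹ * k⁻¹ = u := congrArg Subtype.val hv
    rw [← h1, ← commutatorElement_def]
    exact Subgroup.commutator_mem_commutator (hUM v.2) (hKM hk)
  -- `U` is a `p'`-group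
  have eD : Nat.card U = (K ⊔ sigmaCore M).relIndex M :=
    Cfsg.Agent.Lib.helper29.IsComplIn.card_left hC
  have eS : (sigmaCore M).relIndex (K ⊔ sigmaCore M) * (K ⊔ sigmaCore M).relIndex M =
      (sigmaCore M).relIndex M :=
    Subgroup.relIndex_mul_relIndex (sigmaCore M) (K ⊔ sigmaCore M) M le_sup_right hC.2.1
  have hpU : ¬ p ∣ Nat.card U := fun h =>
    hHall.2.2 p hp hpσ (by rw [← eS, ← eD]; exact Dvd.dvd.mul_left h _)
  -- the normal `p`-complement `N` of `M'`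
  obtain ⟨N, hNn, hNcop, kk, hNidx⟩ := Cfsg.Agent.Lib.helper8.bgNpc_of_hasNormalPComplement
    ((Cfsg.Agent.S1414.result hG M hM).2.2.2.2 p hp hpM hpβ).1
  have hA : ∀ h : G, h ∈ ⁅M, M⁆ → (orderOf h).Coprime p → h ∈ N.map (⁅M, M⁆).subtype := by
    intro h hh hcop
    have h1 : (⟨h, hh⟩ : ↥⁅M, M⁆) ^ (p ^ kk) ∈ N := by
      rw [← hNidx]; exact Subgroup.pow_index_mem N _
    have h2 : (⟨h, hh⟩ : ↥⁅M, M⁆) ^ (orderOf h) ∈ N := by
      have e : (⟨h, hh⟩ : ↥⁅M, M⁆) ^ (orderOf h) = 1 := by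
        apply Subtype.ext
        simp [pow_orderOf_eq_one]
      rw [e]; exact N.one_mem
    have h3 := mem_of_pow_mem_of_coprime N _ h2 h1 (Nat.Coprime.pow_right kk hcop)
    exact Subgroup.mem_map.mpr ⟨⟨h, hh⟩, h3, rfl⟩
  have hB : ∀ n ∈ N.map (⁅M, M⁆).subtype, n ^ (Nat.card N) = 1 := by
    rintro _ ⟨n, hn, rfl⟩
    have h2 : n ^ (Nat.card N) = 1 :=
      orderOf_dvd_iff_pow_eq_one.mp (Subgroup.orderOf_dvd_natCard N hn)
    rw [← map_pow, h2, map_one]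
  have hB' : ∀ n ∈ N.map (⁅M, M⁆).subtype, (orderOf n).Coprime p := fun n hn =>
    Nat.Coprime.coprime_dvd_left (orderOf_dvd_of_pow_eq_one (hB n hn)) hNcop
  have hder_n := Subgroup.le_normalizer_iff.mp
    (bgk_le_normalizer_commutator (Subgroup.le_normalizer (H := M)) (Subgroup.le_normalizer (H := M)))
  have hNM : ∀ m ∈ M, ∀ n ∈ N.map (⁅M, M⁆).subtype, m * n * m⁻¹ ∈ N.map (⁅M, M⁆).subtype := by
    intro m hm n hn
    have hnH : n ∈ ⁅M, M⁆ := by
      obtain ⟨n', -, rfl⟩ := hn; exact n'.2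
    apply hA _ (hder_n m hm n hnH)
    have e := MulEquiv.orderOf_eq (MulAut.conj m) n
    rw [MulAut.conj_apply] at e
    rw [e]; exact hB' n hn
  -- `T = N ⊓ M_σ`
  have hTM : M ≤ normalizer ((N.map (⁅M, M⁆).subtype ⊓ sigmaCore M : Subgroup G) : Set G) :=
    Subgroup.le_normalizer_iff.mpr (fun m hm t ht => ⟨hNM m hm t ht.1, hMsn' m hm t ht.2⟩)
  have hcop : (Nat.card ↥(U ⊔ K)).Coprime
      (Nat.card ↥(N.map (⁅M, M⁆).subtype ⊓ sigmaCore M : Subgroup G)) := by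
    rw [Cfsg.Agent.Lib.helper29.IsComplIn.card_left hE]
    exact Nat.Coprime.coprime_dvd_right (Subgroup.card_dvd_of_le inf_le_right)
      (bgk_hall_coprime hHall).symm
  have hTs : Group.IsSolvable ↥(N.map (⁅M, M⁆).subtype ⊓ sigmaCore M : Subgroup G) :=
    hG.2.2.2 _ (fun h => hM.1 (top_le_iff.mp (h ▸ (inf_le_right.trans hMsM))))
  have hxT : ∀ a ∈ U ⊔ K, a * x * a⁻¹ * x⁻¹ ∈
      (N.map (⁅M, M⁆).subtype ⊓ sigmaCore M : Subgroup G) := by
    intro a ha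
    obtain ⟨u, hu, k, hk, rfl⟩ := exists_mul_of_mem_sup_of_le_normalizer hKU ha
    have hkx : k * x = x * k := Subgroup.mem_centralizer_iff.mp hx.2 k hk
    have e : u * k * x * (u * k)⁻¹ * x⁻¹ = u * x * u⁻¹ * x⁻¹ := by
      have e2 : u * k * x * (u * k)⁻¹ = u * (k * x) * k⁻¹ * u⁻¹ := by group
      rw [e2, hkx]; group
    rw [e]
    have huN : u ∈ N.map (⁅M, M⁆).subtype :=
      hA u (hU_le hu) (Nat.Coprime.coprime_dvd_left (Subgroup.orderOf_dvd_natCard U hu)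
        ((Nat.Prime.coprime_iff_not_dvd hp).mpr hpU).symm)
    refine Subgroup.mem_inf.mpr ⟨?_, ?_⟩
    · have e3 : u * x * u⁻¹ * x⁻¹ = u * (x * u⁻¹ * x⁻¹) := by group
      rw [e3]
      exact Subgroup.mul_mem _ huN (hNM x (hMsM hx.1) _ (Subgroup.inv_mem _ huN))
    · exact Subgroup.mul_mem _ (hMsn' u (hUM hu) x hx.1) (Subgroup.inv_mem _ hx.1)
  obtain ⟨c, hcE, hcx⟩ := Cfsg.Agent.Lib.helper1.coset_fixed (U ⊔ K) _
    ((sup_le hUM hKM).trans hTM) hcop (Or.inr hTs) x hxT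
  have hcS : c ∈ sigmaCore M := by
    have e : c = (c * x⁻¹) * x := by group
    rw [e]; exact Subgroup.mul_mem _ hcx.2 hx.1
  have hcD : c ∈ ⁅sigmaCore M, sigmaCore M⁆ := h26a ⟨hcS, hcE⟩
  have ht : (c * x⁻¹)⁻¹ ∈ (N.map (⁅M, M⁆).subtype ⊓ sigmaCore M : Subgroup G) :=
    Subgroup.inv_mem _ hcx
  have e : x = (c * x⁻¹)⁻¹ * c := by group
  have htm : ((c * x⁻¹)⁻¹) ^ (Nat.card N) = 1 := hB _ ht.1
  have hDn := Subgroup.le_normalizer_iff.mp (bgk_le_normalizer_commutator hMsn hMsn)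
  have hD_n : ∀ d ∈ ⁅sigmaCore M, sigmaCore M⁆,
      ((c * x⁻¹)⁻¹)⁻¹ * d * (c * x⁻¹)⁻¹ ∈ ⁅sigmaCore M, sigmaCore M⁆ := by
    intro d hd
    have h4 := hDn ((c * x⁻¹)⁻¹)⁻¹ (M.inv_mem (hMsM ht.2)) d hd
    simpa using h4
  have h5 := pow_mul_mem _ _ c hD_n hcD (Nat.card N)
  rw [htm, inv_one, one_mul, ← e] at h5
  exact mem_of_pow_mem_of_coprime _ x h5 (by rw [hxp]; exact Subgroup.one_mem _) hNcop

/-- (c') For `X ≤ K* = M_σ ⊓ C(K)` of prime order `p`: `p ∈ β(M)` or `X ≤ ⁅M_σ, M_σ⁆` (so that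
S1423 applies to `(M, p, X)`).  Here `K ≠ 1` is any Hall `κ(M)`-subgroup; S1430 is a hypothesis. -/
theorem ks_beta_or_comm [Finite G] (hG : IsMinSimpleOddOrder G) (h1430 : H1430 G)
    (M : Subgroup G) (hM : IsCoatom M) (K : Subgroup G) (hK : IsPiHallOf (kappa M) K M)
    (hK1 : K ≠ ⊥) (X : Subgroup G) (hX : X ≤ sigmaCore M ⊓ centralizer (K : Set G))
    (hXp : (Nat.card X).Prime) :
    Nat.card X ∈ beta M ∨ X ≤ ⁅sigmaCore M, sigmaCore M⁆ := by
  have hHall : IsPiHallOf (sigma M) (sigmaCore M) M := (Cfsg.Agent.S1350.result hG M hM).1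
  obtain ⟨-, ⟨U, -, hUH, hKU, hreg⟩, -⟩ := h1430 M hM K hK hK1
  obtain ⟨k, hk, hk1⟩ := exists_ne_one_of_ne_bot hK1
  have hC := compl_of_hall hHall hK hUH
  by_cases hβ : Nat.card X ∈ beta M
  · exact Or.inl hβ
  · refine Or.inr fun x hx => ?_
    refine ks_mem_comm hG M hM K U hK hC hKU ⟨k, hk, hk1, hreg k hk hk1⟩ _ hXp hβ x (hX hx) ?_
    have e : (⟨x, hx⟩ : X) ^ (Nat.card X) = 1 := pow_card_eq_one'
    exact congrArg Subtype.val e

/-- For `X ≤ K* = M_σ ⊓ C(K)` of prime order `p`: `p ∈ σ(M)`. -/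
theorem ks_prime_mem_sigma [Finite G] (hG : IsMinSimpleOddOrder G)
    (M : Subgroup G) (hM : IsCoatom M) (K : Subgroup G) (X : Subgroup G)
    (hX : X ≤ sigmaCore M ⊓ centralizer (K : Set G)) (hXp : (Nat.card X).Prime) :
    Nat.card X ∈ sigma M :=
  (Cfsg.Agent.S1350.result hG M hM).1.2.1 _ hXp (Subgroup.card_dvd_of_le (hX.trans inf_le_left))

/-- For `X ≤ K* = M_σ ⊓ C(K)` of prime order: `C_G(X) ≤ M`, and `M` is the only maximal subgroup
containing `C_G(X)`.  Here `K ≠ 1` is any Hall `κ(M)`-subgroup; S1430 is a hypothesis. -/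
theorem ks_cent_unique [Finite G] (hG : IsMinSimpleOddOrder G) (h1430 : H1430 G)
    (M : Subgroup G) (hM : IsCoatom M) (K : Subgroup G) (hK : IsPiHallOf (kappa M) K M)
    (hK1 : K ≠ ⊥) (X : Subgroup G) (hX : X ≤ sigmaCore M ⊓ centralizer (K : Set G))
    (hXp : (Nat.card X).Prime) :
    centralizer (X : Set G) ≤ M ∧
      ∀ L : Subgroup G, IsCoatom L → centralizer (X : Set G) ≤ L → L = M := by
  have hMsM : sigmaCore M ≤ M := Cfsg.Agent.Lib.helper71.BGA.sigmaCore_le M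
  have hpF : Fact (Nat.card X).Prime := ⟨hXp⟩
  obtain ⟨P⟩ : Nonempty (Sylow (Nat.card X) ↥(sigmaCore M)) := inferInstance
  exact (Cfsg.Agent.S1423.result hG M hM (Nat.card X) (ks_prime_mem_sigma hG M hM K X hX hXp) X
    ((hX.trans inf_le_left).trans hMsM) rfl P
    (ks_beta_or_comm hG h1430 M hM K hK hK1 X hX hXp)).1

/-- For a prime `p` dividing `|K*|`, every Sylow `p`-subgroup `S` of `M_σ` lies in exactly one
maximal subgroup (namely `M`). -/
theorem ks_sylow_unique [Finite G] (hG : IsMinSimpleOddOrder G) (h1430 : H1430 G)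
    (M : Subgroup G) (hM : IsCoatom M) (K : Subgroup G) (hK : IsPiHallOf (kappa M) K M)
    (hK1 : K ≠ ⊥) (p : ℕ) [hp : Fact p.Prime]
    (hpK : p ∣ Nat.card ↥(sigmaCore M ⊓ centralizer (K : Set G)))
    (S : Sylow p ↥(sigmaCore M)) :
    InUniqueMaximal ((S : Subgroup ↥(sigmaCore M)).map (sigmaCore M).subtype) ∧
      (S : Subgroup ↥(sigmaCore M)).map (sigmaCore M).subtype ≤ M := by
  have hMsM : sigmaCore M ≤ M := Cfsg.Agent.Lib.helper71.BGA.sigmaCore_le M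
  obtain ⟨⟨x, hx⟩, hxo⟩ := exists_prime_orderOf_dvd_card' p hpK
  have hxo' : orderOf x = p := by
    rw [← hxo]; exact (Subgroup.orderOf_mk x hx).symm
  have hc : Nat.card (zpowers x) = p := by rw [Nat.card_zpowers, hxo']
  have hX : zpowers x ≤ sigmaCore M ⊓ centralizer (K : Set G) := by
    rw [Subgroup.zpowers_le]; exact hx
  have hXp : (Nat.card (zpowers x)).Prime := by rw [hc]; exact hp.out
  have h1 := ks_prime_mem_sigma hG M hM K _ hX hXp
  have h2 := ks_beta_or_comm hG h1430 M hM K hK hK1 _ hX hXp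
  rw [hc] at h1 h2
  exact (Cfsg.Agent.S1423.result hG M hM p h1 (zpowers x) ((hX.trans inf_le_left).trans hMsM)
    hc S h2).2

/-- S1367 from S1430. -/
theorem bg1367 [Finite G] (hG : IsMinSimpleOddOrder G) (h1430 : H1430 G)
    (M : Subgroup G) (hM : IsCoatom M) (K U : Subgroup G) (hKU : IsSigmaDecomposition M K U)
    (hK1 : K ≠ ⊥) (Mstar : Subgroup G) (hMstar : IsCoatom Mstar)
    (hKst : K = sigmaCore Mstar ⊓
      centralizer ((sigmaCore M ⊓ centralizer (K : Set G)) : Set G))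
    (hKstH : IsPiHallOf (kappa Mstar) (sigmaCore M ⊓ centralizer (K : Set G)) Mstar) :
    (∀ X : Subgroup G, X ≤ (sigmaCore M ⊓ centralizer (K : Set G)) → (Nat.card X).Prime →
        centralizer (X : Set G) ≤ M ∧
          ∀ L : Subgroup G, IsCoatom L → centralizer (X : Set G) ≤ L → L = M) ∧
      (∀ Y : Subgroup G, Y ≤ K → (Nat.card Y).Prime →
        centralizer (Y : Set G) ≤ Mstar ∧
          ∀ L : Subgroup G, IsCoatom L → centralizer (Y : Set G) ≤ L → L = Mstar) := by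
  have hKs1 : sigmaCore M ⊓ centralizer (K : Set G) ≠ ⊥ :=
    (bgk_1354 h1430 M hM (Cfsg.Agent.Lib.helper54.sigmaCore_ne_bot hG M hM) K hKU.cyclic
      hKU.hall).1
  refine ⟨fun X hX hXp => ks_cent_unique hG h1430 M hM K hKU.hall hK1 X hX hXp,
    fun Y hY hYp => ?_⟩
  exact ks_cent_unique hG h1430 Mstar hMstar _ hKstH hKs1 Y (hKst ▸ hY) hYp

end Cfsg.Agent.Lib.helper71.BGKs
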