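import Mathlib
import Cfsg.Prelude.Def_OddOrderLocal
import Cfsg.Agent.Lib.helper71.BG1369Defs
import Cfsg.Agent.Lib.helper71.BGKs
import Cfsg.Agent.Lib.helper71.BGTenB

/-!
# B-G 14.7(g) (second clause of S1369): every maximal subgroup `H` with `κ(H) ≠ ∅` is conjugate to
`M` or to `M*`

Frozen S1430, S1351, S1366, S1434 are hypotheses.
-/

set_option autoImplicit false

namespace Cfsg.Agent.Lib.helper71.BG1369

open Cfsg Subgroup
open Cfsg.Agent.Lib.helper69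
open Cfsg.Agent.Lib.helper71.BGKs (ks_cent_unique bg1367)
open Cfsg.Agent.Lib.helper29 (exists_mul_of_mem_sup_of_commute exists_ne_one_of_ne_bot)

variable {G : Type*} [Group G]

theorem mem_centralizer_zpowers_iff {a y : G} :
    a ∈ centralizer ((zpowers y : Subgroup G) : Set G) ↔ y * a = a * y := by
  constructor
  · intro h
    exact Subgroup.mem_centralizer_iff.mp h y (Subgroup.mem_zpowers y)
  · intro h
    rw [Subgroup.mem_centralizer_iff]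
    rintro _ ⟨n, rfl⟩
    exact ((show Commute y a from h).zpow_left n).eq

/-- Two subsets of a finite type, each with more than half of the elements, meet. -/
theorem exists_mem_inter_of_card_lt {α : Type*} [Finite α] (A B : Set α)
    (hA : Nat.card α < 2 * A.ncard) (hB : Nat.card α < 2 * B.ncard) : ∃ a, a ∈ A ∧ a ∈ B := by
  by_contra hne
  have hd : Disjoint A B := by
    rw [Set.disjoint_left]
    intro a ha hb
    exact hne ⟨a, ha, hb⟩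
  have h1 := Set.ncard_union_eq hd (Set.toFinite A) (Set.toFinite B)
  have h2 : (A ∪ B).ncard ≤ (Set.univ : Set α).ncard :=
    Set.ncard_le_ncard (Set.subset_univ _) (Set.toFinite _)
  rw [Set.ncard_univ] at h2
  omega

/-- An element of `K K*` outside `K ∪ K*` is `x * y` with `x ∈ K#`, `y ∈ K*#`. -/
theorem zhat_decomp {M K : Subgroup G} {z : G}
    (hz : z ∈ ((↑(K ⊔ (sigmaCore M ⊓ centralizer (K : Set G))) : Set G) \
      ((K : Set G) ∪ ↑(sigmaCore M ⊓ centralizer (K : Set G))))) :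
    ∃ x ∈ K, x ≠ 1 ∧ ∃ y ∈ sigmaCore M ⊓ centralizer (K : Set G), y ≠ 1 ∧ z = x * y := by
  obtain ⟨hz1, hz2⟩ := hz
  have hcomm : ∀ a ∈ K, ∀ b ∈ sigmaCore M ⊓ centralizer (K : Set G), a * b = b * a :=
    fun a ha b hb => Subgroup.mem_centralizer_iff.mp hb.2 a ha
  obtain ⟨x, hx, y, hy, rfl⟩ := exists_mul_of_mem_sup_of_commute hcomm hz1
  refine ⟨x, hx, ?_, y, hy, ?_, rfl⟩
  · rintro rfl
    apply hz2
    right
    rw [one_mul]; exact hy
  · rintro rfl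
    apply hz2
    left
    rw [mul_one]; exact hx

/-- An element of prime order `p` of `K K*` lies in `K` or in `K*`. -/
theorem prime_mem_K_or_Ks [Finite G] {M K : Subgroup G} (hK : IsPiHallOf (kappa M) K M)
    (hHall : IsPiHallOf (sigma M) (sigmaCore M) M) {p : ℕ} (hp : p.Prime) {w : G}
    (hw : w ∈ K ⊔ (sigmaCore M ⊓ centralizer (K : Set G))) (hwp : w ^ p = 1) :
    w ∈ K ∨ w ∈ sigmaCore M ⊓ centralizer (K : Set G) := by
  have hcomm : ∀ a ∈ K, ∀ b ∈ sigmaCore M ⊓ centralizer (K : Set G), a * b = b * a :=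
    fun a ha b hb => Subgroup.mem_centralizer_iff.mp hb.2 a ha
  obtain ⟨x, hx, y, hy, rfl⟩ := exists_mul_of_mem_sup_of_commute hcomm hw
  have hxy : Commute x y := hcomm x hx y hy
  rw [hxy.mul_pow] at hwp
  have hxp : x ^ p ∈ K ⊓ sigmaCore M := by
    refine ⟨K.pow_mem hx p, ?_⟩
    have e : x ^ p = (y ^ p)⁻¹ := eq_inv_of_mul_eq_one_left hwp
    rw [e]
    exact Subgroup.inv_mem _ (Subgroup.pow_mem _ hy.1 p)
  rw [bgk_K_inf_sigmaCore hK hHall, Subgroup.mem_bot] at hxp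
  have hyp : y ^ p = 1 := by rwa [hxp, one_mul] at hwp
  by_cases hx1 : x = 1
  · right; rw [hx1, one_mul]; exact hy
  by_cases hy1 : y = 1
  · left; rw [hy1, mul_one]; exact hx
  exfalso
  have hpF : Fact p.Prime := ⟨hp⟩
  have hox : orderOf x = p := orderOf_eq_prime hxp hx1
  have hoy : orderOf y = p := orderOf_eq_prime hyp hy1
  have h1 : p ∣ Nat.card K := by
    have := Subgroup.orderOf_dvd_natCard K hx
    rwa [hox] at this
  have h2 : p ∣ Nat.card (sigmaCore M) := by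
    have := Subgroup.orderOf_dvd_natCard (sigmaCore M) hy.1
    rwa [hoy] at this
  exact (hK.2.1 p hp h1).2.2.1 (hHall.2.1 p hp h2)

/-- B-G 14.7(g): every maximal subgroup with `κ ≠ ∅` is conjugate to `M` or to `M*`. -/
theorem conj_of_kappa_nonempty [Finite G] (hG : IsMinSimpleOddOrder G) (h1430 : H1430 G)
    (h1351 : H1351 G) (h1366 : H1366 G) (h1434 : H1434 G)
    (M : Subgroup G) (hM : IsCoatom M) (K U : Subgroup G) (hKU : IsSigmaDecomposition M K U)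
    (hK1 : K ≠ ⊥) (Mstar : Subgroup G) (hMstar : IsCoatom Mstar)
    (hKst : K = sigmaCore Mstar ⊓
      centralizer ((sigmaCore M ⊓ centralizer (K : Set G)) : Set G))
    (hKstH : IsPiHallOf (kappa Mstar) (sigmaCore M ⊓ centralizer (K : Set G)) Mstar)
    (H : Subgroup G) (hH : IsCoatom H) (hκ : (kappa H).Nonempty) :
    ∃ g : G, H = M.map (MulAut.conj g).toMonoidHom ∨ H = Mstar.map (MulAut.conj g).toMonoidHom := by
  have hHallM : IsPiHallOf (sigma M) (sigmaCore M) M := (Cfsg.Agent.S1350.result hG M hM).1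
  have hHallH : IsPiHallOf (sigma H) (sigmaCore H) H := (Cfsg.Agent.S1350.result hG H hH).1
  obtain ⟨⟨KH, hKH⟩, hcyc⟩ := h1351 H hH
  have hKHc : IsCyclic KH := hcyc KH hKH
  have hKH1 : KH ≠ ⊥ := by
    obtain ⟨p, hp⟩ := hκ
    intro h0
    apply hKH.2.2 p hp.1 hp
    rw [h0, Subgroup.relIndex_bot_left]
    exact hp.2.1
  obtain ⟨UH, hUH⟩ := (bgk_1352 h1430 H hH hHallH KH hKHc hKH).1
  obtain ⟨Hs, ⟨hHs, hKstH', hKstHH⟩, -⟩ := h1366 H hH KH UH hUH hKH1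
  have cM := h1434 M hM K U hKU hK1 Mstar hMstar hKst hKstH
  have cH := h1434 H hH KH UH hUH hKH1 Hs hHs hKstH' hKstHH
  obtain ⟨a, ⟨g, z, hz, rfl⟩, ⟨h, zH, hzH, hEq⟩⟩ :=
    exists_mem_inter_of_card_lt _ _ cM.2.2.2.2.2 cH.2.2.2.2.2
  obtain ⟨x, hx, hx1, y, hy, hy1, rfl⟩ := zhat_decomp hz
  obtain ⟨xH, hxH, hxH1, yH, hyH, hyH1, rfl⟩ := zhat_decomp hzH
  have hCM := (cM.2.2.1 x hx hx1 y hy hy1).2.2
  have hCH := (cH.2.2.1 xH hxH hxH1 yH hyH hyH1).2.2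
  -- `t zH t⁻¹ = z` with `t = g⁻¹ h`
  have ht : g⁻¹ * h * (xH * yH) * (g⁻¹ * h)⁻¹ = x * y := by
    have e : g⁻¹ * h * (xH * yH) * (g⁻¹ * h)⁻¹ = g⁻¹ * (h * (xH * yH) * h⁻¹) * g := by group
    rw [e, ← hEq]; group
  -- a subgroup of prime order of `K_H*`
  have hKHs1 : sigmaCore H ⊓ centralizer (KH : Set G) ≠ ⊥ :=
    (bgk_1354 h1430 H hH (Cfsg.Agent.Lib.helper54.sigmaCore_ne_bot hG H hH) KH hKHc hKH).1
  have hcard1 : Nat.card ↥(sigmaCore H ⊓ centralizer (KH : Set G)) ≠ 1 := fun h1 =>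
    hKHs1 (Subgroup.card_eq_one.mp h1)
  obtain ⟨p, hp, hpd⟩ := Nat.exists_prime_and_dvd hcard1
  have hpF : Fact p.Prime := ⟨hp⟩
  obtain ⟨⟨y₀, hy₀⟩, hy₀o⟩ := exists_prime_orderOf_dvd_card' p hpd
  have hy₀o' : orderOf y₀ = p := by
    rw [← hy₀o]; exact (Subgroup.orderOf_mk y₀ hy₀).symm
  have hy₀1 : y₀ ≠ 1 := by
    rintro rfl
    rw [orderOf_one] at hy₀o'
    exact hp.one_lt.ne hy₀o'
  have hYc : Nat.card (zpowers y₀) = p := by rw [Nat.card_zpowers, hy₀o']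
  have hYle : zpowers y₀ ≤ sigmaCore H ⊓ centralizer (KH : Set G) := by
    rw [Subgroup.zpowers_le]; exact hy₀
  have hYp : (Nat.card (zpowers y₀)).Prime := by rw [hYc]; exact hp
  have hYuniq := ks_cent_unique hG h1430 H hH KH hKH hKH1 (zpowers y₀) hYle hYp
  -- the conjugate `y₁ = t y₀ t⁻¹` lies in `K K*`
  have hy₀Z : y₀ ∈ centralizer ({xH * yH} : Set G) := by
    rw [hCH]; exact Subgroup.mem_sup_right hy₀
  have hy₁Z : g⁻¹ * h * y₀ * (g⁻¹ * h)⁻¹ ∈ K ⊔ (sigmaCore M ⊓ centralizer (K : Set G)) := by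
    rw [← hCM, Subgroup.mem_centralizer_iff]
    intro b hb
    rw [Set.mem_singleton_iff.mp hb, ← ht]
    have h3 : xH * yH * y₀ = y₀ * (xH * yH) :=
      Subgroup.mem_centralizer_iff.mp hy₀Z _ rfl
    calc g⁻¹ * h * (xH * yH) * (g⁻¹ * h)⁻¹ * (g⁻¹ * h * y₀ * (g⁻¹ * h)⁻¹)
        = g⁻¹ * h * (xH * yH * y₀) * (g⁻¹ * h)⁻¹ := by group
      _ = g⁻¹ * h * (y₀ * (xH * yH)) * (g⁻¹ * h)⁻¹ := by rw [h3]
      _ = g⁻¹ * h * y₀ * (g⁻¹ * h)⁻¹ * (g⁻¹ * h * (xH * yH) * (g⁻¹ * h)⁻¹) := by group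
  have hy₁p : (g⁻¹ * h * y₀ * (g⁻¹ * h)⁻¹) ^ p = 1 := by
    rw [conj_pow, ← hy₀o', pow_orderOf_eq_one]; group
  have hy₁1 : g⁻¹ * h * y₀ * (g⁻¹ * h)⁻¹ ≠ 1 := by
    intro h1
    apply hy₀1
    have e : y₀ = (g⁻¹ * h)⁻¹ * (g⁻¹ * h * y₀ * (g⁻¹ * h)⁻¹) * (g⁻¹ * h) := by group
    rw [e, h1]; group
  have hy₁o : orderOf (g⁻¹ * h * y₀ * (g⁻¹ * h)⁻¹) = p := orderOf_eq_prime hy₁p hy₁1
  have hY₁c : Nat.card (zpowers (g⁻¹ * h * y₀ * (g⁻¹ * h)⁻¹)) = p := by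
    rw [Nat.card_zpowers, hy₁o]
  have hY₁p : (Nat.card (zpowers (g⁻¹ * h * y₀ * (g⁻¹ * h)⁻¹))).Prime := by rw [hY₁c]; exact hp
  -- `C_G(Y) ≤ L^(t⁻¹)` whenever `C_G(Y₁) ≤ L`
  have hmove : ∀ L : Subgroup G,
      centralizer ((zpowers (g⁻¹ * h * y₀ * (g⁻¹ * h)⁻¹) : Subgroup G) : Set G) ≤ L →
      centralizer ((zpowers y₀ : Subgroup G) : Set G) ≤
        L.map (MulAut.conj (g⁻¹ * h)⁻¹).toMonoidHom := by
    intro L hL c hc
    rw [mem_centralizer_zpowers_iff] at hc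
    have h4 : g⁻¹ * h * c * (g⁻¹ * h)⁻¹ ∈ L := by
      apply hL
      rw [mem_centralizer_zpowers_iff]
      calc g⁻¹ * h * y₀ * (g⁻¹ * h)⁻¹ * (g⁻¹ * h * c * (g⁻¹ * h)⁻¹)
          = g⁻¹ * h * (y₀ * c) * (g⁻¹ * h)⁻¹ := by group
        _ = g⁻¹ * h * (c * y₀) * (g⁻¹ * h)⁻¹ := by rw [hc]
        _ = g⁻¹ * h * c * (g⁻¹ * h)⁻¹ * (g⁻¹ * h * y₀ * (g⁻¹ * h)⁻¹) := by group
    refine Subgroup.mem_map.mpr ⟨_, h4, ?_⟩
    simp only [MulEquiv.coe_toMonoidHom, MulAut.conj_apply]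
    group
  refine ⟨(g⁻¹ * h)⁻¹, ?_⟩
  rcases prime_mem_K_or_Ks hKU.hall hHallM hp hy₁Z hy₁p with hK' | hKs'
  · right
    have hle : zpowers (g⁻¹ * h * y₀ * (g⁻¹ * h)⁻¹) ≤ K := by
      rw [Subgroup.zpowers_le]; exact hK'
    have h5 := ((bg1367 hG h1430 M hM K U hKU hK1 Mstar hMstar hKst hKstH).2 _ hle hY₁p).1
    exact (hYuniq.2 _ (Cfsg.Agent.Lib.helper71.BGA.isCoatom_map_conj hMstar _)
      (hmove Mstar h5)).symm
  · left
    have hle : zpowers (g⁻¹ * h * y₀ * (g⁻¹ * h)⁻¹) ≤ sigmaCore M ⊓ centralizer (K : Set G) := by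
      rw [Subgroup.zpowers_le]; exact hKs'
    have h5 := (ks_cent_unique hG h1430 M hM K hKU.hall hK1 _ hle hY₁p).1
    exact (hYuniq.2 _ (Cfsg.Agent.Lib.helper71.BGA.isCoatom_map_conj hM _) (hmove M h5)).symm

end Cfsg.Agent.Lib.helper71.BG1369
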