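import Mathlib
import Cfsg.Prelude.Def_OddOrderLocal
import Cfsg.Agent.Lib.helper71.BG1369A
import Cfsg.Agent.Lib.helper3.BGCross
import Cfsg.Agent.S1378

/-!
# The sets `M̃` (`tildeOf M (M_σ#)`): conjugation and disjointness

Frozen S1375 and S1433 are hypotheses (`H1375`, `H1433` of `BG1369Defs`).

* `sigmaCore_map_conj` : `(gMg⁻¹)_σ = g M_σ g⁻¹`.
* `supportR_spec`, `mem_supportR`, `supportR_conj` : `R(x)` for `x ∈ M_σ#`, and its conjugates.
* `tilde_disjoint` (= S1379, clause 1): `M̃ ∩ Ñ = ∅` for non-conjugate maximal subgroups.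
* `zhat_not_tilde` (= S1379, clause 3b): no conjugate of an element of `Ẑ` lies in any `Ñ`.
-/

set_option autoImplicit false

namespace Cfsg.Agent.Lib.helper71.BGTilde

open Cfsg Subgroup
open Cfsg.Agent.Lib.helper69
open Cfsg.Agent.Lib.helper71.BG1369
open Cfsg.Agent.Lib.helper71.BGKs (ks_cent_unique bg1367)
open Cfsg.Agent.Lib.helper13 (sf_mem_map_conj_iff sf_map_conj_mul)
open Cfsg.Agent.Lib.helper29 (exists_mul_of_mem_sup_of_commute)

variable {G : Type*} [Group G]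

theorem mem_cent_singleton {a c : G} : c ∈ centralizer ({a} : Set G) ↔ a * c = c * a := by
  rw [Subgroup.mem_centralizer_iff]
  constructor
  · intro h; exact h a rfl
  · intro h b hb; rw [Set.mem_singleton_iff.mp hb]; exact h

/-- `C_G(v a v⁻¹) ≤ v L v⁻¹ ↔ C_G(a) ≤ L`. -/
theorem cent_conj_le_iff (a v : G) (L : Subgroup G) :
    centralizer ({v * a * v⁻¹} : Set G) ≤ L.map (MulAut.conj v).toMonoidHom ↔
      centralizer ({a} : Set G) ≤ L := by
  constructor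
  · intro h c hc
    have h1 : v * c * v⁻¹ ∈ centralizer ({v * a * v⁻¹} : Set G) := by
      rw [mem_cent_singleton] at hc ⊢
      calc v * a * v⁻¹ * (v * c * v⁻¹) = v * (a * c) * v⁻¹ := by group
        _ = v * (c * a) * v⁻¹ := by rw [hc]
        _ = v * c * v⁻¹ * (v * a * v⁻¹) := by group
    have h2 := sf_mem_map_conj_iff.mp (h h1)
    have e : v⁻¹ * (v * c * v⁻¹) * v = c := by group
    rwa [e] at h2
  · intro h c hc
    rw [sf_mem_map_conj_iff]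
    apply h
    rw [mem_cent_singleton] at hc ⊢
    calc a * (v⁻¹ * c * v) = v⁻¹ * (v * a * v⁻¹ * c) * v := by group
      _ = v⁻¹ * (c * (v * a * v⁻¹)) * v := by rw [hc]
      _ = v⁻¹ * c * v * a := by group

/-- `(g M g⁻¹)_σ = g M_σ g⁻¹`. -/
theorem sigmaCore_map_conj [Finite G] (hG : IsMinSimpleOddOrder G) (M : Subgroup G)
    (hM : IsCoatom M) (g : G) :
    sigmaCore (M.map (MulAut.conj g).toMonoidHom) =
      (sigmaCore M).map (MulAut.conj g).toMonoidHom := by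
  have hM' := Cfsg.Agent.Lib.helper71.BGA.isCoatom_map_conj hM g
  obtain ⟨hH, -, -⟩ := Cfsg.Agent.S1350.result hG M hM
  obtain ⟨-, -, huniq⟩ := Cfsg.Agent.S1350.result hG _ hM'
  symm
  apply huniq
  · rw [Cfsg.Agent.Lib.helper13.normalizer_map_conj]
    exact Subgroup.map_mono (Cfsg.Agent.Lib.helper71.BGA.le_normalizer_sigmaCore M)
  · refine ⟨Subgroup.map_mono hH.1, ?_, ?_⟩
    · intro p hp hdvd
      rw [Cfsg.Agent.Lib.helper3.sigma_map_conj]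
      apply hH.2.1 p hp
      rwa [Subgroup.card_map_of_injective (MulAut.conj g).injective] at hdvd
    · intro p hp hpσ
      rw [Cfsg.Agent.Lib.helper3.sigma_map_conj] at hpσ
      rw [Subgroup.relIndex_map_map_of_injective _ _ (MulAut.conj g).injective]
      exact hH.2.2 p hp hpσ

theorem conj_mem_sigmaCore [Finite G] (hG : IsMinSimpleOddOrder G) (M : Subgroup G)
    (hM : IsCoatom M) (g : G) {a : G} (ha : a ∈ sigmaCore M) :
    g * a * g⁻¹ ∈ sigmaCore (M.map (MulAut.conj g).toMonoidHom) := by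
  rw [sigmaCore_map_conj hG M hM g, sf_mem_map_conj_iff]
  have e : g⁻¹ * (g * a * g⁻¹) * g = a := by group
  rwa [e]

/-- `R(a)` for `a ∈ M_σ#` (using the frozen S1375): a non-identity element `r` of `R_M(a)` lies in
`N_σ ∩ C(a)` for the unique maximal subgroup `N` containing `C_G(a)`, and `C_G(a) ≰ M`. -/
theorem supportR_spec (h75 : H1375 G) (M : Subgroup G) (hM : IsCoatom M) (a : G)
    (ha : a ∈ sigmaCore M) (ha1 : a ≠ 1) (r : G) (hr : r ∈ supportR M a) (hr1 : r ≠ 1) :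
    ¬ centralizer ({a} : Set G) ≤ M ∧ ∃ N : Subgroup G, IsCoatom N ∧
      centralizer ({a} : Set G) ≤ N ∧
      (∀ L : Subgroup G, IsCoatom L → centralizer ({a} : Set G) ≤ L → L = N) ∧
      r ∈ sigmaCore N ∧ r ∈ centralizer ({a} : Set G) ∧ IsComplIn (M ⊓ N) (sigmaCore N) N := by
  classical
  by_cases h : ¬ centralizer ({a} : Set G) ≤ M ∧
      ∃! L : Subgroup G, IsCoatom L ∧ centralizer ({a} : Set G) ≤ L
  · rw [supportR, dif_pos h] at hr
    obtain ⟨N, ⟨hN, haN⟩, huniq, hσF, -, -, hcompl, -⟩ := h75 M hM a ha ha1 h.1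
    have hch := Classical.choose_spec h.2.exists
    have e : Classical.choose h.2.exists = N := huniq _ hch.1 hch.2
    rw [e, ← hσF] at hr
    exact ⟨h.1, N, hN, haN, huniq, hr.1, hr.2, hcompl⟩
  · rw [supportR, dif_neg h, Subgroup.mem_bot] at hr
    exact absurd hr hr1

/-- Converse of `supportR_spec`. -/
theorem mem_supportR (h75 : H1375 G) (M : Subgroup G) (hM : IsCoatom M) (a : G)
    (ha : a ∈ sigmaCore M) (ha1 : a ≠ 1) (hnot : ¬ centralizer ({a} : Set G) ≤ M)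
    (N : Subgroup G) (hN : IsCoatom N) (haN : centralizer ({a} : Set G) ≤ N) (r : G)
    (hrN : r ∈ sigmaCore N) (hra : r ∈ centralizer ({a} : Set G)) : r ∈ supportR M a := by
  classical
  obtain ⟨N', ⟨hN', haN'⟩, huniq, hσF, -⟩ := h75 M hM a ha ha1 hnot
  have hNN' : N = N' := huniq N hN haN
  have hex : ∃! L : Subgroup G, IsCoatom L ∧ centralizer ({a} : Set G) ≤ L :=
    ⟨N', ⟨hN', haN'⟩, fun L hL => huniq L hL.1 hL.2⟩
  have h : ¬ centralizer ({a} : Set G) ≤ M ∧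
      ∃! L : Subgroup G, IsCoatom L ∧ centralizer ({a} : Set G) ≤ L := ⟨hnot, hex⟩
  rw [supportR, dif_pos h]
  have hch := Classical.choose_spec h.2.exists
  have e : Classical.choose h.2.exists = N' := huniq _ hch.1 hch.2
  rw [e, ← hσF, ← hNN']
  exact ⟨hrN, hra⟩

/-- `R` is conjugation-equivariant: `v R_M(a) v⁻¹ ⊆ R_{vMv⁻¹}(v a v⁻¹)` for `a ∈ M_σ#`. -/
theorem supportR_conj [Finite G] (hG : IsMinSimpleOddOrder G) (h75 : H1375 G) (M : Subgroup G)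
    (hM : IsCoatom M) (a : G) (ha : a ∈ sigmaCore M) (ha1 : a ≠ 1) (r : G)
    (hr : r ∈ supportR M a) (v : G) :
    v * r * v⁻¹ ∈ supportR (M.map (MulAut.conj v).toMonoidHom) (v * a * v⁻¹) := by
  by_cases hr1 : r = 1
  · rw [hr1]
    have e : v * 1 * v⁻¹ = (1 : G) := by group
    rw [e]; exact Subgroup.one_mem _
  obtain ⟨hnot, N, hN, haN, -, hrN, hra, -⟩ := supportR_spec h75 M hM a ha ha1 r hr hr1
  have ha1' : v * a * v⁻¹ ≠ 1 := by
    intro h1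
    apply ha1
    have e : a = v⁻¹ * (v * a * v⁻¹) * v := by group
    rw [e, h1]; group
  refine mem_supportR h75 _ (Cfsg.Agent.Lib.helper71.BGA.isCoatom_map_conj hM v) _
    (conj_mem_sigmaCore hG M hM v ha) ha1' ?_ (N.map (MulAut.conj v).toMonoidHom)
    (Cfsg.Agent.Lib.helper71.BGA.isCoatom_map_conj hN v) ?_ _
    (conj_mem_sigmaCore hG N hN v hrN) ?_
  · rw [cent_conj_le_iff]; exact hnot
  · rw [cent_conj_le_iff]; exact haN
  · rw [mem_cent_singleton] at hra ⊢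
    calc v * a * v⁻¹ * (v * r * v⁻¹) = v * (a * r) * v⁻¹ := by group
      _ = v * (r * a) * v⁻¹ := by rw [hra]
      _ = v * r * v⁻¹ * (v * a * v⁻¹) := by group

/-- A non-identity element of `M_σ ∩ N_σ` forces `N` to be conjugate to `M`. -/
theorem conj_of_common_sigma [Finite G] (hG : IsMinSimpleOddOrder G) (M N : Subgroup G)
    (hM : IsCoatom M) (hN : IsCoatom N) (p : ℕ) (hpM : p ∈ sigma M) (hpN : p ∈ sigma N) :
    ∃ g : G, N = M.map (MulAut.conj g).toMonoidHom :=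
  (Cfsg.Agent.S1378.result hG).2 M N hM hN ⟨p, hpM, hpN⟩

/-- A prime divisor of the order of an element of `M_σ` lies in `σ(M)`. -/
theorem prime_mem_sigma_of_mem [Finite G] (hG : IsMinSimpleOddOrder G) (M : Subgroup G)
    (hM : IsCoatom M) {a : G} (ha : a ∈ sigmaCore M) {p : ℕ} (hp : p.Prime)
    (hpa : p ∣ orderOf a) : p ∈ sigma M :=
  (Cfsg.Agent.S1350.result hG M hM).1.2.1 p hp
    (hpa.trans (Subgroup.orderOf_dvd_natCard (sigmaCore M) ha))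

/-- S1379, clause 1: `M̃ ∩ Ñ = ∅` for non-conjugate maximal subgroups `M`, `N`. -/
theorem tilde_disjoint [Finite G] (hG : IsMinSimpleOddOrder G) (h75 : H1375 G) (h33 : H1433 G)
    (M N : Subgroup G) (hM : IsCoatom M) (hN : IsCoatom N)
    (hnc : ∀ g : G, N ≠ M.map (MulAut.conj g).toMonoidHom) :
    tildeOf M ((sigmaCore M : Set G) \ {1}) ∩ tildeOf N ((sigmaCore N : Set G) \ {1}) = ∅ := by
  rw [Set.eq_empty_iff_forall_notMem]
  rintro g ⟨⟨a, ⟨ha, ha1⟩, r, hr, w, rfl⟩, ⟨b, ⟨hb, hb1⟩, s, hs, w', hEq⟩⟩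
  have ha1' : a ≠ 1 := ha1
  have hb1' : b ≠ 1 := hb1
  have hEq' : (w'⁻¹ * w) * a * (w'⁻¹ * w)⁻¹ * ((w'⁻¹ * w) * r * (w'⁻¹ * w)⁻¹) = b * s := by
    have e : (w'⁻¹ * w) * a * (w'⁻¹ * w)⁻¹ * ((w'⁻¹ * w) * r * (w'⁻¹ * w)⁻¹) =
        w'⁻¹ * (w * (a * r) * w⁻¹) * w' := by group
    rw [e, hEq]; group
  have hM' := Cfsg.Agent.Lib.helper71.BGA.isCoatom_map_conj hM (w'⁻¹ * w)
  have ha' := conj_mem_sigmaCore hG M hM (w'⁻¹ * w) ha
  have ha1'' : (w'⁻¹ * w) * a * (w'⁻¹ * w)⁻¹ ≠ 1 := by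
    intro h1
    apply ha1'
    have e : a = (w'⁻¹ * w)⁻¹ * ((w'⁻¹ * w) * a * (w'⁻¹ * w)⁻¹) * (w'⁻¹ * w) := by group
    rw [e, h1]; group
  have hr' := supportR_conj hG h75 M hM a ha ha1' r hr (w'⁻¹ * w)
  by_cases hab : (w'⁻¹ * w) * a * (w'⁻¹ * w)⁻¹ = b
  · -- `b ∈ (M^v)_σ ∩ N_σ`
    rw [hab] at ha'
    have hob : orderOf b ≠ 1 := fun h1 => hb1' (orderOf_eq_one_iff.mp h1)
    obtain ⟨p, hp, hpd⟩ := Nat.exists_prime_and_dvd hob
    obtain ⟨u, hu⟩ := conj_of_common_sigma hG _ N hM' hN p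
      (prime_mem_sigma_of_mem hG _ hM' ha' hp hpd) (prime_mem_sigma_of_mem hG N hN hb hp hpd)
    rw [sf_map_conj_mul] at hu
    exact hnc _ hu
  · exact h33 _ N hM' hN _ b ha' hb ha1'' hb1' hab _ hr' s hs hEq'

/-- `σ(N) = σ(M)` as soon as the two sets have a common prime. -/
theorem sigma_eq_of_common [Finite G] (hG : IsMinSimpleOddOrder G) (M N : Subgroup G)
    (hM : IsCoatom M) (hN : IsCoatom N) (p : ℕ) (hpM : p ∈ sigma M) (hpN : p ∈ sigma N) :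
    sigma N = sigma M := by
  obtain ⟨g, rfl⟩ := conj_of_common_sigma hG M N hM hN p hpM hpN
  exact Cfsg.Agent.Lib.helper3.sigma_map_conj M g

/-- A power of a non-identity element has prime order. -/
theorem exists_pow_prime_order [Finite G] (a : G) (ha1 : a ≠ 1) :
    ∃ (p : ℕ) (k : ℕ), p.Prime ∧ orderOf (a ^ k) = p := by
  have ho : orderOf a ≠ 1 := fun h1 => ha1 (orderOf_eq_one_iff.mp h1)
  obtain ⟨p, hp, hpd⟩ := Nat.exists_prime_and_dvd ho
  exact ⟨p, orderOf a / p, hp, orderOf_pow_orderOf_div (orderOf_pos a).ne' hpd⟩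

/-- `C_G(a) ≤ C_G(⟨a ^ k⟩)`. -/
theorem cent_le_cent_zpowers_pow (a : G) (k : ℕ) :
    centralizer ({a} : Set G) ≤ centralizer ((zpowers (a ^ k) : Subgroup G) : Set G) := by
  intro c hc
  rw [mem_cent_singleton] at hc
  rw [mem_centralizer_zpowers_iff]
  exact ((show Commute a c from hc).pow_left k).eq

/-- The configuration `r ∈ R_N(a)`, `r ≠ 1` is incompatible with a conjugate `t a t⁻¹` lying in the
`σ`-core of a maximal subgroup `M₀` that contains `C_G(t a t⁻¹)`. -/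
theorem supportR_kill [Finite G] (hG : IsMinSimpleOddOrder G) (h75 : H1375 G) (N : Subgroup G)
    (hN : IsCoatom N) (a : G) (ha : a ∈ sigmaCore N) (ha1 : a ≠ 1) (r : G)
    (hr : r ∈ supportR N a) (hr1 : r ≠ 1) (M₀ : Subgroup G) (hM₀ : IsCoatom M₀) (t : G)
    (h1 : t * a * t⁻¹ ∈ sigmaCore M₀) (h2 : centralizer ({t * a * t⁻¹} : Set G) ≤ M₀) : False := by
  obtain ⟨-, N', hN', haN', huniq, -, -, hcompl⟩ := supportR_spec h75 N hN a ha ha1 r hr hr1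
  have hL : centralizer ({a} : Set G) ≤ M₀.map (MulAut.conj t⁻¹).toMonoidHom := by
    rw [← cent_conj_le_iff a t, Cfsg.Agent.Lib.helper13.map_conj_inv_map_conj]
    exact h2
  have e := huniq _ (Cfsg.Agent.Lib.helper71.BGA.isCoatom_map_conj hM₀ t⁻¹) hL
  have h3 := conj_mem_sigmaCore hG M₀ hM₀ t⁻¹ h1
  have e2 : t⁻¹ * (t * a * t⁻¹) * t⁻¹⁻¹ = a := by group
  rw [e2, e] at h3
  have h4 : a ∈ (N ⊓ N') ⊓ sigmaCore N' :=
    ⟨⟨Cfsg.Agent.Lib.helper71.BGA.sigmaCore_le N ha, haN' (mem_cent_singleton.mpr rfl)⟩, h3⟩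
  rw [hcompl.2.2.1, Subgroup.mem_bot] at h4
  exact ha1 h4

/-- S1379, clause 3b: no conjugate of an element of `Ẑ = K K* ∖ (K ∪ K*)` lies in any `Ñ`. -/
theorem zhat_not_tilde [Finite G] (hG : IsMinSimpleOddOrder G) (h1430 : H1430 G)
    (h1434 : H1434 G) (h75 : H1375 G)
    (M : Subgroup G) (hM : IsCoatom M) (K U : Subgroup G) (hKU : IsSigmaDecomposition M K U)
    (hK1 : K ≠ ⊥) (Mstar : Subgroup G) (hMstar : IsCoatom Mstar)
    (hKst : K = sigmaCore Mstar ⊓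
      centralizer ((sigmaCore M ⊓ centralizer (K : Set G)) : Set G))
    (hKstH : IsPiHallOf (kappa Mstar) (sigmaCore M ⊓ centralizer (K : Set G)) Mstar)
    (N : Subgroup G) (hN : IsCoatom N) (y z : G)
    (hz : z ∈ ((↑(K ⊔ (sigmaCore M ⊓ centralizer (K : Set G))) : Set G) \
      ((K : Set G) ∪ ↑(sigmaCore M ⊓ centralizer (K : Set G))))) :
    y * z * y⁻¹ ∉ tildeOf N ((sigmaCore N : Set G) \ {1}) := by
  rintro ⟨a, ⟨ha, ha1⟩, r, hr, w, hEq⟩
  have ha1' : a ≠ 1 := ha1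
  have hHallM : IsPiHallOf (sigma M) (sigmaCore M) M := (Cfsg.Agent.S1350.result hG M hM).1
  have hHallMs : IsPiHallOf (sigma Mstar) (sigmaCore Mstar) Mstar :=
    (Cfsg.Agent.S1350.result hG Mstar hMstar).1
  have hKMs : K ≤ sigmaCore Mstar := by
    intro k hk
    rw [hKst] at hk
    exact hk.1
  have cM := h1434 M hM K U hKU hK1 Mstar hMstar hKst hKstH
  have hz' := hz
  obtain ⟨x₀, hx₀, hx₀1, y₀, hy₀, hy₀1, rfl⟩ := zhat_decomp hz
  have hCM := (cM.2.2.1 x₀ hx₀ hx₀1 y₀ hy₀ hy₀1).2.2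
  -- `z = a₁ r₁` with `a₁ = t a t⁻¹`, `r₁ = t r t⁻¹`, `t = y⁻¹ w`
  have hzar : x₀ * y₀ = (y⁻¹ * w) * a * (y⁻¹ * w)⁻¹ * ((y⁻¹ * w) * r * (y⁻¹ * w)⁻¹) := by
    have e : (y⁻¹ * w) * a * (y⁻¹ * w)⁻¹ * ((y⁻¹ * w) * r * (y⁻¹ * w)⁻¹) =
        y⁻¹ * (w * (a * r) * w⁻¹) * y := by group
    rw [e, ← hEq]; group
  -- `a` and `r` commute
  have har : a * r = r * a := by
    by_cases hr1 : r = 1
    · rw [hr1, mul_one, one_mul]
    · obtain ⟨-, N', -, -, -, -, hra, -⟩ := supportR_spec h75 N hN a ha ha1' r hr hr1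
      exact mem_cent_singleton.mp hra
  have ha₁1 : (y⁻¹ * w) * a * (y⁻¹ * w)⁻¹ ≠ 1 := by
    intro h1
    apply ha1'
    have e : a = (y⁻¹ * w)⁻¹ * ((y⁻¹ * w) * a * (y⁻¹ * w)⁻¹) * (y⁻¹ * w) := by group
    rw [e, h1]; group
  -- `a₁ ∈ C_G(z) = K K*`
  have ha₁Z : (y⁻¹ * w) * a * (y⁻¹ * w)⁻¹ ∈ K ⊔ (sigmaCore M ⊓ centralizer (K : Set G)) := by
    rw [← hCM, mem_cent_singleton, hzar]
    calc (y⁻¹ * w) * a * (y⁻¹ * w)⁻¹ * ((y⁻¹ * w) * r * (y⁻¹ * w)⁻¹) *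
          ((y⁻¹ * w) * a * (y⁻¹ * w)⁻¹)
        = (y⁻¹ * w) * a * (r * a) * (y⁻¹ * w)⁻¹ := by group
      _ = (y⁻¹ * w) * a * (a * r) * (y⁻¹ * w)⁻¹ := by rw [har]
      _ = (y⁻¹ * w) * a * (y⁻¹ * w)⁻¹ * ((y⁻¹ * w) * a * (y⁻¹ * w)⁻¹ *
          ((y⁻¹ * w) * r * (y⁻¹ * w)⁻¹)) := by group
  have hcomm : ∀ a ∈ K, ∀ b ∈ sigmaCore M ⊓ centralizer (K : Set G), a * b = b * a :=
    fun a ha b hb => Subgroup.mem_centralizer_iff.mp hb.2 a ha
  obtain ⟨x₁, hx₁, y₁, hy₁, hxy₁⟩ := exists_mul_of_mem_sup_of_commute hcomm ha₁Z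
  have hc₁ : Commute x₁ y₁ := hcomm x₁ hx₁ y₁ hy₁
  -- orders
  have hpow : ((y⁻¹ * w) * a * (y⁻¹ * w)⁻¹) ^ orderOf a = 1 := by
    rw [conj_pow, pow_orderOf_eq_one]; group
  rw [hxy₁, hc₁.mul_pow] at hpow
  have hx₁n : x₁ ^ orderOf a = 1 := by
    have h5 : x₁ ^ orderOf a ∈ K ⊓ sigmaCore M := by
      refine ⟨K.pow_mem hx₁ _, ?_⟩
      have e : x₁ ^ orderOf a = (y₁ ^ orderOf a)⁻¹ := eq_inv_of_mul_eq_one_left hpow
      rw [e]
      exact Subgroup.inv_mem _ (Subgroup.pow_mem _ hy₁.1 _)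
    rwa [bgk_K_inf_sigmaCore hKU.hall hHallM, Subgroup.mem_bot] at h5
  have hy₁n : y₁ ^ orderOf a = 1 := by rwa [hx₁n, one_mul] at hpow
  by_cases hx₁1 : x₁ = 1
  · -- `a₁ = y₁ ∈ K*`
    rw [hx₁1, one_mul] at hxy₁
    by_cases hr1 : r = 1
    · apply hz'.2
      right
      rw [hzar, hr1, hxy₁]
      have e : (y⁻¹ * w) * 1 * (y⁻¹ * w)⁻¹ = (1 : G) := by group
      rw [e, mul_one]; exact hy₁
    · rw [hxy₁] at ha₁1
      obtain ⟨p, k, hp, hpo⟩ := exists_pow_prime_order y₁ ha₁1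
      have hle : zpowers (y₁ ^ k) ≤ sigmaCore M ⊓ centralizer (K : Set G) := by
        rw [Subgroup.zpowers_le]; exact Subgroup.pow_mem _ hy₁ k
      have hcp : (Nat.card (zpowers (y₁ ^ k))).Prime := by rw [Nat.card_zpowers, hpo]; exact hp
      have h5 := (ks_cent_unique hG h1430 M hM K hKU.hall hK1 _ hle hcp).1
      refine supportR_kill hG h75 N hN a ha ha1' r hr hr1 M hM (y⁻¹ * w) ?_ ?_
      · rw [hxy₁]; exact hy₁.1
      · rw [hxy₁]; exact (cent_le_cent_zpowers_pow y₁ k).trans h5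
  by_cases hy₁1 : y₁ = 1
  · -- `a₁ = x₁ ∈ K`
    rw [hy₁1, mul_one] at hxy₁
    by_cases hr1 : r = 1
    · apply hz'.2
      left
      rw [hzar, hr1, hxy₁]
      have e : (y⁻¹ * w) * 1 * (y⁻¹ * w)⁻¹ = (1 : G) := by group
      rw [e, mul_one]; exact hx₁
    · obtain ⟨p, k, hp, hpo⟩ := exists_pow_prime_order x₁ hx₁1
      have hle : zpowers (x₁ ^ k) ≤ K := by
        rw [Subgroup.zpowers_le]; exact Subgroup.pow_mem _ hx₁ k
      have hcp : (Nat.card (zpowers (x₁ ^ k))).Prime := by rw [Nat.card_zpowers, hpo]; exact hp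
      have h5 := ((bg1367 hG h1430 M hM K U hKU hK1 Mstar hMstar hKst hKstH).2 _ hle hcp).1
      refine supportR_kill hG h75 N hN a ha ha1' r hr hr1 Mstar hMstar (y⁻¹ * w) ?_ ?_
      · rw [hxy₁]; exact hKMs hx₁
      · rw [hxy₁]; exact (cent_le_cent_zpowers_pow x₁ k).trans h5
  -- both components non-trivial: `σ(N)` meets `σ(M)` and `σ(M*)`
  have hox : orderOf x₁ ≠ 1 := fun h1 => hx₁1 (orderOf_eq_one_iff.mp h1)
  have hoy : orderOf y₁ ≠ 1 := fun h1 => hy₁1 (orderOf_eq_one_iff.mp h1)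
  obtain ⟨p, hp, hpd⟩ := Nat.exists_prime_and_dvd hox
  obtain ⟨q, hq, hqd⟩ := Nat.exists_prime_and_dvd hoy
  have hpN : p ∈ sigma N :=
    prime_mem_sigma_of_mem hG N hN ha hp (hpd.trans (orderOf_dvd_of_pow_eq_one hx₁n))
  have hqN : q ∈ sigma N :=
    prime_mem_sigma_of_mem hG N hN ha hq (hqd.trans (orderOf_dvd_of_pow_eq_one hy₁n))
  have hpMs : p ∈ sigma Mstar := prime_mem_sigma_of_mem hG Mstar hMstar (hKMs hx₁) hp hpd
  have hqM : q ∈ sigma M := prime_mem_sigma_of_mem hG M hM hy₁.1 hq hqd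
  have e1 := sigma_eq_of_common hG Mstar N hMstar hN p hpMs hpN
  have e2 := sigma_eq_of_common hG M N hM hN q hqM hqN
  have hpM : p ∈ sigma M := by rw [← e2]; exact hpN
  exact (hKU.hall.2.1 p hp (hpd.trans (Subgroup.orderOf_dvd_natCard K hx₁))).2.2.1 hpM

end Cfsg.Agent.Lib.helper71.BGTilde
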