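import Mathlib
import Cfsg.Prelude.Def_OddOrderLocal
import Cfsg.Agent.Lib.helper71.BGTilde
import Cfsg.Agent.Lib.helper59.BG1431Fin
import Cfsg.Agent.Lib.helper54.BGSigmaNe

/-!
# S1369 (B-G 14.7(f),(g)) from the frozen rows S1430, S1351, S1366, S1434, S1377, S1433, S1375

* `not_both_P1` : `U = 1 = U*` is impossible (counting `M̃`, `M̃*` and the conjugates of `Ẑ`).
* `bg1369` : the statement S1369 with the frozen rows as hypotheses.
-/

set_option autoImplicit false

namespace Cfsg.Agent.Lib.helper71.BG1369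

open Cfsg Subgroup
open Cfsg.Agent.Lib.helper69
open Cfsg.Agent.Lib.helper71.BGTilde

variable {G : Type*} [Group G]

/-- The arithmetic of the count: `(m-1)/(mk) + (m*-1)/(m*k*) + (1-1/k)(1-1/k*) ≤ 1` is impossible
when `m ≥ 3k*` and `m* ≥ 3k`. -/
theorem count_arith (n k ks m ms x y a b c : ℕ) (hn : 0 < n) (hk : 2 ≤ k) (hks : 2 ≤ ks)
    (hm : 3 * ks ≤ m) (hms : 3 * k ≤ ms)
    (h1 : x * (m * k) = n) (h2 : y * (ms * ks) = n)
    (ha : a = (m - 1) * x) (hb : b = (ms - 1) * y)
    (hc : k * ks * c = (k * ks - k - ks + 1) * n) (hsum : a + b + c ≤ n) : False := by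
  have hm1 : 1 ≤ m := by omega
  have hms1 : 1 ≤ ms := by omega
  have hax : a + x = m * x := by
    rw [ha]
    obtain ⟨m', rfl⟩ : ∃ m', m = m' + 1 := ⟨m - 1, by omega⟩
    rw [Nat.add_sub_cancel]; ring
  have hby : b + y = ms * y := by
    rw [hb]
    obtain ⟨m', rfl⟩ : ∃ m', ms = m' + 1 := ⟨ms - 1, by omega⟩
    rw [Nat.add_sub_cancel]; ring
  have e1 : a * (k * ks) + x * (k * ks) = n * ks := by
    calc a * (k * ks) + x * (k * ks) = (a + x) * (k * ks) := by ring
      _ = (m * x) * (k * ks) := by rw [hax]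
      _ = (x * (m * k)) * ks := by ring
      _ = n * ks := by rw [h1]
  have e2 : b * (k * ks) + y * (k * ks) = n * k := by
    calc b * (k * ks) + y * (k * ks) = (b + y) * (k * ks) := by ring
      _ = (ms * y) * (k * ks) := by rw [hby]
      _ = (y * (ms * ks)) * k := by ring
      _ = n * k := by rw [h2]
  have hkk : k + ks ≤ k * ks := by nlinarith
  have e3 : c * (k * ks) + n * k + n * ks = n * (k * ks) + n := by
    have e : k * ks - k - ks + 1 + k + ks = k * ks + 1 := by omega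
    calc c * (k * ks) + n * k + n * ks = k * ks * c + n * k + n * ks := by ring
      _ = (k * ks - k - ks + 1) * n + n * k + n * ks := by rw [hc]
      _ = (k * ks - k - ks + 1 + k + ks) * n := by ring
      _ = (k * ks + 1) * n := by rw [e]
      _ = n * (k * ks) + n := by ring
  have e4 : a * (k * ks) + b * (k * ks) + c * (k * ks) ≤ n * (k * ks) := by
    calc a * (k * ks) + b * (k * ks) + c * (k * ks) = (a + b + c) * (k * ks) := by ring
      _ ≤ n * (k * ks) := Nat.mul_le_mul_right _ hsum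
  have e5 : 3 * (x * (k * ks)) ≤ n := by
    calc 3 * (x * (k * ks)) = x * (3 * ks * k) := by ring
      _ ≤ x * (m * k) := Nat.mul_le_mul_left _ (Nat.mul_le_mul_right _ hm)
      _ = n := h1
  have e6 : 3 * (y * (k * ks)) ≤ n := by
    calc 3 * (y * (k * ks)) = y * (3 * k * ks) := by ring
      _ ≤ y * (ms * ks) := Nat.mul_le_mul_left _ (Nat.mul_le_mul_right _ hms)
      _ = n := h2
  omega

omit [Group G] in
/-- Three pairwise disjoint subsets of a finite group. -/
theorem ncard_add_three_le [Finite G] (T1 T2 T3 : Set G) (d12 : Disjoint T1 T2)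
    (d13 : Disjoint T1 T3) (d23 : Disjoint T2 T3) :
    T1.ncard + T2.ncard + T3.ncard ≤ Nat.card G := by
  have d123 : Disjoint (T1 ∪ T2) T3 := Set.disjoint_union_left.mpr ⟨d13, d23⟩
  rw [← Set.ncard_union_eq d12, ← Set.ncard_union_eq d123, ← Set.ncard_univ]
  exact Set.ncard_le_ncard (Set.subset_univ _)

/-- A proper subgroup of a subgroup of a group of odd order has index at least `3`. -/
theorem three_mul_card_le [Finite G] (hodd : Odd (Nat.card G)) {A B : Subgroup G} (h : A ≤ B)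
    (hne : A ≠ B) : 3 * Nat.card A ≤ Nat.card B := by
  obtain ⟨j, hj⟩ := Subgroup.card_dvd_of_le h
  have hB : 0 < Nat.card B := Nat.card_pos
  have hA : 0 < Nat.card A := Nat.card_pos
  have hBodd : Odd (Nat.card B) := hodd.of_dvd_nat (Subgroup.card_subgroup_dvd_card B)
  have hj0 : j ≠ 0 := by
    rintro rfl
    rw [Nat.mul_zero] at hj
    omega
  have hj1 : j ≠ 1 := by
    rintro rfl
    apply hne
    exact Subgroup.eq_of_le_of_card_ge h (by rw [hj, Nat.mul_one])
  have hj2 : j ≠ 2 := by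
    rintro rfl
    rw [hj] at hBodd
    exact (Nat.not_even_iff_odd.mpr hBodd) (even_two.mul_left _)
  have h3 : 3 ≤ j := by omega
  calc 3 * Nat.card A ≤ j * Nat.card A := Nat.mul_le_mul_right _ h3
    _ = Nat.card B := by rw [hj, Nat.mul_comm]

/-- `|M_σ : K*| ≥ 3` (S1431, clause 3: no Sylow subgroup of `M_σ` lies in `K*`). -/
theorem three_mul_card_ks_le [Finite G] (hG : IsMinSimpleOddOrder G) (h1430 : H1430 G)
    (M : Subgroup G) (hM : IsCoatom M) (K : Subgroup G) (hK : IsPiHallOf (kappa M) K M)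
    (hK1 : K ≠ ⊥) (hKs1 : sigmaCore M ⊓ centralizer (K : Set G) ≠ ⊥) :
    3 * Nat.card ↥(sigmaCore M ⊓ centralizer (K : Set G)) ≤ Nat.card (sigmaCore M) := by
  apply three_mul_card_le hG.1 inf_le_left
  intro heq
  have hcard : Nat.card ↥(sigmaCore M ⊓ centralizer (K : Set G)) ≠ 1 := by
    intro h1
    exact hKs1 (Subgroup.eq_bot_of_card_eq _ h1)
  obtain ⟨p, hp, hpd⟩ := Nat.exists_prime_and_dvd hcard
  obtain ⟨-, -, h3, -⟩ := Cfsg.Agent.Lib.helper59.BG1431.s1431_of_h1430 hG h1430 M hM K hK hK1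
  obtain ⟨S⟩ : Nonempty (Sylow p ↥(sigmaCore M)) := inferInstance
  obtain ⟨-, -, hnot⟩ := h3 p hp hpd S
  exact hnot ((Subgroup.map_subtype_le _).trans heq.ge)

/-- S1369, clause 1: `U = 1` and `U* = 1` cannot both hold. -/
theorem not_both_P1 [Finite G] (hG : IsMinSimpleOddOrder G) (h1430 : H1430 G)
    (h1434 : H1434 G) (h77 : H1377 G) (h33 : H1433 G) (h75 : H1375 G)
    (M : Subgroup G) (hM : IsCoatom M) (K U : Subgroup G) (hKU : IsSigmaDecomposition M K U)
    (hK1 : K ≠ ⊥) (Mstar : Subgroup G) (hMstar : IsCoatom Mstar)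
    (hKst : K = sigmaCore Mstar ⊓
      centralizer ((sigmaCore M ⊓ centralizer (K : Set G)) : Set G))
    (hKstH : IsPiHallOf (kappa Mstar) (sigmaCore M ⊓ centralizer (K : Set G)) Mstar)
    (hU : U = ⊥) (Ustar : Subgroup G)
    (hKUs : IsSigmaDecomposition Mstar (sigmaCore M ⊓ centralizer (K : Set G)) Ustar)
    (hUs : Ustar = ⊥) : False := by
  classical
  have hHall := (Cfsg.Agent.S1350.result hG M hM).1
  have hHall' := (Cfsg.Agent.S1350.result hG Mstar hMstar).1
  have hKs1 : sigmaCore M ⊓ centralizer (K : Set G) ≠ ⊥ :=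
    (bgk_1354 h1430 M hM (Cfsg.Agent.Lib.helper54.sigmaCore_ne_bot hG M hM) K hKU.cyclic
      hKU.hall).1
  -- the orders of `M` and `M*`
  have hcM : Nat.card (sigmaCore M) * Nat.card K = Nat.card M := by
    have h1 := Cfsg.Agent.Lib.helper29.IsComplIn.card_mul hKU.compl
    rw [hU, Subgroup.card_bot, one_mul] at h1
    rw [bgk_card_sup hKU.hall hHall]; exact h1
  have hcMs : Nat.card (sigmaCore Mstar) *
      Nat.card ↥(sigmaCore M ⊓ centralizer (K : Set G)) = Nat.card Mstar := by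
    have h1 := Cfsg.Agent.Lib.helper29.IsComplIn.card_mul hKUs.compl
    rw [hUs, Subgroup.card_bot, one_mul] at h1
    rw [bgk_card_sup hKUs.hall hHall']; exact h1
  -- the indices `|M_σ : K*|`, `|M*_σ : K|` are at least `3`
  have hm : 3 * Nat.card ↥(sigmaCore M ⊓ centralizer (K : Set G)) ≤ Nat.card (sigmaCore M) :=
    three_mul_card_ks_le hG h1430 M hM K hKU.hall hK1 hKs1
  have hms : 3 * Nat.card K ≤ Nat.card (sigmaCore Mstar) := by
    have hK1' : sigmaCore Mstar ⊓
        centralizer ((sigmaCore M ⊓ centralizer (K : Set G)) : Set G) ≠ ⊥ := by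
      intro h0; exact hK1 (hKst.trans h0)
    have h := three_mul_card_ks_le hG h1430 Mstar hMstar _ hKstH hKs1 hK1'
    have e : Nat.card ↥(sigmaCore Mstar ⊓
        centralizer ((sigmaCore M ⊓ centralizer (K : Set G)) : Set G)) = Nat.card K :=
      congrArg (fun H : Subgroup G => Nat.card H) hKst.symm
    have h' : 3 * Nat.card ↥(sigmaCore Mstar ⊓
        centralizer ((sigmaCore M ⊓ centralizer (K : Set G)) : Set G)) ≤
        Nat.card (sigmaCore Mstar) := h
    rw [e] at h'
    exact h'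
  -- `M*` is not conjugate to `M`
  have hnc : ∀ g : G, Mstar ≠ M.map (MulAut.conj g).toMonoidHom := by
    intro g hEq
    have hKc : Nat.card K ≠ 1 := fun h1 => hK1 (Subgroup.eq_bot_of_card_eq _ h1)
    obtain ⟨p, hp, hpd⟩ := Nat.exists_prime_and_dvd hKc
    have hpκ := hKU.hall.2.1 p hp hpd
    have hKle : K ≤ sigmaCore Mstar := hKst.le.trans inf_le_left
    have hpσ : p ∈ sigma Mstar := hHall'.2.1 p hp (hpd.trans (Subgroup.card_dvd_of_le hKle))
    rw [hEq, Cfsg.Agent.Lib.helper3.sigma_map_conj M g] at hpσ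
    exact hpκ.2.2.1 hpσ
  -- disjointness
  have d12 : Disjoint (tildeOf M ((sigmaCore M : Set G) \ {1}))
      (tildeOf Mstar ((sigmaCore Mstar : Set G) \ {1})) :=
    Set.disjoint_iff_inter_eq_empty.mpr (tilde_disjoint hG h75 h33 M Mstar hM hMstar hnc)
  have d3 : ∀ N : Subgroup G, IsCoatom N → Disjoint (tildeOf N ((sigmaCore N : Set G) \ {1}))
      {a : G | ∃ g : G, ∃ z ∈ ((↑(K ⊔ (sigmaCore M ⊓ centralizer (K : Set G))) : Set G) \
        ((K : Set G) ∪ ↑(sigmaCore M ⊓ centralizer (K : Set G)))), a = g * z * g⁻¹} := by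
    intro N hN
    rw [Set.disjoint_left]
    rintro a ha ⟨g, z, hz, rfl⟩
    exact zhat_not_tilde hG h1430 h1434 h75 M hM K U hKU hK1 Mstar hMstar hKst hKstH N hN g z
      hz ha
  have hsum := ncard_add_three_le _ _ _ d12 (d3 M hM) (d3 Mstar hMstar)
  obtain ⟨-, -, -, -, hc, -⟩ := h1434 M hM K U hKU hK1 Mstar hMstar hKst hKstH
  have hk2 : 2 ≤ Nat.card K := by
    have h1 : Nat.card K ≠ 1 := fun h1 => hK1 (Subgroup.eq_bot_of_card_eq _ h1)
    have h2 : 0 < Nat.card K := Nat.card_pos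
    omega
  have hks2 : 2 ≤ Nat.card ↥(sigmaCore M ⊓ centralizer (K : Set G)) := by
    have h1 : Nat.card ↥(sigmaCore M ⊓ centralizer (K : Set G)) ≠ 1 :=
      fun h1 => hKs1 (Subgroup.eq_bot_of_card_eq _ h1)
    have h2 : 0 < Nat.card ↥(sigmaCore M ⊓ centralizer (K : Set G)) := Nat.card_pos
    omega
  have h1 : M.index * (Nat.card (sigmaCore M) * Nat.card K) = Nat.card G := by
    rw [hcM, mul_comm]; exact Subgroup.card_mul_index M
  have h2 : Mstar.index * (Nat.card (sigmaCore Mstar) *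
      Nat.card ↥(sigmaCore M ⊓ centralizer (K : Set G))) = Nat.card G := by
    rw [hcMs, mul_comm]; exact Subgroup.card_mul_index Mstar
  exact count_arith (Nat.card G) (Nat.card K)
    (Nat.card ↥(sigmaCore M ⊓ centralizer (K : Set G))) (Nat.card (sigmaCore M))
    (Nat.card (sigmaCore Mstar)) M.index Mstar.index _ _ _ Nat.card_pos hk2 hks2 hm hms h1 h2
    (h77 M hM) (h77 Mstar hMstar) hc hsum

/-- The statement S1369, with the frozen rows S1430, S1351, S1366, S1434, S1377, S1433, S1375 as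
hypotheses. -/
theorem bg1369 [Finite G] (hG : IsMinSimpleOddOrder G) (h1430 : H1430 G) (h1351 : H1351 G)
    (h1366 : H1366 G) (h1434 : H1434 G) (h77 : H1377 G) (h33 : H1433 G) (h75 : H1375 G)
    (M : Subgroup G) (hM : IsCoatom M) (K U : Subgroup G) (hKU : IsSigmaDecomposition M K U)
    (hK1 : K ≠ ⊥) (Mstar : Subgroup G) (hMstar : IsCoatom Mstar)
    (hKst : K = sigmaCore Mstar ⊓
      centralizer ((sigmaCore M ⊓ centralizer (K : Set G)) : Set G))
    (hKstH : IsPiHallOf (kappa Mstar) (sigmaCore M ⊓ centralizer (K : Set G)) Mstar) :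
    (U ≠ ⊥ ∨ ∀ Ustar : Subgroup G,
        IsSigmaDecomposition Mstar (sigmaCore M ⊓ centralizer (K : Set G)) Ustar → Ustar ≠ ⊥) ∧
      ∀ H : Subgroup G, IsCoatom H → (kappa H).Nonempty →
        ∃ g : G, H = M.map (MulAut.conj g).toMonoidHom ∨
          H = Mstar.map (MulAut.conj g).toMonoidHom := by
  refine ⟨?_, fun H hH hκ => conj_of_kappa_nonempty hG h1430 h1351 h1366 h1434 M hM K U hKU hK1
    Mstar hMstar hKst hKstH H hH hκ⟩
  by_contra hcon
  obtain ⟨hU, hall⟩ := not_or.mp hcon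
  obtain ⟨Ustar, hx⟩ := not_forall.mp hall
  obtain ⟨hKUs, hUs⟩ := Classical.not_imp.mp hx
  exact not_both_P1 hG h1430 h1434 h77 h33 h75 M hM K U hKU hK1 Mstar hMstar hKst hKstH
    (not_not.mp hU) Ustar hKUs (not_not.mp hUs)

end Cfsg.Agent.Lib.helper71.BG1369
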