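import Mathlib
import Cfsg.Prelude.Def_OddOrderLocal
import Cfsg.Agent.S1430
import Cfsg.Agent.Lib.helper71.BGTilde
import Cfsg.Agent.Lib.helper29.BG1366Defs

/-!
# The family count: no conjugate of a "free" element of `Z` lies in a tilde-set (`hdisjZ`)

`N` a maximal subgroup, `KN ≠ 1` a Hall `κ(N)`-subgroup, `Z = KN · KN*`.  If `z ∉ N_σ` and
`C_G(z) ≤ Z`, then no conjugate of `z` lies in `Ñ = tildeOf N (N_σ#)`.
-/

set_option autoImplicit false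

namespace Cfsg.Agent.Lib.helper71.BGFamZ

open Cfsg Subgroup
open Cfsg.Agent.Lib.helper69
open Cfsg.Agent.Lib.helper71.BG1369
open Cfsg.Agent.Lib.helper71.BGTilde
open Cfsg.Agent.Lib.helper71.BGKs (ks_cent_unique)
open Cfsg.Agent.Lib.helper29 (exists_mul_of_mem_sup_of_commute)

variable {G : Type*} [Group G]

/-- Single member: `z ∉ N_σ` with `C_G(z) ≤ KN · KN*` has no conjugate in `Ñ`. -/
theorem disjZ_one [Finite G] (hG : IsMinSimpleOddOrder G) (h75 : H1375 G)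
    (N KN : Subgroup G) (hN : IsCoatom N) (hKN : IsPiHallOf (kappa N) KN N) (hKN1 : KN ≠ ⊥)
    (z : G) (hzN : z ∉ sigmaCore N)
    (hcent : ∀ g : G, g * z = z * g → g ∈ KN ⊔ (sigmaCore N ⊓ centralizer (KN : Set G)))
    (y : G) : y * z * y⁻¹ ∉ tildeOf N ((sigmaCore N : Set G) \ {1}) := by
  rintro ⟨a, ⟨ha, ha1⟩, r, hr, w, hEq⟩
  have ha1' : a ≠ 1 := ha1
  have h30 : H1430 G := fun M hM K hK hK1 => Cfsg.Agent.S1430.result hG M hM K hK hK1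
  have hHallN : IsPiHallOf (sigma N) (sigmaCore N) N := (Cfsg.Agent.S1350.result hG N hN).1
  -- `z = a₁ r₁` with `a₁ = t a t⁻¹`, `r₁ = t r t⁻¹`, `t = y⁻¹ w`
  have hzar : z = (y⁻¹ * w) * a * (y⁻¹ * w)⁻¹ * ((y⁻¹ * w) * r * (y⁻¹ * w)⁻¹) := by
    have e : (y⁻¹ * w) * a * (y⁻¹ * w)⁻¹ * ((y⁻¹ * w) * r * (y⁻¹ * w)⁻¹) =
        y⁻¹ * (w * (a * r) * w⁻¹) * y := by group
    rw [e, ← hEq]; group
  -- `a` and `r` commute
  have har : a * r = r * a := by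
    by_cases hr1 : r = 1
    · rw [hr1, mul_one, one_mul]
    · obtain ⟨-, N', -, -, -, -, hra, -⟩ := supportR_spec h75 N hN a ha ha1' r hr hr1
      exact mem_cent_singleton.mp hra
  have ha₁1 : (y⁻¹ * w) * a * (y⁻¹ * w)⁻¹ ≠ 1 := by
    intro h1
    apply ha1'
    have e : a = (y⁻¹ * w)⁻¹ * ((y⁻¹ * w) * a * (y⁻¹ * w)⁻¹) * (y⁻¹ * w) := by group
    rw [e, h1]; group
  -- `a₁ ∈ C_G(z) ≤ KN KN*`
  have ha₁Z : (y⁻¹ * w) * a * (y⁻¹ * w)⁻¹ ∈ KN ⊔ (sigmaCore N ⊓ centralizer (KN : Set G)) := by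
    apply hcent
    calc (y⁻¹ * w) * a * (y⁻¹ * w)⁻¹ * z
        = (y⁻¹ * w) * a * (y⁻¹ * w)⁻¹ * ((y⁻¹ * w) * a * (y⁻¹ * w)⁻¹ *
          ((y⁻¹ * w) * r * (y⁻¹ * w)⁻¹)) := by rw [← hzar]
      _ = (y⁻¹ * w) * a * (a * r) * (y⁻¹ * w)⁻¹ := by group
      _ = (y⁻¹ * w) * a * (r * a) * (y⁻¹ * w)⁻¹ := by rw [har]
      _ = (y⁻¹ * w) * a * (y⁻¹ * w)⁻¹ * ((y⁻¹ * w) * r * (y⁻¹ * w)⁻¹) *
          ((y⁻¹ * w) * a * (y⁻¹ * w)⁻¹) := by group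
      _ = z * ((y⁻¹ * w) * a * (y⁻¹ * w)⁻¹) := by rw [← hzar]
  have hcomm : ∀ a ∈ KN, ∀ b ∈ sigmaCore N ⊓ centralizer (KN : Set G), a * b = b * a :=
    fun a ha b hb => Subgroup.mem_centralizer_iff.mp hb.2 a ha
  obtain ⟨x₁, hx₁, y₁, hy₁, hxy₁⟩ := exists_mul_of_mem_sup_of_commute hcomm ha₁Z
  have hc₁ : Commute x₁ y₁ := hcomm x₁ hx₁ y₁ hy₁
  -- orders
  have hpow : ((y⁻¹ * w) * a * (y⁻¹ * w)⁻¹) ^ orderOf a = 1 := by
    rw [conj_pow, pow_orderOf_eq_one]; group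
  rw [hxy₁, hc₁.mul_pow] at hpow
  have hx₁n : x₁ ^ orderOf a = 1 := by
    have h5 : x₁ ^ orderOf a ∈ KN ⊓ sigmaCore N := by
      refine ⟨KN.pow_mem hx₁ _, ?_⟩
      have e : x₁ ^ orderOf a = (y₁ ^ orderOf a)⁻¹ := eq_inv_of_mul_eq_one_left hpow
      rw [e]
      exact Subgroup.inv_mem _ (Subgroup.pow_mem _ hy₁.1 _)
    rwa [bgk_K_inf_sigmaCore hKN hHallN, Subgroup.mem_bot] at h5
  have hcop : (Nat.card KN).Coprime (Nat.card (sigmaCore N)) :=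
    Nat.coprime_of_dvd fun k hk h1 h2 => (hKN.2.1 k hk h1).2.2.1 (hHallN.2.1 k hk h2)
  have hx₁1 : x₁ = 1 := by
    have h1 : orderOf x₁ ∣ Nat.card KN := Subgroup.orderOf_dvd_natCard KN hx₁
    have h2 : orderOf x₁ ∣ Nat.card (sigmaCore N) :=
      (orderOf_dvd_of_pow_eq_one hx₁n).trans (Subgroup.orderOf_dvd_natCard _ ha)
    have h3 : orderOf x₁ ∣ 1 := by
      have h4 := Nat.dvd_gcd h1 h2
      rwa [Nat.Coprime.gcd_eq_one hcop] at h4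
    exact orderOf_eq_one_iff.mp (Nat.dvd_one.mp h3)
  rw [hx₁1, one_mul] at hxy₁
  -- now `a₁ = y₁ ∈ KN*`
  by_cases hr1 : r = 1
  · apply hzN
    rw [hzar, hr1, hxy₁]
    have e : (y⁻¹ * w) * 1 * (y⁻¹ * w)⁻¹ = (1 : G) := by group
    rw [e, mul_one]; exact hy₁.1
  · rw [hxy₁] at ha₁1
    obtain ⟨p, k, hp, hpo⟩ := exists_pow_prime_order y₁ ha₁1
    have hle : zpowers (y₁ ^ k) ≤ sigmaCore N ⊓ centralizer (KN : Set G) := by
      rw [Subgroup.zpowers_le]; exact Subgroup.pow_mem _ hy₁ k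
    have hcp : (Nat.card (zpowers (y₁ ^ k))).Prime := by rw [Nat.card_zpowers, hpo]; exact hp
    have h5 := (ks_cent_unique hG h30 N hN KN hKN hKN1 _ hle hcp).1
    refine supportR_kill hG h75 N hN a ha ha1' r hr hr1 N hN (y⁻¹ * w) ?_ ?_
    · rw [hxy₁]; exact hy₁.1
    · rw [hxy₁]; exact (cent_le_cent_zpowers_pow y₁ k).trans h5

/-- Piece FZ' (`hdisjZ` of `count_core`), with `hTI` as a hypothesis. -/
theorem family_disjZ_of_TI [Finite G] (hG : IsMinSimpleOddOrder G)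
    (h75 : Cfsg.Agent.Lib.helper29.BG1366.H1375 G) (Z : Subgroup G) {ι : Type*}
    (L KL : ι → Subgroup G) (hL : ∀ i, IsCoatom (L i))
    (hKL : ∀ i, IsPiHallOf (kappa (L i)) (KL i) (L i)) (hKL1 : ∀ i, KL i ≠ ⊥)
    (hZ : ∀ i, KL i ⊔ (sigmaCore (L i) ⊓ Subgroup.centralizer (KL i : Set G)) = Z)
    (hTI : ∀ z ∈ Z, (∀ i, z ∉ sigmaCore (L i)) → ∀ g : G, g * z * g⁻¹ ∈ Z → g ∈ Z) :
    ∀ i, ∀ z ∈ Z, (∀ j, z ∉ sigmaCore (L j)) → ∀ y : G,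
      y * z * y⁻¹ ∉ tildeOf (L i) ((sigmaCore (L i) : Set G) \ {1}) := by
  intro i z hz hzσ y
  refine disjZ_one hG (fun M hM x hx hx1 hxM => h75 M hM x hx hx1 hxM) (L i) (KL i) (hL i)
    (hKL i) (hKL1 i) z (hzσ i) ?_ y
  intro g hg
  rw [hZ i]
  apply hTI z hz hzσ g
  have e : g * z * g⁻¹ = z := by rw [hg]; group
  rw [e]; exact hz

end Cfsg.Agent.Lib.helper71.BGFamZ
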