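import Mathlib
import Cfsg.Agent.Lib.helper24.SffDefs
import Cfsg.Agent.Lib.helper24.EigBasis

/-!
S5965 piece DG (`sff_diag_of_pow`): over a finite field `F` with `r ∣ q - 1`, a matrix `y` with
`y ^ r = 1` is diagonalisable with `r`-th roots of unity on the diagonal.

Proof: `ζ` a primitive `r`-th root of unity; for a vector `v` the vectors
`w i = ∑ j < r, ζ^(-i j) • y^j v` are eigenvectors (eigenvalue `ζ^i`) and sum to `r • v`.
-/

set_option autoImplicit false

namespace Cfsg.Agent.Lib.helper24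

open Module Matrix

/-- `r ≠ 0` in a finite field whose multiplicative group has order divisible by the prime `r`. -/
theorem h71_sff_natCast_ne_zero {F : Type*} [Field F] [Fintype F] (r : ℕ) [hr : Fact r.Prime]
    (hd : r ∣ Fintype.card F - 1) : (r : F) ≠ 0 := by
  intro h0
  have hdvd : ringChar F ∣ r := (ringChar.spec F r).mp h0
  have hcp : (ringChar F).Prime := CharP.char_is_prime F (ringChar F)
  have heq : ringChar F = r := (Nat.prime_dvd_prime_iff_eq hcp hr.out).mp hdvd
  obtain ⟨n, -, hn⟩ := FiniteField.card F (ringChar F)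
  rw [heq] at hn
  have h1 : r ∣ Fintype.card F := by
    rw [hn]
    exact dvd_pow_self r n.ne_zero
  have hpos : 1 ≤ Fintype.card F := Fintype.card_pos
  have h2 : r ∣ 1 := by
    have := (Nat.dvd_sub h1 hd)
    rwa [Nat.sub_sub_self hpos] at this
  exact hr.out.one_lt.ne' (Nat.dvd_one.mp h2)

/-- DG -/
theorem sff_diag_of_pow {F : Type*} [Field F] [Fintype F] {n : ℕ} (r : ℕ) [Fact r.Prime]
    (hd : r ∣ Fintype.card F - 1) (y : Matrix (Fin n) (Fin n) F) (hy : y ^ r = 1) :
    ∃ (K : Matrix (Fin n) (Fin n) F) (ε : Fin n → F), K.det ≠ 0 ∧ (∀ j, ε j ^ r = 1) ∧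
      y * K = K * Matrix.diagonal ε := by
  classical
  have hrp : r.Prime := Fact.out
  have hr0 : (r : F) ≠ 0 := h71_sff_natCast_ne_zero r hd
  -- a primitive `r`-th root of unity
  have hcardU : r ∣ Nat.card Fˣ := by
    rw [Nat.card_eq_fintype_card, Fintype.card_units]
    exact hd
  obtain ⟨ζ, hζ⟩ := exists_prime_orderOf_dvd_card' (G := Fˣ) r hcardU
  have hζr : ζ ^ r = 1 := by rw [← hζ]; exact pow_orderOf_eq_one ζ
  -- `a i = ζ^(-i)`, `b i = ζ^i`
  set a : ℕ → F := fun i => ((ζ⁻¹ ^ i : Fˣ) : F) with ha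
  set b : ℕ → F := fun i => ((ζ ^ i : Fˣ) : F) with hb
  have hab : ∀ i, b i * a i = 1 := by
    intro i
    simp only [ha, hb]
    rw [← Units.val_mul, inv_pow, mul_inv_cancel, Units.val_one]
  have har : ∀ i, a i ^ r = 1 := by
    intro i
    simp only [ha]
    rw [← Units.val_pow_eq_pow_val, ← pow_mul, mul_comm, pow_mul, inv_pow, hζr, inv_one, one_pow,
      Units.val_one]
  have hbr : ∀ i, b i ^ r = 1 := by
    intro i
    simp only [hb]
    rw [← Units.val_pow_eq_pow_val, ← pow_mul, mul_comm, pow_mul, hζr, one_pow, Units.val_one]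
  have haswap : ∀ i j, a i ^ j = a j ^ i := by
    intro i j
    simp only [ha]
    rw [← Units.val_pow_eq_pow_val, ← Units.val_pow_eq_pow_val, ← pow_mul, ← pow_mul, mul_comm]
  have ha0 : a 0 = 1 := by simp [ha]
  have hane : ∀ j, 0 < j → j < r → a j ≠ 1 := by
    intro j hj0 hjr h1
    have h2 : (ζ⁻¹ ^ j : Fˣ) = 1 := Units.ext (by simpa [ha] using h1)
    rw [inv_pow, inv_eq_one] at h2
    have h3 : orderOf ζ ∣ j := orderOf_dvd_of_pow_eq_one h2
    rw [hζ] at h3
    exact absurd (Nat.le_of_dvd hj0 h3) (by omega)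
  -- the sum of the `i`-th powers
  have hsum : ∀ j, j < r → ∑ i ∈ Finset.range r, a j ^ i = if j = 0 then (r : F) else 0 := by
    intro j hjr
    by_cases hj : j = 0
    · subst hj
      simp [ha0]
    · rw [if_neg hj, geom_sum_eq (hane j (Nat.pos_of_ne_zero hj) hjr), har j, sub_self, zero_div]
  have hspan : ∀ v : Fin n → F, v ∈ Submodule.span F
      {w : Fin n → F | ∃ ε ∈ {ε : F | ε ^ r = 1}, y *ᵥ w = ε • w} := by
    intro v
    -- the eigen-components of `v`
    set w : ℕ → (Fin n → F) := fun i => ∑ j ∈ Finset.range r, a i ^ j • ((y ^ j) *ᵥ v) with hw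
    have hweig : ∀ i, y *ᵥ w i = b i • w i := by
      intro i
      have h1 : y *ᵥ w i = ∑ j ∈ Finset.range r, b i • (a i ^ (j + 1) • ((y ^ (j + 1)) *ᵥ v)) := by
        simp only [hw]
        rw [Matrix.mulVec_sum]
        refine Finset.sum_congr rfl (fun j _ => ?_)
        rw [Matrix.mulVec_smul, Matrix.mulVec_mulVec, ← pow_succ', smul_smul, pow_succ (a i) j,
          ← mul_assoc, mul_comm (b i), mul_assoc, hab i, mul_one]
      rw [h1, ← Finset.smul_sum]
      congr 1
      have h2 := Finset.sum_range_succ' (fun j => a i ^ j • ((y ^ j) *ᵥ v)) r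
      have h3 := Finset.sum_range_succ (fun j => a i ^ j • ((y ^ j) *ᵥ v)) r
      simp only [hw]
      have h4 : a i ^ r • ((y ^ r) *ᵥ v) = a i ^ 0 • ((y ^ 0) *ᵥ v) := by
        rw [har i, hy, pow_zero, pow_zero]
      rw [h3, h4] at h2
      exact (add_right_cancel h2).symm
    have hwsum : ∑ i ∈ Finset.range r, w i = (r : F) • v := by
      simp only [hw]
      rw [Finset.sum_comm]
      have h1 : ∀ j ∈ Finset.range r, ∑ i ∈ Finset.range r, a i ^ j • ((y ^ j) *ᵥ v)
          = (if j = 0 then (r : F) else 0) • ((y ^ j) *ᵥ v) := by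
        intro j hj
        rw [← Finset.sum_smul]
        congr 1
        rw [← hsum j (Finset.mem_range.mp hj)]
        exact Finset.sum_congr rfl (fun i _ => haswap i j)
      rw [Finset.sum_congr rfl h1]
      rw [Finset.sum_eq_single 0]
      · simp
      · intro j _ hj
        rw [if_neg hj, zero_smul]
      · intro h
        exact absurd (Finset.mem_range.mpr hrp.pos) h
    have hv : v = (r : F)⁻¹ • ∑ i ∈ Finset.range r, w i := by
      rw [hwsum, smul_smul, inv_mul_cancel₀ hr0, one_smul]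
    rw [hv]
    refine Submodule.smul_mem _ _ (Submodule.sum_mem _ (fun i _ => Submodule.subset_span ?_))
    exact ⟨b i, hbr i, hweig i⟩
  obtain ⟨k, ε, hk, hε, hyk⟩ := exists_eigenbasis y {ε : F | ε ^ r = 1} hspan
  exact ⟨k, ε, ((Matrix.isUnit_iff_isUnit_det k).mp hk).ne_zero, hε, hyk⟩

end Cfsg.Agent.Lib.helper24
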