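import Mathlib

/-! S1903 split (architect helper16), piece M (racer copy by helper71): a pure word computation. -/

set_option autoImplicit false

namespace Cfsg.Agent.Lib.helper16.U34C

/-- PIECE M (pure word computation; used by A4b) -/
theorem helper71_sq_eq_of_prod {H : Type*} [Group H] (u0 u1 u2 u3 u4 a b s : H)
    (ha : ∀ g : H, Commute a g) (hb : ∀ g : H, Commute b g) (hs : ∀ g : H, Commute s g)
    (ha2 : a ^ 2 = 1) (hb2 : b ^ 2 = 1) (hs2 : s ^ 2 = 1)
    (h0 : u0 ^ 2 = s) (h1 : u1 ^ 2 = s) (h2 : u2 ^ 2 = s) (h3 : u3 ^ 2 = s) (h4 : u4 ^ 2 = s)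
    (c01 : u1 * u0 = u0 * u1 * a) (c02 : u2 * u0 = u0 * u2 * b) (c03 : u3 * u0 = u0 * u3 * b)
    (c12 : u2 * u1 = u1 * u2 * a) (c13 : u3 * u1 = u1 * u3 * b) (c23 : u3 * u2 = u2 * u3 * a)
    (hprod : u0 * u1 * u2 * u3 * u4 = 1) : s = a * b := by
  have ha2' : a * a = 1 := by rw [← pow_two]; exact ha2
  have hb2' : b * b = 1 := by rw [← pow_two]; exact hb2
  have hs2' : s * s = 1 := by rw [← pow_two]; exact hs2
  have h0' : u0 * u0 = s := by rw [← pow_two]; exact h0
  have h1' : u1 * u1 = s := by rw [← pow_two]; exact h1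
  have h2' : u2 * u2 = s := by rw [← pow_two]; exact h2
  have h3' : u3 * u3 = s := by rw [← pow_two]; exact h3
  have h4' : u4 * u4 = s := by rw [← pow_two]; exact h4
  have hab : ∀ g : H, Commute (a * b) g := fun g => (ha g).mul_left (hb g)
  have e23 : u2 * u3 * (u2 * u3) = a := by
    calc u2 * u3 * (u2 * u3) = u2 * (u3 * u2) * u3 := by group
      _ = u2 * (u2 * u3 * a) * u3 := by rw [c23]
      _ = (u2 * u2) * u3 * (a * u3) := by group
      _ = s * u3 * (u3 * a) := by rw [h2', (ha u3).eq]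
      _ = s * (u3 * u3) * a := by group
      _ = s * s * a := by rw [h3']
      _ = a := by rw [hs2', one_mul]
  have e123 : u1 * u2 * u3 * (u1 * u2 * u3) = s * b := by
    have k : u2 * u3 * u1 = u1 * (u2 * u3) * (a * b) := by
      calc u2 * u3 * u1 = u2 * (u3 * u1) := by group
        _ = u2 * (u1 * u3 * b) := by rw [c13]
        _ = (u2 * u1) * u3 * b := by group
        _ = (u1 * u2 * a) * u3 * b := by rw [c12]
        _ = u1 * u2 * (a * u3) * b := by group
        _ = u1 * u2 * (u3 * a) * b := by rw [(ha u3).eq]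
        _ = u1 * (u2 * u3) * (a * b) := by group
    calc u1 * u2 * u3 * (u1 * u2 * u3) = u1 * (u2 * u3 * u1) * (u2 * u3) := by group
      _ = u1 * (u1 * (u2 * u3) * (a * b)) * (u2 * u3) := by rw [k]
      _ = (u1 * u1) * (u2 * u3) * ((a * b) * (u2 * u3)) := by group
      _ = s * (u2 * u3) * ((u2 * u3) * (a * b)) := by rw [h1', (hab (u2 * u3)).eq]
      _ = s * ((u2 * u3) * (u2 * u3)) * (a * b) := by group
      _ = s * a * (a * b) := by rw [e23]
      _ = s * (a * a) * b := by group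
      _ = s * b := by rw [ha2', mul_one]
  have e0123 : u0 * u1 * u2 * u3 * (u0 * u1 * u2 * u3) = a * b := by
    have k : u1 * u2 * u3 * u0 = u0 * (u1 * u2 * u3) * a := by
      calc u1 * u2 * u3 * u0 = u1 * u2 * (u3 * u0) := by group
        _ = u1 * u2 * (u0 * u3 * b) := by rw [c03]
        _ = u1 * (u2 * u0) * u3 * b := by group
        _ = u1 * (u0 * u2 * b) * u3 * b := by rw [c02]
        _ = (u1 * u0) * u2 * (b * u3) * b := by group
        _ = (u0 * u1 * a) * u2 * (u3 * b) * b := by rw [c01, (hb u3).eq]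
        _ = u0 * u1 * (a * u2) * u3 * (b * b) := by group
        _ = u0 * u1 * (u2 * a) * u3 * 1 := by rw [(ha u2).eq, hb2']
        _ = u0 * u1 * u2 * (a * u3) := by group
        _ = u0 * u1 * u2 * (u3 * a) := by rw [(ha u3).eq]
        _ = u0 * (u1 * u2 * u3) * a := by group
    calc u0 * u1 * u2 * u3 * (u0 * u1 * u2 * u3)
        = u0 * (u1 * u2 * u3 * u0) * (u1 * u2 * u3) := by group
      _ = u0 * (u0 * (u1 * u2 * u3) * a) * (u1 * u2 * u3) := by rw [k]
      _ = (u0 * u0) * (u1 * u2 * u3) * (a * (u1 * u2 * u3)) := by group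
      _ = s * (u1 * u2 * u3) * ((u1 * u2 * u3) * a) := by rw [h0', (ha (u1 * u2 * u3)).eq]
      _ = s * ((u1 * u2 * u3) * (u1 * u2 * u3)) * a := by group
      _ = s * (s * b) * a := by rw [e123]
      _ = (s * s) * (b * a) := by group
      _ = a * b := by rw [hs2', one_mul, (hb a).eq]
  have hu4 : u4 = (u0 * u1 * u2 * u3)⁻¹ := eq_inv_of_mul_eq_one_right hprod
  have habsq : a * b * (a * b) = 1 := by
    calc a * b * (a * b) = a * (b * a) * b := by group
      _ = a * (a * b) * b := by rw [(hb a).eq]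
      _ = (a * a) * (b * b) := by group
      _ = 1 := by rw [ha2', hb2', one_mul]
  calc s = u4 * u4 := h4'.symm
    _ = (u0 * u1 * u2 * u3 * (u0 * u1 * u2 * u3))⁻¹ := by rw [hu4]; group
    _ = (a * b)⁻¹ := by rw [e0123]
    _ = a * b := inv_eq_of_mul_eq_one_left habsq

end Cfsg.Agent.Lib.helper16.U34C
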