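import Mathlib
import Cfsg.Agent.Lib.helper24.SfoDefs

/-! S5981 split (architect helper24), piece OSTAB: the stabiliser of an anisotropic vector in the
isometry group of a nondegenerate quadratic form is the isometry group of the restriction to the
orthogonal complement. -/

set_option autoImplicit false

namespace Cfsg.Agent.Lib.helper24

open Module Matrix Cfsg.Geo

/-- a linear isometry of a nondegenerate quadratic form is injective -/
theorem helper71_isom_injective {F : Type*} [Field F] {n : ℕ} (Q : (Fin n → F) → F)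
    (hQ : IsNondegenerateQuadraticForm Q) (l : (Fin n → F) →ₗ[F] (Fin n → F))
    (hl : ∀ x, Q (l x) = Q x) : Function.Injective l := by
  rw [injective_iff_map_eq_zero]
  intro x hx
  by_contra hne
  obtain ⟨⟨y, hy⟩, _⟩ := hQ.nondegenerate x hne
  apply hy
  have hQ0 : Q 0 = 0 := by simpa using hQ.smul 0 0
  have e1 : Q (y + x) = Q y := by
    rw [← hl (y + x), map_add, hx, add_zero, hl]
  have e2 : Q x = 0 := by rw [← hl x, hx, hQ0]
  unfold QuadraticMap.polar
  rw [e1, e2]
  ring

/-- a `GL` element from an injective linear map -/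
theorem helper71_exists_gl {F : Type*} [Field F] {n : ℕ} (l : (Fin n → F) →ₗ[F] (Fin n → F))
    (hl : Function.Injective l) :
    ∃ g : GL (Fin n) F, ∀ x, (g : Matrix (Fin n) (Fin n) F) *ᵥ x = l x := by
  have hA : IsUnit (LinearMap.toMatrix' l) := by
    rw [← Matrix.mulVec_injective_iff_isUnit]
    intro x y hxy
    rw [LinearMap.toMatrix'_mulVec, LinearMap.toMatrix'_mulVec] at hxy
    exact hl hxy
  exact ⟨hA.unit, fun x => by rw [IsUnit.unit_spec, LinearMap.toMatrix'_mulVec]⟩

/-- OSTAB -/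
theorem sfo_isom_stab {F : Type*} [Field F] [Fintype F] {m : ℕ} (h2 : (2 : F) ≠ 0)
    (Q : (Fin (m + 1) → F) → F) (hQ : IsNondegenerateQuadraticForm Q) (v : Fin (m + 1) → F)
    (hv : Q v ≠ 0) :
    ∃ Q' : (Fin m → F) → F, IsNondegenerateQuadraticForm Q' ∧
      Nat.card {g : GL (Fin (m + 1)) F // g ∈ sfoIsom Q ∧
        (g : Matrix (Fin (m + 1)) (Fin (m + 1)) F) *ᵥ v = v} = Nat.card (sfoIsom Q') := by
  classical
  have hB := hQ.polar_bilinear
  have hsymm : ∀ x y, QuadraticMap.polar Q x y = QuadraticMap.polar Q y x :=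
    QuadraticMap.polar_comm Q
  have hadd : ∀ x y, Q (x + y) = Q x + Q y + QuadraticMap.polar Q x y := by
    intro x y; unfold QuadraticMap.polar; ring
  have hvv : QuadraticMap.polar Q v v = 2 * Q v := by
    unfold QuadraticMap.polar
    have e : v + v = (2 : F) • v := (two_smul F v).symm
    rw [e, hQ.smul]; ring
  have hvv0 : QuadraticMap.polar Q v v ≠ 0 := by rw [hvv]; exact mul_ne_zero h2 hv
  -- the functional `x ↦ B x v`
  obtain ⟨f, hf⟩ : ∃ f : (Fin (m + 1) → F) →ₗ[F] F, ∀ x, f x = QuadraticMap.polar Q x v :=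
    ⟨{ toFun := fun x => QuadraticMap.polar Q x v
       map_add' := fun x y => hB.add_left x y v
       map_smul' := fun c x => by simpa using hB.smul_left c x v }, fun x => rfl⟩
  have hfv : f v ≠ 0 := by rw [hf]; exact hvv0
  have hrank : finrank F (LinearMap.ker f) = m := by
    have h1 := LinearMap.finrank_range_add_finrank_ker f
    have h2' : LinearMap.range f = ⊤ := by
      rw [LinearMap.range_eq_top]
      intro c
      refine ⟨(c / f v) • v, ?_⟩
      rw [map_smul, smul_eq_mul, div_mul_cancel₀ _ hfv]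
    rw [h2', finrank_top, Module.finrank_self, Module.finrank_fin_fun] at h1
    omega
  obtain ⟨e₀⟩ : Nonempty ((Fin m → F) ≃ₗ[F] (LinearMap.ker f)) :=
    ⟨LinearEquiv.ofFinrankEq _ _ (by rw [Module.finrank_fin_fun, hrank])⟩
  have hW : ∀ w : LinearMap.ker f, QuadraticMap.polar Q (w : Fin (m + 1) → F) v = 0 := by
    intro w
    rw [← hf]
    exact LinearMap.mem_ker.1 w.2
  -- the projection onto `v^⊥`
  obtain ⟨π, hπ⟩ : ∃ π : (Fin (m + 1) → F) →ₗ[F] (LinearMap.ker f),
      ∀ x, ((π x : LinearMap.ker f) : Fin (m + 1) → F) = x - (f x / f v) • v := by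
    refine ⟨LinearMap.codRestrict (LinearMap.ker f)
      (LinearMap.id - f.smulRight ((f v)⁻¹ • v)) ?_, ?_⟩
    · intro x
      rw [LinearMap.mem_ker, LinearMap.sub_apply, LinearMap.id_apply, LinearMap.smulRight_apply,
        map_sub, map_smul, map_smul, smul_eq_mul, smul_eq_mul, inv_mul_cancel₀ hfv, mul_one,
        sub_self]
    · intro x
      rw [LinearMap.codRestrict_apply, LinearMap.sub_apply, LinearMap.id_apply,
        LinearMap.smulRight_apply, smul_smul, div_eq_mul_inv]
  have hdec : ∀ x, x = (f x / f v) • v + ((π x : LinearMap.ker f) : Fin (m + 1) → F) := by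
    intro x
    rw [hπ]
    abel
  have hkey : ∀ (c : F) (w : LinearMap.ker f),
      Q (c • v + (w : Fin (m + 1) → F)) = c ^ 2 * Q v + Q (w : Fin (m + 1) → F) := by
    intro c w
    rw [hadd, hQ.smul, hB.smul_left, hsymm, hW, mul_zero, add_zero]
  obtain ⟨Q', hQ'def⟩ : ∃ Q' : (Fin m → F) → F, ∀ y, Q' y = Q (e₀ y : Fin (m + 1) → F) :=
    ⟨_, fun y => rfl⟩
  have hpol : ∀ y z : Fin m → F, QuadraticMap.polar Q' y z =
      QuadraticMap.polar Q (e₀ y : Fin (m + 1) → F) (e₀ z : Fin (m + 1) → F) := by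
    intro y z
    unfold QuadraticMap.polar
    rw [hQ'def, hQ'def, hQ'def, map_add, Submodule.coe_add]
  have hQ' : IsNondegenerateQuadraticForm Q' := by
    refine ⟨?_, ⟨?_, ?_, ?_, ?_⟩, ?_⟩
    · intro c y
      rw [hQ'def, hQ'def, map_smul, Submodule.coe_smul, hQ.smul]
    · intro x y z
      rw [hpol, hpol, hpol, map_add, Submodule.coe_add, hB.add_left]
    · intro c x z
      rw [hpol, hpol, map_smul, Submodule.coe_smul, hB.smul_left]
    · intro z x y
      rw [hpol, hpol, hpol, map_add, Submodule.coe_add, hB.add_right]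
    · intro c z x
      rw [hpol, hpol, map_smul, Submodule.coe_smul, hB.smul_right]
    · intro y hy
      have hw : (e₀ y : Fin (m + 1) → F) ≠ 0 := by
        intro h
        apply hy
        have h' : e₀ y = 0 := Subtype.ext h
        exact e₀.map_eq_zero_iff.1 h'
      obtain ⟨⟨x, hx⟩, _⟩ := hQ.nondegenerate _ hw
      have e1 : QuadraticMap.polar Q x (e₀ y : Fin (m + 1) → F) =
          QuadraticMap.polar Q ((π x : LinearMap.ker f) : Fin (m + 1) → F)
            (e₀ y : Fin (m + 1) → F) := by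
        conv_lhs => rw [hdec x]
        rw [hB.add_left, hB.smul_left, hsymm v, hW, mul_zero, zero_add]
      have hwit : QuadraticMap.polar Q' (e₀.symm (π x)) y ≠ 0 := by
        rw [hpol, LinearEquiv.apply_symm_apply, ← e1]; exact hx
      refine ⟨⟨e₀.symm (π x), hwit⟩, ⟨e₀.symm (π x), ?_⟩⟩
      rw [QuadraticMap.polar_comm]; exact hwit
  refine ⟨Q', hQ', ?_⟩
  have hΨ : ∀ g' : sfoIsom Q',
      ∃ g : {g : GL (Fin (m + 1)) F // g ∈ sfoIsom Q ∧
        (g : Matrix (Fin (m + 1)) (Fin (m + 1)) F) *ᵥ v = v},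
        ∀ x, (g.1 : Matrix (Fin (m + 1)) (Fin (m + 1)) F) *ᵥ x =
          (f x / f v) • v + ((e₀ ((g'.1 : Matrix (Fin m) (Fin m) F) *ᵥ (e₀.symm (π x))) :
            LinearMap.ker f) : Fin (m + 1) → F) := by
    intro g'
    obtain ⟨l, hl⟩ : ∃ l : (Fin (m + 1) → F) →ₗ[F] (Fin (m + 1) → F), ∀ x, l x =
        (f x / f v) • v + ((e₀ ((g'.1 : Matrix (Fin m) (Fin m) F) *ᵥ (e₀.symm (π x))) :
            LinearMap.ker f) : Fin (m + 1) → F) := by
      refine ⟨f.smulRight ((f v)⁻¹ • v) + (LinearMap.ker f).subtype ∘ₗ e₀.toLinearMap ∘ₗ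
        Matrix.toLin' (g'.1 : Matrix (Fin m) (Fin m) F) ∘ₗ e₀.symm.toLinearMap ∘ₗ π, ?_⟩
      intro x
      rw [LinearMap.add_apply, LinearMap.smulRight_apply, smul_smul, div_eq_mul_inv]
      rfl
    have hg'Q : ∀ y, Q (e₀ ((g'.1 : Matrix (Fin m) (Fin m) F) *ᵥ y) : Fin (m + 1) → F) =
        Q (e₀ y : Fin (m + 1) → F) := by
      intro y
      rw [← hQ'def, ← hQ'def]
      exact g'.2 y
    have hiso : ∀ x, Q (l x) = Q x := by
      intro x
      rw [hl, hkey, hg'Q, LinearEquiv.apply_symm_apply, ← hkey, ← hdec]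
    have hlv : l v = v := by
      have hπv : π v = 0 := by
        apply Subtype.ext
        rw [hπ, div_self hfv, one_smul, sub_self]; rfl
      rw [hl, hπv, map_zero, Matrix.mulVec_zero, map_zero, div_self hfv, one_smul]
      simp
    obtain ⟨g, hg⟩ := helper71_exists_gl l (helper71_isom_injective Q hQ l hiso)
    refine ⟨⟨g, ?_, ?_⟩, ?_⟩
    · intro x
      show Q ((g : Matrix (Fin (m + 1)) (Fin (m + 1)) F) *ᵥ x) = Q x
      rw [hg, hiso]
    · rw [hg, hlv]
    · intro x
      rw [hg, hl]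
  choose Ψ hΨ' using hΨ
  have hbij : Function.Bijective Ψ := by
    constructor
    · intro g₁ g₂ h12
      apply Subtype.ext
      apply Units.ext
      rw [Matrix.ext_iff_mulVec]
      intro y
      have hfy : f (e₀ y : Fin (m + 1) → F) = 0 := LinearMap.mem_ker.1 (e₀ y).2
      have hπy : π (e₀ y : Fin (m + 1) → F) = e₀ y := by
        apply Subtype.ext
        rw [hπ, hfy, zero_div, zero_smul, sub_zero]
      have h1 := hΨ' g₁ (e₀ y : Fin (m + 1) → F)
      have h2 := hΨ' g₂ (e₀ y : Fin (m + 1) → F)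
      rw [hfy, zero_div, zero_smul, zero_add, hπy, LinearEquiv.symm_apply_apply] at h1 h2
      rw [h12, h2] at h1
      exact e₀.injective (Subtype.ext h1.symm)
    · intro g
      obtain ⟨hgQ, hgv⟩ := g.2
      have hgQ' : ∀ x, Q ((g.1 : Matrix (Fin (m + 1)) (Fin (m + 1)) F) *ᵥ x) = Q x := hgQ
      have hgB : ∀ x y, QuadraticMap.polar Q
          ((g.1 : Matrix (Fin (m + 1)) (Fin (m + 1)) F) *ᵥ x)
          ((g.1 : Matrix (Fin (m + 1)) (Fin (m + 1)) F) *ᵥ y) = QuadraticMap.polar Q x y := by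
        intro x y
        unfold QuadraticMap.polar
        rw [← Matrix.mulVec_add, hgQ', hgQ', hgQ']
      have hgW : ∀ w ∈ LinearMap.ker f,
          Matrix.toLin' (g.1 : Matrix (Fin (m + 1)) (Fin (m + 1)) F) w ∈ LinearMap.ker f := by
        intro w hw
        rw [LinearMap.mem_ker, hf, Matrix.toLin'_apply]
        have e : QuadraticMap.polar Q ((g.1 : Matrix (Fin (m + 1)) (Fin (m + 1)) F) *ᵥ w) v =
            QuadraticMap.polar Q ((g.1 : Matrix (Fin (m + 1)) (Fin (m + 1)) F) *ᵥ w)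
              ((g.1 : Matrix (Fin (m + 1)) (Fin (m + 1)) F) *ᵥ v) := by rw [hgv]
        rw [e, hgB, ← hf]
        exact LinearMap.mem_ker.1 hw
      obtain ⟨l', hl'⟩ : ∃ l' : (Fin m → F) →ₗ[F] (Fin m → F), ∀ y,
          ((e₀ (l' y) : LinearMap.ker f) : Fin (m + 1) → F) =
            (g.1 : Matrix (Fin (m + 1)) (Fin (m + 1)) F) *ᵥ (e₀ y : Fin (m + 1) → F) := by
        refine ⟨e₀.symm.toLinearMap ∘ₗ
          (Matrix.toLin' (g.1 : Matrix (Fin (m + 1)) (Fin (m + 1)) F)).restrict hgW ∘ₗ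
          e₀.toLinearMap, ?_⟩
        intro y
        rw [LinearMap.comp_apply, LinearMap.comp_apply, LinearEquiv.coe_coe, LinearEquiv.coe_coe,
          LinearEquiv.apply_symm_apply, LinearMap.coe_restrict_apply, Matrix.toLin'_apply]
      have hiso' : ∀ y, Q' (l' y) = Q' y := by
        intro y; rw [hQ'def, hQ'def, hl', hgQ']
      obtain ⟨g', hg'⟩ := helper71_exists_gl l' (helper71_isom_injective Q' hQ' l' hiso')
      have hg'mem : g' ∈ sfoIsom Q' := by
        intro y
        show Q' ((g' : Matrix (Fin m) (Fin m) F) *ᵥ y) = Q' y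
        rw [hg', hiso']
      refine ⟨⟨g', hg'mem⟩, ?_⟩
      apply Subtype.ext
      apply Units.ext
      rw [Matrix.ext_iff_mulVec]
      intro x
      rw [hΨ']
      dsimp only
      rw [hg', hl', LinearEquiv.apply_symm_apply]
      conv_rhs => rw [hdec x]
      rw [Matrix.mulVec_add, Matrix.mulVec_smul, hgv]
  exact (Nat.card_eq_of_bijective Ψ hbij).symm

end Cfsg.Agent.Lib.helper24
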