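import Mathlib

set_option autoImplicit false

namespace Cfsg.Agent.Lib.helper2

open Matrix

/-- A finite-dimensional `F`-space with a compatible `K'`-structure has `K'`-coordinates. -/
theorem helper71_phi_aux {F : Type*} [Field F] (K' : Type*) [Field K'] [Algebra F K']
    (W : Type*) [AddCommGroup W] [Module F W] [Module.Finite F W] [Module K' W]
    [IsScalarTower F K' W] (d : ℕ) (h : Module.finrank F W = Module.finrank F K' * d)
    (hpos : 0 < Module.finrank F K') :
    ∃ Φ : (Fin d → K') ≃+ W, ∀ (z : K') (k : Fin d → K'), Φ (z • k) = z • Φ k := by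
  haveI : Module.Finite K' W := Module.Finite.of_restrictScalars_finite F K' W
  have h1 : Module.finrank F K' * Module.finrank K' W = Module.finrank F W :=
    Module.finrank_mul_finrank F K' W
  have h2 : Module.finrank K' W = d := by
    rw [h] at h1
    exact Nat.eq_of_mul_eq_mul_left hpos h1
  have h3 : Module.finrank K' (Fin d → K') = Module.finrank K' W := by
    rw [Module.finrank_fin_fun, h2]
  obtain ⟨e⟩ := FiniteDimensional.nonempty_linearEquiv_of_finrank_eq h3
  exact ⟨e.toAddEquiv, fun z k => e.map_smul z k⟩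

theorem helper71_kk {F : Type*} [Field F] {ι : Type} [Fintype ι] [DecidableEq ι] (δ : F)
    (κ : Matrix ι ι F) (hκ : κ * κ = δ • (1 : Matrix ι ι F)) (v : ι → F) :
    κ *ᵥ (κ *ᵥ v) = δ • v := by
  rw [Matrix.mulVec_mulVec, hκ, Matrix.smul_mulVec, Matrix.one_mulVec]

/-- The `F[√δ]`-module structure on `ι → F` given by a matrix `κ` with `κ² = δ`. -/
def helper71_qmod {F : Type*} [Field F] {ι : Type} [Fintype ι] [DecidableEq ι] (δ : F)
    (κ : Matrix ι ι F) (hκ : κ * κ = δ • (1 : Matrix ι ι F)) :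
    Module (QuadraticAlgebra F δ 0) (ι → F) where
  smul z v := z.re • v + z.im • (κ *ᵥ v)
  one_smul v := by
    show (1 : QuadraticAlgebra F δ 0).re • v + (1 : QuadraticAlgebra F δ 0).im • (κ *ᵥ v) = v
    rw [QuadraticAlgebra.re_one, QuadraticAlgebra.im_one, one_smul, zero_smul, add_zero]
  mul_smul z w v := by
    show (z * w).re • v + (z * w).im • (κ *ᵥ v)
      = z.re • (w.re • v + w.im • (κ *ᵥ v)) + z.im • (κ *ᵥ (w.re • v + w.im • (κ *ᵥ v)))
    rw [Matrix.mulVec_add, Matrix.mulVec_smul, Matrix.mulVec_smul, helper71_kk δ κ hκ]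
    rw [QuadraticAlgebra.re_mul, QuadraticAlgebra.im_mul]
    ext i
    simp only [Pi.add_apply, Pi.smul_apply, smul_eq_mul]
    ring
  smul_zero z := by
    show z.re • (0 : ι → F) + z.im • (κ *ᵥ (0 : ι → F)) = 0
    rw [Matrix.mulVec_zero, smul_zero, smul_zero, add_zero]
  smul_add z v w := by
    show z.re • (v + w) + z.im • (κ *ᵥ (v + w))
      = (z.re • v + z.im • (κ *ᵥ v)) + (z.re • w + z.im • (κ *ᵥ w))
    rw [Matrix.mulVec_add, smul_add, smul_add]
    abel
  add_smul z w v := by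
    show (z + w).re • v + (z + w).im • (κ *ᵥ v)
      = (z.re • v + z.im • (κ *ᵥ v)) + (w.re • v + w.im • (κ *ᵥ v))
    rw [QuadraticAlgebra.re_add, QuadraticAlgebra.im_add, add_smul, add_smul]
    abel
  zero_smul v := by
    show (0 : QuadraticAlgebra F δ 0).re • v + (0 : QuadraticAlgebra F δ 0).im • (κ *ᵥ v) = 0
    rw [QuadraticAlgebra.re_zero, QuadraticAlgebra.im_zero, zero_smul, zero_smul, add_zero]

/-- PHI (verbatim statement, prefixed name). -/
theorem helper71_qfc_phi {F : Type*} [Field F] {ι : Type} [Fintype ι] [DecidableEq ι]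
    (δ : F) [Fact (∀ r : F, r ^ 2 ≠ δ + 0 * r)] (κ : Matrix ι ι F)
    (hκ : κ * κ = δ • (1 : Matrix ι ι F)) (d : ℕ) (hd : Fintype.card ι = 2 * d) :
    ∃ Φ : (Fin d → QuadraticAlgebra F δ 0) ≃+ (ι → F),
      ∀ (z : QuadraticAlgebra F δ 0) (k : Fin d → QuadraticAlgebra F δ 0),
        Φ (z • k) = z.re • Φ k + z.im • (κ *ᵥ Φ k) := by
  letI inst : Module (QuadraticAlgebra F δ 0) (ι → F) := helper71_qmod δ κ hκ
  haveI tower : IsScalarTower F (QuadraticAlgebra F δ 0) (ι → F) := ⟨fun a z v => by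
    show (a • z).re • v + (a • z).im • (κ *ᵥ v) = a • (z.re • v + z.im • (κ *ᵥ v))
    rw [QuadraticAlgebra.re_smul, QuadraticAlgebra.im_smul, smul_add, smul_smul, smul_smul]
    rfl⟩
  have hfin : Module.finrank F (ι → F) = Module.finrank F (QuadraticAlgebra F δ 0) * d := by
    rw [Module.finrank_fintype_fun_eq_card, QuadraticAlgebra.finrank_eq_two, hd]
  obtain ⟨Φ, hΦ⟩ := @helper71_phi_aux F _ (QuadraticAlgebra F δ 0) _ _ (ι → F) _ _ _ inst tower d
    hfin (by rw [QuadraticAlgebra.finrank_eq_two]; norm_num)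
  exact ⟨Φ, fun z k => hΦ z k⟩

/-- PHI -/
theorem qfc_phi {F : Type*} [Field F] {ι : Type} [Fintype ι] [DecidableEq ι]
    (δ : F) [Fact (∀ r : F, r ^ 2 ≠ δ + 0 * r)] (κ : Matrix ι ι F)
    (hκ : κ * κ = δ • (1 : Matrix ι ι F)) (d : ℕ) (hd : Fintype.card ι = 2 * d) :
    ∃ Φ : (Fin d → QuadraticAlgebra F δ 0) ≃+ (ι → F),
      ∀ (z : QuadraticAlgebra F δ 0) (k : Fin d → QuadraticAlgebra F δ 0),
        Φ (z • k) = z.re • Φ k + z.im • (κ *ᵥ Φ k) :=
  helper71_qfc_phi δ κ hκ d hd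

end Cfsg.Agent.Lib.helper2

#print axioms Cfsg.Agent.Lib.helper2.qfc_phi
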