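import Mathlib
import Cfsg.Prelude.Def_LocalStructure
import Cfsg.Agent.Lib.helper21.BRLDefs

set_option autoImplicit false

/-!
# S3875 piece B5: the minimal normal `p'`-subgroup of a minimal non-`p`-closed group is an
abelian `r`-group
-/

namespace Cfsg.Agent.Lib.helper21.BRL

open Cfsg Subgroup
open scoped Pointwise

/-- `K` normalizes `W` as soon as all conjugates by elements of `K` stay in `W`. -/
theorem h71brl_le_normalizer {H : Type*} [Group H] {K W : Subgroup H}
    (h : ∀ k ∈ K, ∀ v ∈ W, k * v * k⁻¹ ∈ W) : K ≤ normalizer (W : Set H) := by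
  intro k hk
  rw [mem_normalizer_iff]
  intro v
  constructor
  · intro hv
    exact h k hk v hv
  · intro hv
    have h1 := h k⁻¹ (K.inv_mem hk) _ hv
    have h2 : k⁻¹ * (k * v * k⁻¹) * k⁻¹⁻¹ = v := by group
    rw [h2] at h1
    exact h1

/-- A `p'`-subgroup meets a Sylow `p`-subgroup trivially. -/
theorem h71brl_inf_bot {H : Type*} [Group H] [Finite H] (p : ℕ) [Fact p.Prime]
    (N : Subgroup H) (hpN : ¬ p ∣ Nat.card N) (P : Sylow p H) :
    N ⊓ (P : Subgroup H) = ⊥ := by
  have hpp : p.Prime := Fact.out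
  apply disjoint_iff.mp
  apply Subgroup.disjoint_of_coprime_natCard
  obtain ⟨k, hk⟩ := IsPGroup.iff_card.mp P.isPGroup'
  rw [hk]
  exact Nat.Coprime.pow_right k ((Nat.Prime.coprime_iff_not_dvd hpp).mpr hpN).symm

/-- A `p`-subgroup `P` normalizing... : a Sylow `p`-subgroup `P` has an invariant Sylow
`r`-subgroup in every normal `p'`-subgroup `N`. -/
theorem h71brl_invariant_sylow {H : Type*} [Group H] [Finite H] (p : ℕ) [Fact p.Prime]
    (N : Subgroup H) (hN : N.Normal) (hpN : ¬ p ∣ Nat.card N) (P : Sylow p H)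
    (r : ℕ) (hr : r.Prime) :
    ∃ R' : Subgroup H, R' ≤ N ∧ Nat.card R' = r ^ (Nat.card N).factorization r ∧
      (P : Subgroup H) ≤ normalizer (R' : Set H) := by
  have : Fact r.Prime := ⟨hr⟩
  let φ : (P : Subgroup H) →* MulAut N :=
    (MulAut.conjNormal (H := N)).comp (P : Subgroup H).subtype
  let _inst : MulDistribMulAction (P : Subgroup H) N := MulDistribMulAction.compHom N φ
  have hnd : ¬ p ∣ Nat.card (Sylow r N) := by
    obtain ⟨R0⟩ := (Sylow.nonempty : Nonempty (Sylow r N))
    intro hd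
    exact hpN ((hd.trans R0.card_dvd_index).trans (Subgroup.index_dvd_card _))
  obtain ⟨R, hR⟩ :=
    (P.isPGroup').nonempty_fixed_point_of_prime_not_dvd_card (Sylow r N) hnd
  refine ⟨(R : Subgroup N).map N.subtype, ?_, ?_, ?_⟩
  · rintro _ ⟨w, _, rfl⟩
    exact w.2
  · rw [Subgroup.card_map_of_injective N.subtype_injective]
    exact R.card_eq_multiplicity
  · apply h71brl_le_normalizer
    intro y hy v hv
    obtain ⟨w, hw, rfl⟩ := hv
    have h1 : ((⟨y, hy⟩ : (P : Subgroup H)) • R : Sylow r N) = R := hR ⟨y, hy⟩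
    have h2 : ((⟨y, hy⟩ : (P : Subgroup H)) • w : N) ∈
        ((⟨y, hy⟩ : (P : Subgroup H)) • (R : Subgroup N)) :=
      Subgroup.smul_mem_pointwise_smul w _ _ hw
    rw [← Sylow.pointwise_smul_def, h1] at h2
    exact ⟨_, h2, rfl⟩

/-- B5 -/
theorem abelian_rgroup {H : Type*} [Group H] [Finite H] (p : ℕ) [Fact p.Prime] (h : MinBad p H)
    (N : Subgroup H) (hN : N.Normal) (hN1 : N ≠ ⊥)
    (hmin : ∀ B : Subgroup H, B.Normal → B ≤ N → B = ⊥ ∨ B = N) (hpN : ¬ p ∣ Nat.card N)
    (P : Sylow p H) (hP : ¬ (P : Subgroup H).Normal) (hsup : N ⊔ (P : Subgroup H) = ⊤) :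
    IsPrimePow (Nat.card N) ∧ ∀ a ∈ N, ∀ b ∈ N, a * b = b * a := by
  have hpp : p.Prime := Fact.out
  have hNP : N ⊓ (P : Subgroup H) = ⊥ := h71brl_inf_bot p N hpN P
  -- an invariant subgroup of `N` is `N` or is centralized by `P`
  have step : ∀ R' : Subgroup H, R' ≤ N → R' ≠ ⊥ →
      (P : Subgroup H) ≤ normalizer (R' : Set H) →
      R' = N ∨ R' ≤ centralizer ((P : Subgroup H) : Set H) := by
    intro R' hR'N hR'1 hnorm
    by_cases hK : R' ⊔ (P : Subgroup H) = ⊤
    · left
      have hn : R'.Normal := by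
        rw [← Subgroup.normalizer_eq_top_iff, eq_top_iff, ← hK]
        exact sup_le Subgroup.le_normalizer hnorm
      rcases hmin R' hn hR'N with h1 | h1
      · exact absurd h1 hR'1
      · exact h1
    · right
      have hcl := h.sub _ hK
      have hQ := hcl (P.subtype (le_sup_right : (P : Subgroup H) ≤ R' ⊔ (P : Subgroup H)))
      rw [Sylow.coe_subtype] at hQ
      intro x hx
      rw [mem_centralizer_iff]
      intro y hy
      have hxK : x ∈ R' ⊔ (P : Subgroup H) := (le_sup_left : R' ≤ _) hx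
      have hyK : y ∈ R' ⊔ (P : Subgroup H) := (le_sup_right : (P : Subgroup H) ≤ _) hy
      have h1 := hQ.conj_mem ⟨y, hyK⟩ (Subgroup.mem_subgroupOf.mpr hy) ⟨x, hxK⟩
      have h1' : x * y * x⁻¹ ∈ (P : Subgroup H) := Subgroup.mem_subgroupOf.mp h1
      have h2 : y * x⁻¹ * y⁻¹ ∈ R' := by
        have h3 := hnorm hy
        rw [mem_normalizer_iff] at h3
        exact (h3 x⁻¹).mp (R'.inv_mem hx)
      have hc1 : x * y * x⁻¹ * y⁻¹ ∈ (P : Subgroup H) :=
        (P : Subgroup H).mul_mem h1' ((P : Subgroup H).inv_mem hy)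
      have hc2 : x * y * x⁻¹ * y⁻¹ ∈ N := by
        have : x * y * x⁻¹ * y⁻¹ = x * (y * x⁻¹ * y⁻¹) := by group
        rw [this]
        exact hR'N (R'.mul_mem hx h2)
      have hc : x * y * x⁻¹ * y⁻¹ ∈ N ⊓ (P : Subgroup H) := ⟨hc2, hc1⟩
      rw [hNP, Subgroup.mem_bot] at hc
      have : x * y = x * y * x⁻¹ * y⁻¹ * (y * x) := by group
      rw [this, hc, one_mul]
  -- some invariant Sylow subgroup is all of `N`
  have hex : ∃ r : ℕ, r.Prime ∧ Nat.card N = r ^ (Nat.card N).factorization r := by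
    by_contra hcon
    push Not at hcon
    have hNC : N ≤ centralizer ((P : Subgroup H) : Set H) := by
      have hC : N ⊓ centralizer ((P : Subgroup H) : Set H) = N := by
        apply Subgroup.eq_of_le_of_card_ge inf_le_left
        apply Nat.le_of_dvd Nat.card_pos
        rw [← Nat.factorization_prime_le_iff_dvd Nat.card_pos.ne' Nat.card_pos.ne']
        intro r hr
        obtain ⟨R', hR'N, hcard, hnorm⟩ := h71brl_invariant_sylow p N hN hpN P r hr
        rw [← Nat.Prime.pow_dvd_iff_le_factorization hr Nat.card_pos.ne']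
        by_cases h0 : (Nat.card N).factorization r = 0
        · rw [h0, pow_zero]
          exact one_dvd _
        · have hR'1 : R' ≠ ⊥ := by
            intro hb
            rw [hb, Subgroup.card_bot] at hcard
            have := Nat.one_lt_pow h0 hr.one_lt
            omega
          rcases step R' hR'N hR'1 hnorm with h1 | h1
          · exact absurd (h1 ▸ hcard) (hcon r hr)
          · rw [← hcard]
            exact Subgroup.card_dvd_of_le (le_inf hR'N h1)
      rw [← hC]
      exact inf_le_right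
    apply hP
    rw [← Subgroup.normalizer_eq_top_iff, eq_top_iff, ← hsup]
    exact sup_le (hNC.trans (Subgroup.centralizer_le_normalizer _)) Subgroup.le_normalizer
  obtain ⟨r, hr, hcard⟩ := hex
  have : Fact r.Prime := ⟨hr⟩
  have hk0 : (Nat.card N).factorization r ≠ 0 := by
    intro h0
    rw [h0, pow_zero] at hcard
    exact hN1 (Subgroup.card_eq_one.mp hcard)
  refine ⟨(isPrimePow_nat_iff _).mpr ⟨r, _, hr, Nat.pos_of_ne_zero hk0, hcard.symm⟩, ?_⟩
  -- the centre of `N`
  have hNp : IsPGroup r N := IsPGroup.of_card hcard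
  have : Nontrivial N := by
    rw [← Subgroup.nontrivial_iff_ne_bot] at hN1
    exact hN1
  have hZ1 : Nontrivial (Subgroup.center N) := hNp.center_nontrivial
  have hZn : ((Subgroup.center N).map N.subtype).Normal := inferInstance
  have hZle : (Subgroup.center N).map N.subtype ≤ N := by
    rintro _ ⟨w, _, rfl⟩
    exact w.2
  rcases hmin _ hZn hZle with h1 | h1
  · exfalso
    have h2 : Subgroup.center N = ⊥ :=
      (Subgroup.map_eq_bot_iff_of_injective _ N.subtype_injective).mp h1
    exact (Subgroup.nontrivial_iff_ne_bot _).mp hZ1 h2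
  · intro a ha b hb
    have ha' : a ∈ (Subgroup.center N).map N.subtype := by
      rw [h1]
      exact ha
    obtain ⟨w, hw, rfl⟩ := ha'
    have h3 := (Subgroup.mem_center_iff.mp hw) ⟨b, hb⟩
    have h4 := congrArg (fun z : N => (z : H)) h3
    exact h4.symm

end Cfsg.Agent.Lib.helper21.BRL
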