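import Mathlib
import Cfsg.Prelude.Def_LocalStructure
import Cfsg.Agent.Lib.helper21.BRLDefs
import Cfsg.Agent.Lib.helper71.BRL_B5

set_option autoImplicit false

/-!
# S3875 piece B6: in a minimal non-`p`-closed group `H = N P` with `N` an abelian minimal
normal `p'`-subgroup, `|P| = p` and `|N| ≡ 1 (mod p)`
-/

namespace Cfsg.Agent.Lib.helper21.BRL

open Cfsg Subgroup
open scoped Pointwise

/-- A `p'`-subgroup meets a `p`-subgroup trivially. -/
theorem h71brl_inf_bot' {H : Type*} [Group H] [Finite H] (p : ℕ) [Fact p.Prime]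
    (N : Subgroup H) (hpN : ¬ p ∣ Nat.card N) (Q : Subgroup H) (hQ : IsPGroup p Q) :
    N ⊓ Q = ⊥ := by
  have hpp : p.Prime := Fact.out
  apply disjoint_iff.mp
  apply Subgroup.disjoint_of_coprime_natCard
  obtain ⟨k, hk⟩ := IsPGroup.iff_card.mp hQ
  rw [hk]
  exact Nat.Coprime.pow_right k ((Nat.Prime.coprime_iff_not_dvd hpp).mpr hpN).symm

/-- A normal `p`-subgroup lies in every Sylow `p`-subgroup. -/
theorem h71brl_normal_le_sylow {H : Type*} [Group H] [Finite H] (p : ℕ) [Fact p.Prime]
    (K : Subgroup H) (hK : K.Normal) (hKp : IsPGroup p K) (P : Sylow p H) :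
    K ≤ (P : Subgroup H) := by
  obtain ⟨Q, hQ⟩ := hKp.exists_le_sylow
  obtain ⟨g, hg⟩ := MulAction.exists_smul_eq H Q P
  intro k hk
  have h1 : g⁻¹ * k * g ∈ (Q : Subgroup H) := hQ (by simpa using hK.conj_mem k hk g⁻¹)
  have h2 : k ∈ ((g • Q : Sylow p H) : Subgroup H) := by
    rw [Sylow.coe_subgroup_smul, Subgroup.mem_pointwise_smul_iff_inv_smul_mem]
    simpa [MulAut.smul_def] using h1
  rw [hg] at h2
  exact h2

/-- (B1, own copy) a minimal non-`p`-closed group has no nontrivial normal `p`-subgroup. -/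
theorem h71brl_no_normal_pgroup {H : Type*} [Group H] [Finite H] (p : ℕ) [Fact p.Prime]
    (h : MinBad p H) (K : Subgroup H) (hK : K.Normal) (hKp : IsPGroup p K) : K = ⊥ := by
  by_contra hK1
  have hbad := h.bad
  unfold IsPClosed at hbad
  push Not at hbad
  obtain ⟨P, hP⟩ := hbad
  have hKP : K ≤ (P : Subgroup H) := h71brl_normal_le_sylow p K hK hKp P
  have hq := h.quot K hK1
  have hsurj : Function.Surjective (QuotientGroup.mk' K) := QuotientGroup.mk'_surjective K
  have hn := hq (P.mapSurjective hsurj)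
  rw [Sylow.coe_mapSurjective] at hn
  have hn2 := hn.comap (QuotientGroup.mk' K)
  rw [Subgroup.comap_map_eq, QuotientGroup.ker_mk', sup_eq_left.mpr hKP] at hn2
  exact hP hn2

/-- B6 -/
theorem card_mod_p {H : Type*} [Group H] [Finite H] (p : ℕ) [Fact p.Prime] (h : MinBad p H)
    (N : Subgroup H) (hN : N.Normal) (hN1 : N ≠ ⊥)
    (hmin : ∀ B : Subgroup H, B.Normal → B ≤ N → B = ⊥ ∨ B = N) (hpN : ¬ p ∣ Nat.card N)
    (hab : ∀ a ∈ N, ∀ b ∈ N, a * b = b * a)
    (P : Sylow p H) (hP : ¬ (P : Subgroup H).Normal) (hsup : N ⊔ (P : Subgroup H) = ⊤) :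
    Nat.card P = p ∧ Nat.card N % p = 1 := by
  have hpp : p.Prime := Fact.out
  have hNP : N ⊓ (P : Subgroup H) = ⊥ := h71brl_inf_bot p N hpN P
  -- `C_P(N) = 1`
  have hD : (P : Subgroup H) ⊓ centralizer (N : Set H) = ⊥ := by
    apply h71brl_no_normal_pgroup p h
    · rw [← Subgroup.normalizer_eq_top_iff, eq_top_iff, ← hsup]
      apply sup_le
      · apply h71brl_le_normalizer
        intro n hn d hd
        have h1 := (mem_centralizer_iff.mp hd.2) n hn
        have h2 : n * d * n⁻¹ = d := by rw [h1, mul_assoc, mul_inv_cancel, mul_one]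
        rw [h2]
        exact hd
      · apply h71brl_le_normalizer
        intro y hy d hd
        refine ⟨?_, ?_⟩
        · exact (P : Subgroup H).mul_mem ((P : Subgroup H).mul_mem hy hd.1)
            ((P : Subgroup H).inv_mem hy)
        · have hcn : (centralizer (N : Set H)).Normal := inferInstance
          exact hcn.conj_mem d hd.2 y
    · exact P.isPGroup'.to_le inf_le_left
  -- `P ≠ 1`
  have hP1 : (P : Subgroup H) ≠ ⊥ := by
    intro h0
    apply hP
    rw [h0]
    infer_instance
  have hpd : p ∣ Nat.card (P : Subgroup H) := by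
    obtain ⟨k, hk⟩ := IsPGroup.iff_card.mp P.isPGroup'
    rcases Nat.eq_zero_or_pos k with h0 | h0
    · exfalso
      rw [h0, pow_zero] at hk
      exact hP1 (Subgroup.card_eq_one.mp hk)
    · rw [hk]
      exact dvd_pow_self p h0.ne'
  obtain ⟨x, hx⟩ := exists_prime_orderOf_dvd_card' p hpd
  have hxo : orderOf (x : H) = p := by rw [Subgroup.orderOf_coe]; exact hx
  have hP0P : zpowers (x : H) ≤ (P : Subgroup H) := by
    rw [zpowers_le]
    exact x.2
  -- `N ⊔ ⟨x⟩ = ⊤`
  have hsup0 : N ⊔ zpowers (x : H) = ⊤ := by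
    by_contra hK
    have hcl := h.sub _ hK
    have hP0p : IsPGroup p ((zpowers (x : H)).subgroupOf (N ⊔ zpowers (x : H))) :=
      (P.isPGroup'.to_le hP0P).comap_subtype
    obtain ⟨Q, hQ⟩ := hP0p.exists_le_sylow
    have hQn := hcl Q
    have hQ'p : IsPGroup p ((Q : Subgroup (N ⊔ zpowers (x : H) : Subgroup H)).map
        (N ⊔ zpowers (x : H)).subtype) := Q.isPGroup'.map _
    have hNQ' := h71brl_inf_bot' p N hpN _ hQ'p
    have hxK : (x : H) ∈ N ⊔ zpowers (x : H) :=
      (le_sup_right : zpowers (x : H) ≤ _) (mem_zpowers _)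
    have hxQ : (⟨(x : H), hxK⟩ : (N ⊔ zpowers (x : H) : Subgroup H)) ∈
        (Q : Subgroup (N ⊔ zpowers (x : H) : Subgroup H)) :=
      hQ (Subgroup.mem_subgroupOf.mpr (mem_zpowers _))
    have hxc : (x : H) ∈ centralizer (N : Set H) := by
      rw [mem_centralizer_iff]
      intro n hn
      have hnK : n ∈ N ⊔ zpowers (x : H) := (le_sup_left : N ≤ _) hn
      have h1 := hQn.conj_mem ⟨(x : H), hxK⟩ hxQ ⟨n, hnK⟩
      have h2 := (Q : Subgroup (N ⊔ zpowers (x : H) : Subgroup H)).mul_mem h1
        ((Q : Subgroup (N ⊔ zpowers (x : H) : Subgroup H)).inv_mem hxQ)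
      have hc1 : n * (x : H) * n⁻¹ * (x : H)⁻¹ ∈
          (Q : Subgroup (N ⊔ zpowers (x : H) : Subgroup H)).map
            (N ⊔ zpowers (x : H)).subtype := ⟨_, h2, rfl⟩
      have hc2 : n * (x : H) * n⁻¹ * (x : H)⁻¹ ∈ N := by
        have : n * (x : H) * n⁻¹ * (x : H)⁻¹ = n * ((x : H) * n⁻¹ * (x : H)⁻¹) := by group
        rw [this]
        exact N.mul_mem hn (hN.conj_mem _ (N.inv_mem hn) _)
      have hc : n * (x : H) * n⁻¹ * (x : H)⁻¹ ∈ N ⊓
          (Q : Subgroup (N ⊔ zpowers (x : H) : Subgroup H)).map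
            (N ⊔ zpowers (x : H)).subtype := ⟨hc2, hc1⟩
      rw [hNQ', Subgroup.mem_bot] at hc
      have : n * (x : H) = n * (x : H) * n⁻¹ * (x : H)⁻¹ * ((x : H) * n) := by group
      rw [this, hc, one_mul]
    have hxD : (x : H) ∈ (P : Subgroup H) ⊓ centralizer (N : Set H) := ⟨x.2, hxc⟩
    rw [hD, Subgroup.mem_bot] at hxD
    rw [hxD, orderOf_one] at hxo
    exact hpp.one_lt.ne hxo
  -- `P = ⟨x⟩`
  have hPle : (P : Subgroup H) ≤ zpowers (x : H) := by
    intro y hy
    have hy' : y ∈ N ⊔ zpowers (x : H) := by rw [hsup0]; exact Subgroup.mem_top y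
    obtain ⟨n, hn, z, hz, hnz⟩ := (Subgroup.mem_sup_of_normal_left (hs := hN)).mp hy'
    have hn' : n ∈ N ⊓ (P : Subgroup H) := by
      refine ⟨hn, ?_⟩
      have : n = y * z⁻¹ := by rw [← hnz]; group
      rw [this]
      exact (P : Subgroup H).mul_mem hy ((P : Subgroup H).inv_mem (hP0P hz))
    rw [hNP, Subgroup.mem_bot] at hn'
    rw [hn', one_mul] at hnz
    rw [← hnz]
    exact hz
  have hPeq : (P : Subgroup H) = zpowers (x : H) := le_antisymm hPle hP0P
  have hcardP : Nat.card (P : Subgroup H) = p := by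
    rw [hPeq, Nat.card_zpowers, hxo]
  refine ⟨hcardP, ?_⟩
  -- `C_N(P) = 1`
  have hC : N ⊓ centralizer ((P : Subgroup H) : Set H) = ⊥ := by
    have hCn : (N ⊓ centralizer ((P : Subgroup H) : Set H)).Normal := by
      rw [← Subgroup.normalizer_eq_top_iff, eq_top_iff, ← hsup]
      apply sup_le
      · apply h71brl_le_normalizer
        intro n hn c hc
        have h1 := hab n hn c hc.1
        have h2 : n * c * n⁻¹ = c := by rw [h1, mul_assoc, mul_inv_cancel, mul_one]
        rw [h2]
        exact hc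
      · apply h71brl_le_normalizer
        intro y hy c hc
        have h1 := (mem_centralizer_iff.mp hc.2) y hy
        have h2 : y * c * y⁻¹ = c := by rw [h1, mul_assoc, mul_inv_cancel, mul_one]
        rw [h2]
        exact hc
    rcases hmin _ hCn inf_le_left with h1 | h1
    · exact h1
    · exfalso
      apply hP
      have hNC : N ≤ centralizer ((P : Subgroup H) : Set H) := by
        rw [← h1]
        exact inf_le_right
      rw [← Subgroup.normalizer_eq_top_iff, eq_top_iff, ← hsup]
      exact sup_le (hNC.trans (Subgroup.centralizer_le_normalizer _)) Subgroup.le_normalizer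
  -- `N_H(P) = P`
  have hnorm : normalizer ((P : Subgroup H) : Set H) = (P : Subgroup H) := by
    apply le_antisymm _ Subgroup.le_normalizer
    intro g hg
    have hg' : g ∈ N ⊔ (P : Subgroup H) := by rw [hsup]; exact Subgroup.mem_top g
    obtain ⟨n, hn, y, hy, hny⟩ := (Subgroup.mem_sup_of_normal_left (hs := hN)).mp hg'
    have hnn : n ∈ normalizer ((P : Subgroup H) : Set H) := by
      have : n = g * y⁻¹ := by rw [← hny]; group
      rw [this]
      exact (normalizer ((P : Subgroup H) : Set H)).mul_mem hg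
        ((normalizer ((P : Subgroup H) : Set H)).inv_mem (Subgroup.le_normalizer hy))
    have hnc : n ∈ N ⊓ centralizer ((P : Subgroup H) : Set H) := by
      refine Subgroup.mem_inf.mpr ⟨hn, ?_⟩
      rw [mem_centralizer_iff]
      intro z hz
      have h1 : n * z * n⁻¹ ∈ (P : Subgroup H) := by
        have h2 := hnn
        rw [mem_normalizer_iff] at h2
        exact (h2 z).mp hz
      have hc1 : n * z * n⁻¹ * z⁻¹ ∈ (P : Subgroup H) :=
        (P : Subgroup H).mul_mem h1 ((P : Subgroup H).inv_mem hz)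
      have hc2 : n * z * n⁻¹ * z⁻¹ ∈ N := by
        have : n * z * n⁻¹ * z⁻¹ = n * (z * n⁻¹ * z⁻¹) := by group
        rw [this]
        exact N.mul_mem hn (hN.conj_mem _ (N.inv_mem hn) _)
      have hc : n * z * n⁻¹ * z⁻¹ ∈ N ⊓ (P : Subgroup H) := ⟨hc2, hc1⟩
      rw [hNP, Subgroup.mem_bot] at hc
      have : z * n = (n * z * n⁻¹ * z⁻¹)⁻¹ * (n * z) := by group
      rw [this, hc, inv_one, one_mul]
    rw [hC, Subgroup.mem_bot] at hnc
    rw [hnc, one_mul] at hny
    rw [← hny]
    exact hy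
  -- counting Sylow subgroups
  have h1 : Nat.card (Sylow p H) ≡ 1 [MOD p] := card_sylow_modEq_one p H
  have h2 : Nat.card (Sylow p H) = (P : Subgroup H).index := by
    rw [P.card_eq_index_normalizer]
    show (normalizer ((P : Subgroup H) : Set H)).index = _
    rw [hnorm]
  have h3 : N.index = Nat.card (P : Subgroup H) := by
    have h4 : N.relIndex ((P : Subgroup H) ⊔ N) = N.relIndex (P : Subgroup H) :=
      Subgroup.relIndex_sup_right (P : Subgroup H) N
    rw [sup_comm, hsup, Subgroup.relIndex_top_right, ← Subgroup.inf_relIndex_right, hNP,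
      Subgroup.relIndex_bot_left] at h4
    exact h4
  have h5 : (P : Subgroup H).index = Nat.card N := by
    have h6 := Subgroup.card_mul_index (P : Subgroup H)
    have h7 := Subgroup.card_mul_index N
    rw [h3] at h7
    have h8 : Nat.card (P : Subgroup H) * (P : Subgroup H).index =
        Nat.card (P : Subgroup H) * Nat.card N := by
      rw [h6, ← h7, mul_comm]
    exact Nat.eq_of_mul_eq_mul_left Nat.card_pos h8
  rw [h2, h5] at h1
  have h9 : Nat.card N % p = 1 % p := h1
  rw [h9]
  exact Nat.mod_eq_of_lt hpp.one_lt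

end Cfsg.Agent.Lib.helper21.BRL
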