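import Mathlib
import Cfsg.Prelude.Def_LocalStructure
import Cfsg.Agent.Lib.helper21.BRLDefs
import Cfsg.Agent.Lib.helper56.BRL_B2
import Cfsg.Agent.Lib.helper53.BRL_B3
import Cfsg.Agent.Lib.helper53.BRL_B4
import Cfsg.Agent.Lib.helper71.BRL_B5
import Cfsg.Agent.Lib.helper71.BRL_B6

set_option autoImplicit false

/-!
# S3875 piece B7: the order of a minimal non-`p`-closed group (assembly of B1-B6)
-/

namespace Cfsg.Agent.Lib.helper21.BRL

open Cfsg Subgroup

/-- B7 -/
theorem minbad_bound (p : ℕ) [Fact p.Prime] (m : ℕ)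
    (hleast : ∀ k : ℕ, IsPrimePow k → k % p = 1 → m ≤ k)
    (hBR : ∀ (H : Type) [Group H] [Finite H] [IsSimpleGroup H], ¬ IsCyclic H →
      p ∣ Nat.card H → Nat.card H < p ^ 3 → p * (p ^ 2 - 1) / 2 ≤ Nat.card H)
    (H : Type) [Group H] [Finite H] (h : MinBad p H) :
    min (p * m) (p * (p ^ 2 - 1) / 2) ≤ Nat.card H := by
  have hpp : p.Prime := Fact.out
  have hbad := h.bad
  unfold IsPClosed at hbad
  push Not at hbad
  obtain ⟨P, hP⟩ := hbad
  have hnt : Nontrivial H := by
    by_contra hnt
    rw [not_nontrivial_iff_subsingleton] at hnt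
    apply hP
    refine ⟨fun n hn g => ?_⟩
    rw [Subsingleton.elim (g * n * g⁻¹) n]
    exact hn
  obtain ⟨N, hN, hN1, hmin⟩ := exists_min_normal (H := H)
  by_cases hpN : p ∣ Nat.card N
  · have hNtop := top_of_dvd p h N hN hpN
    refine le_trans (min_le_right _ _) ?_
    by_cases hlt : Nat.card H < p ^ 3
    · have hsimple : IsSimpleGroup H := by
        refine ⟨fun B hB => ?_⟩
        rcases hmin B hB (by rw [hNtop]; exact le_top) with h1 | h1
        · exact Or.inl h1
        · exact Or.inr (h1.trans hNtop)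
      apply hBR H _ _ hlt
      · intro hcyc
        apply hP
        have hc : ∀ a b : H, a * b = b * a := fun a b =>
          (IsCyclic.commGroup (α := H)).mul_comm a b
        refine ⟨fun n hn g => ?_⟩
        have : g * n * g⁻¹ = n := by rw [hc g n, mul_assoc, mul_inv_cancel, mul_one]
        rw [this]
        exact hn
      · have h1 : Nat.card N = Nat.card H := by
          rw [hNtop]
          exact Subgroup.card_top
        rw [← h1]
        exact hpN
    · push Not at hlt
      refine le_trans ?_ hlt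
      calc p * (p ^ 2 - 1) / 2 ≤ p * (p ^ 2 - 1) := Nat.div_le_self _ _
        _ ≤ p * p ^ 2 := Nat.mul_le_mul_left p (Nat.sub_le _ _)
        _ = p ^ 3 := by ring
  · have hsup := sup_eq_top_of_coprime p h N hN hN1 hpN P hP
    obtain ⟨hpow, hab⟩ := abelian_rgroup p h N hN hN1 hmin hpN P hP hsup
    obtain ⟨hcP, hmod⟩ := card_mod_p p h N hN hN1 hmin hpN hab P hP hsup
    have hm := hleast _ hpow hmod
    refine le_trans (min_le_left _ _) ?_
    have hNP : N ⊓ (P : Subgroup H) = ⊥ := h71brl_inf_bot p N hpN P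
    have h3 : N.index = Nat.card (P : Subgroup H) := by
      have h4 : N.relIndex ((P : Subgroup H) ⊔ N) = N.relIndex (P : Subgroup H) :=
        Subgroup.relIndex_sup_right (P : Subgroup H) N
      rw [sup_comm, hsup, Subgroup.relIndex_top_right, ← Subgroup.inf_relIndex_right, hNP,
        Subgroup.relIndex_bot_left] at h4
      exact h4
    have h7 := Subgroup.card_mul_index N
    rw [h3] at h7
    have hcP' : Nat.card (P : Subgroup H) = p := hcP
    rw [hcP'] at h7
    rw [← h7, mul_comm]
    exact Nat.mul_le_mul_right p hm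

end Cfsg.Agent.Lib.helper21.BRL
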