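import Mathlib

set_option autoImplicit false
set_option linter.style.haveILetI false

/-!
# `SL(2, F)` in characteristic two: the few matrix facts needed for S4068 (helper71)
-/

namespace Cfsg.Agent.Lib.helper71.FourOrb

section Mat

variable {F : Type*} [Field F]

/-- Cayley–Hamilton for `2 × 2` matrices. -/
theorem mat_ch2 (A : Matrix (Fin 2) (Fin 2) F) :
    A * A = A.trace • A - A.det • (1 : Matrix (Fin 2) (Fin 2) F) := by
  ext i j
  fin_cases i <;> fin_cases j <;>
    simp [Matrix.mul_apply, Fin.sum_univ_two, Matrix.trace, Matrix.det_fin_two] <;> ring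

theorem mat_trace_eq_one (h2 : (2 : F) = 0) (A : Matrix (Fin 2) (Fin 2) F) (hdet : A.det = 1)
    (h3 : A * A * A = 1) (hne : A ≠ 1) : A.trace = 1 := by
  by_contra ht
  have hCH := mat_ch2 A
  rw [hdet, one_smul] at hCH
  generalize A.trace = t at ht hCH
  have h3' : A * A * A = (t * t - 1) • A - t • (1 : Matrix (Fin 2) (Fin 2) F) := by
    rw [hCH, sub_mul, Matrix.smul_mul, hCH, one_mul]
    simp only [smul_sub, smul_smul, sub_smul, one_smul]
    abel
  have e1 : (t - 1) * (t - 1) = t * t - 1 := by linear_combination (1 - t) * h2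
  have e2 : (1 : F) + t = t - 1 := by linear_combination h2
  have e3 : (t * t - 1) • A = (1 : Matrix (Fin 2) (Fin 2) F)
      + t • (1 : Matrix (Fin 2) (Fin 2) F) := by
    have h5 := h3'
    rw [h3] at h5
    exact eq_add_of_sub_eq h5.symm
  have key : (t - 1) • ((t - 1) • A) = (t - 1) • (1 : Matrix (Fin 2) (Fin 2) F) := by
    rw [smul_smul, e1, e3, ← e2, add_smul, one_smul]
  have hu : t - 1 ≠ 0 := sub_ne_zero.mpr ht
  have hA1 : (t - 1) • A = 1 := smul_right_injective _ hu key
  have hA : A = (t - 1)⁻¹ • (1 : Matrix (Fin 2) (Fin 2) F) := by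
    rw [← hA1, inv_smul_smul₀ hu]
  generalize (t - 1)⁻¹ = c at hA
  rw [hA, Matrix.det_smul, Matrix.det_one, mul_one, Fintype.card_fin] at hdet
  have hc : (c - 1) ^ 2 = 0 := by linear_combination hdet + (1 - c) * h2
  have hc1 : c = 1 := by
    have h4 := pow_eq_zero_iff (two_ne_zero) |>.mp hc
    exact sub_eq_zero.mp h4
  apply hne
  rw [hA, hc1, one_smul]

theorem mat_commuting_cubes (h2 : (2 : F) = 0) (X Y : Matrix (Fin 2) (Fin 2) F)
    (hXdet : X.det = 1) (hYdet : Y.det = 1) (hX3 : X * X * X = 1) (hXne : X ≠ 1)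
    (hY3 : Y * Y * Y = 1) (hYne : Y ≠ 1) (hXYc : X * Y = Y * X) :
    Y = X ∨ Y = X * X := by
  have htX := mat_trace_eq_one h2 X hXdet hX3 hXne
  have htY := mat_trace_eq_one h2 Y hYdet hY3 hYne
  have hXX : X * X = X - 1 := by
    have h1 := mat_ch2 X
    rw [htX, hXdet, one_smul, one_smul] at h1
    exact h1
  have hYY : Y * Y = Y - 1 := by
    have h1 := mat_ch2 Y
    rw [htY, hYdet, one_smul, one_smul] at h1
    exact h1
  have hM2 : ∀ M : Matrix (Fin 2) (Fin 2) F, M + M = 0 := by
    intro M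
    rw [← two_smul F M, h2, zero_smul]
  have hneg : ∀ M : Matrix (Fin 2) (Fin 2) F, -M = M := fun M =>
    neg_eq_of_add_eq_zero_left (hM2 M)
  have hZZ : (X + Y) * (X + Y) = X + Y := by
    calc (X + Y) * (X + Y) = X * X + Y * Y + (X * Y + X * Y) := by
          simp only [add_mul, mul_add, ← hXYc]; abel
      _ = X - 1 + (Y - 1) + 0 := by rw [hXX, hYY, hM2]
      _ = X + Y - (1 + 1) := by abel
      _ = X + Y := by rw [hM2, sub_zero]
  have htZ : (X + Y).trace = 0 := by
    rw [Matrix.trace_add, htX, htY]; linear_combination h2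
  have hZ := mat_ch2 (X + Y)
  rw [htZ, zero_smul, zero_sub, hZZ, hneg] at hZ
  have hc : (X + Y).det = (X + Y).det ^ 2 := by
    have h1 := congrArg Matrix.det hZ
    rw [Matrix.det_smul, Matrix.det_one, mul_one, Fintype.card_fin] at h1
    exact h1
  generalize (X + Y).det = c at hZ hc
  have hc01 : c = 0 ∨ c = 1 := by
    have h1 : c * (c - 1) = 0 := by linear_combination -hc
    rcases mul_eq_zero.mp h1 with h | h
    · exact Or.inl h
    · exact Or.inr (sub_eq_zero.mp h)
  rcases hc01 with rfl | rfl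
  · left
    rw [zero_smul] at hZ
    have h1 : Y = -X := (neg_eq_of_add_eq_zero_right hZ).symm
    rw [h1, hneg]
  · right
    rw [one_smul] at hZ
    rw [hXX]
    have h1 : Y = 1 - X := eq_sub_of_add_eq' hZ
    rw [h1, ← hneg (1 - X), neg_sub]

theorem sl2_commuting_cubes (h2 : (2 : F) = 0) (x y : Matrix.SpecialLinearGroup (Fin 2) F)
    (hx : x ^ 3 = 1) (hx1 : x ≠ 1) (hy : y ^ 3 = 1) (hxy : x * y = y * x) :
    y = 1 ∨ y = x ∨ y = x ^ 2 := by
  by_cases hy1 : y = 1
  · exact Or.inl hy1
  right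
  have hXdet : (x.1).det = 1 := x.2
  have hYdet : (y.1).det = 1 := y.2
  have hX3 : x.1 * x.1 * x.1 = 1 := by
    have h1 := congrArg Subtype.val hx
    rw [pow_succ, pow_succ, pow_one] at h1
    exact h1
  have hY3 : y.1 * y.1 * y.1 = 1 := by
    have h1 := congrArg Subtype.val hy
    rw [pow_succ, pow_succ, pow_one] at h1
    exact h1
  have hXne : x.1 ≠ 1 := fun h => hx1 (Subtype.ext h)
  have hYne : y.1 ≠ 1 := fun h => hy1 (Subtype.ext h)
  have hXYc : x.1 * y.1 = y.1 * x.1 := congrArg Subtype.val hxy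
  rcases mat_commuting_cubes h2 x.1 y.1 hXdet hYdet hX3 hXne hY3 hYne hXYc with h | h
  · left
    exact Subtype.ext h
  · right
    apply Subtype.ext
    rw [h, sq]
    rfl

/-- The split torus gives an element of order `|F| - 1` in `SL(2, F)`. -/
theorem exists_orderOf_eq_card_sub_one (F : Type*) [Field F] [Fintype F] :
    ∃ D : Matrix.SpecialLinearGroup (Fin 2) F, orderOf D = Fintype.card F - 1 := by
  classical
  let f : Fˣ →* Matrix.SpecialLinearGroup (Fin 2) F :=
    { toFun := fun u => ⟨!![(u : F), 0; 0, ((u⁻¹ : Fˣ) : F)], by simp [Matrix.det_fin_two]⟩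
      map_one' := by
        ext i j
        fin_cases i <;> fin_cases j <;> simp
      map_mul' := fun u v => by
        apply Subtype.ext
        show !![((u * v : Fˣ) : F), 0; 0, (((u * v)⁻¹ : Fˣ) : F)]
          = !![(u : F), 0; 0, ((u⁻¹ : Fˣ) : F)] * !![(v : F), 0; 0, ((v⁻¹ : Fˣ) : F)]
        rw [Matrix.mul_fin_two]
        simp [mul_comm] }
  have hf : Function.Injective f := by
    intro u v h
    have h1 : ((f u).1 0 0 : F) = (f v).1 0 0 := by rw [h]
    exact Units.ext h1
  obtain ⟨u, hu⟩ := IsCyclic.exists_generator (α := Fˣ)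
  refine ⟨f u, ?_⟩
  rw [orderOf_injective f hf, orderOf_eq_card_of_forall_mem_zpowers hu,
    Nat.card_eq_fintype_card, Fintype.card_units]

theorem nonempty_sl2_equiv_psl2 (F : Type*) [Field F] (h2 : (2 : F) = 0) :
    Nonempty (Matrix.SpecialLinearGroup (Fin 2) F
      ≃* Matrix.ProjectiveSpecialLinearGroup (Fin 2) F) := by
  have hc : Subgroup.center (Matrix.SpecialLinearGroup (Fin 2) F) = ⊥ := by
    rw [eq_bot_iff]
    intro A hA
    rw [Matrix.SpecialLinearGroup.mem_center_iff] at hA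
    obtain ⟨r, hr, hrA⟩ := hA
    rw [Fintype.card_fin] at hr
    have hr1 : r = 1 := by
      have h3 : (r - 1) ^ 2 = 0 := by linear_combination hr + (1 - r) * h2
      exact sub_eq_zero.mp (pow_eq_zero_iff (two_ne_zero) |>.mp h3)
    rw [Subgroup.mem_bot]
    apply Subtype.ext
    rw [← hrA, hr1]
    simp
  exact ⟨(QuotientGroup.quotientBot).symm.trans (QuotientGroup.quotientMulEquivOfEq hc.symm)⟩

end Mat

end Cfsg.Agent.Lib.helper71.FourOrb
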