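import Mathlib
import Cfsg.Agent.Lib.helper62.HupSpan
import Cfsg.Agent.Lib.helper25.HupArith

/-!
# Huppert's theorem: the extraspecial case with `n = 2 ^ m`, final assembly (core)

`final_step_of` takes the two external facts (index of `N` divides `|GL(2m, 2)|`; `|M|` divides
`q ^ dim W - 1` for an `M`-invariant subspace `W`) as hypotheses.
-/

set_option autoImplicit false

namespace Cfsg.Agent.Lib.helper71.Hup

theorem final_step_of {q : ℕ} [Fact q.Prime] {V : Type*} [AddCommGroup V] [Module (ZMod q) V]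
    [Finite V] [Nontrivial V]
    {G : Type*} [Group G] [Finite G] (ρ : G →* (V ≃ₗ[ZMod q] V)) (hρ : Function.Injective ρ)
    (htrans : ∀ v w : V, v ≠ 0 → w ≠ 0 → ∃ g : G, ρ g v = w)
    (M N : Subgroup G) (hMn : M.Normal) (hNn : N.Normal) (hMN : M ≤ N)
    (hMmax : ∀ A : Subgroup G, A.Normal → (∀ a ∈ A, ∀ b ∈ A, a * b = b * a) → M ≤ A → A = M)
    (hfree : ∀ a ∈ M, ∀ v : V, v ≠ 0 → ρ a v = v → a = 1)
    (hcent : ∀ g ∈ N, ∀ z ∈ M, g * z = z * g)
    (hcomm : ∀ g ∈ N, ∀ h ∈ N, g * h * g⁻¹ * h⁻¹ ∈ M)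
    (hexp : ∀ g ∈ N, g ^ 2 ∈ M)
    (hZ : ∀ g ∈ N, (∀ h ∈ N, g * h = h * g) → g ∈ M)
    (m : ℕ) (hm : 1 ≤ m) (hprime : (2 ^ m + 1).Prime)
    (hn : Module.finrank (ZMod q) V = 2 ^ m)
    (hcard : Nat.card N = Nat.card M * 2 ^ (2 * m))
    (hH3 : (∀ g : G, (∀ h ∈ N, g * h * g⁻¹ * h⁻¹ ∈ M) → g ∈ N) →
      N.index ∣ Nat.card (GL (Fin (2 * m)) (ZMod 2)))
    (hH9 : ∀ W : Submodule (ZMod q) V, (∀ a ∈ M, ∀ v ∈ W, ρ a v ∈ W) →
      Nat.card M ∣ q ^ Module.finrank (ZMod q) W - 1) :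
    Nat.card V ∈ ({9, 25, 49, 121, 529, 81} : Set ℕ) := by
  classical
  have hq : q.Prime := Fact.out
  set R : G →* Module.End (ZMod q) V :=
    (LinearEquiv.automorphismGroup.toLinearMapMonoidHom (R := ZMod q) (M := V)).comp ρ with hRdef
  have hRapp : ∀ (g : G) (v : V), R g v = ρ g v := fun g v => rfl
  have hR : Function.Injective R := by
    intro g h hgh
    apply hρ
    ext v
    have h1 := congrArg (fun φ : Module.End (ZMod q) V => φ v) hgh
    exact h1
  have hfree' : ∀ a ∈ M, ∀ v : V, v ≠ 0 → R a v = v → a = 1 := hfree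
  have hk : Nat.card N =
      Nat.card M * (Module.finrank (ZMod q) V * Module.finrank (ZMod q) V) := by
    rw [hcard, hn, ← pow_add, two_mul]
  -- (1) the centralizer of `N` is `M`
  set C : Subgroup G := Subgroup.centralizer (N : Set G) with hC
  have hscal : ∀ c ∈ C, ∃ a : ZMod q, R c = a • (1 : Module.End (ZMod q) V) := by
    intro c hc
    apply Cfsg.Agent.Lib.helper62.Hup.scalar_of_commute R M N hMN hfree' hcent hcomm hZ hk (R c)
    intro h hh
    rw [← map_mul, ← map_mul, Subgroup.mem_centralizer_iff.mp hc h hh]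
  have hCab : ∀ a ∈ C, ∀ b ∈ C, a * b = b * a := by
    intro a ha b hb
    obtain ⟨x, hx⟩ := hscal a ha
    obtain ⟨y, hy⟩ := hscal b hb
    apply hR
    rw [map_mul, map_mul, hx, hy]
    simp [smul_smul, mul_comm]
  have hCn : C.Normal := Subgroup.normal_centralizer
  have hMC : M ≤ C := by
    intro z hz
    rw [hC, Subgroup.mem_centralizer_iff]
    intro h hh
    exact hcent h hh z hz
  have hCM : C = M := hMmax C hCn hCab hMC
  -- (2) `M ≠ ⊥`, and `|M|` divides `q - 1`
  have h2pos : 1 < 2 ^ (2 * m) := Nat.one_lt_two_pow (by omega)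
  have hMpos : 0 < Nat.card M := Nat.card_pos
  have hNM : ∃ g ∈ N, g ∉ M := by
    by_contra hcon
    push Not at hcon
    have hle : N ≤ M := hcon
    have h1 : Nat.card N ≤ Nat.card M := Subgroup.card_le_of_le hle
    rw [hcard] at h1
    nlinarith
  obtain ⟨g, hgN, hgM⟩ := hNM
  have hex : ∃ h ∈ N, g * h ≠ h * g := by
    by_contra hcon
    push Not at hcon
    exact hgM (hZ g hgN hcon)
  obtain ⟨h, hhN, hgh⟩ := hex
  have hx1 : g * h * g⁻¹ * h⁻¹ ≠ 1 := by
    intro h1
    apply hgh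
    have h2 : g * h = (g * h * g⁻¹ * h⁻¹) * (h * g) := by group
    rw [h2, h1, one_mul]
  have hM2 : 2 ≤ Nat.card M := by
    have hne : M ≠ ⊥ := by
      intro hbot
      have h1 := hcomm g hgN h hhN
      rw [hbot, Subgroup.mem_bot] at h1
      exact hx1 h1
    have h1 : Nat.card M ≠ 1 := fun h => hne (Subgroup.card_eq_one.mp h)
    omega
  obtain ⟨v₀, hv₀⟩ := exists_ne (0 : V)
  set W : Submodule (ZMod q) V := Submodule.span (ZMod q) {v₀} with hW
  have hWstab : ∀ a ∈ M, ∀ v ∈ W, ρ a v ∈ W := by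
    intro a ha v hv
    obtain ⟨x, hx⟩ := hscal a (hMC ha)
    have h1 : ρ a v = x • v := by
      rw [← hRapp, hx]; simp
    rw [h1]
    exact W.smul_mem x hv
  have hfinW : Module.finrank (ZMod q) W = 1 := finrank_span_singleton hv₀
  have hMdvd : Nat.card M ∣ q - 1 := by
    have h1 := hH9 W hWstab
    rwa [hfinW, pow_one] at h1
  have hq2 : q ≠ 2 := by
    rintro rfl
    have h1 : Nat.card M ≤ 1 := Nat.le_of_dvd (by norm_num) hMdvd
    omega
  -- (3) `N` contains every element acting trivially on `N / M`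
  have hinner : ∀ g : G, (∀ h ∈ N, g * h * g⁻¹ * h⁻¹ ∈ M) → g ∈ N := by
    intro g hg
    obtain ⟨s, hsN, hs⟩ := Cfsg.Agent.Lib.helper62.Hup.exists_inner R hR M N hMN hfree' hcent
      hcomm hZ hk g hg
    have h1 : s⁻¹ * g ∈ C := by
      rw [hC, Subgroup.mem_centralizer_iff]
      intro h hh
      exact (hs h hh).symm
    have h2 : s⁻¹ * g ∈ N := hMN (hCM ▸ h1)
    have h3 : g = s * (s⁻¹ * g) := by group
    rw [h3]
    exact N.mul_mem hsN h2
  have hidx : N.index ∣ Nat.card (GL (Fin (2 * m)) (ZMod 2)) := hH3 hinner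
  -- (4) transitivity
  have hVcard : Nat.card V = q ^ 2 ^ m := by
    rw [Module.natCard_eq_pow_finrank (K := ZMod q) (V := V), Nat.card_zmod, hn]
  have horb : q ^ 2 ^ m - 1 ∣ Nat.card G := by
    let _ : MulAction G V := MulAction.compHom V ρ
    have hsmul : ∀ (g : G) (v : V), g • v = ρ g v := fun g v => rfl
    have horbit : MulAction.orbit G v₀ = ({0} : Set V)ᶜ := by
      ext w
      constructor
      · rintro ⟨g, rfl⟩
        rw [Set.mem_compl_singleton_iff]
        show g • v₀ ≠ 0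
        rw [hsmul]
        intro h0
        apply hv₀
        exact (ρ g).injective (h0.trans (map_zero (ρ g)).symm)
      · intro hw
        obtain ⟨g, hg⟩ := htrans v₀ w hv₀ hw
        exact ⟨g, hg⟩
    have h1 : Nat.card (MulAction.orbit G v₀) = q ^ 2 ^ m - 1 := by
      rw [Nat.card_coe_set_eq, horbit, Set.ncard_compl, Set.ncard_singleton, hVcard]
    have h2 : Nat.card (MulAction.orbit G v₀) = (MulAction.stabilizer G v₀).index := by
      rw [Subgroup.index, Nat.card_congr (MulAction.orbitEquivQuotientStabilizer G v₀)]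
    rw [← h1, h2]
    exact Subgroup.index_dvd_card _
  -- (5) arithmetic
  have hGcard : Nat.card G = Nat.card M * 2 ^ (2 * m) * N.index := by
    rw [← hcard, Subgroup.card_mul_index]
  have hdvd : q ^ 2 ^ m - 1 ∣
      (q - 1) * (2 ^ (2 * m) * Nat.card (GL (Fin (2 * m)) (ZMod 2))) := by
    refine horb.trans ?_
    rw [hGcard, mul_assoc]
    exact Nat.mul_dvd_mul hMdvd (Nat.mul_dvd_mul_left _ hidx)
  rw [hVcard]
  exact Cfsg.Agent.Lib.helper25.Hup.arith_final q m hq hq2 hm hprime hdvd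

end Cfsg.Agent.Lib.helper71.Hup
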