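import Mathlib
import Cfsg.Agent.Lib.helper71.HupFinalCore
import Cfsg.Agent.Lib.helper77.HupGL
import Cfsg.Agent.Lib.helper39.HupCyc

/-!
# Huppert's theorem: the extraspecial case with `n = 2 ^ m`, final assembly
-/

set_option autoImplicit false

namespace Cfsg.Agent.Lib.helper71.Hup

theorem final_step {q : ℕ} [Fact q.Prime] {V : Type*} [AddCommGroup V] [Module (ZMod q) V]
    [Finite V] [Nontrivial V]
    {G : Type*} [Group G] [Finite G] (ρ : G →* (V ≃ₗ[ZMod q] V)) (hρ : Function.Injective ρ)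
    (htrans : ∀ v w : V, v ≠ 0 → w ≠ 0 → ∃ g : G, ρ g v = w)
    (M N : Subgroup G) (hMn : M.Normal) (hNn : N.Normal) (hMN : M ≤ N)
    (hMmax : ∀ A : Subgroup G, A.Normal → (∀ a ∈ A, ∀ b ∈ A, a * b = b * a) → M ≤ A → A = M)
    (hfree : ∀ a ∈ M, ∀ v : V, v ≠ 0 → ρ a v = v → a = 1)
    (hcent : ∀ g ∈ N, ∀ z ∈ M, g * z = z * g)
    (hcomm : ∀ g ∈ N, ∀ h ∈ N, g * h * g⁻¹ * h⁻¹ ∈ M)
    (hexp : ∀ g ∈ N, g ^ 2 ∈ M)
    (hZ : ∀ g ∈ N, (∀ h ∈ N, g * h = h * g) → g ∈ M)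
    (m : ℕ) (hm : 1 ≤ m) (hprime : (2 ^ m + 1).Prime)
    (hn : Module.finrank (ZMod q) V = 2 ^ m)
    (hcard : Nat.card N = Nat.card M * 2 ^ (2 * m)) :
    Nat.card V ∈ ({9, 25, 49, 121, 529, 81} : Set ℕ) :=
  final_step_of ρ hρ htrans M N hMn hNn hMN hMmax hfree hcent hcomm hexp hZ m hm hprime hn hcard
    (fun hinner => Cfsg.Agent.Lib.helper77.Hup.index_dvd_card_GL 2 (2 * m) M N hMn hNn hMN hcomm
      hexp hcard hinner)
    (fun W hW => Cfsg.Agent.Lib.helper39.Hup.card_dvd_of_semiregular ρ M hfree W hW)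

end Cfsg.Agent.Lib.helper71.Hup
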