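import Mathlib

/-!
# A normal abelian subgroup of a linear group transitive on nonzero vectors acts semiregularly
-/

set_option autoImplicit false

namespace Cfsg.Agent.Lib.helper71.Hup

theorem semiregular_of_normal_abelian {q : ℕ} [Fact q.Prime] {V : Type*} [AddCommGroup V]
    [Module (ZMod q) V] [Finite V]
    {G : Type*} [Group G] [Finite G] (ρ : G →* (V ≃ₗ[ZMod q] V)) (hρ : Function.Injective ρ)
    (htrans : ∀ v w : V, v ≠ 0 → w ≠ 0 → ∃ g : G, ρ g v = w)
    (A : Subgroup G) (hAn : A.Normal) (hAab : ∀ a ∈ A, ∀ b ∈ A, a * b = b * a) :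
    ∀ a ∈ A, ∀ v : V, v ≠ 0 → ρ a v = v → a = 1 := by
  classical
  set S : V → Set G := fun v => {a | a ∈ A ∧ ρ a v = v} with hS
  have hmul : ∀ (g h : G) (v : V), ρ (g * h) v = ρ g (ρ h v) := by
    intro g h v; rw [map_mul]; rfl
  have hinv : ∀ (g : G) (v : V), ρ g⁻¹ (ρ g v) = v := by
    intro g v; rw [← hmul, inv_mul_cancel, map_one]; rfl
  have hle : ∀ v w : V, v ≠ 0 → w ≠ 0 → (S v).ncard ≤ (S w).ncard := by
    intro v w hv hw
    obtain ⟨g, hg⟩ := htrans v w hv hw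
    apply Set.ncard_le_ncard_of_injOn (fun a => g * a * g⁻¹)
    · rintro a ⟨haA, hav⟩
      refine ⟨hAn.conj_mem a haA g, ?_⟩
      show ρ (g * a * g⁻¹) w = w
      rw [hmul, hmul, ← hg, hinv, hav]
    · intro a _ b _ hab
      simpa using hab
  have h1 : ∀ v u : V, v ≠ 0 → u ≠ 0 → S v ⊆ S u → S v = S u := by
    intro v u hv hu hsub
    exact Set.eq_of_subset_of_ncard_le hsub (hle u v hu hv) (Set.toFinite _)
  intro a haA v hv hav
  by_contra ha1
  have hρa : ρ a ≠ 1 := by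
    intro h
    apply ha1
    apply hρ
    rw [h, map_one]
  obtain ⟨u, hu⟩ : ∃ u, ρ a u ≠ u := by
    by_contra hcon
    push Not at hcon
    apply hρa
    ext x
    exact hcon x
  have hu0 : u ≠ 0 := by
    rintro rfl
    exact hu (map_zero _)
  have hy0 : v + u ≠ 0 := by
    intro h
    apply hu
    have hu' : u = -v := eq_neg_of_add_eq_zero_right h
    rw [hu', map_neg, hav]
  have haSv : a ∈ S v := ⟨haA, hav⟩
  have haSu : a ∉ S u := fun h => hu h.2
  have hsub : S (v + u) ⊆ S v ∩ S u := by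
    rintro b ⟨hbA, hby⟩
    have hby' : ρ b v + ρ b u = v + u := by rw [← map_add]; exact hby
    have ht' : ρ b v - v = u - ρ b u := by
      rw [sub_eq_sub_iff_add_eq_add, hby', add_comm]
    have hfixv : ∀ c ∈ S v, ρ c (ρ b v - v) = ρ b v - v := by
      rintro c ⟨hcA, hcv⟩
      rw [map_sub, hcv, ← hmul, hAab c hcA b hbA, hmul, hcv]
    have hfixu : ∀ c ∈ S u, ρ c (ρ b v - v) = ρ b v - v := by
      rintro c ⟨hcA, hcu⟩
      rw [ht', map_sub, hcu, ← hmul, hAab c hcA b hbA, hmul, hcu]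
    have ht0 : ρ b v - v = 0 := by
      by_contra ht0
      have e1 : S v = S (ρ b v - v) := h1 v _ hv ht0 (fun c hc => ⟨hc.1, hfixv c hc⟩)
      have e2 : S u = S (ρ b v - v) := h1 u _ hu0 ht0 (fun c hc => ⟨hc.1, hfixu c hc⟩)
      apply haSu
      rw [e2, ← e1]
      exact haSv
    refine ⟨⟨hbA, ?_⟩, ⟨hbA, ?_⟩⟩
    · exact sub_eq_zero.mp ht0
    · have h2 : u - ρ b u = 0 := by rw [← ht']; exact ht0
      exact (sub_eq_zero.mp h2).symm
  have hss : S (v + u) ⊂ S v := by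
    refine ⟨fun b hb => (hsub hb).1, ?_⟩
    intro h
    exact haSu (hsub (h haSv)).2
  have hlt := Set.ncard_lt_ncard hss (Set.toFinite _)
  exact absurd (le_antisymm (hle (v + u) v hy0 hv) (hle v (v + u) hv hy0)) hlt.ne

end Cfsg.Agent.Lib.helper71.Hup
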