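import Mathlib

/-!
# S1435 piece P8: coprime action on an abelian group -- fixed, or a fixed-point-free
invariant subgroup (the kernel of the norm map `v ↦ ∏_{x ∈ K} x v x⁻¹`)
-/

set_option autoImplicit false

namespace Cfsg.Agent.Lib.helper55.P2

open Subgroup

variable {G : Type*} [Group G]

/-- `K` normalizes `W` as soon as all conjugates by elements of `K` stay in `W`. -/
theorem p8_le_normalizer {K W : Subgroup G} (h : ∀ k ∈ K, ∀ v ∈ W, k * v * k⁻¹ ∈ W) :
    K ≤ normalizer (W : Set G) := by
  intro k hk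
  rw [mem_normalizer_iff]
  intro g
  constructor
  · exact h k hk g
  · intro hg
    have h2 := h k⁻¹ (K.inv_mem hk) _ hg
    have e : k⁻¹ * (k * g * k⁻¹) * k⁻¹⁻¹ = g := by group
    rwa [e] at h2

/-- (P8) coprime action of a group of prime order on an abelian group: fixed or a fixed-point-free
invariant subgroup. -/
theorem fix_or_fpf [Finite G] (K V : Subgroup G) (hKp : (Nat.card K).Prime)
    (hVc : ∀ a ∈ V, ∀ b ∈ V, a * b = b * a) (hcop : (Nat.card V).Coprime (Nat.card K))
    (hKV : K ≤ normalizer (V : Set G)) :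
    V ≤ centralizer (K : Set G) ∨
      ∃ V₀ : Subgroup G, V₀ ≤ V ∧ V₀ ≠ ⊥ ∧ K ≤ normalizer (V₀ : Set G) ∧
        V₀ ⊓ centralizer (K : Set G) = ⊥ := by
  classical
  letI : Fintype ↥K := Fintype.ofFinite ↥K
  letI : CommGroup ↥V :=
    { (inferInstance : Group ↥V) with
      mul_comm := fun a b => Subtype.ext (hVc a a.2 b b.2) }
  -- conjugation by `x ∈ K` on `V`
  have hconj : ∀ x : ↥K, ∀ v : ↥V, (x : G) * v * (x : G)⁻¹ ∈ V := fun x v =>
    (mem_normalizer_iff.mp (hKV x.2) v).mp v.2
  let c : ↥K → ↥V → ↥V := fun x v => ⟨(x : G) * v * (x : G)⁻¹, hconj x v⟩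
  have hc_mul : ∀ x v w, c x (v * w) = c x v * c x w := by
    intro x v w
    apply Subtype.ext
    show (x : G) * ((v : G) * (w : G)) * (x : G)⁻¹ =
      ((x : G) * v * (x : G)⁻¹) * ((x : G) * w * (x : G)⁻¹)
    group
  have hc_comp : ∀ x y v, c x (c y v) = c (x * y) v := by
    intro x y v
    apply Subtype.ext
    show (x : G) * ((y : G) * v * (y : G)⁻¹) * (x : G)⁻¹ =
      ((x : G) * (y : G)) * v * ((x : G) * (y : G))⁻¹
    group
  -- the norm map
  let N : ↥V →* ↥V :=
    { toFun := fun v => ∏ x : ↥K, c x v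
      map_one' := by
        apply Finset.prod_eq_one
        intro x _
        apply Subtype.ext
        show (x : G) * 1 * (x : G)⁻¹ = 1
        group
      map_mul' := by
        intro v w
        rw [← Finset.prod_mul_distrib]
        exact Finset.prod_congr rfl fun x _ => hc_mul x v w }
  have hN_apply : ∀ v, N v = ∏ x : ↥K, c x v := fun v => rfl
  have hN_c : ∀ (y : ↥K) (v : ↥V), N (c y v) = N v := by
    intro y v
    rw [hN_apply, hN_apply]
    rw [← Equiv.prod_comp (Equiv.mulRight y) (fun x => c x v)]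
    exact Finset.prod_congr rfl fun x _ => hc_comp x y v
  -- the kernel of the norm map
  by_cases hker : (N.ker).map V.subtype = ⊥
  · left
    have hinj : Function.Injective N := by
      rw [← MonoidHom.ker_eq_bot_iff]
      rw [eq_bot_iff]
      intro v hv
      have h1 : (v : G) ∈ (N.ker).map V.subtype := ⟨v, hv, rfl⟩
      rw [hker, mem_bot] at h1
      rw [mem_bot]
      exact Subtype.ext h1
    intro v hv
    rw [mem_centralizer_iff]
    intro y hy
    have h2 : c ⟨y, hy⟩ ⟨v, hv⟩ = ⟨v, hv⟩ := hinj (hN_c ⟨y, hy⟩ ⟨v, hv⟩)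
    have h3 : y * v * y⁻¹ = v := congrArg Subtype.val h2
    calc y * v = y * v * y⁻¹ * y := by group
      _ = v * y := by rw [h3]
  · right
    refine ⟨(N.ker).map V.subtype, Subgroup.map_subtype_le _, hker, ?_, ?_⟩
    · apply p8_le_normalizer
      rintro k hk _ ⟨v, hv, rfl⟩
      refine ⟨c ⟨k, hk⟩ v, ?_, rfl⟩
      rw [SetLike.mem_coe, MonoidHom.mem_ker, hN_c]
      exact hv
    · rw [eq_bot_iff]
      rintro _ ⟨⟨v, hv, rfl⟩, hvK⟩
      rw [mem_bot]
      have hvK' := mem_centralizer_iff.mp hvK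
      have hfix : ∀ x : ↥K, c x v = v := by
        intro x
        apply Subtype.ext
        show (x : G) * v * (x : G)⁻¹ = v
        have h4 : (x : G) * (v : G) = (v : G) * (x : G) := hvK' x x.2
        calc (x : G) * v * (x : G)⁻¹ = (v : G) * x * (x : G)⁻¹ := by rw [h4]
          _ = v := by group
      have hNv : N v = v ^ Nat.card K := by
        rw [hN_apply, Finset.prod_congr rfl (fun x _ => hfix x), Finset.prod_const,
          Finset.card_univ, Nat.card_eq_fintype_card]
      have hpow : v ^ Nat.card K = 1 := by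
        rw [← hNv]; exact hv
      have ho1 : orderOf v ∣ Nat.card K := orderOf_dvd_of_pow_eq_one hpow
      have ho2 : orderOf v ∣ Nat.card V := orderOf_dvd_natCard v
      have ho3 : orderOf v ∣ 1 := by
        have h5 := Nat.dvd_gcd ho2 ho1
        rwa [Nat.Coprime.gcd_eq_one hcop] at h5
      have hv1 : v = 1 := orderOf_eq_one_iff.mp (Nat.dvd_one.mp ho3)
      show (v : G) = 1
      rw [hv1]; rfl

end Cfsg.Agent.Lib.helper55.P2
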