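import Cfsg.Agent.Lib.helper95.APDefs

set_option autoImplicit false

/-! S2276 piece M3B (`m3b`, verbatim): an explicit good pair of type `(3,3)`, `(3,3)` on 6 points,
with an odd companion.  Also a racing copy of PERF (`helper71_perf`). -/

namespace Cfsg.Agent.Lib.helper95.AP

open Equiv

/-- [PERF] (racing copy) perfectness certificate of non-solvability -/
theorem helper71_perf {G : Type*} [Group G] (a b : G) (ha1 : a ≠ 1) (xa ya xb yb : G)
    (hxa : xa ∈ Subgroup.closure ({a, b} : Set G)) (hya : ya ∈ Subgroup.closure ({a, b} : Set G))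
    (hxb : xb ∈ Subgroup.closure ({a, b} : Set G)) (hyb : yb ∈ Subgroup.closure ({a, b} : Set G))
    (ha : a = xa * ya * xa⁻¹ * ya⁻¹) (hb : b = xb * yb * xb⁻¹ * yb⁻¹) :
    ¬ Group.IsSolvable ↥(Subgroup.closure ({a, b} : Set G)) := by
  intro hsol
  obtain ⟨K, hK⟩ : ∃ K : Subgroup G, K = Subgroup.closure ({a, b} : Set G) := ⟨_, rfl⟩
  rw [← hK] at hxa hya hxb hyb hsol
  have haK : a ∈ K := by
    rw [hK]
    exact Subgroup.subset_closure (Set.mem_insert a {b})
  have hKK : K ≤ ⁅K, K⁆ := by
    conv_lhs => rw [hK]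
    rw [Subgroup.closure_le]
    rintro x (rfl | rfl)
    · have h1 := Subgroup.commutator_mem_commutator hxa hya
      rw [commutatorElement_def, ← ha] at h1
      exact h1
    · have h1 := Subgroup.commutator_mem_commutator hxb hyb
      rw [commutatorElement_def, ← hb] at h1
      exact h1
  have hcomm : _root_.commutator ↥K = ⊤ := by
    apply Subgroup.map_injective K.subtype_injective
    rw [Subgroup.map_subtype_commutator, ← MonoidHom.range_eq_map, Subgroup.range_subtype]
    exact le_antisymm (Subgroup.commutator_le.mpr (fun g₁ h₁ g₂ h₂ =>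
      K.mul_mem (K.mul_mem (K.mul_mem h₁ h₂) (K.inv_mem h₁)) (K.inv_mem h₂))) hKK
  have hnt : Nontrivial ↥K := ⟨⟨⟨a, haK⟩, 1, fun h => ha1 (congrArg Subtype.val h)⟩⟩
  have hlt := Group.IsSolvable.commutator_lt_top_of_nontrivial ↥K
  rw [hcomm] at hlt
  exact lt_irrefl _ hlt

set_option maxRecDepth 100000 in
/-- [M3B] two products of two 3-cycles on 6 points; uses PERF -/
theorem m3b : ∃ a b : Perm (Fin 6), a.cycleType = {3, 3} ∧ b.cycleType = {3, 3} ∧
    GoodBoth 3 a b := by
  obtain ⟨a1, ha1⟩ : ∃ a1 : Perm (Fin 6), a1 = swap 0 2 * swap 0 1 := ⟨_, rfl⟩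
  obtain ⟨a2, ha2⟩ : ∃ a2 : Perm (Fin 6), a2 = swap 3 5 * swap 3 4 := ⟨_, rfl⟩
  obtain ⟨b1, hb1⟩ : ∃ b1 : Perm (Fin 6), b1 = swap 0 3 * swap 0 1 := ⟨_, rfl⟩
  obtain ⟨b2, hb2⟩ : ∃ b2 : Perm (Fin 6), b2 = swap 2 4 * swap 2 5 := ⟨_, rfl⟩
  have ha1c : a1.cycleType = {3} := by
    rw [ha1]
    exact Perm.isThreeCycle_swap_mul_swap_same (by decide) (by decide) (by decide)
  have ha2c : a2.cycleType = {3} := by
    rw [ha2]
    exact Perm.isThreeCycle_swap_mul_swap_same (by decide) (by decide) (by decide)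
  have hb1c : b1.cycleType = {3} := by
    rw [hb1]
    exact Perm.isThreeCycle_swap_mul_swap_same (by decide) (by decide) (by decide)
  have hb2c : b2.cycleType = {3} := by
    rw [hb2]
    exact Perm.isThreeCycle_swap_mul_swap_same (by decide) (by decide) (by decide)
  have hda : Perm.Disjoint a1 a2 := by
    rw [ha1, ha2]
    intro x
    revert x
    decide
  have hdb : Perm.Disjoint b1 b2 := by
    rw [hb1, hb2]
    intro x
    revert x
    decide
  have hac : (a1 * a2).cycleType = {3, 3} := by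
    rw [Perm.Disjoint.cycleType_mul hda, ha1c, ha2c]
    rfl
  have hbc : (b1 * b2).cycleType = {3, 3} := by
    rw [Perm.Disjoint.cycleType_mul hdb, hb1c, hb2c]
    rfl
  have hgood : Good 3 (a1 * a2) (b1 * b2) := by
    constructor
    · have h5 : Fact (Nat.Prime 5) := ⟨by norm_num⟩
      have hord : orderOf ((a1 * a2) * (b1 * b2)) = 5 := by
        apply orderOf_eq_prime
        · rw [ha1, ha2, hb1, hb2]
          apply Equiv.ext
          intro x
          fin_cases x <;> decide
        · rw [ha1, ha2, hb1, hb2]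
          intro h
          exact absurd (DFunLike.congr_fun h 0) (by decide)
      rintro ⟨k, hk⟩
      rw [hord] at hk
      cases k with
      | zero => norm_num at hk
      | succ k =>
        have h3 : 3 ∣ 5 := by
          rw [hk]
          exact dvd_pow_self 3 (Nat.succ_ne_zero k)
        omega
    · apply helper71_perf (a1 * a2) (b1 * b2) (by
          rw [ha1, ha2]
          intro h
          exact absurd (DFunLike.congr_fun h 0) (by decide))
        ((a1 * a2)⁻¹) ((b1 * b2) * (a1 * a2) * (b1 * b2)⁻¹ * (a1 * a2)⁻¹ * (b1 * b2))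
        ((b1 * b2)⁻¹) ((a1 * a2) * (b1 * b2) * (a1 * a2)⁻¹ * (b1 * b2)⁻¹ * (a1 * a2))
      · exact Subgroup.inv_mem _ (Subgroup.subset_closure (Set.mem_insert _ _))
      · have hA : (a1 * a2) ∈ Subgroup.closure ({a1 * a2, b1 * b2} : Set (Perm (Fin 6))) :=
          Subgroup.subset_closure (Set.mem_insert _ _)
        have hB : (b1 * b2) ∈ Subgroup.closure ({a1 * a2, b1 * b2} : Set (Perm (Fin 6))) :=
          Subgroup.subset_closure (Set.mem_insert_of_mem _ rfl)
        exact Subgroup.mul_mem _ (Subgroup.mul_mem _ (Subgroup.mul_mem _ (Subgroup.mul_mem _ hB hA)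
          (Subgroup.inv_mem _ hB)) (Subgroup.inv_mem _ hA)) hB
      · exact Subgroup.inv_mem _ (Subgroup.subset_closure (Set.mem_insert_of_mem _ rfl))
      · have hA : (a1 * a2) ∈ Subgroup.closure ({a1 * a2, b1 * b2} : Set (Perm (Fin 6))) :=
          Subgroup.subset_closure (Set.mem_insert _ _)
        have hB : (b1 * b2) ∈ Subgroup.closure ({a1 * a2, b1 * b2} : Set (Perm (Fin 6))) :=
          Subgroup.subset_closure (Set.mem_insert_of_mem _ rfl)
        exact Subgroup.mul_mem _ (Subgroup.mul_mem _ (Subgroup.mul_mem _ (Subgroup.mul_mem _ hA hB)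
          (Subgroup.inv_mem _ hA)) (Subgroup.inv_mem _ hB)) hA
      · rw [ha1, ha2, hb1, hb2]
        apply Equiv.ext
        intro x
        fin_cases x <;> decide
      · rw [ha1, ha2, hb1, hb2]
        apply Equiv.ext
        intro x
        fin_cases x <;> decide
  refine ⟨a1 * a2, b1 * b2, hac, hbc, hgood, swap 0 2 * swap 1 5 * swap 3 4, ?_, ?_⟩
  · simp [Perm.sign_mul, Perm.sign_swap']
  · have hcomm : (swap 0 2 * swap 1 5 * swap 3 4 : Perm (Fin 6)) * (b1 * b2) *
        (swap 0 2 * swap 1 5 * swap 3 4 : Perm (Fin 6))⁻¹ = b1 * b2 := by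
      rw [hb1, hb2]
      apply Equiv.ext
      intro x
      fin_cases x <;> decide
    rw [hcomm]
    exact hgood

end Cfsg.Agent.Lib.helper95.AP
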