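import Mathlib
import Cfsg.Prelude.Def_LinearParabolics
import Cfsg.Agent.Lib.helper45.SVDefs

set_option autoImplicit false
open scoped MatrixGroups

/-! S2425 piece FIX (core): the permutation character on the cosets of a standard parabolic of
`GL_n` counts the invariant flags, given FIXA (parabolic = stabiliser of the standard flag) and
FIXB (transitivity on flags) as hypotheses.  Also a private copy of FIXC (orbit-stabiliser for
fixed points). -/

namespace Cfsg.Agent.Lib.helper45.SV

/-- FIXC (racing copy): fixed points on `G ⧸ stabilizer` are the fixed points in the orbit. -/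
theorem helper71_card_fixedBy_quotient {G X : Type*} [Group G] [MulAction G X] (e : X) (x : G) :
    Nat.card (MulAction.fixedBy (G ⧸ MulAction.stabilizer G e) x) =
      Nat.card {y : X // y ∈ MulAction.orbit G e ∧ x • y = y} := by
  refine Nat.card_congr ((Equiv.subtypeEquiv (MulAction.orbitEquivQuotientStabilizer G e).symm ?_).trans
    (Equiv.subtypeSubtypeEquivSubtypeInter _ _))
  intro q
  induction q using QuotientGroup.induction_on with
  | H g =>
    rw [MulAction.mem_fixedBy, ← (MulAction.orbitEquivQuotientStabilizer G e).symm.injective.eq_iff,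
      MulAction.Quotient.smul_coe, Subtype.ext_iff, MulAction.orbitEquivQuotientStabilizer_symm_apply,
      MulAction.orbitEquivQuotientStabilizer_symm_apply]
    simp only [smul_eq_mul, mul_smul]

theorem helper71_toLin_inj {F : Type*} [Field F] {n : ℕ} (g : GL (Fin n) F) :
    Function.Injective (Matrix.toLin' (g : Matrix (Fin n) (Fin n) F)) := by
  apply Function.LeftInverse.injective
    (g := Matrix.toLin' ((g⁻¹ : GL (Fin n) F) : Matrix (Fin n) (Fin n) F))
  intro v
  rw [← LinearMap.comp_apply, ← Matrix.toLin'_mul, ← Units.val_mul, inv_mul_cancel, Units.val_one,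
    Matrix.toLin'_one]
  rfl

theorem helper71_finrank_map_toLin {F : Type*} [Field F] {n : ℕ} (g : GL (Fin n) F)
    (W : Submodule F (Fin n → F)) :
    Module.finrank F (W.map (Matrix.toLin' (g : Matrix (Fin n) (Fin n) F))) = Module.finrank F W :=
  (Submodule.equivMapOfInjective _ (helper71_toLin_inj g) W).finrank_eq.symm

theorem helper71_csum_le {n : ℕ} (μ : Fin n → ℕ) (hμ : ∑ i, μ i = n) (j : Fin n) : csum μ j ≤ n := by
  unfold csum
  calc ∑ k ∈ Finset.univ.filter (fun k : Fin n => k ≤ j), μ k ≤ ∑ k, μ k :=
        Finset.sum_le_sum_of_subset (Finset.filter_subset _ _)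
    _ = n := hμ

theorem helper71_csum_mono {n : ℕ} (μ : Fin n → ℕ) : Monotone (csum μ) := by
  intro j j' h
  unfold csum
  apply Finset.sum_le_sum_of_subset
  intro k hk
  rw [Finset.mem_filter] at hk ⊢
  exact ⟨hk.1, hk.2.trans h⟩

theorem helper71_stdFlag_mono {F : Type*} [Field F] {n : ℕ} (μ : Fin n → ℕ) :
    Monotone (stdFlag F μ) := by
  intro j j' h v hv i hi
  exact hv i ((helper71_csum_mono μ h).trans hi)

theorem helper71_finrank_stdFlag {F : Type*} [Field F] {n : ℕ} (μ : Fin n → ℕ) (j : Fin n)
    (h : csum μ j ≤ n) : Module.finrank F (stdFlag F μ j) = csum μ j := by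
  have e : stdFlag F μ j ≃ₗ[F] (Fin (csum μ j) → F) :=
    { toFun := fun v i => v.1 ⟨i.val, lt_of_lt_of_le i.2 h⟩
      map_add' := fun _ _ => rfl
      map_smul' := fun _ _ => rfl
      invFun := fun w => ⟨fun i => if hi : i.val < csum μ j then w ⟨i.val, hi⟩ else 0,
        fun i hi => dif_neg (not_lt.mpr hi)⟩
      left_inv := fun v => by
        apply Subtype.ext
        funext i
        by_cases hi : i.val < csum μ j
        · simp [hi]
        · simp only [hi, dif_neg, not_false_eq_true]
          exact ((show ∀ i : Fin n, csum μ j ≤ i.val → v.1 i = 0 from v.2) i (not_lt.mp hi)).symm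
      right_inv := fun w => by
        funext i
        simp }
  rw [e.finrank_eq, Module.finrank_fin_fun]

/-- FIX (core): FIXA and FIXB as hypotheses. -/
theorem helper71_fix_eq_flags_core {F : Type*} [Field F] {n : ℕ} (μ : Fin n → ℕ) (hμ : ∑ i, μ i = n)
    (x : GL (Fin n) F)
    (hA : ∀ g : GL (Fin n) F, g ∈ Cfsg.parabolicGL n F μ ↔
      ∀ j, (stdFlag F μ j).map (Matrix.toLin' (g : Matrix (Fin n) (Fin n) F)) ≤ stdFlag F μ j)
    (hB : ∀ W : Fin n → Submodule F (Fin n → F), Monotone W →
      (∀ j, Module.finrank F (W j) = csum μ j) →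
      ∃ g : GL (Fin n) F, ∀ j,
        (stdFlag F μ j).map (Matrix.toLin' (g : Matrix (Fin n) (Fin n) F)) = W j) :
    Cfsg.fixedPointCharacter (Cfsg.parabolicGL n F μ) x = (Nat.card (flagSet x μ) : ℂ) := by
  let act : MulAction (GL (Fin n) F) (Fin n → Submodule F (Fin n → F)) :=
    { smul := fun g W j => (W j).map (Matrix.toLin' (g : Matrix (Fin n) (Fin n) F))
      one_smul := fun W => by
        funext j
        change (W j).map (Matrix.toLin' ((1 : GL (Fin n) F) : Matrix (Fin n) (Fin n) F)) = W j
        rw [Units.val_one, Matrix.toLin'_one, Submodule.map_id]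
      mul_smul := fun g h W => by
        funext j
        change (W j).map (Matrix.toLin' ((g * h : GL (Fin n) F) : Matrix (Fin n) (Fin n) F)) =
          ((W j).map (Matrix.toLin' (h : Matrix (Fin n) (Fin n) F))).map
            (Matrix.toLin' (g : Matrix (Fin n) (Fin n) F))
        rw [Units.val_mul, Matrix.toLin'_mul, Submodule.map_comp] }
  have hsm : ∀ (g : GL (Fin n) F) (W : Fin n → Submodule F (Fin n → F)) (j : Fin n),
      (g • W) j = (W j).map (Matrix.toLin' (g : Matrix (Fin n) (Fin n) F)) := fun _ _ _ => rfl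
  have hstab : Cfsg.parabolicGL n F μ = MulAction.stabilizer (GL (Fin n) F) (stdFlag F μ) := by
    ext g
    rw [MulAction.mem_stabilizer_iff, hA]
    constructor
    · intro h
      have hinv : g⁻¹ ∈ Cfsg.parabolicGL n F μ := inv_mem ((hA g).mpr h)
      have h' := (hA g⁻¹).mp hinv
      funext j
      apply le_antisymm (h j)
      have h2 : stdFlag F μ j = (g • (g⁻¹ • stdFlag F μ)) j := by rw [smul_inv_smul]
      conv_lhs => rw [h2, hsm]
      exact Submodule.map_mono (h' j)
    · intro h j
      exact le_of_eq (congrFun h j)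
  unfold Cfsg.fixedPointCharacter
  rw [hstab, helper71_card_fixedBy_quotient]
  congr 1
  refine Nat.card_congr (Equiv.subtypeEquivRight (q := fun W => W ∈ flagSet x μ) ?_)
  intro W
  constructor
  · rintro ⟨⟨g, rfl⟩, hx⟩
    refine ⟨fun j j' hjj' => Submodule.map_mono (helper71_stdFlag_mono μ hjj'), fun j => ?_,
      fun j => le_of_eq (congrFun hx j)⟩
    change Module.finrank F ((stdFlag F μ j).map (Matrix.toLin' (g : Matrix (Fin n) (Fin n) F))) = _
    rw [helper71_finrank_map_toLin, helper71_finrank_stdFlag μ j (helper71_csum_le μ hμ j)]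
  · rintro ⟨hm, hd, hinv⟩
    obtain ⟨g, hg⟩ := hB W hm hd
    refine ⟨⟨g, funext hg⟩, funext fun j => ?_⟩
    exact Submodule.eq_of_le_of_finrank_eq (hinv j) (helper71_finrank_map_toLin x (W j))

end Cfsg.Agent.Lib.helper45.SV
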