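import Mathlib
import Cfsg.Prelude.Def_LinearParabolics
import Cfsg.Agent.Lib.helper45.SVDefs
import Cfsg.Agent.Lib.helper71.SV_FIXcore

set_option autoImplicit false
open scoped MatrixGroups

/-! S2425 piece FIXB (racing copy, prefixed names): `GL_n` is transitive on the flags of given
dimensions.  Proof: two monotone families of subspaces with the same dimensions in two spaces of
the same dimension are matched by a linear equivalence (induction on the number of members,
passing to the last member and gluing along complements). -/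

namespace Cfsg.Agent.Lib.helper45.SV

universe u

theorem helper71_flag_equiv (F : Type*) [Field F] : ∀ (k : ℕ) (V V' : Type u) [AddCommGroup V] [Module F V]
    [FiniteDimensional F V] [AddCommGroup V'] [Module F V'] [FiniteDimensional F V'],
    Module.finrank F V = Module.finrank F V' →
    ∀ (E : ℕ → Submodule F V) (W : ℕ → Submodule F V'), Monotone E → Monotone W →
      (∀ i, Module.finrank F (E i) = Module.finrank F (W i)) →
      ∃ g : V ≃ₗ[F] V', ∀ i, i < k → (E i).map (g : V →ₗ[F] V') = W i := by
  intro k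
  induction k with
  | zero =>
    intro V V' _ _ _ _ _ _ h E W _ _ _
    exact ⟨LinearEquiv.ofFinrankEq V V' h, fun i hi => absurd hi (Nat.not_lt_zero i)⟩
  | succ k ih =>
    intro V V' _ _ _ _ _ _ h E W hE hW hd
    obtain ⟨g₀, hg₀⟩ := ih (E k) (W k) (hd k)
      (fun i => (E (min i k)).comap (E k).subtype) (fun i => (W (min i k)).comap (W k).subtype)
      (fun i j hij => Submodule.comap_mono (hE (min_le_min_right k hij)))
      (fun i j hij => Submodule.comap_mono (hW (min_le_min_right k hij)))
      (fun i => by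
        rw [(Submodule.comapSubtypeEquivOfLe (hE (min_le_right i k))).finrank_eq,
          (Submodule.comapSubtypeEquivOfLe (hW (min_le_right i k))).finrank_eq]
        exact hd _)
    obtain ⟨C, hC⟩ := Submodule.exists_isCompl (E k)
    obtain ⟨C', hC'⟩ := Submodule.exists_isCompl (W k)
    have hCC : Module.finrank F C = Module.finrank F C' := by
      have h1 := Submodule.finrank_add_eq_of_isCompl hC
      have h2 := Submodule.finrank_add_eq_of_isCompl hC'
      have h3 := hd k
      omega
    obtain ⟨eC⟩ : Nonempty (C ≃ₗ[F] C') := ⟨LinearEquiv.ofFinrankEq C C' hCC⟩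
    obtain ⟨g, hg⟩ : ∃ g : V ≃ₗ[F] V', ∀ v : E k, g (v : V) = (g₀ v : V') := by
      refine ⟨(Submodule.prodEquivOfIsCompl (E k) C hC).symm ≪≫ₗ
        (g₀.prodCongr eC) ≪≫ₗ (Submodule.prodEquivOfIsCompl (W k) C' hC'), fun v => ?_⟩
      change (Submodule.prodEquivOfIsCompl (W k) C' hC') ((g₀.prodCongr eC)
        ((Submodule.prodEquivOfIsCompl (E k) C hC).symm (v : V))) = _
      rw [Submodule.prodEquivOfIsCompl_symm_apply_left]
      simp [Submodule.coe_prodEquivOfIsCompl']
    have hS : ∀ S : Submodule F V, S ≤ E k →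
        S.map (g : V →ₗ[F] V') =
          ((S.comap (E k).subtype).map (g₀ : E k →ₗ[F] W k)).map (W k).subtype := by
      intro S hS
      ext y
      constructor
      · rintro ⟨v, hv, rfl⟩
        exact ⟨g₀ ⟨v, hS hv⟩, ⟨⟨v, hS hv⟩, hv, rfl⟩, (hg ⟨v, hS hv⟩).symm⟩
      · rintro ⟨w, ⟨v, hv, rfl⟩, rfl⟩
        exact ⟨v, hv, hg v⟩
    refine ⟨g, fun i hi => ?_⟩
    rcases Nat.lt_succ_iff_lt_or_eq.mp hi with hi' | rfl
    · rw [hS (E i) (hE hi'.le)]
      have h4 := hg₀ i hi'
      simp only [min_eq_left hi'.le] at h4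
      rw [h4, Submodule.map_comap_subtype]
      exact inf_eq_right.mpr (hW hi'.le)
    · rw [hS (E i) le_rfl, Submodule.comap_subtype_self, Submodule.map_top, LinearEquiv.range,
        Submodule.map_subtype_top]

/-- FIXB (racing copy). -/
theorem helper71_exists_gl_flag {F : Type*} [Field F] {n : ℕ} (μ : Fin n → ℕ)
    (W : Fin n → Submodule F (Fin n → F)) (hW : Monotone W)
    (hd : ∀ j, Module.finrank F (W j) = csum μ j) :
    ∃ g : GL (Fin n) F, ∀ j,
      (stdFlag F μ j).map (Matrix.toLin' (g : Matrix (Fin n) (Fin n) F)) = W j := by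
  have hc : ∀ j, csum μ j ≤ n := fun j => by
    rw [← hd j]
    have h1 := Submodule.finrank_le (W j)
    rwa [Module.finrank_fin_fun] at h1
  obtain ⟨g, hg⟩ := helper71_flag_equiv F n (Fin n → F) (Fin n → F) rfl
    (fun i => if h : i < n then stdFlag F μ ⟨i, h⟩ else ⊤)
    (fun i => if h : i < n then W ⟨i, h⟩ else ⊤)
    (by
      intro i j hij
      by_cases hj : j < n
      · have hi : i < n := lt_of_le_of_lt hij hj
        simp only [hi, hj, dite_true]
        exact helper71_stdFlag_mono μ (Fin.mk_le_mk.mpr hij)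
      · simp only [hj, dite_false]
        exact le_top)
    (by
      intro i j hij
      by_cases hj : j < n
      · have hi : i < n := lt_of_le_of_lt hij hj
        simp only [hi, hj, dite_true]
        exact hW (Fin.mk_le_mk.mpr hij)
      · simp only [hj, dite_false]
        exact le_top)
    (by
      intro i
      show Module.finrank F ↥(if h : i < n then stdFlag F μ ⟨i, h⟩ else ⊤) =
        Module.finrank F ↥(if h : i < n then W ⟨i, h⟩ else ⊤)
      by_cases hi : i < n
      · rw [dif_pos hi, dif_pos hi, helper71_finrank_stdFlag μ _ (hc _), hd]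
      · rw [dif_neg hi, dif_neg hi])
  have h1 : LinearMap.toMatrix' (g : (Fin n → F) →ₗ[F] (Fin n → F)) *
      LinearMap.toMatrix' (g.symm : (Fin n → F) →ₗ[F] (Fin n → F)) = 1 := by
    rw [← LinearMap.toMatrix'_comp]
    simp
  have h2 : LinearMap.toMatrix' (g.symm : (Fin n → F) →ₗ[F] (Fin n → F)) *
      LinearMap.toMatrix' (g : (Fin n → F) →ₗ[F] (Fin n → F)) = 1 := by
    rw [← LinearMap.toMatrix'_comp]
    simp
  refine ⟨⟨LinearMap.toMatrix' (g : (Fin n → F) →ₗ[F] (Fin n → F)),
    LinearMap.toMatrix' (g.symm : (Fin n → F) →ₗ[F] (Fin n → F)), h1, h2⟩, fun j => ?_⟩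
  have h3 := hg j.val j.isLt
  simp only [j.isLt, dite_true, Fin.eta] at h3
  change (stdFlag F μ j).map (Matrix.toLin' (LinearMap.toMatrix' (g : (Fin n → F) →ₗ[F] (Fin n → F)))) = W j
  rw [Matrix.toLin'_toMatrix']
  exact h3

end Cfsg.Agent.Lib.helper45.SV
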