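import Mathlib
import Cfsg.Prelude.Def_LinearParabolics
import Cfsg.Agent.Lib.helper45.SVDefs
import Cfsg.Agent.Lib.helper98.SV_FIXA
import Cfsg.Agent.Lib.helper71.SV_FIXcore
import Cfsg.Agent.Lib.helper71.SV_FIXB

set_option autoImplicit false
open scoped MatrixGroups

/-! S2425 piece FIX (verbatim skeleton statement): the permutation character of `GL_n` on the
cosets of the standard parabolic of `μ` at `x` is the number of `x`-invariant flags of type `μ`. -/

namespace Cfsg.Agent.Lib.helper45.SV

/-- FIX (M, assembly of FIXA, FIXB, FIXC). -/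
theorem fix_eq_flags {F : Type*} [Field F] {n : ℕ} (μ : Fin n → ℕ) (hμ : ∑ i, μ i = n)
    (x : GL (Fin n) F) :
    Cfsg.fixedPointCharacter (Cfsg.parabolicGL n F μ) x = (Nat.card (flagSet x μ) : ℂ) :=
  helper71_fix_eq_flags_core μ hμ x (fun g => mem_parabolic_iff_flag μ g)
    (fun W hW hd => helper71_exists_gl_flag μ W hW hd)

end Cfsg.Agent.Lib.helper45.SV
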