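import Mathlib
import Cfsg.Prelude.Def_GeometricClasses
import Cfsg.Agent.Lib.helper71.QfcPHI

set_option autoImplicit false

namespace Cfsg.Agent.Lib.helper2

open Cfsg.Geo Matrix

section qk

variable {F : Type*} [Field F] {ι : Type} [Fintype ι] [DecidableEq ι]

theorem helper71_qk_bkk (Q : (ι → F) → F) (hQ : IsNondegenerateQuadraticForm Q)
    (δ : F) (κ : Matrix ι ι F) (hκ : κ * κ = δ • (1 : Matrix ι ι F))
    (hsa : ∀ u v : ι → F, QuadraticMap.polar Q (κ *ᵥ u) v = QuadraticMap.polar Q u (κ *ᵥ v))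
    (u v : ι → F) :
    QuadraticMap.polar Q (κ *ᵥ u) (κ *ᵥ v) = δ * QuadraticMap.polar Q u v := by
  rw [hsa, helper71_kk δ κ hκ, hQ.polar_bilinear.smul_right]

theorem helper71_qk_diag (Q : (ι → F) → F) (hQ : IsNondegenerateQuadraticForm Q) (v : ι → F) :
    QuadraticMap.polar Q v v = 2 * Q v := by
  unfold QuadraticMap.polar
  have h : v + v = (2 : F) • v := (two_smul F v).symm
  rw [h, hQ.smul]
  ring

theorem helper71_qk_Qk (h2 : (2 : F) ≠ 0) (Q : (ι → F) → F) (hQ : IsNondegenerateQuadraticForm Q)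
    (δ : F) (κ : Matrix ι ι F) (hκ : κ * κ = δ • (1 : Matrix ι ι F))
    (hsa : ∀ u v : ι → F, QuadraticMap.polar Q (κ *ᵥ u) v = QuadraticMap.polar Q u (κ *ᵥ v))
    (v : ι → F) : Q (κ *ᵥ v) = δ * Q v := by
  have h1 := helper71_qk_diag Q hQ (κ *ᵥ v)
  rw [helper71_qk_bkk Q hQ δ κ hκ hsa, helper71_qk_diag Q hQ v] at h1
  have h3 : 2 * Q (κ *ᵥ v) = 2 * (δ * Q v) := by
    rw [← h1]
    ring
  exact mul_left_cancel₀ h2 h3

theorem helper71_qk_Qlin (h2 : (2 : F) ≠ 0) (Q : (ι → F) → F)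
    (hQ : IsNondegenerateQuadraticForm Q)
    (δ : F) (κ : Matrix ι ι F) (hκ : κ * κ = δ • (1 : Matrix ι ι F))
    (hsa : ∀ u v : ι → F, QuadraticMap.polar Q (κ *ᵥ u) v = QuadraticMap.polar Q u (κ *ᵥ v))
    (a b : F) (v : ι → F) :
    Q (a • v + b • κ *ᵥ v)
      = (a * a + δ * b * b) * Q v + a * b * QuadraticMap.polar Q (κ *ᵥ v) v := by
  have hP : ∀ u w : ι → F, Q (u + w) = Q u + Q w + QuadraticMap.polar Q u w := by
    intro u w
    unfold QuadraticMap.polar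
    ring
  rw [hP, hQ.smul, hQ.smul, helper71_qk_Qk h2 Q hQ δ κ hκ hsa, hQ.polar_bilinear.smul_left,
    hQ.polar_bilinear.smul_right, QuadraticMap.polar_comm Q v (κ *ᵥ v)]
  ring

theorem helper71_qk_Bl (Q : (ι → F) → F) (hQ : IsNondegenerateQuadraticForm Q)
    (κ : Matrix ι ι F) (a b : F) (v v' : ι → F) :
    QuadraticMap.polar Q (a • v + b • κ *ᵥ v) v'
      = a * QuadraticMap.polar Q v v' + b * QuadraticMap.polar Q (κ *ᵥ v) v' := by
  rw [hQ.polar_bilinear.add_left, hQ.polar_bilinear.smul_left, hQ.polar_bilinear.smul_left]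

theorem helper71_qk_Bkl (Q : (ι → F) → F) (hQ : IsNondegenerateQuadraticForm Q)
    (δ : F) (κ : Matrix ι ι F) (hκ : κ * κ = δ • (1 : Matrix ι ι F))
    (a b : F) (v v' : ι → F) :
    QuadraticMap.polar Q (κ *ᵥ (a • v + b • κ *ᵥ v)) v'
      = a * QuadraticMap.polar Q (κ *ᵥ v) v' + b * δ * QuadraticMap.polar Q v v' := by
  rw [Matrix.mulVec_add, Matrix.mulVec_smul, Matrix.mulVec_smul, helper71_kk δ κ hκ,
    hQ.polar_bilinear.add_left, hQ.polar_bilinear.smul_left, hQ.polar_bilinear.smul_left,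
    hQ.polar_bilinear.smul_left]
  ring

theorem helper71_qk_Br (Q : (ι → F) → F) (hQ : IsNondegenerateQuadraticForm Q)
    (κ : Matrix ι ι F)
    (hsa : ∀ u v : ι → F, QuadraticMap.polar Q (κ *ᵥ u) v = QuadraticMap.polar Q u (κ *ᵥ v))
    (a b : F) (v v' : ι → F) :
    QuadraticMap.polar Q v (a • v' + b • κ *ᵥ v')
      = a * QuadraticMap.polar Q v v' + b * QuadraticMap.polar Q (κ *ᵥ v) v' := by
  rw [hQ.polar_bilinear.add_right, hQ.polar_bilinear.smul_right, hQ.polar_bilinear.smul_right,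
    ← hsa]

theorem helper71_qk_Bkr (Q : (ι → F) → F) (hQ : IsNondegenerateQuadraticForm Q)
    (δ : F) (κ : Matrix ι ι F) (hκ : κ * κ = δ • (1 : Matrix ι ι F))
    (hsa : ∀ u v : ι → F, QuadraticMap.polar Q (κ *ᵥ u) v = QuadraticMap.polar Q u (κ *ᵥ v))
    (a b : F) (v v' : ι → F) :
    QuadraticMap.polar Q (κ *ᵥ v) (a • v' + b • κ *ᵥ v')
      = a * QuadraticMap.polar Q (κ *ᵥ v) v' + b * δ * QuadraticMap.polar Q v v' := by
  rw [hQ.polar_bilinear.add_right, hQ.polar_bilinear.smul_right, hQ.polar_bilinear.smul_right,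
    helper71_qk_bkk Q hQ δ κ hκ hsa]
  ring

theorem helper71_qk_Bkdiag (Q : (ι → F) → F) (hQ : IsNondegenerateQuadraticForm Q)
    (δ : F) (κ : Matrix ι ι F) (hκ : κ * κ = δ • (1 : Matrix ι ι F))
    (hsa : ∀ u v : ι → F, QuadraticMap.polar Q (κ *ᵥ u) v = QuadraticMap.polar Q u (κ *ᵥ v))
    (a b : F) (v : ι → F) :
    QuadraticMap.polar Q (κ *ᵥ (a • v + b • κ *ᵥ v)) (a • v + b • κ *ᵥ v)
      = (a * a + δ * b * b) * QuadraticMap.polar Q (κ *ᵥ v) v + 4 * a * b * δ * Q v := by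
  rw [helper71_qk_Bkl Q hQ δ κ hκ, helper71_qk_Bkr Q hQ δ κ hκ hsa, helper71_qk_Br Q hQ κ hsa,
    helper71_qk_diag Q hQ v]
  ring

/-- The `K'`-valued form. -/
def helper71_qk (Q : (ι → F) → F) (δ : F) (κ : Matrix ι ι F) (d : ℕ)
    (Φ : (Fin d → QuadraticAlgebra F δ 0) ≃+ (ι → F)) :
    (Fin d → QuadraticAlgebra F δ 0) → QuadraticAlgebra F δ 0 :=
  fun k => ⟨Q (Φ k), QuadraticMap.polar Q (κ *ᵥ Φ k) (Φ k) / (2 * δ)⟩

theorem helper71_qk_polar (h2 : (2 : F) ≠ 0) (Q : (ι → F) → F)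
    (hQ : IsNondegenerateQuadraticForm Q) (δ : F) (hδ : δ ≠ 0) (κ : Matrix ι ι F)
    (hsa : ∀ u v : ι → F, QuadraticMap.polar Q (κ *ᵥ u) v = QuadraticMap.polar Q u (κ *ᵥ v))
    (d : ℕ) (Φ : (Fin d → QuadraticAlgebra F δ 0) ≃+ (ι → F))
    (k k' : Fin d → QuadraticAlgebra F δ 0) :
    QuadraticMap.polar (helper71_qk Q δ κ d Φ) k k'
      = ⟨QuadraticMap.polar Q (Φ k) (Φ k'), QuadraticMap.polar Q (κ *ᵥ Φ k) (Φ k') / δ⟩ := by
  show (⟨Q (Φ (k + k')), QuadraticMap.polar Q (κ *ᵥ Φ (k + k')) (Φ (k + k')) / (2 * δ)⟩ :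
      QuadraticAlgebra F δ 0) - ⟨Q (Φ k), QuadraticMap.polar Q (κ *ᵥ Φ k) (Φ k) / (2 * δ)⟩
      - ⟨Q (Φ k'), QuadraticMap.polar Q (κ *ᵥ Φ k') (Φ k') / (2 * δ)⟩
      = ⟨QuadraticMap.polar Q (Φ k) (Φ k'), QuadraticMap.polar Q (κ *ᵥ Φ k) (Φ k') / δ⟩
  rw [map_add]
  have hB := hQ.polar_bilinear
  apply QuadraticAlgebra.ext
  · rw [QuadraticAlgebra.re_sub, QuadraticAlgebra.re_sub]
    rfl
  · rw [QuadraticAlgebra.im_sub, QuadraticAlgebra.im_sub]
    show QuadraticMap.polar Q (κ *ᵥ (Φ k + Φ k')) (Φ k + Φ k') / (2 * δ)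
        - QuadraticMap.polar Q (κ *ᵥ Φ k) (Φ k) / (2 * δ)
        - QuadraticMap.polar Q (κ *ᵥ Φ k') (Φ k') / (2 * δ)
      = QuadraticMap.polar Q (κ *ᵥ Φ k) (Φ k') / δ
    rw [Matrix.mulVec_add, hB.add_left, hB.add_right, hB.add_right]
    have h5 : QuadraticMap.polar Q (κ *ᵥ Φ k') (Φ k) = QuadraticMap.polar Q (κ *ᵥ Φ k) (Φ k') := by
      rw [hsa, QuadraticMap.polar_comm]
    rw [h5]
    field_simp
    ring

/-- QK (verbatim statement, prefixed name). -/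
theorem helper71_qfc_qk_nondeg {F : Type*} [Field F] {ι : Type} [Fintype ι] [DecidableEq ι]
    (h2 : (2 : F) ≠ 0) (Q : (ι → F) → F) (hQ : IsNondegenerateQuadraticForm Q)
    (δ : F) [Fact (∀ r : F, r ^ 2 ≠ δ + 0 * r)] (κ : Matrix ι ι F)
    (hκ : κ * κ = δ • (1 : Matrix ι ι F))
    (hsa : ∀ u v : ι → F, QuadraticMap.polar Q (κ *ᵥ u) v = QuadraticMap.polar Q u (κ *ᵥ v))
    (d : ℕ) (Φ : (Fin d → QuadraticAlgebra F δ 0) ≃+ (ι → F))
    (hΦ : ∀ (z : QuadraticAlgebra F δ 0) (k : Fin d → QuadraticAlgebra F δ 0),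
        Φ (z • k) = z.re • Φ k + z.im • (κ *ᵥ Φ k)) :
    IsNondegenerateQuadraticForm
      (fun k : Fin d → QuadraticAlgebra F δ 0 =>
        (⟨Q (Φ k), QuadraticMap.polar Q (κ *ᵥ Φ k) (Φ k) / (2 * δ)⟩ : QuadraticAlgebra F δ 0)) := by
  have hδ : δ ≠ 0 := by
    intro h
    have h0 := Fact.out (p := ∀ r : F, r ^ 2 ≠ δ + 0 * r) 0
    apply h0
    rw [h]
    ring
  have hB := hQ.polar_bilinear
  have hpol := helper71_qk_polar h2 Q hQ δ hδ κ hsa d Φ
  show IsNondegenerateQuadraticForm (helper71_qk Q δ κ d Φ)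
  refine ⟨?_, ⟨?_, ?_, ?_, ?_⟩, ?_⟩
  · -- smul
    intro c k
    show (⟨Q (Φ (c • k)), QuadraticMap.polar Q (κ *ᵥ Φ (c • k)) (Φ (c • k)) / (2 * δ)⟩ :
        QuadraticAlgebra F δ 0)
      = c ^ 2 * (⟨Q (Φ k), QuadraticMap.polar Q (κ *ᵥ Φ k) (Φ k) / (2 * δ)⟩ :
        QuadraticAlgebra F δ 0)
    rw [hΦ, pow_two, helper71_qk_Qlin h2 Q hQ δ κ hκ hsa, helper71_qk_Bkdiag Q hQ δ κ hκ hsa]
    apply QuadraticAlgebra.ext
    · simp only [QuadraticAlgebra.re_mul, QuadraticAlgebra.im_mul]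
      field_simp
      ring
    · simp only [QuadraticAlgebra.re_mul, QuadraticAlgebra.im_mul]
      field_simp
      ring
  · -- add_left
    intro x y k
    rw [hpol, hpol, hpol, map_add, Matrix.mulVec_add, hB.add_left, hB.add_left]
    apply QuadraticAlgebra.ext
    · simp only [QuadraticAlgebra.re_add]
    · simp only [QuadraticAlgebra.im_add]
      ring
  · -- smul_left
    intro c x k
    rw [hpol, hpol, hΦ, helper71_qk_Bl Q hQ κ, helper71_qk_Bkl Q hQ δ κ hκ]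
    apply QuadraticAlgebra.ext
    · simp only [QuadraticAlgebra.re_mul, QuadraticAlgebra.im_mul]
      field_simp
    · simp only [QuadraticAlgebra.re_mul, QuadraticAlgebra.im_mul]
      field_simp
      ring
  · -- add_right
    intro k x y
    rw [hpol, hpol, hpol, map_add, hB.add_right, hB.add_right]
    apply QuadraticAlgebra.ext
    · simp only [QuadraticAlgebra.re_add]
    · simp only [QuadraticAlgebra.im_add]
      ring
  · -- smul_right
    intro c k x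
    rw [hpol, hpol, hΦ, helper71_qk_Br Q hQ κ hsa, helper71_qk_Bkr Q hQ δ κ hκ hsa]
    apply QuadraticAlgebra.ext
    · simp only [QuadraticAlgebra.re_mul, QuadraticAlgebra.im_mul]
      field_simp
    · simp only [QuadraticAlgebra.re_mul, QuadraticAlgebra.im_mul]
      field_simp
      ring
  · -- nondegenerate
    intro k hk
    have hv : Φ k ≠ 0 := by
      intro h
      apply hk
      apply Φ.injective
      rw [h, map_zero]
    obtain ⟨⟨x, hx⟩, ⟨y, hy⟩⟩ := hQ.nondegenerate (Φ k) hv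
    refine ⟨⟨Φ.symm x, ?_⟩, ⟨Φ.symm y, ?_⟩⟩
    · rw [hpol, AddEquiv.apply_symm_apply]
      intro h
      apply hx
      have h7 := congrArg QuadraticAlgebra.re h
      exact h7
    · rw [hpol, AddEquiv.apply_symm_apply]
      intro h
      apply hy
      have h7 := congrArg QuadraticAlgebra.re h
      exact h7

end qk

end Cfsg.Agent.Lib.helper2

#print axioms Cfsg.Agent.Lib.helper2.helper71_qfc_qk_nondeg
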