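import Mathlib
import Cfsg.Agent.Lib.helper54.MetaIdxDefs

/-!
S4245 piece C2 (`case_even`): `|B|` even, `B` cyclic normal in `A`: the involution of `B` is
central in `A`, so its class size divides `|G : A| = p ^ s`.
-/

set_option autoImplicit false

namespace Cfsg.Agent.Lib.helper71

universe u

/-- **C2**. -/
theorem mi_case_even {G : Type u} [Group G] [Finite G] (p : ℕ) (hp : p.Prime) (A : Subgroup G)
    (B : Subgroup A) [B.Normal] (hB : IsCyclic B) (s : ℕ) (hA : A.index = p ^ s)
    (heven : 2 ∣ Nat.card B) :
    ∃ x : G, x ≠ 1 ∧ ∃ k : ℕ, (Subgroup.centralizer ({x} : Set G)).index = p ^ k := by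
  classical
  have hf2 : Fact (Nat.Prime 2) := ⟨Nat.prime_two⟩
  obtain ⟨z, hz⟩ := exists_prime_orderOf_dvd_card' (G := B) 2 heven
  have hz2 : z ^ 2 = 1 := by rw [← hz]; exact pow_orderOf_eq_one z
  have hz1 : z ≠ 1 := by
    intro h
    rw [h, orderOf_one] at hz
    omega
  -- `z` is the unique element of order `2` of `B`
  have huniq : ∀ w : B, w ^ 2 = 1 → w ≠ 1 → w = z := by
    intro w hw2 hw1
    by_contra hne
    let _ : Fintype B := Fintype.ofFinite B
    have hle := IsCyclic.card_pow_eq_one_le (α := B) (n := 2) (by norm_num)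
    have hsub : ({1, z, w} : Finset B) ⊆ Finset.univ.filter (fun a : B => a ^ 2 = 1) := by
      intro a ha
      simp only [Finset.mem_insert, Finset.mem_singleton] at ha
      rw [Finset.mem_filter]
      refine ⟨Finset.mem_univ _, ?_⟩
      rcases ha with rfl | rfl | rfl
      · exact one_pow 2
      · exact hz2
      · exact hw2
    have hcard : ({1, z, w} : Finset B).card = 3 := by
      rw [Finset.card_insert_of_notMem, Finset.card_insert_of_notMem, Finset.card_singleton]
      · rw [Finset.mem_singleton]
        exact fun h => hne h.symm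
      · rw [Finset.mem_insert, Finset.mem_singleton]
        rintro (h | h)
        · exact hz1 h.symm
        · exact hw1 h.symm
    have h3 := Finset.card_le_card hsub
    omega
  -- `z` is central in `A`
  have hcent : ∀ a : A, a * (z : A) = (z : A) * a := by
    intro a
    have hmem : a * (z : A) * a⁻¹ ∈ B := (inferInstance : B.Normal).conj_mem (z : A) z.2 a
    have hw : (⟨a * (z : A) * a⁻¹, hmem⟩ : B) = z := by
      apply huniq
      · apply Subtype.ext
        have h1 : ((z : A)) ^ 2 = 1 := by
          have := congrArg Subtype.val hz2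
          simpa using this
        show (a * (z : A) * a⁻¹) ^ 2 = 1
        rw [conj_pow, h1, mul_one, mul_inv_cancel]
      · intro h
        have h1 : a * (z : A) * a⁻¹ = 1 := congrArg Subtype.val h
        have h2 : (z : A) = 1 := by
          have : (z : A) = a⁻¹ * (a * (z : A) * a⁻¹) * a := by group
          rw [this, h1]; group
        exact hz1 (Subtype.ext h2)
    have h1 : a * (z : A) * a⁻¹ = (z : A) := congrArg Subtype.val hw
    calc a * (z : A) = a * (z : A) * a⁻¹ * a := by group
      _ = (z : A) * a := by rw [h1]
  refine ⟨((z : A) : G), ?_, ?_⟩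
  · intro h
    apply hz1
    apply Subtype.ext
    apply Subtype.ext
    exact h
  · have hle : A ≤ Subgroup.centralizer ({((z : A) : G)} : Set G) := by
      intro g hg
      rw [Subgroup.mem_centralizer_iff]
      intro y hy
      rw [Set.mem_singleton_iff] at hy
      rw [hy]
      have := congrArg Subtype.val (hcent ⟨g, hg⟩)
      exact this.symm
    have hdvd : (Subgroup.centralizer ({((z : A) : G)} : Set G)).index ∣ p ^ s := by
      rw [← hA]
      exact Subgroup.index_dvd_of_le hle
    obtain ⟨k, -, hk⟩ := (Nat.dvd_prime_pow hp).mp hdvd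
    exact ⟨k, hk⟩

end Cfsg.Agent.Lib.helper71
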