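import Mathlib
import Cfsg.Prelude.Def_OddOrderLocal
import Cfsg.Agent.Lib.helper71.BGTenA
import Cfsg.Agent.S1350
import Cfsg.Agent.S1404
import Cfsg.Agent.S1423

/-!
# S1383 piece A: `M_F = M_σ` not TI gives a "bad" element of prime order in `σ(M) ∖ β(M)`
-/

set_option autoImplicit false

namespace Cfsg.Agent.Lib.helper71.TV

open Cfsg Subgroup

variable {G : Type*} [Group G]

/-- **A** (S1404 + S1423). If `M_F = M_σ` is not a TI-subset, some `x ∈ M_σ` of prime order `p`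
has `C_G(x) ≰ M`; then `p ∈ σ(M) ∖ β(M)`. -/
theorem exists_bad [Finite G] (hG : IsMinSimpleOddOrder G) (M : Subgroup G) (hM : IsCoatom M)
    (hFS : fittingHallOf M = sigmaCore M) (hTI : ¬ IsTISubset (fittingHallOf M : Set G)) :
    ∃ (p : ℕ) (x : G), p.Prime ∧ p ∈ sigma M ∧ p ∉ beta M ∧ x ∈ sigmaCore M ∧ orderOf x = p ∧
      ¬ centralizer ({x} : Set G) ≤ M := by
  unfold IsTISubset at hTI
  push Not at hTI
  obtain ⟨g, hg, y, hy, hgy, hy1⟩ := hTI
  rw [hFS] at hg hy hgy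
  have hy' : y ∈ sigmaCore M := hy
  have hgy' : g * y * g⁻¹ ∈ sigmaCore M := hgy
  have hgM : g ∉ M := fun h => hg (Cfsg.Agent.Lib.helper71.BGA.le_normalizer_sigmaCore M h)
  have hσM : sigmaCore M ≤ M := Cfsg.Agent.Lib.helper71.BGA.sigmaCore_le M
  -- a power of `y` of prime order
  have ho1 : orderOf y ≠ 1 := fun h => hy1 (orderOf_eq_one_iff.mp h)
  obtain ⟨p, hp, hpd⟩ := Nat.exists_prime_and_dvd ho1
  have hF : Fact p.Prime := ⟨hp⟩
  have hxo : orderOf (y ^ (orderOf y / p)) = p :=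
    orderOf_pow_orderOf_div (orderOf_pos y).ne' hpd
  have hxσ : y ^ (orderOf y / p) ∈ sigmaCore M := (sigmaCore M).pow_mem hy' _
  have hgx : g * y ^ (orderOf y / p) * g⁻¹ ∈ sigmaCore M := by
    rw [← conj_pow]
    exact (sigmaCore M).pow_mem hgy' _
  set x : G := y ^ (orderOf y / p) with hx
  -- `p ∈ σ(M)`
  have hpσ : p ∈ sigma M := by
    have h1 := (Cfsg.Agent.S1350.result hG M hM).1
    apply h1.2.1 p hp
    have h2 : orderOf (⟨x, hxσ⟩ : sigmaCore M) = p := by
      rw [← Subgroup.orderOf_coe]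
      exact hxo
    rw [← h2]
    exact orderOf_dvd_natCard _
  -- `X = ⟨x⟩`
  have hXcard : Nat.card (zpowers x) = p := by rw [Nat.card_zpowers, hxo]
  have hXp : IsPGroup p (zpowers x) := IsPGroup.of_card (n := 1) (by rw [hXcard, pow_one])
  have hX1 : zpowers x ≠ ⊥ := by
    intro h0
    rw [h0, Subgroup.card_bot] at hXcard
    exact hp.one_lt.ne hXcard
  have hXM : zpowers x ≤ M := by
    rw [zpowers_le]
    exact hσM hxσ
  have hmap : (zpowers x).map (MulAut.conj g).toMonoidHom ≤ M := by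
    rintro _ ⟨w, hw, rfl⟩
    obtain ⟨i, rfl⟩ := mem_zpowers_iff.mp hw
    have h1 : (MulAut.conj g).toMonoidHom (x ^ i) = (g * x * g⁻¹) ^ i := by
      simp [conj_zpow]
    rw [h1]
    exact M.zpow_mem (hσM hgx) i
  obtain ⟨m, hm, c, hc, hgmc⟩ := (Cfsg.Agent.S1404.result hG M hM p hpσ (zpowers x) hXp hX1 hXM).1 g hmap
  have hcM : c ∉ M := by
    intro hcM
    apply hgM
    rw [hgmc]
    exact M.mul_mem hm hcM
  refine ⟨p, x, hp, hpσ, ?_, hxσ, hxo, ?_⟩
  · intro hβ
    obtain ⟨P⟩ := (Sylow.nonempty : Nonempty (Sylow p ↥(sigmaCore M)))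
    have h1 := (Cfsg.Agent.S1423.result hG M hM p hpσ (zpowers x) hXM hXcard P (Or.inl hβ)).1.1
    exact hcM (h1 hc)
  · intro hle
    apply hcM
    apply hle
    exact Subgroup.centralizer_le (by
      intro z hz
      rw [Set.mem_singleton_iff] at hz
      rw [hz]
      exact mem_zpowers x) hc

end Cfsg.Agent.Lib.helper71.TV
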