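import Mathlib
import Cfsg.Prelude.Def_OddOrderLocal
import Cfsg.Agent.S1426

/-!
# S1383 piece C1b: `M_σ = P × Q`, `Q` abelian, `K` a complement normalizing `P`, `Q`:
`[P, K] = P` and `C_{M_σ}(K) ≤ [P, P]`
-/

set_option autoImplicit false

namespace Cfsg.Agent.Lib.helper71.TV

open Cfsg Subgroup
open scoped commutatorElement

variable {G : Type*} [Group G]

/-- Elements of the join of two elementwise commuting subgroups are products. -/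
theorem h71tv_mem_sup {P Q : Subgroup G} (hcomm : ∀ a ∈ P, ∀ b ∈ Q, a * b = b * a) {x : G}
    (hx : x ∈ P ⊔ Q) : ∃ a ∈ P, ∃ b ∈ Q, a * b = x := by
  rw [sup_eq_closure] at hx
  refine closure_induction ?_ ?_ ?_ ?_ hx
  · rintro x (hx | hx)
    · exact ⟨x, hx, 1, Q.one_mem, by simp⟩
    · exact ⟨1, P.one_mem, x, hx, by simp⟩
  · exact ⟨1, P.one_mem, 1, Q.one_mem, by simp⟩
  · rintro _ _ _ _ ⟨a₁, ha₁, b₁, hb₁, rfl⟩ ⟨a₂, ha₂, b₂, hb₂, rfl⟩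
    refine ⟨a₁ * a₂, P.mul_mem ha₁ ha₂, b₁ * b₂, Q.mul_mem hb₁ hb₂, ?_⟩
    have h1 := hcomm a₂ ha₂ b₁ hb₁
    calc a₁ * a₂ * (b₁ * b₂) = a₁ * (a₂ * b₁) * b₂ := by group
      _ = a₁ * (b₁ * a₂) * b₂ := by rw [h1]
      _ = a₁ * b₁ * (a₂ * b₂) := by group
  · rintro _ _ ⟨a, ha, b, hb, rfl⟩
    refine ⟨a⁻¹, P.inv_mem ha, b⁻¹, Q.inv_mem hb, ?_⟩
    rw [mul_inv_rev]
    exact hcomm a⁻¹ (P.inv_mem ha) b⁻¹ (Q.inv_mem hb)

/-- `[a b, y] = [a, y]` when `b` commutes with `y`. -/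
theorem h71tv_comm_left (a b y : G) (hb : b * y = y * b) : ⁅a * b, y⁆ = ⁅a, y⁆ := by
  rw [commutatorElement_def, commutatorElement_def]
  calc a * b * y * (a * b)⁻¹ * y⁻¹ = a * (b * y) * b⁻¹ * a⁻¹ * y⁻¹ := by group
    _ = a * (y * b) * b⁻¹ * a⁻¹ * y⁻¹ := by rw [hb]
    _ = a * y * a⁻¹ * y⁻¹ := by group

/-- `[a, a' b'] = [a, a']` when `b'` commutes with `a`. -/
theorem h71tv_comm_right (a a' b' : G) (hb : b' * a = a * b') : ⁅a, a' * b'⁆ = ⁅a, a'⁆ := by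
  have hb' : b' * a⁻¹ = a⁻¹ * b' := (show Commute b' a from hb).inv_right.eq
  rw [commutatorElement_def, commutatorElement_def]
  calc a * (a' * b') * a⁻¹ * (a' * b')⁻¹ = a * a' * (b' * a⁻¹) * b'⁻¹ * a'⁻¹ := by group
    _ = a * a' * (a⁻¹ * b') * b'⁻¹ * a'⁻¹ := by rw [hb']
    _ = a * a' * a⁻¹ * a'⁻¹ := by group

/-- **C1b** (S1426). `M_σ = P × Q` with `Q` abelian, `K` a complement of `M_σ` in `M`
normalizing `P` and `Q`: then `[P, K] = P` and `C_{M_σ}(K) ≤ [P, P]`. -/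
theorem comm_P [Finite G] (hG : IsMinSimpleOddOrder G) (M : Subgroup G) (hM : IsCoatom M)
    (p : ℕ) [Fact p.Prime] (P Q : Subgroup G)
    (hPp : IsPGroup p ↥P) (hQp : (Nat.card ↥Q).Coprime p) (hPQ : P ⊔ Q = sigmaCore M)
    (hcomm : ∀ a ∈ P, ∀ b ∈ Q, a * b = b * a) (hQa : IsMulCommutative ↥Q)
    (K : Subgroup G) (hK : IsComplIn K (sigmaCore M) M)
    (hKP : K ≤ normalizer (P : Set G)) (hKQ : K ≤ normalizer (Q : Set G)) :
    ⁅P, K⁆ = P ∧ sigmaCore M ⊓ centralizer (K : Set G) ≤ ⁅P, P⁆ := by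
  obtain ⟨h1, h2, -⟩ := Cfsg.Agent.S1426.result hG M hM K hK
  have hQab : ∀ b ∈ Q, ∀ b' ∈ Q, b * b' = b' * b := by
    intro b hb b' hb'
    have h3 := mul_comm' (⟨b, hb⟩ : Q) ⟨b', hb'⟩
    exact congrArg (fun z : Q => (z : G)) h3
  have hPQbot : P ⊓ Q = ⊥ := by
    apply disjoint_iff.mp
    apply Subgroup.disjoint_of_coprime_natCard
    obtain ⟨n, hn⟩ := IsPGroup.iff_card.mp hPp
    rw [hn]
    exact Nat.Coprime.pow_left n hQp.symm
  -- `[K-commutators]` stay inside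
  have hPK : ⁅P, K⁆ ≤ P := by
    rw [Subgroup.commutator_le]
    intro a ha k hk
    rw [commutatorElement_def]
    have h3 := hKP hk
    rw [mem_normalizer_iff] at h3
    have h4 : k * a⁻¹ * k⁻¹ ∈ P := (h3 a⁻¹).mp (P.inv_mem ha)
    have : a * k * a⁻¹ * k⁻¹ = a * (k * a⁻¹ * k⁻¹) := by group
    rw [this]
    exact P.mul_mem ha h4
  have hQK : ⁅Q, K⁆ ≤ Q := by
    rw [Subgroup.commutator_le]
    intro a ha k hk
    rw [commutatorElement_def]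
    have h3 := hKQ hk
    rw [mem_normalizer_iff] at h3
    have h4 : k * a⁻¹ * k⁻¹ ∈ Q := (h3 a⁻¹).mp (Q.inv_mem ha)
    have : a * k * a⁻¹ * k⁻¹ = a * (k * a⁻¹ * k⁻¹) := by group
    rw [this]
    exact Q.mul_mem ha h4
  refine ⟨le_antisymm hPK ?_, ?_⟩
  · -- `P ≤ [P, K]`
    have h3 : ⁅P ⊔ Q, K⁆ ≤ ⁅P, K⁆ ⊔ ⁅Q, K⁆ := by
      rw [Subgroup.commutator_le]
      intro z hz k hk
      obtain ⟨a, ha, b, hb, rfl⟩ := h71tv_mem_sup hcomm hz
      have hbk : ⁅b, k⁆ ∈ ⁅Q, K⁆ := Subgroup.commutator_mem_commutator hb hk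
      have hak : ⁅a, k⁆ ∈ ⁅P, K⁆ := Subgroup.commutator_mem_commutator ha hk
      have h4 : ⁅a * b, k⁆ = a * ⁅b, k⁆ * a⁻¹ * ⁅a, k⁆ := by
        simp only [commutatorElement_def]
        group
      have h5 : a * ⁅b, k⁆ * a⁻¹ = ⁅b, k⁆ := by
        rw [hcomm a ha _ (hQK hbk), mul_assoc, mul_inv_cancel, mul_one]
      rw [h4, h5]
      exact (⁅P, K⁆ ⊔ ⁅Q, K⁆).mul_mem ((le_sup_right : ⁅Q, K⁆ ≤ _) hbk)
        ((le_sup_left : ⁅P, K⁆ ≤ _) hak)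
    intro x hx
    have hx' : x ∈ ⁅P ⊔ Q, K⁆ := by
      rw [hPQ, h2, ← hPQ]
      exact (le_sup_left : P ≤ P ⊔ Q) hx
    obtain ⟨u, hu, v, hv, huv⟩ := h71tv_mem_sup
      (fun a ha b hb => hcomm a (hPK ha) b (hQK hb)) (h3 hx')
    have hv' : v ∈ P ⊓ Q := by
      refine ⟨?_, hQK hv⟩
      have : v = u⁻¹ * x := by rw [← huv]; group
      rw [this]
      exact P.mul_mem (P.inv_mem (hPK hu)) hx
    rw [hPQbot, Subgroup.mem_bot] at hv'
    rw [hv', mul_one] at huv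
    rw [← huv]
    exact hu
  · -- `C_{M_σ}(K) ≤ (M_σ)' = [P, P]`
    refine h1.trans ?_
    rw [← hPQ, Subgroup.commutator_le]
    intro z hz w hw
    obtain ⟨a, ha, b, hb, rfl⟩ := h71tv_mem_sup hcomm hz
    obtain ⟨a', ha', b', hb', rfl⟩ := h71tv_mem_sup hcomm hw
    have e1 : ⁅a * b, a' * b'⁆ = ⁅a, a' * b'⁆ := by
      apply h71tv_comm_left
      calc b * (a' * b') = (b * a') * b' := by group
        _ = (a' * b) * b' := by rw [(hcomm a' ha' b hb).symm]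
        _ = a' * (b * b') := by group
        _ = a' * (b' * b) := by rw [hQab b hb b' hb']
        _ = a' * b' * b := by group
    have e2 : ⁅a, a' * b'⁆ = ⁅a, a'⁆ :=
      h71tv_comm_right a a' b' (hcomm a ha b' hb').symm
    rw [e1, e2]
    exact Subgroup.commutator_mem_commutator ha ha'

end Cfsg.Agent.Lib.helper71.TV
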