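import Mathlib
import Cfsg.Prelude.Def_OddOrderLocal
import Cfsg.Agent.Lib.helper71.TV_C1b
import Cfsg.Agent.Lib.helper60.BGTau2Ab
import Cfsg.Agent.S1375
import Cfsg.Agent.S1420
import Cfsg.Agent.S1426

/-!
# S1383 piece B1: the structure of a "bad" element: `Q ≤ M ∩ N` abelian, `P` non-abelian
-/

set_option autoImplicit false

namespace Cfsg.Agent.Lib.helper71.TV

open Cfsg Subgroup
open scoped commutatorElement

variable {G : Type*} [Group G]

/-- **B1** (S1375 + S1350 + S1420 + S1426). -/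
theorem bad_struct [Finite G] (hG : IsMinSimpleOddOrder G) (M : Subgroup G) (hM : IsCoatom M)
    (p : ℕ) [Fact p.Prime] (P Q : Subgroup G) (hPp : IsPGroup p ↥P)
    (hQp : (Nat.card ↥Q).Coprime p) (hQn : Group.IsNilpotent ↥Q) (hPQ : P ⊔ Q = sigmaCore M)
    (hcomm : ∀ a ∈ P, ∀ b ∈ Q, a * b = b * a)
    (x : G) (hxP : x ∈ P) (hx1 : x ≠ 1) (hxM : ¬ centralizer ({x} : Set G) ≤ M)
    (E₀ : Subgroup G) (hE₀ : IsComplIn E₀ (sigmaCore M) M)
    (hKs : sigmaCore M ⊓ centralizer (E₀ : Set G) ≠ ⊥) :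
    ∃ N : Subgroup G, IsCoatom N ∧ IsComplIn (M ⊓ N) (sigmaCore N) N ∧ Q ≤ M ⊓ N ∧
      IsMulCommutative ↥Q ∧ ¬ IsMulCommutative ↥P := by
  have hPσ : P ≤ sigmaCore M := hPQ ▸ (le_sup_left : P ≤ P ⊔ Q)
  have hQσ : Q ≤ sigmaCore M := hPQ ▸ (le_sup_right : Q ≤ P ⊔ Q)
  have hσM : sigmaCore M ≤ M := hE₀.2.1
  obtain ⟨N, ⟨hN, hxN⟩, -, -, -, -, hcompl, -⟩ :=
    Cfsg.Agent.S1375.result hG M hM x (hPσ hxP) hx1 hxM
  have hQN : Q ≤ N := by
    intro b hb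
    apply hxN
    rw [mem_centralizer_iff]
    intro y hy
    rw [Set.mem_singleton_iff] at hy
    rw [hy]
    exact hcomm x hxP b hb
  have hQMN : Q ≤ M ⊓ N := le_inf (hQσ.trans hσM) hQN
  have hQab : IsMulCommutative ↥Q := by
    apply (Cfsg.Agent.S1420.result hG N hN (M ⊓ N) hcompl).1 Q hQN hQn
    intro q hq hqd
    exact Cfsg.Agent.Lib.helper60.BGTau2Ab.not_mem_sigma_of_dvd_card_compl hG N hN (M ⊓ N) hcompl
      q hq (hqd.trans (Subgroup.card_dvd_of_le hQMN))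
  refine ⟨N, hN, hcompl, hQMN, hQab, ?_⟩
  intro hPa
  apply hKs
  have h1 := (Cfsg.Agent.S1426.result hG M hM E₀ hE₀).1
  have hQab' : ∀ b ∈ Q, ∀ b' ∈ Q, b * b' = b' * b := by
    intro b hb b' hb'
    have h3 := mul_comm' (⟨b, hb⟩ : Q) ⟨b', hb'⟩
    exact congrArg (fun z : Q => (z : G)) h3
  have hPab' : ∀ a ∈ P, ∀ a' ∈ P, a * a' = a' * a := by
    intro a ha a' ha'
    have h3 := mul_comm' (⟨a, ha⟩ : P) ⟨a', ha'⟩
    exact congrArg (fun z : P => (z : G)) h3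
  have h2 : ⁅sigmaCore M, sigmaCore M⁆ = ⊥ := by
    rw [eq_bot_iff, ← hPQ, Subgroup.commutator_le]
    intro z hz w hw
    obtain ⟨a, ha, b, hb, rfl⟩ := h71tv_mem_sup hcomm hz
    obtain ⟨a', ha', b', hb', rfl⟩ := h71tv_mem_sup hcomm hw
    have e1 : ⁅a * b, a' * b'⁆ = ⁅a, a' * b'⁆ := by
      apply h71tv_comm_left
      calc b * (a' * b') = (b * a') * b' := by group
        _ = (a' * b) * b' := by rw [(hcomm a' ha' b hb).symm]
        _ = a' * (b * b') := by group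
        _ = a' * (b' * b) := by rw [hQab' b hb b' hb']
        _ = a' * b' * b := by group
    have e2 : ⁅a, a' * b'⁆ = ⁅a, a'⁆ :=
      h71tv_comm_right a a' b' (hcomm a ha b' hb').symm
    rw [e1, e2, Subgroup.mem_bot, commutatorElement_def, hPab' a ha a' ha']
    group
  rw [eq_bot_iff, ← h2]
  exact h1

end Cfsg.Agent.Lib.helper71.TV
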