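import Mathlib
import Cfsg.Prelude.Def_OddOrderLocal
import Cfsg.Agent.Lib.helper29.Rank2
import Cfsg.Agent.Lib.helper28.PConn
import Cfsg.Agent.Lib.helper60.BGTau2Ab
import Cfsg.Agent.S1418
import Cfsg.Agent.S1420

/-!
# S1383 piece B2: a `p`-group centralizing a noncyclic abelian subgroup of a complement of `N_σ`
is abelian
-/

set_option autoImplicit false

namespace Cfsg.Agent.Lib.helper71.TV

open Cfsg Subgroup

variable {G : Type*} [Group G]

/-- **B2** (S1350 + S1418 + S1420). `E` a complement of `N_σ` in the maximal subgroup `N`,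
`Q ≤ E` abelian and NOT cyclic. Then every `p`-subgroup `P` of `G` centralizing `Q` is abelian. -/
theorem cent_noncyclic [Finite G] (hG : IsMinSimpleOddOrder G) (N : Subgroup G) (hN : IsCoatom N)
    (E : Subgroup G) (hE : IsComplIn E (sigmaCore N) N) (Q : Subgroup G) (hQE : Q ≤ E)
    (hQa : IsMulCommutative ↥Q) (hQc : ¬ IsCyclic ↥Q) (p : ℕ) [Fact p.Prime] (P : Subgroup G)
    (hP : IsPGroup p ↥P) (hPQ : ∀ a ∈ P, ∀ b ∈ Q, a * b = b * a) : IsMulCommutative ↥P := by
  have hpp : p.Prime := Fact.out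
  have hEN : E ≤ N := hE.1
  obtain ⟨r, A, hr, hAQ, hAel, hAcard⟩ :=
    Cfsg.Agent.Lib.helper29.exists_elementaryAbelian_of_not_isCyclic Q hQc
  have hF : Fact r.Prime := ⟨hr⟩
  have hAE : A ≤ E := hAQ.trans hQE
  have hAN : A ≤ N := hAE.trans hEN
  -- `r ∣ |E|`
  have hrA : r ∣ Nat.card A := by
    have h1 : r ∣ r ^ 2 := dvd_pow_self r (by norm_num)
    have hAp : IsPGroup r A := by
      intro g
      refine ⟨1, ?_⟩
      apply Subtype.ext
      rw [pow_one, Subgroup.coe_pow]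
      exact hAel.2 g.1 g.2
    obtain ⟨n, hn⟩ := IsPGroup.iff_card.mp hAp
    rw [hn] at hAcard ⊢
    have hn2 : 2 ≤ n := by
      by_contra hlt
      have hle : n ≤ 1 := by omega
      have h2 : r ^ n ≤ r ^ 1 := Nat.pow_le_pow_right hr.pos hle
      have h3 : r ^ 1 < r ^ 2 := Nat.pow_lt_pow_right hr.one_lt (by norm_num)
      omega
    exact dvd_pow_self r (by omega)
  have hrE : r ∣ Nat.card E := hrA.trans (Subgroup.card_dvd_of_le hAE)
  -- `r ∈ τ₂(N)`
  have hr1 : ¬ PRankLE r 1 ↥N := by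
    rw [Cfsg.Agent.Lib.helper28.not_pRankLE_subgroup_iff]
    refine ⟨A, hAN, hAel, ?_⟩
    have h3 : r ^ 1 < r ^ 2 := Nat.pow_lt_pow_right hr.one_lt (by norm_num)
    omega
  have hτ : r ∈ tau2 N :=
    Cfsg.Agent.Lib.helper60.BGTau2Ab.mem_tau2_of_dvd_card_compl hG N hN E hE r hr hrE hr1
  have hAcard' : Nat.card A = r ^ 2 := by
    apply le_antisymm _ hAcard
    by_contra hlt
    push Not at hlt
    exact ((Cfsg.Agent.Lib.helper28.not_pRankLE_subgroup_iff r 2 N).mpr ⟨A, hAN, hAel, hlt⟩)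
      hτ.2.2.1
  -- `C_G(A) ≤ E`
  obtain ⟨-, ⟨hCA, hNE, -⟩, -⟩ := Cfsg.Agent.S1418.result hG N hN E hE r hτ A ⟨hAE, hAel, hAcard'⟩
  have hPE : P ≤ E := by
    intro a ha
    have h1 : a ∈ centralizer (A : Set G) := by
      rw [mem_centralizer_iff]
      intro b hb
      exact (hPQ a ha b (hAQ hb)).symm
    rw [← hNE]
    exact hCA h1
  -- `P` is abelian
  apply (Cfsg.Agent.S1420.result hG N hN E hE).1 P (hPE.trans hEN) hP.isNilpotent
  intro q hq hqd
  exact Cfsg.Agent.Lib.helper60.BGTau2Ab.not_mem_sigma_of_dvd_card_compl hG N hN E hE q hq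
    (hqd.trans (Subgroup.card_dvd_of_le hPE))

end Cfsg.Agent.Lib.helper71.TV
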