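import Mathlib
import Cfsg.Agent.Lib.helper55.P2Defs
import Cfsg.Agent.Lib.helper71.P2P8
import Cfsg.Agent.Lib.helper69.BGKappaA
import Cfsg.Agent.Lib.helper3.BGCross
import Cfsg.Agent.S1350

/-!
# S1435 piece P3 (step 0): `U ⊔ K ≤ H`, `C(U) ≤ H`, and `H` is not conjugate to `M`
-/

set_option autoImplicit false

namespace Cfsg.Agent.Lib.helper55.P2

open Cfsg Subgroup

variable {G : Type*} [Group G]

/-- In a group all of whose elements commute, a Sylow subgroup contains every element killed by a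
power of the prime. -/
theorem p3_mem_sylow [Finite G] (hab : ∀ a b : G, a * b = b * a) (r : ℕ) [Fact r.Prime]
    (R : Sylow r G) (x : G) (n : ℕ) (hx : x ^ r ^ n = 1) : x ∈ (R : Subgroup G) := by
  have hrp : r.Prime := Fact.out
  have hRn : (R : Subgroup G).Normal := by
    refine ⟨fun a ha g => ?_⟩
    have : g * a * g⁻¹ = a := by rw [hab g a, mul_assoc, mul_inv_cancel, mul_one]
    rw [this]
    exact ha
  have hsub : Subsingleton (Sylow r G) := by
    have := Sylow.unique_of_normal R hRn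
    infer_instance
  have hz : IsPGroup r (zpowers x) := by
    obtain ⟨m, -, hm⟩ := (Nat.dvd_prime_pow hrp).mp (orderOf_dvd_of_pow_eq_one hx)
    apply IsPGroup.of_card (n := m)
    rw [Nat.card_zpowers, hm]
  obtain ⟨Q, hQ⟩ := hz.exists_le_sylow
  have hQR : Q = R := Subsingleton.elim Q R
  rw [← hQR]
  exact hQ (mem_zpowers x)

/-- (P3) step 0: `U ⊔ K ≤ H` and `H` is not conjugate to `M`. -/
theorem p2_step0 [Finite G] (hG : IsMinSimpleOddOrder G) {M K U Ms : Subgroup G}
    (b : Basic M K U Ms) (r : ℕ) [Fact r.Prime] (hr : r ∣ Nat.card U) (R : Sylow r U)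
    (H : Subgroup G) (hH : IsCoatom H)
    (hNR : normalizer (((R : Subgroup U).map U.subtype : Subgroup G) : Set G) ≤ H) :
    U ≤ H ∧ K ≤ H ∧ centralizer (U : Set G) ≤ H ∧
      ∀ g : G, H ≠ M.map (MulAut.conj g).toMonoidHom := by
  have hrp : r.Prime := Fact.out
  set R' : Subgroup G := (R : Subgroup U).map U.subtype with hR'
  have hR'U : R' ≤ U := by
    rintro _ ⟨w, _, rfl⟩
    exact w.2
  have hUM : U ≤ M := b.hKU.compl.1
  -- `U` centralizes `R'`
  have hUC : U ≤ centralizer (R' : Set G) := by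
    intro u hu
    rw [mem_centralizer_iff]
    intro h hh
    exact b.uab h (hR'U hh) u hu
  have hUH : U ≤ H := fun u hu => hNR (centralizer_le_normalizer _ (hUC hu))
  have hCU : centralizer (U : Set G) ≤ H := by
    intro c hc
    apply hNR
    apply centralizer_le_normalizer
    exact Subgroup.centralizer_le (show (R' : Set G) ⊆ (U : Set G) from hR'U) hc
  -- `K` normalizes `R'`
  have habU : ∀ a b' : U, a * b' = b' * a := by
    intro a b'
    apply Subtype.ext
    exact b.uab a a.2 b' b'.2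
  have hKN : K ≤ normalizer (R' : Set G) := by
    apply p8_le_normalizer
    intro k hk v hv
    obtain ⟨w, hw, rfl⟩ := hv
    have hxU : k * (w : G) * k⁻¹ ∈ U := by
      have h1 := b.hKU.normal hk
      rw [mem_normalizer_iff] at h1
      exact (h1 (w : G)).mp w.2
    obtain ⟨n, hn⟩ := (R.isPGroup' : IsPGroup r (R : Subgroup U)) ⟨w, hw⟩
    have hwn : ((w : U) : G) ^ r ^ n = 1 := by
      have h2 := congrArg (fun z : (R : Subgroup U) => ((z : U) : G)) hn
      simpa using h2
    have hx : (⟨k * (w : G) * k⁻¹, hxU⟩ : U) ^ r ^ n = 1 := by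
      apply Subtype.ext
      show (k * (w : G) * k⁻¹) ^ r ^ n = 1
      rw [conj_pow, hwn, mul_one, mul_inv_cancel]
    have hmem := p3_mem_sylow habU r R ⟨k * (w : G) * k⁻¹, hxU⟩ n hx
    exact ⟨⟨k * (w : G) * k⁻¹, hxU⟩, hmem, rfl⟩
  have hKH : K ≤ H := hKN.trans hNR
  refine ⟨hUH, hKH, hCU, ?_⟩
  intro g hHg
  -- `r ∈ σ(H) = σ(M)`, contradicting `r ∤ |M_σ|`-type hypothesis on `U`
  have hU := b.uprime r hrp hr
  have hHallU := Cfsg.Agent.Lib.helper69.bgk_decomp_hall (Cfsg.Agent.S1350.result hG M b.hM).1 b.hKU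
  have hrUM : ¬ r ∣ U.relIndex M := hHallU.2.2 r hrp ⟨hrp, hU.2, hU.1⟩
  have hcardHM : Nat.card H = Nat.card M := by
    rw [hHg]
    exact Subgroup.card_map_of_injective (MulAut.conj g).injective
  have hrelU : U.relIndex H = U.relIndex M := by
    have h1 := Subgroup.relIndex_mul_relIndex (⊥ : Subgroup G) U H bot_le hUH
    have h2 := Subgroup.relIndex_mul_relIndex (⊥ : Subgroup G) U M bot_le hUM
    rw [Subgroup.relIndex_bot_left, Subgroup.relIndex_bot_left] at h1 h2
    have h3 : Nat.card U * U.relIndex H = Nat.card U * U.relIndex M := by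
      rw [h1, h2, hcardHM]
    exact Nat.eq_of_mul_eq_mul_left Nat.card_pos h3
  have hrelR : R'.relIndex U = (R : Subgroup U).index := by
    have h1 : R'.subgroupOf U = (R : Subgroup U) :=
      Subgroup.comap_map_eq_self_of_injective U.subtype_injective (R : Subgroup U)
    show (R'.subgroupOf U).index = _
    rw [h1]
  have hidx : ¬ r ∣ R'.relIndex H := by
    rw [← Subgroup.relIndex_mul_relIndex R' U H hR'U hUH, hrelR, hrelU]
    intro hd
    rcases (Nat.Prime.dvd_mul hrp).mp hd with h1 | h1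
    · exact R.not_dvd_index h1
    · exact hrUM h1
  have hR'p : IsPGroup r R' := R.isPGroup'.map U.subtype
  have hR'1 : R' ≠ ⊥ := by
    intro h0
    have h1 : (R : Subgroup U) = ⊥ :=
      (Subgroup.map_eq_bot_iff_of_injective _ U.subtype_injective).mp h0
    exact R.ne_bot_of_dvd_card hr h1
  have hσ : r ∈ sigma H :=
    Cfsg.Agent.Lib.helper3.mem_sigma_of_sylow hrp R' (hR'U.trans hUH) hR'p hR'1 hidx hNR
  rw [hHg, Cfsg.Agent.Lib.helper3.sigma_map_conj M g] at hσ
  exact hU.1 hσ

end Cfsg.Agent.Lib.helper55.P2
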