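import Mathlib

/-!
# S1435 piece P9: a subgroup is generated by its elements of prime power order
-/

set_option autoImplicit false

namespace Cfsg.Agent.Lib.helper55.P2

open Subgroup

variable {G : Type*} [Group G]

/-- (P9) a subgroup is generated by its elements of prime power order. -/
theorem le_of_prime_pow_mem [Finite G] (D C : Subgroup G)
    (h : ∀ d ∈ D, (∃ s n : ℕ, s.Prime ∧ orderOf d = s ^ n) → d ∈ C) : D ≤ C := by
  have key : ∀ m : ℕ, ∀ d ∈ D, orderOf d = m → d ∈ C := by
    intro m
    induction m using Nat.strong_induction_on with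
    | _ m ih =>
      intro d hd hm
      by_cases hm1 : m = 1
      · exact h d hd ⟨2, 0, Nat.prime_two, by rw [hm, hm1, pow_zero]⟩
      · have hmpos : 0 < m := hm ▸ orderOf_pos d
        obtain ⟨s, hs, hsm⟩ := Nat.exists_prime_and_dvd hm1
        obtain ⟨a, m', hsm', hmeq⟩ := Nat.exists_eq_pow_mul_and_not_dvd hmpos.ne' s hs.ne_one
        by_cases hm'1 : m' = 1
        · exact h d hd ⟨s, a, hs, by rw [hm, hmeq, hm'1, mul_one]⟩
        · have ha : a ≠ 0 := by
            rintro rfl
            rw [pow_zero, one_mul] at hmeq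
            exact hsm' (hmeq ▸ hsm)
          have hm'pos : 0 < m' := by
            rcases Nat.eq_zero_or_pos m' with h0 | h0
            · rw [h0, mul_zero] at hmeq; omega
            · exact h0
          have hsa : 1 < s ^ a := Nat.one_lt_pow ha hs.one_lt
          have hsapos : 0 < s ^ a := by omega
          have hcop : Nat.Coprime (s ^ a) m' :=
            Nat.Coprime.pow_left a ((Nat.Prime.coprime_iff_not_dvd hs).mpr hsm')
          have ho1 : orderOf (d ^ (s ^ a)) = m' := by
            rw [orderOf_pow_of_dvd hsapos.ne' (by rw [hm, hmeq]; exact dvd_mul_right _ _), hm,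
              hmeq, Nat.mul_div_cancel_left _ hsapos]
          have ho2 : orderOf (d ^ m') = s ^ a := by
            rw [orderOf_pow_of_dvd hm'pos.ne' (by rw [hm, hmeq]; exact dvd_mul_left _ _), hm,
              hmeq, Nat.mul_div_cancel _ hm'pos]
          have hlt1 : m' < m := by
            rw [hmeq]
            calc m' = 1 * m' := (one_mul _).symm
              _ < s ^ a * m' := Nat.mul_lt_mul_of_pos_right hsa hm'pos
          have hlt2 : s ^ a < m := by
            rw [hmeq]
            have hm'2 : 1 < m' := by omega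
            calc s ^ a = s ^ a * 1 := (mul_one _).symm
              _ < s ^ a * m' := Nat.mul_lt_mul_of_pos_left hm'2 hsapos
          have h1 := ih m' hlt1 (d ^ (s ^ a)) (D.pow_mem hd _) ho1
          have h2 := ih (s ^ a) hlt2 (d ^ m') (D.pow_mem hd _) ho2
          have hb : ((Nat.gcd (s ^ a) m' : ℕ) : ℤ) =
              ((s ^ a : ℕ) : ℤ) * Nat.gcdA (s ^ a) m' + (m' : ℤ) * Nat.gcdB (s ^ a) m' :=
            Nat.gcd_eq_gcd_ab _ _
          have hc : Nat.gcd (s ^ a) m' = 1 := hcop
          rw [hc] at hb
          have hd' : d = (d ^ (s ^ a)) ^ (Nat.gcdA (s ^ a) m') * (d ^ m') ^ (Nat.gcdB (s ^ a) m') := by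
            rw [← zpow_natCast d (s ^ a), ← zpow_natCast d m', ← zpow_mul, ← zpow_mul, ← zpow_add,
              ← hb]
            simp
          rw [hd']
          exact C.mul_mem (C.zpow_mem h1 _) (C.zpow_mem h2 _)
  intro d hd
  exact key _ d hd rfl

end Cfsg.Agent.Lib.helper55.P2
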