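import Mathlib
import Cfsg.Prelude.Def_Transfer
import Cfsg.Agent.Lib.helper28.BenderMax
import Cfsg.Agent.Lib.helper1.Coprime
import Cfsg.Agent.Lib.helper53.Conj
import Cfsg.Agent.Lib.lead.PNil

/-!
# Groups with a nilpotent maximal subgroup (helper71)

Generic machinery for theorems of Thompson / Deskins / Janko type: a finite group `G` with a
nilpotent maximal subgroup `M` is solvable as soon as one can show, in the core-free situation,
that `G` has a normal `p`-complement for every prime `p` dividing `|M|`.

* `SylData p M P Q` : structural data in the core-free situation (`P` the Sylow `p`-subgroup of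
  `M`, which is a Sylow `p`-subgroup of `G` with `N_G(P) = M`, and `Q` the `p'`-part of `M`).
* `exists_sylData` : existence of these data.
* `solvable_of_nilpotent_coatom` : the generic theorem.
-/

set_option autoImplicit false

namespace Cfsg.Agent.Lib.helper71

open Cfsg.Agent.Lib.lead (PN)
open scoped commutatorElement Pointwise

universe u

variable {G : Type u} [Group G]

/-- In a finite group, `g Q g⁻¹ ⊆ Q` elementwise gives `g ∈ N(Q)`. -/
theorem mem_normalizer_of_forall [Finite G] {Q : Subgroup G} {g : G}
    (h : ∀ x ∈ Q, g * x * g⁻¹ ∈ Q) : g ∈ Subgroup.normalizer (Q : Set G) :=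
  Cfsg.Agent.Lib.helper53.mem_normalizer_of_conj_le (Cfsg.Agent.Lib.helper53.conj_le_iff.mpr h)

/-- A nontrivial subgroup of a core-free maximal subgroup `M` normalized by `M` has normalizer
exactly `M`. -/
theorem normalizer_eq_of_coatom {M : Subgroup G} (hmax : IsCoatom M)
    (hcore : ∀ N : Subgroup G, N.Normal → N ≤ M → N = ⊥) {X : Subgroup G} (hXM : X ≤ M)
    (hX : X ≠ ⊥) (hMX : M ≤ Subgroup.normalizer (X : Set G)) :
    Subgroup.normalizer (X : Set G) = M := by
  by_contra hne
  have hlt : M < Subgroup.normalizer (X : Set G) := lt_of_le_of_ne hMX (Ne.symm hne)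
  have htop := hmax.2 _ hlt
  have hn : X.Normal := Subgroup.normalizer_eq_top_iff.mp htop
  exact hX (hcore X hn hXM)

/-- Structural data for a prime `p` dividing the order of a core-free nilpotent maximal
subgroup `M`: `P` is the Sylow `p`-subgroup of `M` and `Q` its `p'`-part. -/
structure SylData (p : ℕ) (M P Q : Subgroup G) : Prop where
  le : P ≤ M
  ne_bot : P ≠ ⊥
  normalizer_eq : Subgroup.normalizer (P : Set G) = M
  pmem : ∀ x ∈ M, (∃ k : ℕ, x ^ p ^ k = 1) → x ∈ P
  qle : Q ≤ M
  qcent : Q ≤ Subgroup.centralizer (P : Set G)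
  qcop : (Nat.card Q).Coprime p
  qmem : ∀ x ∈ M, (orderOf x).Coprime p → x ∈ Q
  decomp : ∀ m ∈ M, ∃ s ∈ P, ∃ c ∈ Q, m = s * c

theorem exists_sylData [Finite G] {M : Subgroup G} (hmax : IsCoatom M)
    (hnil : Group.IsNilpotent M)
    (hcore : ∀ N : Subgroup G, N.Normal → N ≤ M → N = ⊥) (p : ℕ) [Fact p.Prime]
    (hp : p ∣ Nat.card M) :
    ∃ (P : Sylow p G) (Q : Subgroup G), SylData p M (P : Subgroup G) Q := by
  obtain ⟨S, S', hSc, hS'c, hSp, hS'cop, hsup, hSne⟩ :=
    Cfsg.Agent.Lib.helper28.exists_sylow_hall_of_isNilpotent ↥M p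
  have hSne' : S ≠ ⊥ := hSne hp
  have hSn : S.Normal := inferInstance
  have hS'n : S'.Normal := inferInstance
  have hS'ord : ∀ c ∈ S', (orderOf c).Coprime p := fun c hc =>
    Nat.Coprime.coprime_dvd_left (Subgroup.orderOf_dvd_natCard S' hc) hS'cop
  have hdisj : S ⊓ S' = ⊥ := by
    rw [eq_bot_iff]
    rintro x ⟨hxS, hxS'⟩
    exact Subgroup.mem_bot.mpr
      (Cfsg.Agent.Lib.lead.eq_one_of_mem_of_coprime hSp hxS (hS'ord x hxS'))
  have hcomm : ∀ s ∈ S, ∀ c ∈ S', Commute s c := fun s hs c hc =>
    Subgroup.commute_of_normal_of_disjoint S S' hSn hS'n (disjoint_iff.mpr hdisj) s c hs hc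
  have hdec : ∀ m : ↥M, ∃ s ∈ S, ∃ c ∈ S', m = s * c := by
    intro m
    have hm : m ∈ S ⊔ S' := by rw [hsup]; exact Subgroup.mem_top m
    exact Cfsg.Agent.Lib.helper1.mem_sup_normal_left (N := S) (H := S')
      (by rw [Subgroup.normalizer_eq_top]; exact le_top) hm
  have hpm : ∀ m : ↥M, (∃ k : ℕ, m ^ p ^ k = 1) → m ∈ S := by
    rintro m ⟨k, hk⟩
    obtain ⟨s, hs, c, hc, rfl⟩ := hdec m
    obtain ⟨K, hK⟩ := hSp ⟨s, hs⟩
    have hK' : s ^ p ^ K = 1 := by simpa using congrArg Subtype.val hK
    have h1 : (s * c) ^ p ^ (k + K) = 1 := by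
      rw [pow_add, pow_mul, hk, one_pow]
    rw [(hcomm s hs c hc).mul_pow] at h1
    have h2 : s ^ p ^ (k + K) = 1 := by
      rw [pow_add, mul_comm, pow_mul, hK', one_pow]
    rw [h2, one_mul] at h1
    have h3 : c = 1 := Cfsg.Agent.Lib.lead.eq_one_of_pow_of_coprime h1 (hS'ord c hc)
    rw [h3, mul_one]
    exact hs
  have hqm : ∀ m : ↥M, (orderOf m).Coprime p → m ∈ S' := by
    intro m hm
    obtain ⟨s, hs, c, hc, rfl⟩ := hdec m
    have h1 : c ^ Nat.card S' = 1 :=
      orderOf_dvd_iff_pow_eq_one.mp (Subgroup.orderOf_dvd_natCard S' hc)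
    have h2 : (s * c) ^ Nat.card S' = s ^ Nat.card S' := by
      rw [(hcomm s hs c hc).mul_pow, h1, mul_one]
    have h3 : (orderOf (s ^ Nat.card S')).Coprime p := by
      rw [← h2]
      exact Nat.Coprime.coprime_dvd_left (orderOf_pow_dvd _) hm
    have h4 : s ^ Nat.card S' = 1 :=
      Cfsg.Agent.Lib.lead.eq_one_of_mem_of_coprime hSp (S.pow_mem hs _) h3
    have h5 : (orderOf s).Coprime p :=
      Nat.Coprime.coprime_dvd_left (orderOf_dvd_of_pow_eq_one h4) hS'cop
    have h6 : s = 1 := Cfsg.Agent.Lib.lead.eq_one_of_mem_of_coprime hSp hs h5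
    rw [h6, one_mul]
    exact hc
  -- the images in `G`
  have hP₁M : S.map M.subtype ≤ M := Subgroup.map_subtype_le S
  have hP₁ne : S.map M.subtype ≠ ⊥ := by
    intro h
    exact hSne' ((Subgroup.map_eq_bot_iff_of_injective S M.subtype_injective).mp h)
  have hP₁p : IsPGroup p (S.map M.subtype) := hSp.map _
  have hMN : M ≤ Subgroup.normalizer ((S.map M.subtype : Subgroup G) : Set G) :=
    le_trans Subgroup.le_normalizer
      (Cfsg.Agent.Lib.helper1.normalizer_le_normalizer_map_of_characteristic M S)
  have hnorm : Subgroup.normalizer ((S.map M.subtype : Subgroup G) : Set G) = M :=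
    normalizer_eq_of_coatom hmax hcore hP₁M hP₁ne hMN
  have hpmem : ∀ x ∈ M, (∃ k : ℕ, x ^ p ^ k = 1) → x ∈ S.map M.subtype := by
    rintro x hx ⟨k, hk⟩
    exact ⟨⟨x, hx⟩, hpm ⟨x, hx⟩ ⟨k, Subtype.ext (by simpa using hk)⟩, rfl⟩
  obtain ⟨P, hP⟩ := hP₁p.exists_le_sylow
  have hPle : (P : Subgroup G) ≤ S.map M.subtype := by
    by_contra hnle
    have hlt : (S.map M.subtype).subgroupOf (P : Subgroup G) < ⊤ := by
      rw [lt_top_iff_ne_top, Ne, Subgroup.subgroupOf_eq_top]
      exact hnle
    have : Group.IsNilpotent ↥(P : Subgroup G) := P.isPGroup'.isNilpotent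
    have hnc := Group.normalizerCondition_of_isNilpotent (G := ↥(P : Subgroup G)) _ hlt
    obtain ⟨y, hyN, hyH⟩ := SetLike.exists_of_lt hnc
    have hxN : (y : G) ∈ Subgroup.normalizer ((S.map M.subtype : Subgroup G) : Set G) := by
      apply mem_normalizer_of_forall
      intro h hh
      have h1 : (⟨h, hP hh⟩ : ↥(P : Subgroup G)) ∈ (S.map M.subtype).subgroupOf (P : Subgroup G) :=
        Subgroup.mem_subgroupOf.mpr hh
      have h2 := (Subgroup.mem_normalizer_iff.mp hyN _).mp h1
      exact Subgroup.mem_subgroupOf.mp h2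
    rw [hnorm] at hxN
    obtain ⟨k, hk⟩ := P.isPGroup' y
    have hk' : (y : G) ^ p ^ k = 1 := by simpa using congrArg Subtype.val hk
    exact hyH (Subgroup.mem_subgroupOf.mpr (hpmem _ hxN ⟨k, hk'⟩))
  have hPeq : (P : Subgroup G) = S.map M.subtype := le_antisymm hPle hP
  refine ⟨P, S'.map M.subtype, ?_⟩
  rw [hPeq]
  refine ⟨hP₁M, hP₁ne, hnorm, hpmem, Subgroup.map_subtype_le S', ?_, ?_, ?_, ?_⟩
  · rintro _ ⟨c, hc, rfl⟩
    rw [Subgroup.mem_centralizer_iff]
    rintro _ ⟨s, hs, rfl⟩
    exact congrArg Subtype.val (hcomm s hs c hc).eq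
  · rw [Subgroup.card_map_of_injective M.subtype_injective]
    exact hS'cop
  · intro x hx hox
    refine ⟨⟨x, hx⟩, hqm ⟨x, hx⟩ ?_, rfl⟩
    rw [Subgroup.orderOf_mk]
    exact hox
  · intro m hm
    obtain ⟨s, hs, c, hc, h⟩ := hdec ⟨m, hm⟩
    exact ⟨s, ⟨s, hs, rfl⟩, c, ⟨c, hc, rfl⟩, congrArg Subtype.val h⟩

theorem SylData.pn {p : ℕ} {M P Q : Subgroup G} (h : SylData p M P Q) : PN p M := by
  intro x hx y hy hox hoy
  have h1 : x * y ∈ Q := Q.mul_mem (h.qmem x hx hox) (h.qmem y hy hoy)
  exact Nat.Coprime.coprime_dvd_left (Subgroup.orderOf_dvd_natCard Q h1) h.qcop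

/-- `N_G(P) ≤ N_G(Z(P))`. -/
theorem normalizer_le_normalizer_center [Finite G] (P : Subgroup G) :
    Subgroup.normalizer (P : Set G) ≤
      Subgroup.normalizer ((P ⊓ Subgroup.centralizer (P : Set G) : Subgroup G) : Set G) := by
  intro m hm
  apply mem_normalizer_of_forall
  rintro z ⟨hzP, hzC⟩
  have hmP : ∀ h, h ∈ P ↔ m * h * m⁻¹ ∈ P := Subgroup.mem_normalizer_iff.mp hm
  refine ⟨(hmP z).mp hzP, ?_⟩
  show m * z * m⁻¹ ∈ Subgroup.centralizer (P : Set G)
  have hzC' : z ∈ Subgroup.centralizer (P : Set G) := hzC
  rw [Subgroup.mem_centralizer_iff]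
  intro h hh
  have h1 : m⁻¹ * h * m ∈ P := by
    apply (hmP (m⁻¹ * h * m)).mpr
    have e : m * (m⁻¹ * h * m) * m⁻¹ = h := by group
    rw [e]
    exact hh
  have h2 := Subgroup.mem_centralizer_iff.mp hzC' _ h1
  calc h * (m * z * m⁻¹) = m * ((m⁻¹ * h * m) * z) * m⁻¹ := by group
    _ = m * (z * (m⁻¹ * h * m)) * m⁻¹ := by rw [h2]
    _ = m * z * m⁻¹ * h := by group

theorem SylData.center_ne_bot [Finite G] {p : ℕ} [Fact p.Prime] {M Q : Subgroup G}
    {P : Sylow p G} (h : SylData p M (P : Subgroup G) Q) :
    (P : Subgroup G) ⊓ Subgroup.centralizer ((P : Subgroup G) : Set G) ≠ ⊥ := by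
  haveI : Nontrivial ↥(P : Subgroup G) := (Subgroup.nontrivial_iff_ne_bot _).mpr h.ne_bot
  haveI := P.isPGroup'.center_nontrivial
  obtain ⟨z, hz⟩ := exists_ne (1 : Subgroup.center ↥(P : Subgroup G))
  intro hbot
  apply hz
  have h1 : ((z : ↥(P : Subgroup G)) : G) ∈
      (P : Subgroup G) ⊓ Subgroup.centralizer ((P : Subgroup G) : Set G) := by
    refine ⟨(z : ↥(P : Subgroup G)).2, ?_⟩
    show ((z : ↥(P : Subgroup G)) : G) ∈ Subgroup.centralizer ((P : Subgroup G) : Set G)
    rw [Subgroup.mem_centralizer_iff]
    intro g hg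
    have h2 := Subgroup.mem_center_iff.mp z.2 ⟨g, hg⟩
    exact congrArg Subtype.val h2
  rw [hbot, Subgroup.mem_bot] at h1
  exact Subtype.ext (Subtype.ext h1)

theorem SylData.normalizer_center [Finite G] {p : ℕ} [Fact p.Prime] {M Q : Subgroup G}
    {P : Sylow p G} (hmax : IsCoatom M)
    (hcore : ∀ N : Subgroup G, N.Normal → N ≤ M → N = ⊥)
    (h : SylData p M (P : Subgroup G) Q) :
    Subgroup.normalizer (((P : Subgroup G) ⊓ Subgroup.centralizer ((P : Subgroup G) : Set G) :
      Subgroup G) : Set G) = M := by
  refine normalizer_eq_of_coatom hmax hcore (inf_le_left.trans h.le) h.center_ne_bot ?_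
  have h1 := normalizer_le_normalizer_center (P : Subgroup G)
  rw [h.normalizer_eq] at h1
  exact h1

/-- **Generic theorem on nilpotent maximal subgroups.**  Let `Good` be a property of groups
inherited by homomorphic images.  Assume that whenever `M` is a core-free nilpotent maximal
subgroup of a finite group `G` with `Good M`, the group `G` has a normal `p`-complement for
every prime `p` dividing `|M|`.  Then every finite group with a nilpotent maximal subgroup
satisfying `Good` is solvable. -/
theorem solvable_of_nilpotent_coatom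
    (Good : ∀ (X : Type u) [Group X], Prop)
    (hsurj : ∀ (X Y : Type u) [Group X] [Group Y] (f : X →* Y), Function.Surjective f →
      Good X → Good Y)
    (hloc : ∀ (G : Type u) [Group G] [Finite G] (M : Subgroup G), IsCoatom M →
      Group.IsNilpotent M → Good M → (∀ N : Subgroup G, N.Normal → N ≤ M → N = ⊥) →
      ∀ (p : ℕ) [Fact p.Prime] (P : Sylow p G) (Q : Subgroup G),
        SylData p M (P : Subgroup G) Q → Cfsg.HasNormalPComplement p G) :
    ∀ (n : ℕ) (G : Type u) [Group G] [Finite G], Nat.card G = n → ∀ M : Subgroup G,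
      IsCoatom M → Group.IsNilpotent M → Good M → Group.IsSolvable G := by
  intro n
  induction n using Nat.strong_induction_on with
  | _ n ih =>
  intro G _ _ hn M hmax hnil hgood
  by_cases hex : ∃ N : Subgroup G, N.Normal ∧ N ≤ M ∧ N ≠ ⊥
  · obtain ⟨N, hNn, hNM, hNne⟩ := hex
    haveI := hNn
    have hlt : Nat.card (G ⧸ N) < n := by
      rw [← hn]
      exact Cfsg.Agent.Lib.helper1.card_quot_lt hNne
    have hfs : Function.Surjective (QuotientGroup.mk' N) := QuotientGroup.mk'_surjective N
    have hcomap : (M.map (QuotientGroup.mk' N)).comap (QuotientGroup.mk' N) = M := by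
      rw [Subgroup.comap_map_eq, QuotientGroup.ker_mk', sup_eq_left.mpr hNM]
    have hco : IsCoatom (M.map (QuotientGroup.mk' N)) := by
      constructor
      · intro htop
        apply hmax.1
        rw [← hcomap, htop, Subgroup.comap_top]
      · intro H' hH'
        have h1 : M < H'.comap (QuotientGroup.mk' N) := by
          rw [← hcomap]
          exact (Subgroup.comap_lt_comap_of_surjective hfs).mpr hH'
        have h2 := hmax.2 _ h1
        rw [← Subgroup.map_comap_eq_self_of_surjective hfs H', h2,
          Subgroup.map_top_of_surjective _ hfs]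
    have hnil' : Group.IsNilpotent ↥(M.map (QuotientGroup.mk' N)) :=
      Group.nilpotent_of_surjective ((QuotientGroup.mk' N).subgroupMap M)
        ((QuotientGroup.mk' N).subgroupMap_surjective M)
    have hgood' : Good ↥(M.map (QuotientGroup.mk' N)) :=
      hsurj _ _ ((QuotientGroup.mk' N).subgroupMap M)
        ((QuotientGroup.mk' N).subgroupMap_surjective M) hgood
    haveI hsolvQ : Group.IsSolvable (G ⧸ N) :=
      ih _ hlt (G ⧸ N) rfl (M.map (QuotientGroup.mk' N)) hco hnil' hgood'
    haveI hsolvN : Group.IsSolvable N :=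
      Cfsg.Agent.Lib.helper1.isSolvable_of_le hNM inferInstance
    exact Group.isSolvable_of_ker_le_range N.subtype (QuotientGroup.mk' N) (by simp)
  · have hcore : ∀ N : Subgroup G, N.Normal → N ≤ M → N = ⊥ := by
      intro N hN hNM
      by_contra hne
      exact hex ⟨N, hN, hNM, hne⟩
    by_cases hM : M = ⊥
    · subst hM
      have hcomm : ∀ a b : G, a * b = b * a := by
        intro a b
        by_cases ha : a = 1
        · rw [ha, one_mul, mul_one]
        · have h1 : Subgroup.zpowers a = ⊤ := by
            apply hmax.2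
            rw [bot_lt_iff_ne_bot]
            intro h
            exact ha (Subgroup.zpowers_eq_bot.mp h)
          have h2 : b ∈ Subgroup.zpowers a := by rw [h1]; exact Subgroup.mem_top b
          obtain ⟨k, rfl⟩ := Subgroup.mem_zpowers_iff.mp h2
          exact ((Commute.refl a).zpow_right k).eq
      exact Group.isSolvable_of_comm hcomm
    · have hPN : ∀ p : ℕ, p.Prime → p ∣ Nat.card M → PN p (⊤ : Subgroup G) := by
        intro p hp hpM
        haveI : Fact p.Prime := ⟨hp⟩
        obtain ⟨P, Q, hd⟩ := exists_sylData hmax hnil hcore p hpM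
        exact Cfsg.Agent.Lib.lead.PN_top_iff.mpr (hloc G M hmax hnil hgood hcore p P Q hd)
      -- the elements of order coprime to `|M|`
      let K : Subgroup G :=
        { carrier := {x | (orderOf x).Coprime (Nat.card M)}
          mul_mem' := by
            intro a b ha hb
            apply Nat.Coprime.symm
            apply Nat.coprime_of_dvd
            intro k hk hkM
            have h1 := hPN k hk hkM a (Subgroup.mem_top a) b (Subgroup.mem_top b)
              (Nat.Coprime.coprime_dvd_right hkM ha) (Nat.Coprime.coprime_dvd_right hkM hb)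
            exact (Nat.Prime.coprime_iff_not_dvd hk).mp h1.symm
          one_mem' := by
            show (orderOf (1 : G)).Coprime _
            rw [orderOf_one]
            exact Nat.coprime_one_left _
          inv_mem' := by
            intro a ha
            show (orderOf a⁻¹).Coprime _
            rw [orderOf_inv]
            exact ha }
      have hKmem : ∀ x : G, x ∈ K ↔ (orderOf x).Coprime (Nat.card M) := fun x => Iff.rfl
      have hKn : K.Normal := ⟨fun x hx g => by
        rw [hKmem] at hx ⊢
        have h1 : orderOf (g * x * g⁻¹) = orderOf x := (MulAut.conj g).orderOf_eq x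
        rw [h1]
        exact hx⟩
      have hKM : K ⊓ M = ⊥ := by
        rw [eq_bot_iff]
        rintro x ⟨hxK, hxM⟩
        have h1 : orderOf x ∣ Nat.card M := Subgroup.orderOf_dvd_natCard M hxM
        have h2 : orderOf x = 1 := Nat.Coprime.eq_one_of_dvd ((hKmem x).mp hxK) h1
        exact Subgroup.mem_bot.mpr (orderOf_eq_one_iff.mp h2)
      have hKcop : (Nat.card K).Coprime (Nat.card M) := by
        apply Nat.Coprime.symm
        apply Nat.coprime_of_dvd
        intro k hk hkM hkK
        haveI : Fact k.Prime := ⟨hk⟩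
        obtain ⟨x, hx⟩ := exists_prime_orderOf_dvd_card' k hkK
        have h1 : (orderOf (x : G)).Coprime (Nat.card M) := (hKmem _).mp x.2
        rw [Subgroup.orderOf_coe, hx] at h1
        exact (Nat.Prime.coprime_iff_not_dvd hk).mp h1 hkM
      have hKne : K ≠ ⊥ := by
        intro hK
        apply hmax.1
        have hdvd : Nat.card G ∣ Nat.card M := by
          rw [Nat.dvd_iff_prime_pow_dvd_dvd]
          intro q k hq hqk
          haveI : Fact q.Prime := ⟨hq⟩
          by_cases hk0 : k = 0
          · subst hk0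
            simp
          by_cases hqM : q ∣ Nat.card M
          · obtain ⟨P, Q, hd⟩ := exists_sylData hmax hnil hcore q hqM
            have h1 : q ^ k ∣ Nat.card (P : Subgroup G) := P.pow_dvd_card_of_pow_dvd_card hqk
            exact h1.trans (Subgroup.card_dvd_of_le hd.le)
          · exfalso
            have hqG : q ∣ Nat.card G := (dvd_pow_self q hk0).trans hqk
            obtain ⟨x, hx⟩ := exists_prime_orderOf_dvd_card' q hqG
            have hxK : x ∈ K := by
              rw [hKmem, hx]
              exact (Nat.Prime.coprime_iff_not_dvd hq).mpr hqM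
            rw [hK, Subgroup.mem_bot] at hxK
            rw [hxK, orderOf_one] at hx
            exact hq.one_lt.ne hx
        exact Subgroup.eq_top_of_le_card M (Nat.le_of_dvd Nat.card_pos hdvd)
      have hKMtop : K ⊔ M = ⊤ := by
        by_contra hne
        have h1 : K ⊔ M = M := by
          by_contra h2
          exact hne (hmax.2 _ (lt_of_le_of_ne le_sup_right (Ne.symm h2)))
        have h3 : K ≤ M := by
          rw [← h1]
          exact le_sup_left
        exact hKne (hcore K hKn h3)
      -- a prime dividing `|M|` and the centre of the Sylow subgroup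
      have hM1 : Nat.card M ≠ 1 := fun h => hM (Subgroup.card_eq_one.mp h)
      obtain ⟨p, hp, hpM⟩ := Nat.exists_prime_and_dvd hM1
      haveI : Fact p.Prime := ⟨hp⟩
      obtain ⟨P, Q, hd⟩ := exists_sylData hmax hnil hcore p hpM
      obtain ⟨Z, hZdef⟩ : ∃ Z : Subgroup G,
          Z = (P : Subgroup G) ⊓ Subgroup.centralizer ((P : Subgroup G) : Set G) := ⟨_, rfl⟩
      have hZnorm : Subgroup.normalizer (Z : Set G) = M := by
        rw [hZdef]
        exact hd.normalizer_center hmax hcore
      have hZM : Z ≤ M := by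
        rw [hZdef]
        exact inf_le_left.trans hd.le
      have hC : K ⊓ Subgroup.centralizer (Z : Set G) = ⊥ := by
        rw [eq_bot_iff]
        intro x hx
        have h1 : x ∈ Subgroup.normalizer (Z : Set G) :=
          Subgroup.centralizer_le_normalizer _ hx.2
        rw [hZnorm] at h1
        have h2 : x ∈ K ⊓ M := ⟨hx.1, h1⟩
        rwa [hKM] at h2
      have hKsolv : Group.IsSolvable K := by
        have hK1 : Nat.card K ≠ 1 := fun h => hKne (Subgroup.card_eq_one.mp h)
        obtain ⟨q, hq, hqK⟩ := Nat.exists_prime_and_dvd hK1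
        haveI : Fact q.Prime := ⟨hq⟩
        have hZK : Z ≤ Subgroup.normalizer (K : Set G) := by
          rw [Subgroup.normalizer_eq_top]
          exact le_top
        have hZcop : (Nat.card Z).Coprime (Nat.card K) :=
          Nat.Coprime.coprime_dvd_left (Subgroup.card_dvd_of_le hZM) hKcop.symm
        have hZsolv : Group.IsSolvable Z := by
          have hZp : IsPGroup p Z := by
            rw [hZdef]
            exact P.isPGroup'.to_le inf_le_left
          haveI : Group.IsNilpotent Z := hZp.isNilpotent
          infer_instance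
        obtain ⟨Qs, hQs⟩ := Cfsg.Agent.Lib.helper1.exists_invariant_sylow (p := q) Z K hZK hZcop
          (Or.inl hZsolv)
        have hMQ : M ≤ Subgroup.normalizer
            ((((Qs : Subgroup K).map K.subtype : Subgroup G)) : Set G) := by
          intro m hm
          apply Cfsg.Agent.Lib.helper1.mem_normalizer_of_conj_smul_eq
          obtain ⟨k, hk⟩ := Cfsg.Agent.Lib.helper1.sylow_map_conj_of_mem_normalizer K Qs m
            (by rw [Subgroup.normalizer_eq_top]; exact Subgroup.mem_top m)
          have h4 : ((k • Qs : Sylow q K) : Subgroup K).map K.subtype =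
              MulAut.conj (k : G) • (Qs : Subgroup K).map K.subtype := by
            rw [Sylow.coe_subgroup_smul]
            exact Cfsg.Agent.Lib.helper1.conj_smul_map K.subtype k _
          have hZ2 : Z ≤ Subgroup.normalizer
              ((((k • Qs : Sylow q K) : Subgroup K).map K.subtype : Subgroup G) : Set G) := by
            rw [h4, ← hk]
            have h5 : MulAut.conj m⁻¹ • Z ≤ Subgroup.normalizer
                ((((Qs : Subgroup K).map K.subtype : Subgroup G)) : Set G) := by
              rw [Cfsg.Agent.Lib.helper1.conj_smul_eq_of_mem_normalizer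
                (by rw [hZnorm]; exact M.inv_mem hm)]
              exact hQs
            have h6 := Cfsg.Agent.Lib.helper1.le_normalizer_of_conj_smul_le h5
            rwa [inv_inv] at h6
          obtain ⟨c, hc, hcQ⟩ := Cfsg.Agent.Lib.helper1.invariant_sylow_conj Z K hZK hZcop
            (Or.inl hZsolv) Qs (k • Qs) hQs hZ2
          rw [hC, Subgroup.mem_bot] at hc
          rw [hc, map_one, one_smul] at hcQ
          rw [hk, ← h4, ← hcQ]
        have hQne : (Qs : Subgroup K).map K.subtype ≠ ⊥ := by
          intro h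
          exact Sylow.ne_bot_of_dvd_card Qs hqK
            ((Subgroup.map_eq_bot_iff_of_injective _ K.subtype_injective).mp h)
        have hQK : (Qs : Subgroup K).map K.subtype ≤ K := Subgroup.map_subtype_le _
        have htop : (Qs : Subgroup K).map K.subtype ⊔ M = ⊤ := by
          apply hmax.2
          refine lt_of_le_of_ne le_sup_right ?_
          intro h
          have h1 : (Qs : Subgroup K).map K.subtype ≤ M := by
            rw [h]
            exact le_sup_left
          apply hQne
          rw [eq_bot_iff, ← hKM]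
          exact le_inf hQK h1
        have hKQ : ∀ x ∈ K, x ∈ (Qs : Subgroup K).map K.subtype := by
          intro x hx
          have hx' : x ∈ (Qs : Subgroup K).map K.subtype ⊔ M := by
            rw [htop]
            exact Subgroup.mem_top x
          obtain ⟨u, hu, m, hm, rfl⟩ := Cfsg.Agent.Lib.helper1.mem_sup_normal_left hMQ hx'
          have hmK : m ∈ K := by
            have e : m = u⁻¹ * (u * m) := by group
            rw [e]
            exact K.mul_mem (K.inv_mem (hQK hu)) hx
          have hm1 : m ∈ K ⊓ M := ⟨hmK, hm⟩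
          rw [hKM, Subgroup.mem_bot] at hm1
          rw [hm1, mul_one]
          exact hu
        have hKq : IsPGroup q K := by
          intro y
          obtain ⟨y', hy', hyy⟩ := hKQ y y.2
          have hy'' : y' = y := Subtype.ext hyy
          rw [hy''] at hy'
          obtain ⟨k, hk⟩ := Qs.isPGroup' ⟨y, hy'⟩
          exact ⟨k, by simpa using congrArg Subtype.val hk⟩
        haveI : Group.IsNilpotent K := hKq.isNilpotent
        infer_instance
      haveI := hKn
      haveI := hKsolv
      haveI : Group.IsSolvable (G ⧸ K) := by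
        have hf : Function.Surjective ((QuotientGroup.mk' K).comp M.subtype) := by
          intro y
          obtain ⟨g, rfl⟩ := QuotientGroup.mk_surjective y
          have hg : g ∈ K ⊔ M := by
            rw [hKMtop]
            exact Subgroup.mem_top g
          obtain ⟨k, hk, m, hm, rfl⟩ := Cfsg.Agent.Lib.helper1.mem_sup_normal_left (N := K)
            (H := M) (by rw [Subgroup.normalizer_eq_top]; exact le_top) hg
          refine ⟨⟨m, hm⟩, ?_⟩
          show ((m : G) : G ⧸ K) = ((k * m : G) : G ⧸ K)
          rw [QuotientGroup.mk_mul, (QuotientGroup.eq_one_iff k).mpr hk, one_mul]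
        exact Group.isSolvable_of_surjective hf
      exact Group.isSolvable_of_ker_le_range K.subtype (QuotientGroup.mk' K) (by simp)

end Cfsg.Agent.Lib.helper71
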