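import Cfsg.Agent.S3335
import Mathlib

/-!
S0892 piece O6 (`odd_ker_trivial_one`), verbatim statement under the prefixed name
`h71_odd_ker_trivial_one`.

Route (transfer): `H := comap π (zpowers x₀)` is abelian (central-by-cyclic) of index
`12 / 3 = 4` in `Γ`.  The transfer `Γ →* H` kills `commutator Γ` and maps a central `g` to
`g ^ 4`; so `g ^ 4 = 1` for `g ∈ π.ker ≤ commutator Γ`, and `π.ker` has odd order.
-/

set_option autoImplicit false
open Cfsg Cfsg.Agent.S3335

namespace Cfsg.Agent.Lib.helper70.SM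

universe u

/-- `|PresentedGroup (rels 1)| = 12`. -/
theorem h71_card_rels_one : Nat.card (PresentedGroup (rels 1)) = 12 := by
  obtain ⟨cs, hcs⟩ := Cfsg.Agent.S2530.result (1 + 2)
  rw [Nat.card_congr (iso 1 cs hcs).toEquiv, nat_card_alternatingGroup]
  simp [Nat.factorial]

/-- The first generator of `PresentedGroup (rels 1)` has order `3`. -/
theorem h71_orderOf_x_zero : orderOf (x 1 0) = 3 := by
  obtain ⟨cs, hcs⟩ := Cfsg.Agent.S2530.result (1 + 2)
  have : Fact (Nat.Prime 3) := ⟨by norm_num⟩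
  refine orderOf_eq_prime (x_cube 1 0 rfl) ?_
  intro h
  have h1 : psi 1 cs (x 1 0) = 1 := by rw [h, map_one]
  rw [psi_x] at h1
  unfold gen at h1
  rw [hcs, hcs] at h1
  revert h1
  decide

/-- Elements of a central subgroup of odd order whose 4th power is trivial are trivial. -/
theorem h71_eq_one_of_pow_four {Γ : Type u} [Group Γ] (K : Subgroup Γ)
    (hodd : Odd (Nat.card K)) (g : Γ) (hg : g ∈ K) (h4 : g ^ 4 = 1) : g = 1 := by
  have h1 : orderOf g ∣ 4 := orderOf_dvd_of_pow_eq_one h4
  have h2 : orderOf g ∣ Nat.card K := Subgroup.orderOf_dvd_natCard K hg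
  have hcop : Nat.Coprime 4 (Nat.card K) := by
    have : Nat.Coprime (2 ^ 2) (Nat.card K) :=
      Nat.Coprime.pow_left 2 (Nat.coprime_two_left.mpr hodd)
    simpa using this
  have h3 : orderOf g = 1 := Nat.Coprime.eq_one_of_dvd (Nat.Coprime.coprime_dvd_left h1 hcop) h2
  exact orderOf_eq_one_iff.mp h3

open scoped IsMulCommutative in
/-- O6 (degree 4, odd kernel). -/
theorem h71_odd_ker_trivial_one {Γ : Type u} [Group Γ] [Finite Γ]
    (π : Γ →* PresentedGroup (rels 1)) (hπ : Function.Surjective π)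
    (hc : π.ker ≤ Subgroup.center Γ) (hd : π.ker ≤ commutator Γ)
    (hodd : Odd (Nat.card π.ker)) : π.ker = ⊥ := by
  classical
  -- the subgroup `H`
  have hCidx : (Subgroup.zpowers (x 1 0)).index = 4 := by
    have h1 : Nat.card (Subgroup.zpowers (x 1 0)) * (Subgroup.zpowers (x 1 0)).index
        = Nat.card (PresentedGroup (rels 1)) := Subgroup.card_mul_index _
    rw [h71_card_rels_one, Nat.card_zpowers, h71_orderOf_x_zero] at h1
    omega
  obtain ⟨C, hC⟩ : ∃ C : Subgroup (PresentedGroup (rels 1)), C = Subgroup.zpowers (x 1 0) :=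
    ⟨_, rfl⟩
  have hCcyc : IsCyclic C := by rw [hC]; infer_instance
  rw [← hC] at hCidx
  obtain ⟨H, hH⟩ : ∃ H : Subgroup Γ, H = C.comap π := ⟨_, rfl⟩
  have hHidx : H.index = 4 := by
    rw [hH, Subgroup.index_comap_of_surjective C hπ, hCidx]
  -- `H` is commutative
  have hHcomm : IsMulCommutative H := by
    subst hH
    refine (π.subgroupComap C).isMulCommutative_of_isCyclic_of_ker_le_center ?_
    intro a ha
    rw [MonoidHom.mem_ker] at ha
    have ha' : π (a : Γ) = 1 := congrArg Subtype.val ha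
    have hac : (a : Γ) ∈ Subgroup.center Γ := hc (MonoidHom.mem_ker.mpr ha')
    rw [Subgroup.mem_center_iff] at hac ⊢
    intro b
    exact Subtype.ext (hac (b : Γ))
  -- the transfer
  have hT : ∀ g ∈ π.ker, g ^ 4 = 1 := by
    intro g hg
    have hgc : g ∈ Subgroup.center Γ := hc hg
    have key : ∀ (k : ℕ) (g₀ : Γ), g₀⁻¹ * g ^ k * g₀ ∈ H → g₀⁻¹ * g ^ k * g₀ = g ^ k := by
      intro k g₀ _
      have hk : g ^ k ∈ Subgroup.center Γ := Subgroup.pow_mem _ hgc k
      rw [Subgroup.mem_center_iff] at hk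
      rw [mul_assoc, ← hk g₀, ← mul_assoc, inv_mul_cancel, one_mul]
    have h1 := MonoidHom.transfer_eq_pow (MonoidHom.id H) g key
    have h2 : MonoidHom.transfer (MonoidHom.id H) g = 1 :=
      Abelianization.commutator_subset_ker (MonoidHom.transfer (MonoidHom.id H)) (hd hg)
    rw [h2] at h1
    have h3 : (1 : Γ) = g ^ H.index := congrArg Subtype.val h1
    rw [hHidx] at h3
    exact h3.symm
  rw [Subgroup.eq_bot_iff_forall]
  intro g hg
  exact h71_eq_one_of_pow_four π.ker hodd g hg (hT g hg)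

end Cfsg.Agent.Lib.helper70.SM
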