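import Mathlib
import Cfsg.Prelude.Def_OddOrderLocal
import Cfsg.Agent.S1430
import Cfsg.Agent.S1350
import Cfsg.Agent.Lib.lead.Hall
import Cfsg.Agent.Lib.helper3.BG1366PA
import Cfsg.Agent.Lib.helper25.BG1367
import Cfsg.Agent.Lib.helper29.Basic
import Cfsg.Agent.Lib.helper71.BGTwelveAux

/-!
# The family assembly for B-G 14.7 (shared by S1366 and S1351)

`M` a maximal subgroup, `K ≠ 1` a Hall `κ(M)`-subgroup (no cyclicity).  If `M` is of type P1 (every
prime of `|M|` lies in `σ(M) ∪ κ(M)`) and every maximal subgroup `N ≥ N_G(X)`, `X ≤ K` of prime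
order, is of type P1, then we get a contradiction: the family `{M} ∪ {N}` with the Hall
`κ(N)`-subgroups `K' ≥ K*` (pair lemma PA/PB of helper3) is a P1-family with common
`Z = K K*`, which `no_p1_family` (helper19, the counting argument) excludes.

`family_asm_of` takes PB and `no_p1_family` as hypotheses `HPB`, `HFam` (their exact statements).
-/

set_option autoImplicit false

namespace Cfsg.Agent.Lib.helper71.BGFamAsm

open Cfsg Subgroup

universe u

variable {G : Type u} [Group G]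

/-- Type P1: every prime divisor of `|L|` lies in `σ(L) ∪ κ(L)`. -/
def P1 (L : Subgroup G) : Prop :=
  ∀ q : ℕ, q.Prime → q ∣ Nat.card L → q ∉ sigma L → q ∈ kappa L

/-- Piece PB (`pair_struct`) of `tools/S1366_Skel.lean.txt`, as a hypothesis. -/
def HPB (G : Type u) [Group G] : Prop :=
  ∀ (M : Subgroup G), IsCoatom M → ∀ (K : Subgroup G), IsPiHallOf (kappa M) K M → K ≠ ⊥ →
    ∀ (X : Subgroup G), X ≤ K → (Nat.card X).Prime → ∀ (N : Subgroup G), IsCoatom N →
    Subgroup.normalizer (X : Set G) ≤ N → N ≠ M → (∀ q : ℕ, q ∈ sigma M → q ∉ sigma N) →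
    X ≤ sigmaCore N → K ⊔ (sigmaCore M ⊓ Subgroup.centralizer (K : Set G)) ≤ N →
    ∀ (K' : Subgroup G), IsPiHallOf (kappa N) K' N →
    sigmaCore M ⊓ Subgroup.centralizer (K : Set G) ≤ K' →
    K' ⊔ (sigmaCore N ⊓ Subgroup.centralizer (K' : Set G)) =
        K ⊔ (sigmaCore M ⊓ Subgroup.centralizer (K : Set G)) ∧
    sigmaCore N ⊓ Subgroup.centralizer (K' : Set G) = K ⊓ sigmaCore N ∧
    K' = (sigmaCore M ⊓ Subgroup.centralizer (K : Set G)) ⊔ (K ⊓ K')

/-- `no_p1_family` (helper19), as a hypothesis, for index types in the universe of `G`. -/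
def HFam (G : Type u) [Group G] : Prop :=
  ∀ (Z : Subgroup G) (ι : Type u) [Fintype ι], 2 ≤ Fintype.card ι →
    ∀ (M K : ι → Subgroup G), Function.Injective M → (∀ i, IsCoatom (M i)) →
    (∀ i, IsPiHallOf (kappa (M i)) (K i) (M i)) → (∀ i, K i ≠ ⊥) →
    (∀ i, K i ⊔ (sigmaCore (M i) ⊓ centralizer (K i : Set G)) = Z) →
    (∀ i, ∀ q : ℕ, q.Prime → q ∣ Nat.card (M i) → q ∉ sigma (M i) → q ∈ kappa (M i)) →
    (∀ t : ℕ, t.Prime → t ∣ Nat.card Z → ∃ i, t ∈ sigma (M i)) → False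

/-- Hall: in a solvable subgroup `N`, every `π`-subgroup lies in a Hall `π`-subgroup of `N`. -/
theorem exists_hallOf_ge [Finite G] (π : Set ℕ) (N : Subgroup G) (hNs : Group.IsSolvable N)
    (K₀ : Subgroup G) (hK₀N : K₀ ≤ N) (hK₀π : ∀ p : ℕ, p.Prime → p ∣ Nat.card K₀ → p ∈ π) :
    ∃ K' : Subgroup G, IsPiHallOf π K' N ∧ K₀ ≤ K' := by
  have := hNs
  obtain ⟨H, hH⟩ := Cfsg.Agent.Lib.lead.exists_isPiHall_of_isSolvable π (↥N)
  have hKsub : Cfsg.IsPiSubgroup π (K₀.subgroupOf N) := by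
    intro p hp hdvd
    apply hK₀π p hp
    rwa [Nat.card_congr (Subgroup.subgroupOfEquivOfLe hK₀N).toEquiv] at hdvd
  obtain ⟨g, hg⟩ := Cfsg.Agent.Lib.lead.le_conj_isPiHall_of_isSolvable hH hKsub
  obtain ⟨hH1, hH2⟩ := Cfsg.Agent.Lib.lead.isPiHall_map_conj hH g
  generalize H.map (MulAut.conj g).toMonoidHom = H' at hg hH1 hH2
  have hcard : Nat.card ↥(H'.map N.subtype) = Nat.card H' :=
    (Nat.card_congr (Subgroup.equivMapOfInjective H' N.subtype
      (Subgroup.subtype_injective N)).toEquiv).symm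
  have hsub : (H'.map N.subtype).subgroupOf N = H' := by
    ext z
    rw [Subgroup.mem_subgroupOf]
    constructor
    · rintro ⟨w, hw, hwz⟩
      have : w = z := Subtype.ext hwz
      rwa [← this]
    · intro hz
      exact ⟨z, hz, rfl⟩
  refine ⟨H'.map N.subtype, ⟨Subgroup.map_subtype_le _, ?_, ?_⟩, ?_⟩
  · intro p hp hdvd
    rw [hcard] at hdvd
    exact hH1 p hp hdvd
  · intro p hp hpπ hdvd
    apply hH2 p hp hpπ
    rwa [Subgroup.relIndex, hsub] at hdvd
  · intro x hx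
    exact ⟨⟨x, hK₀N hx⟩, hg (Subgroup.mem_subgroupOf.mpr hx), rfl⟩

/-- Cauchy: a subgroup of order `t` inside `K`, for a prime `t` dividing `|K|`. -/
theorem exists_prime_sub [Finite G] (K : Subgroup G) (t : ℕ) (ht : t.Prime)
    (hdvd : t ∣ Nat.card K) : ∃ X : Subgroup G, X ≤ K ∧ Nat.card X = t := by
  have hF : Fact t.Prime := ⟨ht⟩
  obtain ⟨k, hk⟩ := exists_prime_orderOf_dvd_card' t hdvd
  refine ⟨Subgroup.zpowers (k : G), ?_, ?_⟩
  · rw [Subgroup.zpowers_le]; exact k.2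
  · rw [Nat.card_zpowers, Subgroup.orderOf_coe, hk]

/-- The family assembly, with PB and `no_p1_family` as hypotheses. -/
theorem family_asm_of [Finite G] (hG : IsMinSimpleOddOrder G) (hPB : HPB G) (hFam : HFam G)
    (M : Subgroup G) (hM : IsCoatom M) (K : Subgroup G) (hK : IsPiHallOf (kappa M) K M)
    (hK1 : K ≠ ⊥) (hP1M : P1 M)
    (hP1N : ∀ X : Subgroup G, X ≤ K → (Nat.card X).Prime → ∀ N : Subgroup G, IsCoatom N →
      Subgroup.normalizer (X : Set G) ≤ N → P1 N) : False := by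
  classical
  have h30 : Cfsg.Agent.Lib.helper69.H1430 G :=
    fun M hM K hK hK1 => Cfsg.Agent.S1430.result hG M hM K hK hK1
  have hKs1 : sigmaCore M ⊓ centralizer (K : Set G) ≠ ⊥ :=
    Cfsg.Agent.Lib.helper25.BG1367.ks_ne_bot h30 M hM K hK hK1
  have hHallM := (Cfsg.Agent.S1350.result hG M hM).1
  -- maximal subgroups over the normalizers of the subgroups of prime order of `K`
  have hcoat : ∀ X : Subgroup G, X ≤ K → (Nat.card X).Prime →
      ∃ N : Subgroup G, IsCoatom N ∧ normalizer (X : Set G) ≤ N := by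
    intro X hXK hXp
    have hX1 : X ≠ ⊥ := by
      rintro rfl
      rw [Subgroup.card_bot] at hXp
      exact Nat.not_prime_one hXp
    have hXtop : X ≠ ⊤ := by
      rintro rfl
      exact hM.1 (top_le_iff.mp (hXK.trans hK.1))
    have hN := Cfsg.Agent.Lib.helper71.BG12.normalizer_ne_top' hG hX1 hXtop
    obtain ⟨L, hL, hNL⟩ := (eq_top_or_exists_le_coatom _).resolve_left hN
    exact ⟨L, hL, hNL⟩
  -- the family
  let S : Set (Subgroup G) := {N | N = M ∨ (IsCoatom N ∧ ∃ X : Subgroup G, X ≤ K ∧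
    (Nat.card X).Prime ∧ normalizer (X : Set G) ≤ N)}
  have hMS : M ∈ S := Or.inl rfl
  have hScoat : ∀ N : Subgroup G, N ∈ S → IsCoatom N := by
    intro N hN
    rcases hN with h | h
    · rw [h]; exact hM
    · exact h.1
  have hSP1 : ∀ N : Subgroup G, N ∈ S → P1 N := by
    intro N hN
    rcases hN with h | ⟨hNc, X, hXK, hXp, hXN⟩
    · rw [h]; exact hP1M
    · exact hP1N X hXK hXp N hNc hXN
  have key : ∀ N : Subgroup G, N ∈ S → ∃ K' : Subgroup G, IsPiHallOf (kappa N) K' N ∧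
      K' ≠ ⊥ ∧ K' ⊔ (sigmaCore N ⊓ centralizer (K' : Set G)) =
        K ⊔ (sigmaCore M ⊓ centralizer (K : Set G)) := by
    intro N hN
    by_cases hNM : N = M
    · refine ⟨K, ?_, hK1, ?_⟩
      · rw [hNM]; exact hK
      · rw [hNM]
    · obtain ⟨hNc, X, hXK, hXp, hXN⟩ := hN.resolve_left hNM
      obtain ⟨-, hσ, hXσ, hZN, hκ⟩ :=
        Cfsg.Agent.Lib.helper3.BG1366.pair_kappa hG M hM K hK hK1 X hXK hXp N hNc hXN
      obtain ⟨K', hK', hKsK'⟩ := exists_hallOf_ge (kappa N) N (hG.2.2.2 N hNc.1) _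
        (le_sup_right.trans hZN) hκ
      obtain ⟨h1, -, -⟩ := hPB M hM K hK hK1 X hXK hXp N hNc hXN hNM hσ hXσ hZN K' hK' hKsK'
      refine ⟨K', hK', ?_, h1⟩
      rintro rfl
      exact hKs1 (le_bot_iff.mp hKsK')
  choose Kf hKf using key
  have hFin : Fintype S := Fintype.ofFinite S
  refine hFam (K ⊔ (sigmaCore M ⊓ centralizer (K : Set G))) S ?_ (fun N : S => N.1)
    (fun N : S => Kf N.1 N.2) Subtype.val_injective (fun N => hScoat N.1 N.2)
    (fun N => (hKf N.1 N.2).1) (fun N => (hKf N.1 N.2).2.1) (fun N => (hKf N.1 N.2).2.2)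
    (fun N => hSP1 N.1 N.2) ?_
  · -- at least two members
    have hKc : Nat.card K ≠ 1 := fun h1 => hK1 (Subgroup.eq_bot_of_card_eq _ h1)
    obtain ⟨t, ht, htd⟩ := Nat.exists_prime_and_dvd hKc
    obtain ⟨X, hXK, hXt⟩ := exists_prime_sub K t ht htd
    have hXp : (Nat.card X).Prime := by rw [hXt]; exact ht
    obtain ⟨N, hN, hXN⟩ := hcoat X hXK hXp
    obtain ⟨hnc, -⟩ :=
      Cfsg.Agent.Lib.helper3.BG1366.pair_kappa hG M hM K hK hK1 X hXK hXp N hN hXN
    have hNM : N ≠ M := by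
      intro h
      apply hnc 1
      rw [Cfsg.Agent.Lib.helper3.BG1366.map_conj_one_eq]; exact h
    exact Fintype.one_lt_card_iff.mpr ⟨⟨N, Or.inr ⟨hN, X, hXK, hXp, hXN⟩⟩, ⟨M, hMS⟩,
      fun h => hNM (congrArg Subtype.val h)⟩
  · -- every prime of `|Z|` is in `σ` of a member
    intro t ht htd
    have hF : Fact t.Prime := ⟨ht⟩
    obtain ⟨z, hz⟩ := exists_prime_orderOf_dvd_card' t htd
    have hcomm : ∀ a ∈ K, ∀ b ∈ sigmaCore M ⊓ centralizer (K : Set G), a * b = b * a := by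
      intro a ha b hb
      exact (Subgroup.mem_centralizer_iff.mp (Subgroup.mem_inf.mp hb).2) a ha
    obtain ⟨a, ha, b, hb, hzab⟩ :=
      Cfsg.Agent.Lib.helper29.exists_mul_of_mem_sup_of_commute hcomm z.2
    have hzo : orderOf (z : G) = t := by rw [Subgroup.orderOf_coe]; exact hz
    have hdvd : t ∣ Nat.lcm (orderOf a) (orderOf b) := by
      rw [← hzo, hzab]
      exact Commute.orderOf_mul_dvd_lcm (show Commute a b from hcomm a ha b hb)
    rcases (Nat.Prime.dvd_mul ht).mp (hdvd.trans (Nat.lcm_dvd_mul _ _)) with h | h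
    · have htK : t ∣ Nat.card K := h.trans (Subgroup.orderOf_dvd_natCard K ha)
      obtain ⟨X, hXK, hXt⟩ := exists_prime_sub K t ht htK
      have hXp : (Nat.card X).Prime := by rw [hXt]; exact ht
      obtain ⟨N, hN, hXN⟩ := hcoat X hXK hXp
      obtain ⟨-, -, hXσ, -, -⟩ :=
        Cfsg.Agent.Lib.helper3.BG1366.pair_kappa hG M hM K hK hK1 X hXK hXp N hN hXN
      refine ⟨⟨N, Or.inr ⟨hN, X, hXK, hXp, hXN⟩⟩, ?_⟩
      have h2 : t ∣ Nat.card (sigmaCore N) := by
        rw [← hXt]; exact Subgroup.card_dvd_of_le hXσ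
      exact (Cfsg.Agent.S1350.result hG N hN).1.2.1 t ht h2
    · refine ⟨⟨M, hMS⟩, ?_⟩
      exact hHallM.2.1 t ht
        (h.trans (Subgroup.orderOf_dvd_natCard _ (Subgroup.mem_inf.mp hb).1))

end Cfsg.Agent.Lib.helper71.BGFamAsm
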