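import Mathlib
import Cfsg.Prelude.Def_OddOrderLocal
import Cfsg.Agent.S1429
import Cfsg.Agent.Lib.helper71.BGFamAsm
import Cfsg.Agent.Lib.helper3.BG1366PB
import Cfsg.Agent.Lib.helper27.BGKPrime
import Cfsg.Agent.Lib.helper69.BGKappaA

/-!
# S1351 (Hall `κ(M)`-subgroups are cyclic) from the family count

`HFam` (helper19's `no_p1_family`, the counting argument) is a hypothesis.

* `family_asm_pb` : `family_asm_of` with helper3's landed PB plugged in.
* `cyclic_of_fam` : a Hall `κ(M)`-subgroup `K` is cyclic.  If not, `|K|` is not a prime, so `M` is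
  of type P1 (Lemma P, helper27); for `N ≥ N_G(X)`, `X ≤ K` of prime order, with Hall
  `κ(N)`-subgroup `K' ≥ K*`: if `|K'|` is not a prime, `N` is of type P1 (Lemma P); if it is,
  `K' = K*` and `K ≤ N_σ` (PB), so if `N` were not of type P1, `N_σ` would be nilpotent (S1429) and
  the Z-group `K` would be cyclic.  So the family is a P1-family: contradiction.
-/

set_option autoImplicit false

namespace Cfsg.Agent.Lib.helper71.BGFamAsm

open Cfsg Subgroup

universe u

variable {G : Type u} [Group G]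

/-- helper3's landed PB in hypothesis form. -/
theorem hPB_of [Finite G] (hG : IsMinSimpleOddOrder G) : HPB G :=
  fun M hM K hK hK1 X hXK hXp N hN hXN hNM hσ hXσ hZN K' hK' hKs =>
    Cfsg.Agent.Lib.helper3.BG1366.pair_struct hG M hM K hK hK1 X hXK hXp N hN hXN hNM hσ hXσ hZN
      K' hK' hKs

/-- The family assembly with PB plugged in. -/
theorem family_asm_pb [Finite G] (hG : IsMinSimpleOddOrder G) (hFam : HFam G)
    (M : Subgroup G) (hM : IsCoatom M) (K : Subgroup G) (hK : IsPiHallOf (kappa M) K M)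
    (hK1 : K ≠ ⊥) (hP1M : P1 M)
    (hP1N : ∀ X : Subgroup G, X ≤ K → (Nat.card X).Prime → ∀ N : Subgroup G, IsCoatom N →
      Subgroup.normalizer (X : Set G) ≤ N → P1 N) : False :=
  family_asm_of hG (hPB_of hG) hFam M hM K hK hK1 hP1M hP1N

/-- A Hall `κ(M)`-subgroup is a Z-group (all its Sylow subgroups are cyclic). -/
theorem isZGroup_of_hall_kappa [Finite G] (M K : Subgroup G) (hK : IsPiHallOf (kappa M) K M) :
    IsZGroup ↥K := by
  refine ⟨fun p hp P => ?_⟩
  have hF : Fact p.Prime := ⟨hp⟩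
  by_cases hpd : p ∣ Nat.card K
  · have hpκ := hK.2.1 p hp hpd
    have hf : Function.Injective (Subgroup.inclusion hK.1) := Subgroup.inclusion_injective hK.1
    have hQ : IsPGroup p ((P : Subgroup ↥K).map (Subgroup.inclusion hK.1)) :=
      P.isPGroup'.map (Subgroup.inclusion hK.1)
    obtain ⟨S, hS⟩ := hQ.exists_le_sylow
    have hSc : IsCyclic (S : Subgroup ↥M) := (hpκ.2.2.2 S).1
    have hQc : IsCyclic ((P : Subgroup ↥K).map (Subgroup.inclusion hK.1)) :=
      Subgroup.isCyclic_of_le hS
    exact isCyclic_of_surjective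
      ((P : Subgroup ↥K).equivMapOfInjective (Subgroup.inclusion hK.1) hf).symm.toMonoidHom
      ((P : Subgroup ↥K).equivMapOfInjective (Subgroup.inclusion hK.1) hf).symm.surjective
  · have h1 : Nat.card (P : Subgroup ↥K) = 1 := by
      obtain ⟨n, hn⟩ := IsPGroup.iff_card.mp P.isPGroup'
      have hdvd : Nat.card (P : Subgroup ↥K) ∣ Nat.card K := Subgroup.card_subgroup_dvd_card _
      rcases Nat.eq_zero_or_pos n with h0 | hnpos
      · rw [hn, h0, pow_zero]
      · exfalso
        apply hpd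
        rw [hn] at hdvd
        exact (dvd_pow_self p hnpos.ne').trans hdvd
    have hsub : Subsingleton (P : Subgroup ↥K) := (Nat.card_eq_one_iff_unique.mp h1).1
    exact isCyclic_of_subsingleton

/-- S1351, second clause: every Hall `κ(M)`-subgroup of `M` is cyclic. -/
theorem cyclic_of_fam [Finite G] (hG : IsMinSimpleOddOrder G) (hFam : HFam G)
    (M : Subgroup G) (hM : IsCoatom M) (K : Subgroup G) (hK : IsPiHallOf (kappa M) K M) :
    IsCyclic K := by
  by_contra hnc
  have h30 : Cfsg.Agent.Lib.helper69.H1430 G :=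
    fun M hM K hK hK1 => Cfsg.Agent.S1430.result hG M hM K hK hK1
  have hK1 : K ≠ ⊥ := by
    rintro rfl
    exact hnc isCyclic_of_subsingleton
  have hnp : ¬ (Nat.card K).Prime := by
    intro hp
    have hF : Fact (Nat.card K).Prime := ⟨hp⟩
    exact hnc (isCyclic_of_prime_card (p := Nat.card K) rfl)
  have hZK : IsZGroup ↥K := isZGroup_of_hall_kappa M K hK
  have hKs1 : sigmaCore M ⊓ centralizer (K : Set G) ≠ ⊥ :=
    Cfsg.Agent.Lib.helper25.BG1367.ks_ne_bot h30 M hM K hK hK1
  have hHall := (Cfsg.Agent.S1350.result hG M hM).1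
  have hKinf : K ⊓ sigmaCore M = ⊥ := Cfsg.Agent.Lib.helper69.bgk_K_inf_sigmaCore hK hHall
  apply family_asm_pb hG hFam M hM K hK hK1
  · intro q hq hqM hqσ
    exact (Cfsg.Agent.Lib.helper27.BGKP.sigma_or_kappa_of_card_not_prime hG h30 M hM K hK hK1
      hnp q hq hqM).resolve_left hqσ
  · intro X hXK hXp N hN hXN q hq hqN hqσ
    by_contra hqκ
    obtain ⟨hnc', hσ, hXσ, hZN, hκ⟩ :=
      Cfsg.Agent.Lib.helper3.BG1366.pair_kappa hG M hM K hK hK1 X hXK hXp N hN hXN
    have hNM : N ≠ M := by
      intro h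
      apply hnc' 1
      rw [Cfsg.Agent.Lib.helper3.BG1366.map_conj_one_eq]; exact h
    obtain ⟨K', hK', hKsK'⟩ := exists_hallOf_ge (kappa N) N (hG.2.2.2 N hN.1) _
      (le_sup_right.trans hZN) hκ
    have hK'1 : K' ≠ ⊥ := by
      rintro rfl
      exact hKs1 (le_bot_iff.mp hKsK')
    obtain ⟨h1, h2, -⟩ := Cfsg.Agent.Lib.helper3.BG1366.pair_struct hG M hM K hK hK1 X hXK hXp
      N hN hXN hNM hσ hXσ hZN K' hK' hKsK'
    by_cases hK'p : (Nat.card K').Prime
    · -- `K' = K*`
      have hKsK'eq : sigmaCore M ⊓ centralizer (K : Set G) = K' := by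
        apply Subgroup.eq_of_le_of_card_ge hKsK'
        have hd := Subgroup.card_dvd_of_le hKsK'
        rcases (Nat.dvd_prime hK'p).mp hd with h | h
        · exact absurd (Subgroup.eq_bot_of_card_eq _ h) hKs1
        · exact h.ge
      -- `K ≤ N_σ`
      have hKN : K ≤ sigmaCore N := by
        intro k hk
        have hkZ : k ∈ K' ⊔ (sigmaCore N ⊓ centralizer (K' : Set G)) := by
          rw [h1]; exact Subgroup.mem_sup_left hk
        rw [h2, ← hKsK'eq] at hkZ
        have hcomm : ∀ a ∈ sigmaCore M ⊓ centralizer (K : Set G), ∀ b ∈ K ⊓ sigmaCore N,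
            a * b = b * a := by
          intro a ha b hb
          exact ((Subgroup.mem_centralizer_iff.mp (Subgroup.mem_inf.mp ha).2) b
            (Subgroup.mem_inf.mp hb).1).symm
        obtain ⟨s, hs, k', hk', hkeq⟩ :=
          Cfsg.Agent.Lib.helper29.exists_mul_of_mem_sup_of_commute hcomm hkZ
        have hsK : s ∈ K := by
          have e : s = k * k'⁻¹ := by rw [hkeq]; group
          rw [e]; exact K.mul_mem hk (K.inv_mem (Subgroup.mem_inf.mp hk').1)
        have hs1 : s = 1 := by
          have h' : s ∈ K ⊓ sigmaCore M := ⟨hsK, (Subgroup.mem_inf.mp hs).1⟩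
          rw [hKinf] at h'; exact Subgroup.mem_bot.mp h'
        rw [hkeq, hs1, one_mul]; exact (Subgroup.mem_inf.mp hk').2
      -- `N` is not of type P1, so `N_σ` is nilpotent
      have hnotP1 : ¬ (∀ q : ℕ, q.Prime → q ∣ Nat.card N → q ∉ sigma N → q ∈ kappa N) :=
        fun h => hqκ (h q hq hqN hqσ)
      have hF : Fact q.Prime := ⟨hq⟩
      obtain ⟨S⟩ : Nonempty (Sylow q ↥N) := inferInstance
      have hqn : q ∉ sigma N ∪ kappa N := by
        rintro (h | h)
        · exact hqσ h
        · exact hqκ h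
      have hnil : Group.IsNilpotent (sigmaCore N) :=
        (Cfsg.Agent.S1429.result hG N hN hnotP1 q hqN hqn S).2.2
      have h1' : Group.IsNilpotent ↥(K.subgroupOf (sigmaCore N)) := inferInstance
      have hKnil : Group.IsNilpotent ↥K :=
        Group.nilpotent_of_mulEquiv (Subgroup.subgroupOfEquivOfLe hKN)
      exact hnc inferInstance
    · exact hqκ ((Cfsg.Agent.Lib.helper27.BGKP.sigma_or_kappa_of_card_not_prime hG h30 N hN K'
        hK' hK'1 hK'p q hq hqN).resolve_left hqσ)

/-- The statement S1351, with `no_p1_family` as a hypothesis. -/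
theorem s1351_of_fam [Finite G] (hG : IsMinSimpleOddOrder G) (hFam : HFam G)
    (M : Subgroup G) (hM : IsCoatom M) :
    (∃ K : Subgroup G, IsPiHallOf (kappa M) K M) ∧
      ∀ K : Subgroup G, IsPiHallOf (kappa M) K M → IsCyclic K :=
  ⟨Cfsg.Agent.Lib.helper89.BG1432.exists_hallOf (kappa M) M (hG.2.2.2 M hM.1),
    fun K hK => cyclic_of_fam hG hFam M hM K hK⟩

end Cfsg.Agent.Lib.helper71.BGFamAsm
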