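import Mathlib
import Cfsg.Agent.Lib.helper2.BGDefs
import Cfsg.Agent.Lib.helper20.D1EFinal
import Cfsg.Agent.Lib.helper4.CharDecomp
import Cfsg.Agent.Lib.helper81.Kernel

/-!
S4504 piece D2 (`ker_le_center`), with piece D (`ker_central`) passed as a hypothesis:
the kernel of a character not containing `x` in its kernel is central.
-/

set_option autoImplicit false

open Cfsg Cfsg.Agent.Lib.helper20.D1E Cfsg.Agent.Lib.helper2.BF
open scoped ComplexConjugate

namespace Cfsg.Agent.Lib.helper71.BG

universe u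

variable {G : Type*} [Group G] [Fintype G]

/-- D2 from D: `hD` is the conclusion of piece D (`ker_central`) for all normal `L` avoiding `x`. -/
theorem ker_le_center_of_D (x : G)
    (hgen : Subgroup.normalClosure ({x} : Set G) = ⊤)
    (ψ : IrrCharacter G)
    (hfaith : ∀ g : G, (ψ : G → ℂ) g = (ψ : G → ℂ) 1 → g = 1)
    (hD : ∀ L : Subgroup G, L.Normal → x ∉ L →
      ∀ k ∈ L, (ψ : G → ℂ) (x * k * x⁻¹ * k⁻¹) = (ψ : G → ℂ) 1)
    (ξ : G → ℂ) (hξ : IsCharacter G ξ) (hξx : ξ x ≠ ξ 1) :
    ∀ k : G, ξ k = ξ 1 → k ∈ Subgroup.center G := by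
  intro k hk
  set L : Subgroup G := Cfsg.Agent.Lib.helper81.charKer ξ hξ with hLdef
  have hLn : L.Normal := Cfsg.Agent.Lib.helper81.charKer_normal ξ hξ
  have hxL : x ∉ L := fun h => hξx ((Cfsg.Agent.Lib.helper81.mem_charKer ξ hξ x).mp h)
  have hkL : k ∈ L := (Cfsg.Agent.Lib.helper81.mem_charKer ξ hξ k).mpr hk
  -- every element of `L` commutes with `x`
  have hcomm : ∀ l ∈ L, x * l = l * x := by
    intro l hl
    have h1 := hfaith _ (hD L hLn hxL l hl)
    have h2 : x * l = (x * l * x⁻¹ * l⁻¹) * (l * x) := by group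
    rw [h1, one_mul] at h2
    exact h2
  -- hence `x`, and so its normal closure, lies in the (normal) centralizer of `L`
  have : L.Normal := hLn
  have hxC : ({x} : Set G) ⊆ (Subgroup.centralizer (L : Set G) : Subgroup G) := by
    intro y hy
    rw [Set.mem_singleton_iff] at hy
    subst hy
    rw [SetLike.mem_coe, Subgroup.mem_centralizer_iff]
    intro l hl
    exact (hcomm l hl).symm
  have hle : Subgroup.normalClosure ({x} : Set G) ≤ Subgroup.centralizer (L : Set G) :=
    Subgroup.normalClosure_le_normal hxC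
  rw [hgen] at hle
  rw [Subgroup.mem_center_iff]
  intro g
  have hg : g ∈ Subgroup.centralizer (L : Set G) := hle (Subgroup.mem_top g)
  rw [Subgroup.mem_centralizer_iff] at hg
  exact (hg k hkL).symm

end Cfsg.Agent.Lib.helper71.BG
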