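import Mathlib
import Cfsg.Agent.Lib.helper71.BGD2
import Cfsg.Agent.Lib.helper79.BGD

/-!
S4504 piece D2 (`ker_le_center`), verbatim Skel statement, under the prefixed name
`helper71_ker_le_center` in the Skel namespace: from `helper71.BG.ker_le_center_of_D` and
the landed piece D (`h79_ker_central`).
-/

set_option autoImplicit false

open Cfsg Cfsg.Agent.Lib.helper20.D1E Cfsg.Agent.Lib.helper2.BF
open scoped ComplexConjugate

namespace Cfsg.Agent.Lib.helper2.BG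

variable {G : Type*} [Group G] [Fintype G]

/-- D2. -/
theorem helper71_ker_le_center (p : ℕ) [Fact p.Prime] (P : Sylow p G) (hP : Nat.card P = p)
    (x : G) (hx : x ∈ (P : Subgroup G)) (hx1 : x ≠ 1)
    (hgen : Subgroup.normalClosure ({x} : Set G) = ⊤)
    (ψ : IrrCharacter G) (hdeg : 2 * charDegree (ψ : G → ℂ) + 1 ≤ p)
    (hfaith : ∀ g : G, (ψ : G → ℂ) g = (ψ : G → ℂ) 1 → g = 1)
    (hns : ‖(ψ : G → ℂ) x‖ ≠ ‖(ψ : G → ℂ) 1‖)
    (ξ : G → ℂ) (hξ : IsCharacter G ξ) (hξx : ξ x ≠ ξ 1) :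
    ∀ k : G, ξ k = ξ 1 → k ∈ Subgroup.center G :=
  Cfsg.Agent.Lib.helper71.BG.ker_le_center_of_D x hgen ψ hfaith
    (fun L hL hxL => h79_ker_central p P hP x hx hx1 ψ hdeg hns L hL hxL) ξ hξ hξx

end Cfsg.Agent.Lib.helper2.BG
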