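import Mathlib
import Cfsg.Prelude.Def_OddOrderLocal
import Cfsg.Agent.S1430
import Cfsg.Agent.S1431
import Cfsg.Agent.S1350
import Cfsg.Agent.Lib.helper13.BGZhat

/-!
# The family count: the TI-property of the "free" elements of `Z` (`hTI` of `count_core`)

Piece FT' (`family_TI'`) of the split proof of S1366 / S1351, in the unbundled form.
-/

set_option autoImplicit false

namespace Cfsg.Agent.Lib.helper71.BGFamT

open Cfsg Subgroup
open Cfsg.Agent.Lib.helper13 (bgz_setup bgz_conj_mem bgz_decomp bgz_pow_card)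

variable {G : Type*} [Group G]

/-- Piece FT'.  If `z ∈ Z` lies in no `(L i)_σ` and `g z g⁻¹ ∈ Z`, then `g ∈ Z`. -/
theorem family_TI' [Finite G] (hG : IsMinSimpleOddOrder G) (Z : Subgroup G) {ι : Type*}
    [Nonempty ι] (L KL : ι → Subgroup G) (hL : ∀ i, IsCoatom (L i))
    (hKL : ∀ i, IsPiHallOf (kappa (L i)) (KL i) (L i)) (hKL1 : ∀ i, KL i ≠ ⊥)
    (hZ : ∀ i, KL i ⊔ (sigmaCore (L i) ⊓ Subgroup.centralizer (KL i : Set G)) = Z)
    (hcov : ∀ t : ℕ, t.Prime → t ∣ Nat.card Z → ∃ i, t ∈ sigma (L i)) :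
    ∀ z ∈ Z, (∀ i, z ∉ sigmaCore (L i)) → ∀ g : G, g * z * g⁻¹ ∈ Z → g ∈ Z := by
  intro z hz hzσ g hgz
  have h30 : Cfsg.Agent.Lib.helper69.H1430 G :=
    fun M hM K hK hK1 => Cfsg.Agent.S1430.result hG M hM K hK hK1
  have hz1 : z ≠ 1 := by
    rintro rfl
    obtain ⟨i⟩ := ‹Nonempty ι›
    exact hzσ i (Subgroup.one_mem _)
  have ho : orderOf z ≠ 1 := fun h => hz1 (orderOf_eq_one_iff.mp h)
  obtain ⟨t, ht, htz⟩ := Nat.exists_prime_and_dvd ho
  have htZ : t ∣ Nat.card Z := htz.trans (Subgroup.orderOf_dvd_natCard Z hz)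
  obtain ⟨i, hti⟩ := hcov t ht htZ
  obtain ⟨hcomm, hcop, -, -⟩ := bgz_setup hG h30 (L i) (hL i) (KL i) (hKL i) (hKL1 i)
  obtain ⟨h1, h2, -, -⟩ := Cfsg.Agent.S1431.result hG (L i) (hL i) (KL i) (hKL i) (hKL1 i)
  have htK : ¬ t ∣ Nat.card (KL i) := fun h => ((hKL i).2.1 t ht h).2.2.1 hti
  have hoc : orderOf (g * z * g⁻¹) = orderOf z := (MulAut.conj g).orderOf_eq z
  have hzZ : z ∈ KL i ⊔ (sigmaCore (L i) ⊓ centralizer (KL i : Set G)) := by
    rw [hZ i]; exact hz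
  have hgzZ : g * z * g⁻¹ ∈ KL i ⊔ (sigmaCore (L i) ⊓ centralizer (KL i : Set G)) := by
    rw [hZ i]; exact hgz
  have hzK : z ∉ KL i := fun h => htK (htz.trans (Subgroup.orderOf_dvd_natCard _ h))
  have hzKs : z ∉ sigmaCore (L i) ⊓ centralizer (KL i : Set G) := fun h => hzσ i h.1
  have hgzK : g * z * g⁻¹ ∉ KL i := by
    intro h
    apply htK
    rw [← hoc] at htz
    exact htz.trans (Subgroup.orderOf_dvd_natCard _ h)
  have hgzKs : g * z * g⁻¹ ∉ sigmaCore (L i) ⊓ centralizer (KL i : Set G) := by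
    intro h
    have hdz : orderOf z ∣ Nat.card ↥(sigmaCore (L i) ⊓ centralizer (KL i : Set G)) := by
      rw [← hoc]; exact Subgroup.orderOf_dvd_natCard _ h
    obtain ⟨a, ha, b, hb, hzab⟩ := bgz_decomp hcomm hzZ
    have hpz : z ^ Nat.card ↥(sigmaCore (L i) ⊓ centralizer (KL i : Set G)) = 1 :=
      orderOf_dvd_iff_pow_eq_one.mp hdz
    rw [hzab, (show Commute a b from hcomm a ha b hb).mul_pow, bgz_pow_card hb, mul_one] at hpz
    have h1' : orderOf a ∣ Nat.card ↥(sigmaCore (L i) ⊓ centralizer (KL i : Set G)) :=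
      orderOf_dvd_of_pow_eq_one hpz
    have h2' : orderOf a ∣ Nat.card (KL i) := Subgroup.orderOf_dvd_natCard _ ha
    have h3 : orderOf a ∣ 1 := by
      have h4 := Nat.dvd_gcd h2' h1'
      rwa [Nat.Coprime.gcd_eq_one hcop] at h4
    have ha1 : a = 1 := orderOf_eq_one_iff.mp (Nat.dvd_one.mp h3)
    apply hzKs
    rw [hzab, ha1, one_mul]; exact hb
  have hres := bgz_conj_mem hcomm hcop h1 h2
    (inf_le_left.trans (Cfsg.Agent.Lib.helper71.BGA.sigmaCore_le (L i))) (z := z) (g := g)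
    ⟨hzZ, fun h => h.elim hzK hzKs⟩ ⟨hgzZ, fun h => h.elim hgzK hgzKs⟩
  rw [hZ i] at hres
  exact hres

end Cfsg.Agent.Lib.helper71.BGFamT
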