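/-
Bender-Glauberman, towards Theorem 14.2(a) (statement S1430): piece N4 of the proof of
`Cfsg.Agent.Lib.helper71.BGRegNA.NAHyp` (split of helper86, tools/S1430_NA_SPEC.md).

In the nonabelian-Sylow `τ₂` situation with a singular `P` of order `p ∈ τ₁(M)` centralizing
`R = A ⊓ C_G(M_σ)`, the whole of `M` centralizes `R`: every Sylow subgroup of a complement `E`
centralizes `R` (`r`-elements since `Aut(R)` is an `r'`-group, the `τ₃`-part since it lies in `E'`,
and the Sylow `p`-subgroup over `P` since it lies in `H_σ` for a maximal subgroup `H ≥ N_G(P)` with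
`p ∈ σ(H)`, `r ∉ σ(H)`), while `p` is the only prime of `τ₁(M)`.
-/
import Mathlib
import Cfsg.Agent.S1350
import Cfsg.Agent.S1403
import Cfsg.Agent.S1404
import Cfsg.Agent.S1415
import Cfsg.Agent.S1419
import Cfsg.Agent.Lib.helper26.BGP0
import Cfsg.Agent.Lib.helper60.BGTau2Ab
import Cfsg.Agent.Lib.lead.Hall
import Cfsg.Agent.Lib.helper71.BGRegNA

set_option autoImplicit false
open Cfsg

namespace Cfsg.Agent.Lib.helper71.BGNA

open Cfsg.Agent.Lib.helper8 Cfsg.Agent.Lib.helper97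

variable {G : Type*} [Group G]

/-- A subgroup containing a Sylow `q`-subgroup of `E` for every prime `q` contains `E`. -/
theorem le_of_forall_sylow_le [Finite G] (E D : Subgroup G)
    (h : ∀ (q : ℕ) [Fact q.Prime] (Q : Sylow q ↥E), (Q : Subgroup ↥E).map E.subtype ≤ D) :
    E ≤ D := by
  have hD : D.subgroupOf E = ⊤ := by
    apply Subgroup.eq_top_of_card_eq
    apply Nat.dvd_antisymm (Subgroup.card_subgroup_dvd_card _)
    rw [← Nat.factorization_prime_le_iff_dvd Nat.card_pos.ne' Nat.card_pos.ne']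
    intro q hq
    have : Fact q.Prime := ⟨hq⟩
    obtain ⟨Q⟩ : Nonempty (Sylow q ↥E) := inferInstance
    have hQ : (Q : Subgroup ↥E) ≤ D.subgroupOf E := by
      intro x hx
      exact Subgroup.mem_subgroupOf.mpr (h q Q ⟨x, hx, rfl⟩)
    have h1 : Nat.card (Q : Subgroup ↥E) ∣ Nat.card (D.subgroupOf E) := Subgroup.card_dvd_of_le hQ
    rw [Sylow.card_eq_multiplicity] at h1
    exact (hq.pow_dvd_iff_le_factorization Nat.card_pos.ne').mp h1
  intro x hx
  have : (⟨x, hx⟩ : ↥E) ∈ D.subgroupOf E := by rw [hD]; trivial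
  exact Subgroup.mem_subgroupOf.mp this

/-- An `r`-element normalizing a subgroup `R` of prime order `r` centralizes it. -/
theorem relt_cent [Finite G] (r : ℕ) [Fact r.Prime] (R : Subgroup G) (hR : Nat.card R = r)
    (e : G) (n : ℕ) (he : e ^ (r ^ n) = 1) (heN : e ∈ Subgroup.normalizer (R : Set G)) :
    e ∈ Subgroup.centralizer (R : Set G) := by
  rw [Subgroup.mem_centralizer_iff]
  intro b hb
  by_cases hb1 : b = 1
  · subst hb1; simp
  have hbr : b ^ r = 1 := by
    have h1 : (⟨b, hb⟩ : R) ^ r = 1 := by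
      rw [← hR]; exact pow_card_eq_one'
    exact congrArg Subtype.val h1
  have hz : Subgroup.zpowers b = R := Cfsg.Agent.Lib.helper26.p0_eq_zpowers r R hR b hb hb1
  have h2 : e * b * e⁻¹ ∈ R := (Subgroup.mem_normalizer_iff.mp heN b).mp hb
  rw [← hz] at h2
  obtain ⟨k, hk⟩ := Subgroup.mem_zpowers_iff.mp h2
  have h3 := Cfsg.Agent.Lib.helper26.p0_pelt_cent r e b n he hbr k hk.symm
  calc b * e = e * b * e⁻¹ * e := by rw [h3]
    _ = e * b := by group

/-- **Piece N4.**  `M` centralizes `R = A ⊓ C_G(M_σ)`. -/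
theorem na_cent [Finite G] (hG : IsMinSimpleOddOrder G) (M : Subgroup G) (hM : IsCoatom M)
    (E : Subgroup G) (hE : IsComplIn E (sigmaCore M) M) (r : ℕ) [Fact r.Prime] (hr : r ∈ tau2 M)
    (hS : ∀ S : Sylow r G, ¬ IsMulCommutative (S : Subgroup G))
    (A : Subgroup G) (hAE : A ≤ E) (hAe : IsElementaryAbelian r A) (hA2 : Nat.card A = r ^ 2)
    (p : ℕ) (hp : p ∈ tau1 M) (P : Subgroup G) (hPE : P ≤ E) (hP : Nat.card P = p)
    (hRP : A ⊓ Subgroup.centralizer (sigmaCore M : Set G) ≤ Subgroup.centralizer (P : Set G))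
    (hR : Nat.card ↥(A ⊓ Subgroup.centralizer (sigmaCore M : Set G)) = r)
    (hRM : M ≤ Subgroup.normalizer
      ((A ⊓ Subgroup.centralizer (sigmaCore M : Set G) : Subgroup G) : Set G))
    (h1 : ∀ s ∈ tau1 M, s = p)
    (H : Subgroup G) (hH : IsCoatom H) (hNP : Subgroup.normalizer (P : Set G) ≤ H)
    (hrH : r ∉ sigma H) (hpH : p ∈ sigma H) :
    M ≤ Subgroup.centralizer ((A ⊓ Subgroup.centralizer (sigmaCore M : Set G) : Subgroup G) : Set G) := by
  obtain ⟨hodd, hsimple, -, hsolv⟩ := id hG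
  have hrp : r.Prime := Fact.out
  have hpp : p.Prime := hp.1
  have : Fact p.Prime := ⟨hpp⟩
  have hU : BGUniqHyp G := fun K hK h1 h2 => Cfsg.Agent.S1403.result hG K hK h1 h2
  have hF : BGFusHyp G := by
    intro M hM p hp X hXp hX1 hXM g hg
    have : Fact p.Prime := ⟨hp.1⟩
    exact (Cfsg.Agent.S1404.result hG M hM p hp X hXp hX1 hXM).1 g hg
  set R : Subgroup G := A ⊓ Subgroup.centralizer (sigmaCore M : Set G) with hRdef
  have hEM : E ≤ M := hE.1
  have hτ2 : tau2 M = {r} :=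
    (Cfsg.Agent.S1419.result hG M hM E hE r hr hS A ⟨hAE, hAe, hA2⟩).1
  have hER : E ≤ Subgroup.normalizer (R : Set G) := hEM.trans hRM
  have hRcyc : IsCyclic R := isCyclic_of_prime_card (p := r) hR
  have hRA : R ≤ A := inf_le_left
  have hRr : ∀ x ∈ R, x ^ r = 1 := fun x hx => hAe.2 x (hRA hx)
  have hEtop : E ≠ ⊤ := ne_top_of_le_ne_top hM.1 hEM
  have : Group.IsSolvable ↥E := hsolv E hEtop
  -- the key: every Sylow subgroup of `E` centralizes `R`
  have hkey : ∀ (q : ℕ) [Fact q.Prime] (Q : Sylow q ↥E),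
      (Q : Subgroup ↥E).map E.subtype ≤ Subgroup.centralizer (R : Set G) := by
    intro q _ Q
    have hq : q.Prime := Fact.out
    by_cases hqr : q = r
    · subst hqr
      rintro _ ⟨y, hy, rfl⟩
      obtain ⟨n, hn⟩ := Q.isPGroup' ⟨y, hy⟩
      have hn' : (y : G) ^ (q ^ n) = 1 := by
        have := congrArg (fun z : ↥(Q : Subgroup ↥E) => ((z : ↥E) : G)) hn
        simpa using this
      exact relt_cent q R hR (y : G) n hn' (hER y.2)
    by_cases hqE : q ∣ Nat.card E
    swap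
    · have hc : Nat.card (Q : Subgroup ↥E) = 1 := by
        rw [Sylow.card_eq_multiplicity, Nat.factorization_eq_zero_of_not_dvd hqE, pow_zero]
      have hQb : (Q : Subgroup ↥E) = ⊥ := Subgroup.eq_bot_of_card_eq _ hc
      rw [hQb, Subgroup.map_bot]
      exact bot_le
    have hqσ : q ∉ sigma M :=
      Cfsg.Agent.Lib.helper60.BGTau2Ab.not_mem_sigma_of_dvd_card_compl hG M hM E hE q hq hqE
    have hqM : q ∣ Nat.card M := dvd_trans hqE (Subgroup.card_dvd_of_le hEM)
    have hr2 : PRankLE q 2 M := by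
      by_contra h
      exact hqσ (bg_alpha_sub_sigma hG hU M hM ⟨hq, h⟩)
    by_cases hr1 : PRankLE q 1 M
    swap
    · exfalso
      have : q ∈ tau2 M := ⟨hq, hqσ, hr2, hr1⟩
      rw [hτ2] at this
      exact hqr (Set.mem_singleton_iff.mp this)
    by_cases hqd : q ∣ Nat.card ↥⁅M, M⁆
    · -- `q ∈ τ₃(M)`
      have hq3 : q ∈ tau3 M := ⟨hq, hqσ, hqd, hr1⟩
      obtain ⟨H₀, hH₀⟩ := Cfsg.Agent.Lib.lead.exists_isPiHall_of_isSolvable (tau3 M) ↥E
      have hE₃ : IsPiHallOf (tau3 M) (H₀.map E.subtype) E := by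
        refine ⟨Subgroup.map_subtype_le _, ?_, ?_⟩
        · intro s hs hsd
          rw [Subgroup.card_map_of_injective E.subtype_injective] at hsd
          exact hH₀.1 s hs hsd
        · intro s hs hs3
          have e1 : (H₀.map E.subtype).subgroupOf E = H₀ :=
            Subgroup.comap_map_eq_self_of_injective E.subtype_injective H₀
          show ¬ s ∣ ((H₀.map E.subtype).subgroupOf E).index
          rw [e1]
          exact hH₀.2 s hs hs3
      obtain ⟨-, hE₃c, hE₃n⟩ := (Cfsg.Agent.S1415.result hG M hM E hE).2.2 _ hE₃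
      have hH₀n : ∀ (g h : ↥E), h ∈ H₀ → g * h * g⁻¹ ∈ H₀ := by
        intro g h hh
        have h2 : (g : G) * (h : G) * (g : G)⁻¹ ∈ H₀.map E.subtype :=
          (Subgroup.mem_normalizer_iff.mp (hE₃n g.2) (h : G)).mp ⟨h, hh, rfl⟩
        obtain ⟨h', hh', e⟩ := h2
        have : h' = g * h * g⁻¹ := Subtype.ext e
        rwa [← this]
      have hK : IsPiSubgroup (tau3 M) (Q : Subgroup ↥E) := by
        intro s hs hsd
        rw [Sylow.card_eq_multiplicity] at hsd
        have := (Nat.prime_dvd_prime_iff_eq hs hq).mp (hs.dvd_of_dvd_pow hsd)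
        rw [this]; exact hq3
      obtain ⟨g, hg⟩ := Cfsg.Agent.Lib.lead.le_conj_isPiHall_of_isSolvable hH₀ hK
      have hQH₀ : (Q : Subgroup ↥E) ≤ H₀ := by
        intro y hy
        obtain ⟨h, hh, rfl⟩ := hg hy
        exact hH₀n g h hh
      rintro _ ⟨y, hy, rfl⟩
      have h2 : (y : G) ∈ ⁅E, E⁆ := hE₃c ⟨y, hQH₀ hy, rfl⟩
      exact Cfsg.Agent.Lib.helper60.BGTau2Ab.commutator_le_centralizer_of_cyclic hRcyc hER h2
    · -- `q ∈ τ₁(M)`, so `q = p`
      have hq1 : q ∈ tau1 M := ⟨hq, hqσ, hqM, hqd, hr1⟩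
      have hqp : q = p := h1 q hq1
      subst hqp
      have hPp : IsPGroup q (P.subgroupOf E) := by
        apply IsPGroup.of_card (n := 1)
        rw [Nat.card_congr (Subgroup.subgroupOfEquivOfLe hPE).toEquiv, hP, pow_one]
      obtain ⟨Q₁, hQ₁⟩ := hPp.exists_le_sylow
      have hcyc : IsCyclic (Q₁ : Subgroup ↥E) := bg_sylow_cyclic_of_prank_one hodd hEM q hr1 Q₁
      have hcomm : ∀ a b : ↥(Q₁ : Subgroup ↥E), a * b = b * a := by
        intro a b
        have hmc : IsMulCommutative ↥(Q₁ : Subgroup ↥E) := hcyc.isMulCommutative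
        exact hmc.is_comm.comm a b
      have hQ₁P : (Q₁ : Subgroup ↥E).map E.subtype ≤ Subgroup.centralizer (P : Set G) := by
        rintro _ ⟨y, hy, rfl⟩
        rw [Subgroup.mem_centralizer_iff]
        intro u hu
        have huQ : (⟨u, hPE hu⟩ : ↥E) ∈ (Q₁ : Subgroup ↥E) :=
          hQ₁ (Subgroup.mem_subgroupOf.mpr hu)
        have := hcomm ⟨⟨u, hPE hu⟩, huQ⟩ ⟨y, hy⟩
        have := congrArg (fun z : ↥(Q₁ : Subgroup ↥E) => ((z : ↥E) : G)) this
        simpa using this
      have hCN : Subgroup.centralizer (P : Set G) ≤ H :=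
        (Subgroup.centralizer_le_normalizer _).trans hNP
      have hQ₁H : (Q₁ : Subgroup ↥E).map E.subtype ≤ H := hQ₁P.trans hCN
      have hQ₁p : IsPGroup q ((Q₁ : Subgroup ↥E).map E.subtype) := Q₁.isPGroup'.map _
      have hQ₁σ : (Q₁ : Subgroup ↥E).map E.subtype ≤ sigmaCore H :=
        bg_pgroup_le_sigmaCore hG hU hF H hH hpH _ hQ₁H hQ₁p
      have hRH : R ≤ H := hRP.trans hCN
      have hQ₁R : (Q₁ : Subgroup ↥E).map E.subtype ≤ Subgroup.centralizer (R : Set G) := by
        rintro _ ⟨y, hy, rfl⟩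
        rw [Subgroup.mem_centralizer_iff]
        intro x hx
        have hyσ : (y : G) ∈ sigmaCore H := hQ₁σ ⟨y, hy, rfl⟩
        have hxN := Cfsg.Agent.Lib.helper13.le_normalizer_sigmaCore H (hRH hx)
        have hc1 : (y : G) * x * (y : G)⁻¹ * x⁻¹ ∈ R :=
          R.mul_mem ((Subgroup.mem_normalizer_iff.mp (hER y.2) x).mp hx) (R.inv_mem hx)
        have hc2 : (y : G) * x * (y : G)⁻¹ * x⁻¹ ∈ sigmaCore H := by
          have h3 : x * (y : G)⁻¹ * x⁻¹ ∈ sigmaCore H :=
            (Subgroup.mem_normalizer_iff.mp hxN _).mp ((sigmaCore H).inv_mem hyσ)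
          have h4 := (sigmaCore H).mul_mem hyσ h3
          have e : (y : G) * (x * (y : G)⁻¹ * x⁻¹) = (y : G) * x * (y : G)⁻¹ * x⁻¹ := by group
          rwa [e] at h4
        set c : G := (y : G) * x * (y : G)⁻¹ * x⁻¹ with hc
        have hc0 : c = 1 := by
          by_contra hc0
          have hcr : c ^ r = 1 := hRr c hc1
          have ho : orderOf c = r := orderOf_eq_prime hcr hc0
          have hd : orderOf (⟨c, hc2⟩ : ↥(sigmaCore H)) ∣ Nat.card ↥(sigmaCore H) :=
            orderOf_dvd_natCard _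
          rw [Subgroup.orderOf_mk, ho] at hd
          exact hrH ((Cfsg.Agent.S1350.result hG H hH).1.2.1 r hrp hd)
        have e : x * (y : G) = c⁻¹ * ((y : G) * x) := by rw [hc]; group
        show x * (y : G) = (y : G) * x
        rw [e, hc0]; simp
      -- the other Sylow `p`-subgroups are conjugate to `Q₁` in `E`
      obtain ⟨g, hg⟩ := MulAction.exists_smul_eq ↥E Q₁ Q
      rintro _ ⟨y, hy, rfl⟩
      have hy' : g⁻¹ * y * g ∈ (Q₁ : Subgroup ↥E) := by
        rw [← hg] at hy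
        exact (bg_mem_smul_sylow Q₁ g y).mp hy
      have he : ((g⁻¹ * y * g : ↥E) : G) ∈ Subgroup.centralizer (R : Set G) :=
        hQ₁R ⟨_, hy', rfl⟩
      rw [Subgroup.mem_centralizer_iff] at he ⊢
      intro x hx
      have hx' : (g : G)⁻¹ * x * (g : G) ∈ R := by
        have h5 := (Subgroup.mem_normalizer_iff.mp (hER (E.inv_mem g.2)) x).mp hx
        simpa using h5
      have h6 := he _ hx'
      have h7 : (g : G)⁻¹ * x * (g : G) * ((g : G)⁻¹ * (y : G) * (g : G)) =
          (g : G)⁻¹ * (y : G) * (g : G) * ((g : G)⁻¹ * x * (g : G)) := by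
        simpa using h6
      have h8 := congrArg (fun z => (g : G) * z * (g : G)⁻¹) h7
      simpa [mul_assoc] using h8
  have hEC : E ≤ Subgroup.centralizer (R : Set G) := le_of_forall_sylow_le E _ hkey
  intro m hm
  obtain ⟨e, he, s, hs, rfl⟩ := hE.2.2.2 m hm
  refine Subgroup.mul_mem _ (hEC he) ?_
  rw [Subgroup.mem_centralizer_iff]
  intro x hx
  exact ((Subgroup.mem_centralizer_iff.mp hx.2) s hs).symm

end Cfsg.Agent.Lib.helper71.BGNA
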