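import Mathlib
import Cfsg.Prelude.Def_Characters
import Cfsg.Prelude.Def_Blocks
import Cfsg.Agent.Lib.helper84.BrDefs
import Cfsg.Agent.Lib.helper14.BR0Defs
import Cfsg.Agent.S4441
import Cfsg.Agent.Lib.helper76.KazCore
import Cfsg.Agent.Lib.helper82.CharQuot
import Cfsg.Agent.Lib.helper20.BrC0
import Cfsg.Agent.Lib.helper84.BlockOrth

/-!
# S4700 piece D0 : the principal block data (interface to S4441) for an arbitrary centraliser
of the Sylow `p`-subgroup of order `p`, normalised with `1 ∈ X`.
-/

set_option autoImplicit false

namespace Cfsg.Agent.Lib.helper71.BR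

open Cfsg Cfsg.Agent.Lib.helper81 Cfsg.Agent.Lib.helper84.Br Cfsg.Agent.Lib.helper14.BR
open scoped ComplexConjugate

universe u

variable {G : Type u} [Group G] [Fintype G] {p : ℕ} [Fact p.Prime] {P : Sylow p G} {e n : ℕ}

/-- A non-identity element of `P` (of order `p`) has order divisible by `p`. -/
theorem h71br_dvd_orderOf (hP : Nat.card P = p) (x : G) (hx : x ∈ (P : Subgroup G))
    (hx1 : x ≠ 1) : p ∣ orderOf x := by
  have hp : p.Prime := Fact.out
  have h1 : orderOf x ∣ p := by
    have := Subgroup.orderOf_dvd_natCard (P : Subgroup G) hx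
    rwa [hP] at this
  rcases (Nat.dvd_prime hp).mp h1 with h | h
  · exact absurd (orderOf_eq_one_iff.mp h) hx1
  · rw [h]

/-- D0 (INTERFACE to S4441, general centraliser). -/
theorem exists_data0 (hperf : commutator G = ⊤) (hp2 : p ≠ 2) (hP : Nat.card P = p)
    (he : (Subgroup.centralizer ((P : Subgroup G) : Set G)).relIndex
        (Subgroup.normalizer ((P : Subgroup G) : Set G)) = e)
    (he2 : 2 ≤ e) (hep : e ∣ p - 1) : Nonempty (Data0 G p P e) := by
  classical
  have hp : p.Prime := Fact.out
  obtain ⟨M, hM⟩ := Cfsg.Agent.Lib.helper76.exists_isPModular p hp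
  have hMprime : M.IsPrime := hM.2.1.isPrime
  obtain ⟨X, Y, hB, hdisj, hcX, hcY, εX, ε, hX, hε, hdY, hagree, hrelY⟩ :=
    Cfsg.Agent.S4441.result p M hM hp2 P hP e he
  have hXfin : X.Finite := Set.toFinite X
  have hYfin : Y.Finite := Set.toFinite Y
  have hcXF : hXfin.toFinset.card = e := by
    rw [← Set.ncard_eq_toFinset_card X hXfin, ← Nat.card_coe_set_eq]; exact hcX
  have hcYF : hYfin.toFinset.card = (p - 1) / e := by
    rw [← Set.ncard_eq_toFinset_card Y hYfin, ← Nat.card_coe_set_eq]; exact hcY
  have hcYe : hYfin.toFinset.card * e = p - 1 := by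
    rw [hcYF]; exact Nat.div_mul_cancel hep
  have hp1 : 1 ≤ p := hp.pos
  have hp3 : 3 ≤ p := by
    have := hp.two_le
    omega
  have hreg1 : ¬ p ∣ orderOf (1 : G) := by
    rw [orderOf_one]; exact fun hd => hp.one_lt.ne' (Nat.dvd_one.mp hd)
  have hvan : Subgroup.centralizer ((P : Subgroup G) : Set G) = (P : Subgroup G) →
      ∀ ψ : IrrCharacter G, ψ ∉ X → ψ ∉ Y → ∀ x : G, x ∈ (P : Subgroup G) → x ≠ 1 →
      (ψ : G → ℂ) x = 0 := by
    intro hC ψ h1 h2 x hx hx1
    apply Cfsg.Agent.Lib.helper20.Br.helper20_vanish M hM hP hC ψ _ x hx hx1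
    rw [hB]
    exact fun h => h.elim h1 h2
  have hvalXfull : ∀ χ ∈ X, ∀ x : G, x ∈ (P : Subgroup G) → x ≠ 1 →
      ∀ y : G, y ∈ Subgroup.centralizer ((P : Subgroup G) : Set G) → ¬ p ∣ orderOf y →
      (χ : G → ℂ) (x * y) = (εX χ : ℂ) := fun χ hχ => (hX χ hχ).2.2
  have hvalX : ∀ χ ∈ X, ∀ x : G, x ∈ (P : Subgroup G) → x ≠ 1 →
      (χ : G → ℂ) x = (εX χ : ℂ) := by
    intro χ hχ x hx hx1
    have h := (hX χ hχ).2.2 x hx hx1 1 (Subgroup.one_mem _) hreg1
    rwa [mul_one] at h
  have hrelF : ∀ θ ∈ Y, ∀ g : G, ¬ p ∣ orderOf g →
      (ε : ℂ) * (θ : G → ℂ) g = ∑ χ ∈ hXfin.toFinset, (εX χ : ℂ) * (χ : G → ℂ) g := by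
    intro θ hθ g hg
    rw [hrelY θ hθ g hg, finsum_mem_eq_finite_toFinset_sum _ hXfin]
  have hdisjF : Disjoint hXfin.toFinset hYfin.toFinset := by
    rw [Finset.disjoint_left]
    intro a ha hb
    rw [Set.Finite.mem_toFinset] at ha hb
    exact Set.disjoint_left.mp hdisj ha hb
  -- the column orthogonality `1` against `x ∈ P ∖ 1` inside the principal block
  have horth : ∀ x : G, x ∈ (P : Subgroup G) → x ≠ 1 →
      ∑ θ ∈ hYfin.toFinset, (θ : G → ℂ) x = -(ε : ℂ) := by
    intro x hx hx1
    have hYne : hYfin.toFinset.Nonempty := by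
      rw [← Finset.card_pos]
      rcases Nat.eq_zero_or_pos hYfin.toFinset.card with h | h
      · rw [h] at hcYe; omega
      · exact h
    obtain ⟨θ0, hθ0F⟩ := hYne
    have hθ0 : θ0 ∈ Y := (Set.Finite.mem_toFinset _).mp hθ0F
    have hbo := Cfsg.Agent.Lib.helper84.block_orthogonality hM
      (isPBlock_principalBlock (M := M) (G := G)) 1 x hreg1 (h71br_dvd_orderOf hP x hx hx1)
    have hfilter : (Finset.univ.filter (fun χ : IrrCharacter G => χ ∈ principalBlock M G))
        = hXfin.toFinset ∪ hYfin.toFinset := by
      ext χ
      simp only [Finset.mem_filter, Finset.mem_univ, true_and, Finset.mem_union,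
        Set.Finite.mem_toFinset]
      rw [hB]
      rfl
    rw [← Finset.sum_filter, hfilter, Finset.sum_union hdisjF] at hbo
    have hXs : ∑ χ ∈ hXfin.toFinset, (χ : G → ℂ) 1 * conj ((χ : G → ℂ) x) =
        (ε : ℂ) * (θ0 : G → ℂ) 1 := by
      rw [hrelF θ0 hθ0 1 hreg1]
      apply Finset.sum_congr rfl
      intro χ hχ
      rw [hvalX χ ((Set.Finite.mem_toFinset _).mp hχ) x hx hx1, map_intCast, mul_comm]
    have hYs : ∑ θ ∈ hYfin.toFinset, (θ : G → ℂ) 1 * conj ((θ : G → ℂ) x) =
        (θ0 : G → ℂ) 1 * conj (∑ θ ∈ hYfin.toFinset, (θ : G → ℂ) x) := by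
      rw [map_sum, Finset.mul_sum]
      apply Finset.sum_congr rfl
      intro θ hθ
      rw [hagree θ ((Set.Finite.mem_toFinset _).mp hθ) θ0 hθ0 1 hreg1]
    rw [hXs, hYs] at hbo
    have hy0 : (θ0 : G → ℂ) 1 ≠ 0 := by
      rw [irr_one_eq_charDegree]
      exact_mod_cast (irr_charDegree_pos θ0).ne'
    have h3 : conj (∑ θ ∈ hYfin.toFinset, (θ : G → ℂ) x) = -(ε : ℂ) := by
      have h4 : (θ0 : G → ℂ) 1 * ((ε : ℂ) + conj (∑ θ ∈ hYfin.toFinset, (θ : G → ℂ) x)) = 0 := by
        linear_combination hbo
      rcases mul_eq_zero.mp h4 with h5 | h5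
      · exact absurd h5 hy0
      · linear_combination h5
    have h6 := congrArg conj h3
    rw [Complex.conj_conj] at h6
    rw [h6, map_neg, map_intCast]
  have htriv : trivChar G ∈ X ∪ Y := by
    rw [← hB]; exact trivChar_mem_principalBlock hMprime
  rcases htriv with h1X | h1Y
  · -- the trivial character is non-exceptional: take the data as it is
    exact ⟨{ X := hXfin.toFinset
             Y := hYfin.toFinset
             δ := εX
             ε := ε
             disj := hdisjF
             cardX := hcXF
             cardY := hcYe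
             one_mem := by rw [Set.Finite.mem_toFinset]; exact h1X
             δ_sq := fun χ hχ => (hX χ ((Set.Finite.mem_toFinset _).mp hχ)).1
             deg_X := fun χ hχ => (hX χ ((Set.Finite.mem_toFinset _).mp hχ)).2.1
             val_X := fun χ hχ => hvalXfull χ ((Set.Finite.mem_toFinset _).mp hχ)
             ε_sq := hε
             deg_Y := fun θ hθ => hdY θ ((Set.Finite.mem_toFinset _).mp hθ)
             agree := fun θ hθ θ' hθ' =>
               hagree θ ((Set.Finite.mem_toFinset _).mp hθ) θ' ((Set.Finite.mem_toFinset _).mp hθ')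
             rel := fun θ hθ => hrelF θ ((Set.Finite.mem_toFinset _).mp hθ)
             orth_Y := horth
             vanish := fun hC ψ h1 h2 => hvan hC ψ
               (fun h => h1 ((Set.Finite.mem_toFinset _).mpr h))
               (fun h => h2 ((Set.Finite.mem_toFinset _).mpr h)) }⟩
  · -- the trivial character is exceptional: then `Y = {1}`, `e = p - 1`, `ε = -1`; swap
    have hYsing : ∀ θ ∈ Y, θ = trivChar G := by
      intro θ hθ
      apply Cfsg.Agent.Lib.helper20.Br.helper20_lin_perfect_val hperf
      rw [hagree θ hθ (trivChar G) h1Y 1 hreg1]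
      rfl
    have h1X : trivChar G ∉ X := fun h => Set.disjoint_left.mp hdisj h h1Y
    have hYF : hYfin.toFinset = {trivChar G} := by
      ext θ
      rw [Set.Finite.mem_toFinset, Finset.mem_singleton]
      exact ⟨hYsing θ, fun h => h ▸ h1Y⟩
    have he1 : e = p - 1 := by
      rw [hYF, Finset.card_singleton, one_mul] at hcYe
      exact hcYe
    have hdeg1 : charDegree ((trivChar G : IrrCharacter G) : G → ℂ) = 1 := by
      have h := irr_one_eq_charDegree (trivChar G)
      rw [trivChar_apply] at h
      exact_mod_cast h.symm
    have hεm : ε = -1 := by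
      rcases hε with h | h
      · exfalso
        have h2 := hdY (trivChar G) h1Y
        rw [hdeg1, h, he1, one_mul] at h2
        have h3 : (p : ℤ) ∣ ((p - 1 : ℕ) : ℤ) - ((1 : ℕ) : ℤ) := (Int.modEq_iff_dvd).mp h2
        have h4 : (p : ℤ) ∣ 2 := by
          have h5 : ((p - 1 : ℕ) : ℤ) = (p : ℤ) - 1 := by
            rw [Nat.cast_sub hp1]; simp
          rw [h5] at h3
          have h6 : (p : ℤ) ∣ (p : ℤ) - (((p : ℤ) - 1) - ((1 : ℕ) : ℤ)) :=
            dvd_sub dvd_rfl h3
          have h7 : (p : ℤ) - (((p : ℤ) - 1) - ((1 : ℕ) : ℤ)) = 2 := by push_cast; ring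
          rwa [h7] at h6
        have h8 : p ∣ 2 := by exact_mod_cast h4
        have := Nat.le_of_dvd (by norm_num) h8
        omega
      · exact h
    -- choose a member of `X`
    have hXne : hXfin.toFinset.Nonempty := by
      rw [← Finset.card_pos, hcXF]
      omega
    obtain ⟨χ0, hχ0F⟩ := hXne
    have hχ0 : χ0 ∈ X := (Set.Finite.mem_toFinset _).mp hχ0F
    have hχ0ne : χ0 ≠ trivChar G := fun h => h1X (h ▸ hχ0)
    have h1erase : trivChar G ∉ hXfin.toFinset.erase χ0 := by
      intro h
      exact h1X ((Set.Finite.mem_toFinset _).mp (Finset.mem_of_mem_erase h))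
    -- relation at `1 ∈ Y`
    have hrel1 : ∀ g : G, ¬ p ∣ orderOf g →
        ∑ χ ∈ hXfin.toFinset.erase χ0, (εX χ : ℂ) * (χ : G → ℂ) g =
          -1 - (εX χ0 : ℂ) * (χ0 : G → ℂ) g := by
      intro g hg
      have h := hrelF (trivChar G) h1Y g hg
      rw [trivChar_apply, hεm, ← Finset.add_sum_erase _ _ hχ0F] at h
      push_cast at h
      linear_combination -h
    exact ⟨{ X := insert (trivChar G) (hXfin.toFinset.erase χ0)
             Y := {χ0}
             δ := fun χ => if χ = trivChar G then 1 else εX χ
             ε := -εX χ0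
             disj := by
               rw [Finset.disjoint_singleton_right, Finset.mem_insert, not_or]
               exact ⟨hχ0ne, fun h => (Finset.mem_erase.mp h).1 rfl⟩
             cardX := by
               rw [Finset.card_insert_of_notMem h1erase, Finset.card_erase_of_mem hχ0F, hcXF]
               omega
             cardY := by rw [Finset.card_singleton, one_mul, he1]
             one_mem := Finset.mem_insert_self _ _
             δ_sq := by
               intro χ hχ
               by_cases h : χ = trivChar G
               · left; simp [h]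
               · rw [if_neg h]
                 rcases Finset.mem_insert.mp hχ with h' | h'
                 · exact absurd h' h
                 · exact (hX χ ((Set.Finite.mem_toFinset _).mp (Finset.mem_of_mem_erase h'))).1
             deg_X := by
               intro χ hχ
               by_cases h : χ = trivChar G
               · rw [if_pos h, h, hdeg1]; rfl
               · rw [if_neg h]
                 rcases Finset.mem_insert.mp hχ with h' | h'
                 · exact absurd h' h
                 · exact (hX χ ((Set.Finite.mem_toFinset _).mp (Finset.mem_of_mem_erase h'))).2.1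
             val_X := by
               intro χ hχ x hx hx1 y hy hreg
               by_cases h : χ = trivChar G
               · rw [if_pos h, h, trivChar_apply]; simp
               · rw [if_neg h]
                 rcases Finset.mem_insert.mp hχ with h' | h'
                 · exact absurd h' h
                 · exact hvalXfull χ ((Set.Finite.mem_toFinset _).mp (Finset.mem_of_mem_erase h'))
                     x hx hx1 y hy hreg
             ε_sq := by
               rcases (hX χ0 hχ0).1 with h | h
               · right; rw [h]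
               · left; rw [h]; norm_num
             deg_Y := by
               intro θ hθ
               rw [Finset.mem_singleton] at hθ
               rw [hθ, he1]
               have h := (hX χ0 hχ0).2.1
               have h5 : ((p - 1 : ℕ) : ℤ) = (p : ℤ) - 1 := by
                 rw [Nat.cast_sub hp1]; simp
               rw [h5]
               refine h.trans ?_
               rw [Int.modEq_iff_dvd]
               exact ⟨-εX χ0, by ring⟩
             agree := by
               intro θ hθ θ' hθ' g _
               rw [Finset.mem_singleton] at hθ hθ'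
               rw [hθ, hθ']
             rel := by
               intro θ hθ g hg
               rw [Finset.mem_singleton] at hθ
               rw [hθ, Finset.sum_insert h1erase, if_pos rfl, trivChar_apply]
               have hsum : ∑ χ ∈ hXfin.toFinset.erase χ0,
                   (((if χ = trivChar G then (1 : ℤ) else εX χ : ℤ) : ℂ)) * (χ : G → ℂ) g =
                   ∑ χ ∈ hXfin.toFinset.erase χ0, (εX χ : ℂ) * (χ : G → ℂ) g := by
                 apply Finset.sum_congr rfl
                 intro χ hχ
                 have : χ ≠ trivChar G := fun h => h1erase (h ▸ hχ)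
                 rw [if_neg this]
               rw [hsum, hrel1 g hg]
               push_cast
               ring
             orth_Y := by
               intro x hx hx1
               rw [Finset.sum_singleton, hvalX χ0 hχ0 x hx hx1]
               push_cast
               ring
             vanish := by
               intro hC ψ h1 h2 x hx hx1
               rw [Finset.mem_insert, not_or] at h1
               rw [Finset.mem_singleton] at h2
               apply hvan hC ψ _ _ x hx hx1
               · intro h
                 exact h1.2 (Finset.mem_erase.mpr ⟨h2, (Set.Finite.mem_toFinset _).mpr h⟩)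
               · intro h
                 exact h1.1 (hYsing ψ h) }⟩

end Cfsg.Agent.Lib.helper71.BR
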