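import Mathlib
import Cfsg.Agent.Lib.helper4.BurnsidePQ

set_option autoImplicit false
set_option linter.style.haveILetI false

/-!
# Groups all of whose non-identity elements have prime order, with `Aut`-transitivity
on elements of equal order: counting lemmas (helper71, for S4068)
-/

namespace Cfsg.Agent.Lib.helper71.FourOrb

open scoped IsMulCommutative

/-- A finite group whose order has at most two prime divisors is solvable. -/
theorem isSolvable_of_two_primes {H : Type*} [Group H] [Finite H] (p q : ℕ) (hp : p.Prime)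
    (hq : q.Prime) (h : ∀ d : ℕ, d.Prime → d ∣ Nat.card H → d = p ∨ d = q) :
    Group.IsSolvable H := by
  have hcard0 : Nat.card H ≠ 0 := Nat.card_pos.ne'
  obtain ⟨e₁, n', hn'dvd, hn'⟩ := Nat.exists_eq_pow_mul_and_not_dvd hcard0 p hp.ne_one
  have hn'0 : n' ≠ 0 := by
    rintro rfl
    rw [mul_zero] at hn'
    exact hcard0 hn'
  have hn'q : n' = q ^ n'.primeFactorsList.length := by
    apply Nat.eq_prime_pow_of_unique_prime_dvd hn'0
    intro d hd hdvd
    rcases h d hd (hdvd.trans (hn' ▸ Dvd.intro_left _ rfl)) with h1 | h1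
    · exfalso; exact hn'dvd (h1 ▸ hdvd)
    · exact h1
  exact Cfsg.Agent.Lib.helper4.isSolvable_of_card_eq_prime_pow_mul_prime_pow p q e₁
      n'.primeFactorsList.length hp hq (by rw [← hn'q]; exact hn')

section Core

variable {G : Type*} [Group G] [Finite G]

omit [Finite G] in
theorem pow_eq_one_of_commute (hprime : ∀ g : G, g ≠ 1 → (orderOf g).Prime) {x y : G} {s : ℕ}
    (hs : orderOf x = s) (hsp : s.Prime) (hc : Commute x y) : y ^ s = 1 := by
  by_cases hy : y = 1
  · rw [hy, one_pow]
  have ht := hprime y hy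
  by_cases hst : orderOf y = s
  · rw [← hst]; exact pow_orderOf_eq_one y
  exfalso
  have hcop : (orderOf x).Coprime (orderOf y) := by
    rw [hs]; exact (Nat.coprime_primes hsp ht).mpr (Ne.symm hst)
  have ho := hc.orderOf_mul_eq_mul_orderOf_of_coprime hcop
  have h2s := hsp.two_le
  have h2t := ht.two_le
  have hxy : x * y ≠ 1 := by
    intro h
    rw [h, orderOf_one, hs] at ho
    nlinarith
  have h3 := hprime (x * y) hxy
  rw [ho, hs] at h3
  exact Nat.not_prime_mul hsp.ne_one ht.ne_one h3

theorem exists_sylow_eq_centralizer (hprime : ∀ g : G, g ≠ 1 → (orderOf g).Prime)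
    (htr : ∀ g h : G, orderOf g = orderOf h → ∃ α : MulAut G, α g = h)
    (s : ℕ) [hs : Fact s.Prime] (x : G) (hx : orderOf x = s) :
    ∃ S : Sylow s G, (S : Subgroup G) = Subgroup.centralizer {x} := by
  classical
  have hsdvd : s ∣ Nat.card G := hx ▸ orderOf_dvd_natCard x
  obtain ⟨S0⟩ := (inferInstance : Nonempty (Sylow s G))
  have hS0card : Nat.card (S0 : Subgroup G) = s ^ (Nat.card G).factorization s :=
    Sylow.card_eq_multiplicity S0
  have hfac : 0 < (Nat.card G).factorization s :=
    hs.out.factorization_pos_of_dvd Nat.card_pos.ne' hsdvd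
  haveI : Nontrivial (S0 : Subgroup G) := by
    rw [← Finite.one_lt_card_iff_nontrivial, hS0card]
    exact Nat.one_lt_pow (by omega) hs.out.one_lt
  haveI := S0.isPGroup'.center_nontrivial
  obtain ⟨z', hz'⟩ := exists_ne (1 : Subgroup.center (S0 : Subgroup G))
  have hz1 : ((z' : (S0 : Subgroup G)) : G) ≠ 1 := by
    intro h
    apply hz'
    apply Subtype.ext
    apply Subtype.ext
    exact h
  have hzS : ((z' : (S0 : Subgroup G)) : G) ∈ (S0 : Subgroup G) := (z' : (S0 : Subgroup G)).2
  have hzcomm : ∀ g ∈ (S0 : Subgroup G), g * ((z' : (S0 : Subgroup G)) : G)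
      = ((z' : (S0 : Subgroup G)) : G) * g := by
    intro g hg
    have h1 := Subgroup.mem_center_iff.mp z'.2 ⟨g, hg⟩
    exact congrArg Subtype.val h1
  have hzord : orderOf ((z' : (S0 : Subgroup G)) : G) = s := by
    obtain ⟨k, hk⟩ := S0.isPGroup' (z' : (S0 : Subgroup G))
    have hk' : ((z' : (S0 : Subgroup G)) : G) ^ s ^ k = 1 := by
      have h1 := congrArg Subtype.val hk
      simpa using h1
    have hdvd : orderOf ((z' : (S0 : Subgroup G)) : G) ∣ s ^ k := orderOf_dvd_of_pow_eq_one hk'
    exact (Nat.prime_dvd_prime_iff_eq (hprime _ hz1) hs.out).mp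
      ((hprime _ hz1).dvd_of_dvd_pow hdvd)
  generalize ((z' : (S0 : Subgroup G)) : G) = z at hz1 hzS hzcomm hzord
  have hCpg : IsPGroup s (Subgroup.centralizer ({z} : Set G)) := by
    intro c
    refine ⟨1, ?_⟩
    rw [pow_one]
    apply Subtype.ext
    have hc : Commute z c.1 := (Subgroup.mem_centralizer_singleton_iff.mp c.2).symm
    exact pow_eq_one_of_commute hprime hzord hs.out hc
  have hCz : Subgroup.centralizer ({z} : Set G) = (S0 : Subgroup G) := by
    apply S0.is_maximal' hCpg
    intro g hg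
    rw [Subgroup.mem_centralizer_singleton_iff]
    exact hzcomm g hg
  obtain ⟨α, hα⟩ := htr z x (hzord.trans hx.symm)
  have hcard : Nat.card (Subgroup.centralizer ({x} : Set G))
      = s ^ (Nat.card G).factorization s := by
    rw [← hS0card, ← hCz]
    symm
    apply Nat.card_congr
    exact α.toEquiv.subtypeEquiv (fun g => by
      rw [Subgroup.mem_centralizer_singleton_iff, Subgroup.mem_centralizer_singleton_iff, ← hα]
      constructor
      · intro h
        show α g * α z = α z * α g
        rw [← map_mul, ← map_mul, h]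
      · intro h
        apply α.injective
        have h' : α g * α z = α z * α g := h
        rw [map_mul, map_mul, h'])
  exact ⟨Sylow.ofCard _ hcard, rfl⟩

theorem card_order_add_card_sylow_le (hprime : ∀ g : G, g ≠ 1 → (orderOf g).Prime)
    (htr : ∀ g h : G, orderOf g = orderOf h → ∃ α : MulAut G, α g = h)
    (s : ℕ) [hs : Fact s.Prime] (S0 : Sylow s G) :
    Nat.card {x : G // orderOf x = s} + Nat.card (Sylow s G)
      ≤ Nat.card (Sylow s G) * Nat.card (Subgroup.center (S0 : Subgroup G)) := by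
  classical
  haveI : Fintype (Sylow s G) := Fintype.ofFinite _
  have hz : ∀ S : Sylow s G, Nat.card (Subgroup.center (S : Subgroup G))
      = Nat.card (Subgroup.center (S0 : Subgroup G)) := by
    intro S
    obtain ⟨g, rfl⟩ := MulAction.exists_smul_eq G S0 S
    exact (Nat.card_congr (Subgroup.centerCongr (S0.equivSMul g)).toEquiv).symm
  have hsig : Nat.card (Σ S : Sylow s G, Subgroup.center (S : Subgroup G))
      = Nat.card (Sylow s G) * Nat.card (Subgroup.center (S0 : Subgroup G)) := by
    rw [Nat.card_sigma, Finset.sum_congr rfl (fun S _ => hz S), Finset.sum_const,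
      Finset.card_univ, smul_eq_mul, Nat.card_eq_fintype_card (α := Sylow s G)]
  rw [← hsig, ← Nat.card_sum]
  choose Sx hSx using fun x : {x : G // orderOf x = s} =>
    exists_sylow_eq_centralizer hprime htr s x.1 x.2
  have hxmem : ∀ x : {x : G // orderOf x = s}, x.1 ∈ (Sx x : Subgroup G) := by
    intro x
    rw [hSx x]
    exact Subgroup.mem_centralizer_singleton_iff.mpr rfl
  have hxcen : ∀ x : {x : G // orderOf x = s},
      (⟨x.1, hxmem x⟩ : (Sx x : Subgroup G)) ∈ Subgroup.center (Sx x : Subgroup G) := by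
    intro x
    rw [Subgroup.mem_center_iff]
    rintro ⟨g, hg⟩
    apply Subtype.ext
    have h1 : g ∈ Subgroup.centralizer ({x.1} : Set G) := hSx x ▸ hg
    exact Subgroup.mem_centralizer_singleton_iff.mp h1
  let φ : {x : G // orderOf x = s} ⊕ Sylow s G →
      Σ S : Sylow s G, Subgroup.center (S : Subgroup G) :=
    fun w => match w with
      | Sum.inl x => ⟨Sx x, ⟨⟨x.1, hxmem x⟩, hxcen x⟩⟩
      | Sum.inr S => ⟨S, 1⟩
  let π : (Σ S : Sylow s G, Subgroup.center (S : Subgroup G)) → Sylow s G × G :=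
    fun w => (w.1, ((w.2 : (w.1 : Subgroup G)) : G))
  apply Nat.card_le_card_of_injective φ
  intro w w' h
  have h' := congrArg π h
  rcases w with x | S <;> rcases w' with x' | S'
  · have h1 : x.1 = x'.1 := congrArg Prod.snd h'
    exact congrArg Sum.inl (Subtype.ext h1)
  · exfalso
    have h1 : x.1 = 1 := congrArg Prod.snd h'
    have hx := x.2
    rw [h1, orderOf_one] at hx
    exact hs.out.ne_one hx.symm
  · exfalso
    have h1 : (1 : G) = x'.1 := congrArg Prod.snd h'
    have hx := x'.2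
    rw [← h1, orderOf_one] at hx
    exact hs.out.ne_one hx.symm
  · have h1 : S = S' := congrArg Prod.fst h'
    exact congrArg Sum.inr h1

theorem isSolvable_of_normalizer_le_centralizer {p1 p2 p3 : ℕ} (hp1 : p1.Prime)
    (hp2 : p2.Prime) (hp3 : p3.Prime)
    (hP : ∀ d : ℕ, d.Prime → d ∣ Nat.card G → d = p1 ∨ d = p2 ∨ d = p3)
    (s : ℕ) [hs : Fact s.Prime] (hs123 : s = p1 ∨ s = p2 ∨ s = p3) (S : Sylow s G)
    (hNC : Subgroup.normalizer ((S : Subgroup G) : Set G)
      ≤ Subgroup.centralizer ((S : Subgroup G) : Set G)) : Group.IsSolvable G := by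
  have hKs : ¬ s ∣ Nat.card (MonoidHom.transferSylow S hNC).ker :=
    MonoidHom.not_dvd_card_ker_transferSylow S hNC
  have hKdvd : ∀ d : ℕ, d.Prime → d ∣ Nat.card (MonoidHom.transferSylow S hNC).ker →
      d ≠ s ∧ (d = p1 ∨ d = p2 ∨ d = p3) := by
    intro d hd hdvd
    refine ⟨?_, hP d hd (hdvd.trans (Subgroup.card_subgroup_dvd_card _))⟩
    rintro rfl
    exact hKs hdvd
  haveI hKsolv : Group.IsSolvable (MonoidHom.transferSylow S hNC).ker := by
    rcases hs123 with h | h | h
    · apply isSolvable_of_two_primes p2 p3 hp2 hp3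
      intro d hd hdvd
      obtain ⟨h1, h2⟩ := hKdvd d hd hdvd
      omega
    · apply isSolvable_of_two_primes p1 p3 hp1 hp3
      intro d hd hdvd
      obtain ⟨h1, h2⟩ := hKdvd d hd hdvd
      omega
    · apply isSolvable_of_two_primes p1 p2 hp1 hp2
      intro d hd hdvd
      obtain ⟨h1, h2⟩ := hKdvd d hd hdvd
      omega
  haveI hSsolv : Group.IsSolvable (S : Subgroup G) := by
    haveI : Group.IsNilpotent (S : Subgroup G) := S.isPGroup'.isNilpotent
    exact IsNilpotent.to_isSolvable
  exact Group.isSolvable_of_ker_le_range (MonoidHom.transferSylow S hNC).ker.subtype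
    (MonoidHom.transferSylow S hNC) (by rw [Subgroup.range_subtype])

theorem three_mul_le_card
    (hns : ¬ Group.IsSolvable G) (hodd : ¬ 2 ∣ Nat.card G)
    {p1 p2 p3 : ℕ} (hp1 : p1.Prime) (hp2 : p2.Prime) (hp3 : p3.Prime)
    (hP : ∀ d : ℕ, d.Prime → d ∣ Nat.card G → d = p1 ∨ d = p2 ∨ d = p3)
    (s : ℕ) [hs : Fact s.Prime] (hs123 : s = p1 ∨ s = p2 ∨ s = p3) (S0 : Sylow s G) :
    3 * (Nat.card (Sylow s G) * Nat.card (Subgroup.center (S0 : Subgroup G)))
      ≤ Nat.card G := by
  have hN : Nat.card (Sylow s G)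
      * Nat.card (Subgroup.normalizer ((S0 : Subgroup G) : Set G)) = Nat.card G := by
    have h0 := Subgroup.card_mul_index (Subgroup.normalizer ((S0 : Subgroup G) : Set G))
    rw [Sylow.card_eq_index_normalizer S0, mul_comm]
    exact h0
  have h1 : Nat.card (Subgroup.center (S0 : Subgroup G)) ∣ Nat.card (S0 : Subgroup G) :=
    Subgroup.card_subgroup_dvd_card _
  have h2 : Nat.card (S0 : Subgroup G)
      ∣ Nat.card (Subgroup.normalizer ((S0 : Subgroup G) : Set G)) :=
    Subgroup.card_dvd_of_le Subgroup.le_normalizer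
  obtain ⟨m, hm⟩ := h1.trans h2
  have hmodd : ¬ 2 ∣ m := fun h => hodd (by
    rw [← hN, hm]
    exact Dvd.dvd.mul_left (Dvd.dvd.mul_left h _) _)
  have hm1 : m ≠ 1 := by
    rintro rfl
    rw [mul_one] at hm
    apply hns
    apply isSolvable_of_normalizer_le_centralizer hp1 hp2 hp3 hP s hs123 S0
    have hle1 : Nat.card (S0 : Subgroup G) ≤ Nat.card (Subgroup.center (S0 : Subgroup G)) :=
      hm ▸ Nat.le_of_dvd Nat.card_pos h2
    have hcen : Subgroup.center (S0 : Subgroup G) = ⊤ :=
      Subgroup.eq_top_of_card_eq _ (le_antisymm (Nat.le_of_dvd Nat.card_pos h1) hle1)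
    have hnorm : (S0 : Subgroup G) = Subgroup.normalizer ((S0 : Subgroup G) : Set G) := by
      apply Subgroup.eq_of_le_of_card_ge Subgroup.le_normalizer
      rw [hm]
      exact Nat.le_of_dvd Nat.card_pos h1
    intro n hn
    rw [← hnorm] at hn
    rw [Subgroup.mem_centralizer_iff]
    intro g hg
    have h3 : (⟨n, hn⟩ : (S0 : Subgroup G)) ∈ Subgroup.center (S0 : Subgroup G) :=
      hcen ▸ Subgroup.mem_top _
    have h4 := Subgroup.mem_center_iff.mp h3 ⟨g, hg⟩
    exact congrArg Subtype.val h4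
  have hm3 : 3 ≤ m := by
    have hm0 : m ≠ 0 := by
      rintro rfl
      rw [mul_zero] at hm
      exact Nat.card_pos.ne' hm
    by_contra hlt
    have h5 : m = 2 := by omega
    exact hmodd (h5 ▸ dvd_rfl)
  calc 3 * (Nat.card (Sylow s G) * Nat.card (Subgroup.center (S0 : Subgroup G)))
      ≤ m * (Nat.card (Sylow s G) * Nat.card (Subgroup.center (S0 : Subgroup G))) :=
        Nat.mul_le_mul_right _ hm3
    _ = Nat.card (Sylow s G) * (Nat.card (Subgroup.center (S0 : Subgroup G)) * m) := by ring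
    _ = Nat.card G := by rw [← hm, hN]

theorem card_eq_one_add (hprime : ∀ g : G, g ≠ 1 → (orderOf g).Prime)
    {p1 p2 p3 : ℕ} (hp1 : p1.Prime) (hp2 : p2.Prime) (hp3 : p3.Prime)
    (h12 : p1 ≠ p2) (h13 : p1 ≠ p3) (h23 : p2 ≠ p3)
    (hP : ∀ d : ℕ, d.Prime → d ∣ Nat.card G → d = p1 ∨ d = p2 ∨ d = p3) :
    Nat.card G = 1 + Nat.card {x : G // orderOf x = p1} + Nat.card {x : G // orderOf x = p2}
      + Nat.card {x : G // orderOf x = p3} := by
  classical
  haveI : Fintype G := Fintype.ofFinite G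
  have hmaps : Set.MapsTo (orderOf : G → ℕ) ((Finset.univ : Finset G) : Set G)
      (({1, p1, p2, p3} : Finset ℕ) : Set ℕ) := by
    intro g _
    simp only [Finset.coe_insert, Finset.coe_singleton, Set.mem_insert_iff,
      Set.mem_singleton_iff]
    by_cases hg : g = 1
    · left; rw [hg, orderOf_one]
    · right
      exact hP _ (hprime g hg) (orderOf_dvd_natCard g)
  have hsum := Finset.card_eq_sum_card_fiberwise hmaps
  have hp1' := hp1.ne_one
  have hp2' := hp2.ne_one
  have hp3' := hp3.ne_one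
  rw [Finset.sum_insert (by simp; omega), Finset.sum_insert (by simp; omega),
    Finset.sum_insert (by simp; omega), Finset.sum_singleton] at hsum
  have hone : (Finset.univ.filter (fun g : G => orderOf g = 1)).card = 1 := by
    rw [Finset.card_eq_one]
    refine ⟨1, ?_⟩
    ext g
    simp [orderOf_eq_one_iff]
  have hsub : ∀ p : ℕ, Nat.card {x : G // orderOf x = p}
      = (Finset.univ.filter (fun g : G => orderOf g = p)).card := by
    intro p
    rw [Nat.card_eq_fintype_card, Fintype.card_subtype]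
  rw [hsub p1, hsub p2, hsub p3, Nat.card_eq_fintype_card, ← Finset.card_univ, hsum, hone]
  ring

theorem two_dvd_card (hns : ¬ Group.IsSolvable G)
    (hprime : ∀ g : G, g ≠ 1 → (orderOf g).Prime)
    (htr : ∀ g h : G, orderOf g = orderOf h → ∃ α : MulAut G, α g = h)
    {p1 p2 p3 : ℕ} (hp1 : p1.Prime) (hp2 : p2.Prime) (hp3 : p3.Prime)
    (h12 : p1 ≠ p2) (h13 : p1 ≠ p3) (h23 : p2 ≠ p3)
    (hP : ∀ d : ℕ, d.Prime → d ∣ Nat.card G → d = p1 ∨ d = p2 ∨ d = p3) :
    2 ∣ Nat.card G := by
  by_contra hodd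
  haveI : Fact p1.Prime := ⟨hp1⟩
  haveI : Fact p2.Prime := ⟨hp2⟩
  haveI : Fact p3.Prime := ⟨hp3⟩
  have hcount := card_eq_one_add hprime hp1 hp2 hp3 h12 h13 h23 hP
  obtain ⟨S1⟩ := (inferInstance : Nonempty (Sylow p1 G))
  obtain ⟨S2⟩ := (inferInstance : Nonempty (Sylow p2 G))
  obtain ⟨S3⟩ := (inferInstance : Nonempty (Sylow p3 G))
  have a1 := card_order_add_card_sylow_le hprime htr p1 S1
  have a2 := card_order_add_card_sylow_le hprime htr p2 S2
  have a3 := card_order_add_card_sylow_le hprime htr p3 S3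
  have b1 := three_mul_le_card hns hodd hp1 hp2 hp3 hP p1 (Or.inl rfl) S1
  have b2 := three_mul_le_card hns hodd hp1 hp2 hp3 hP p2 (Or.inr (Or.inl rfl)) S2
  have b3 := three_mul_le_card hns hodd hp1 hp2 hp3 hP p3 (Or.inr (Or.inr rfl)) S3
  have c1 : 0 < Nat.card (Sylow p1 G) := Nat.card_pos
  have c2 : 0 < Nat.card (Sylow p2 G) := Nat.card_pos
  have c3 : 0 < Nat.card (Sylow p3 G) := Nat.card_pos
  generalize Nat.card (Sylow p1 G) * Nat.card (Subgroup.center (S1 : Subgroup G)) = A1
    at a1 b1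
  generalize Nat.card (Sylow p2 G) * Nat.card (Subgroup.center (S2 : Subgroup G)) = A2
    at a2 b2
  generalize Nat.card (Sylow p3 G) * Nat.card (Subgroup.center (S3 : Subgroup G)) = A3
    at a3 b3
  omega

end Core

end Cfsg.Agent.Lib.helper71.FourOrb
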