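import Mathlib
import Cfsg.Agent.Lib.helper71.FourOrbCount
import Cfsg.Agent.Lib.helper71.FourOrbMat
import Cfsg.Agent.S1229
import Cfsg.Agent.S4702
import Cfsg.Agent.S0252

set_option autoImplicit false
set_option linter.style.haveILetI false

/-!
# Non-solvable groups with four automorphism orbits (helper71, for S4068)
-/

namespace Cfsg.Agent.Lib.helper71.FourOrb

open scoped IsMulCommutative

section Main

variable {G : Type*} [Group G] [Finite G]

theorem exists_sl2 (hns : ¬ Group.IsSolvable G)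
    (hprime : ∀ g : G, g ≠ 1 → (orderOf g).Prime)
    {p1 p2 p3 : ℕ} (hp1 : p1.Prime) (hp2 : p2.Prime) (hp3 : p3.Prime)
    (hP : ∀ d : ℕ, d.Prime → d ∣ Nat.card G → d = p1 ∨ d = p2 ∨ d = p3)
    (h2 : 2 ∣ Nat.card G) :
    ∃ a : ℕ, 1 ≤ a ∧ (2 ^ a + 1) ∣ Nat.card G ∧ Nat.card G ∣ (2 ^ a + 1).factorial ∧
      ∃ (F : Type) (_ : Field F) (_ : Fintype F), Fintype.card F = 2 ^ a ∧
        Nonempty (G ≃* Matrix.SpecialLinearGroup (Fin 2) F) := by
  classical
  haveI : Fact (Nat.Prime 2) := ⟨Nat.prime_two⟩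
  have h2in : (2 : ℕ) = p1 ∨ 2 = p2 ∨ 2 = p3 := hP 2 Nat.prime_two h2
  obtain ⟨T⟩ := (inferInstance : Nonempty (Sylow 2 G))
  have hTsq : ∀ g ∈ (T : Subgroup G), g ^ 2 = 1 := by
    intro g hg
    by_cases hg1 : g = 1
    · rw [hg1, one_pow]
    obtain ⟨k, hk⟩ := T.isPGroup' ⟨g, hg⟩
    have hk' : g ^ 2 ^ k = 1 := congrArg Subtype.val hk
    have hdvd : orderOf g ∣ 2 ^ k := orderOf_dvd_of_pow_eq_one hk'
    have h1 := (Nat.prime_dvd_prime_iff_eq (hprime g hg1) Nat.prime_two).mp
      ((hprime g hg1).dvd_of_dvd_pow hdvd)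
    rw [← h1]
    exact pow_orderOf_eq_one g
  have hC : ∀ t : G, orderOf t = 2 →
      IsMulCommutative (Subgroup.centralizer ({t} : Set G)) ∧
        ∀ c ∈ Subgroup.centralizer ({t} : Set G), c ^ 2 = 1 := by
    intro t ht
    have hsq : ∀ c ∈ Subgroup.centralizer ({t} : Set G), c ^ 2 = 1 := by
      intro c hc
      have hcomm : Commute t c := (Subgroup.mem_centralizer_singleton_iff.mp hc).symm
      exact pow_eq_one_of_commute hprime ht Nat.prime_two hcomm
    refine ⟨⟨⟨fun a b => ?_⟩⟩, hsq⟩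
    apply Subtype.ext
    show (a : G) * b = b * a
    have ha := hsq a a.2
    have hb := hsq b b.2
    have hab := hsq (a * b) (Subgroup.mul_mem _ a.2 b.2)
    rw [sq] at ha hb hab
    calc (a : G) * b = a * (a * b * (a * b)) * b := by rw [hab, mul_one]
      _ = (a * a) * (b * a) * (b * b) := by group
      _ = b * a := by rw [ha, hb, one_mul, mul_one]
  have hnc : ¬ IsCyclic (T : Subgroup G) := by
    intro hcyc
    apply hns
    apply isSolvable_of_normalizer_le_centralizer hp1 hp2 hp3 hP 2 h2in T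
    obtain ⟨g, hg⟩ := IsCyclic.exists_generator (α := (T : Subgroup G))
    have hgsq : (g : G) ^ 2 = 1 := hTsq g g.2
    have hall : ∀ x ∈ (T : Subgroup G), x = 1 ∨ x = (g : G) := by
      intro x hx
      obtain ⟨k, hk⟩ := Subgroup.mem_zpowers_iff.mp (hg ⟨x, hx⟩)
      have hk' : (g : G) ^ k = x := by
        have h1 := congrArg Subtype.val hk
        simpa using h1
      obtain ⟨m, rfl | rfl⟩ := Int.even_or_odd' k
      · left
        rw [← hk', zpow_mul, zpow_ofNat, hgsq, one_zpow]
      · right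
        rw [← hk', zpow_add, zpow_mul, zpow_ofNat, hgsq, one_zpow, one_mul, zpow_one]
    intro n hn
    rw [Subgroup.mem_centralizer_iff]
    have hconj : n * (g : G) * n⁻¹ = g := by
      have h1 : n * (g : G) * n⁻¹ ∈ (T : Subgroup G) :=
        (Subgroup.mem_normalizer_iff.mp hn g).mp g.2
      rcases hall _ h1 with h | h
      · have h3 : (g : G) = 1 := by
          have h4 := congrArg (fun y => n⁻¹ * y * n) h
          simpa [mul_assoc] using h4
        rw [h3]
        group
      · exact h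
    intro x hx
    rcases hall x hx with rfl | rfl
    · simp
    · calc (g : G) * n = n * g * n⁻¹ * n := by rw [hconj]
        _ = n * g := by group
  have hnn : ¬ (T : Subgroup G).Normal := by
    intro hnorm
    apply hns
    haveI := hnorm
    have hidx : ¬ 2 ∣ (T : Subgroup G).index := T.not_dvd_index
    haveI : Group.IsSolvable (G ⧸ (T : Subgroup G)) := by
      have hq : ∀ d : ℕ, d.Prime → d ∣ Nat.card (G ⧸ (T : Subgroup G)) →
          d ≠ 2 ∧ (d = p1 ∨ d = p2 ∨ d = p3) := by
        intro d hd hdvd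
        rw [← Subgroup.index_eq_card] at hdvd
        refine ⟨?_, hP d hd (hdvd.trans (Subgroup.index_dvd_card _))⟩
        rintro rfl
        exact hidx hdvd
      rcases h2in with h | h | h
      · apply isSolvable_of_two_primes p2 p3 hp2 hp3
        intro d hd hdvd
        obtain ⟨h1, h2'⟩ := hq d hd hdvd
        omega
      · apply isSolvable_of_two_primes p1 p3 hp1 hp3
        intro d hd hdvd
        obtain ⟨h1, h2'⟩ := hq d hd hdvd
        omega
      · apply isSolvable_of_two_primes p1 p2 hp1 hp2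
        intro d hd hdvd
        obtain ⟨h1, h2'⟩ := hq d hd hdvd
        omega
    haveI : Group.IsSolvable (T : Subgroup G) := by
      haveI : Group.IsNilpotent (T : Subgroup G) := T.isPGroup'.isNilpotent
      exact IsNilpotent.to_isSolvable
    exact Group.isSolvable_of_ker_le_range (T : Subgroup G).subtype
      (QuotientGroup.mk' (T : Subgroup G))
      (by rw [QuotientGroup.ker_mk', Subgroup.range_subtype])
  obtain ⟨h3t, hfix3, -⟩ := Cfsg.Agent.S1229.result T hnc hnn hC
  generalize hN : Subgroup.normalizer ((T : Subgroup G) : Set G) = N at h3t hfix3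
  haveI : Fintype (G ⧸ N) := Fintype.ofFinite _
  have hcardα : Fintype.card (G ⧸ N) = N.index := by
    rw [← Nat.card_eq_fintype_card, Subgroup.index_eq_card]
  have hidxodd : ¬ 2 ∣ N.index := fun h =>
    T.not_dvd_index (h.trans (Subgroup.index_dvd_of_le (hN ▸ Subgroup.le_normalizer)))
  have hidx1 : N.index ≠ 1 := by
    intro h
    rw [Subgroup.index_eq_one, ← hN, Subgroup.normalizer_eq_top_iff] at h
    exact hnn h
  have hidx0 : N.index ≠ 0 := Subgroup.index_ne_zero_of_finite
  have hm : 3 ≤ Fintype.card (G ⧸ N) := by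
    rw [hcardα]; omega
  have hoddα : Odd (Fintype.card (G ⧸ N)) := by
    rw [hcardα, ← Nat.not_even_iff_odd, even_iff_two_dvd]
    exact hidxodd
  have hφinj : Function.Injective (MulAction.toPermHom G (G ⧸ N)) := by
    rw [injective_iff_map_eq_one]
    intro g hg
    obtain ⟨x1, x2, x3, h12, h13, h23⟩ := Fintype.two_lt_card_iff.mp hm
    have hfixall : ∀ x : G ⧸ N, g • x = x := fun x => by
      have h1 := congrArg (fun σ : Equiv.Perm (G ⧸ N) => σ x) hg
      simpa using h1
    exact hfix3 g x1 x2 x3 h12 h13 h23 (hfixall x1) (hfixall x2) (hfixall x3)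
  have h3 : MulAction.IsMultiplyPretransitive (MulAction.toPermHom G (G ⧸ N)).range
      (G ⧸ N) 3 := by
    refine ⟨fun x y => ?_⟩
    obtain ⟨g, hg1, hg2, hg3⟩ := h3t (x 0) (x 1) (x 2) (y 0) (y 1) (y 2)
      (by simp) (by simp) (by simp) (by simp) (by simp) (by simp)
    refine ⟨⟨MulAction.toPermHom G (G ⧸ N) g, g, rfl⟩, ?_⟩
    ext i
    fin_cases i
    · exact hg1
    · exact hg2
    · exact hg3
  have hfix : ∀ g : (MulAction.toPermHom G (G ⧸ N)).range,
      3 ≤ Nat.card (MulAction.fixedBy (G ⧸ N) g) → g = 1 := by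
    rintro ⟨_, g, rfl⟩ hcard
    rw [Nat.card_coe_set_eq] at hcard
    obtain ⟨x1, x2, x3, hx1, hx2, hx3, h12, h13, h23⟩ :=
      (Set.two_lt_ncard_iff (Set.toFinite _)).mp hcard
    have h1 := hfix3 g x1 x2 x3 h12 h13 h23 hx1 hx2 hx3
    subst h1
    apply Subtype.ext
    exact map_one (MulAction.toPermHom G (G ⧸ N))
  obtain ⟨a, ha1, hcard, F, instF, instFt, hF, ⟨e2⟩⟩ :=
    Cfsg.Agent.S4702.result hm hoddα (MulAction.toPermHom G (G ⧸ N)).range h3 hfix
  refine ⟨a, ha1, ?_, ?_, F, instF, instFt, hF, ⟨(MonoidHom.ofInjective hφinj).trans e2⟩⟩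
  · rw [← hcard, hcardα]
    exact Subgroup.index_dvd_card N
  · rw [← hcard, ← Fintype.card_perm, ← Nat.card_eq_fintype_card,
      Nat.card_congr (MonoidHom.ofInjective hφinj).toEquiv]
    exact Subgroup.card_subgroup_dvd_card _

theorem two_eq_zero_of_card (F : Type*) [Field F] [Fintype F] (a : ℕ) (ha : 1 ≤ a)
    (hF : Fintype.card F = 2 ^ a) : (2 : F) = 0 := by
  have h1 := FiniteField.cast_card_eq_zero F
  rw [hF] at h1
  push_cast at h1
  exact (pow_eq_zero_iff (by omega)).mp h1

theorem a_eq_two (hns : ¬ Group.IsSolvable G)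
    (hprime : ∀ g : G, g ≠ 1 → (orderOf g).Prime)
    {p1 p2 p3 : ℕ}
    (hP : ∀ d : ℕ, d.Prime → d ∣ Nat.card G → d = p1 ∨ d = p2 ∨ d = p3)
    (h2 : 2 ∣ Nat.card G) (a : ℕ) (ha1 : 1 ≤ a) (hdvd : (2 ^ a + 1) ∣ Nat.card G)
    (hfact : Nat.card G ∣ (2 ^ a + 1).factorial)
    (F : Type) [Field F] [Fintype F] (hF : Fintype.card F = 2 ^ a)
    (e : G ≃* Matrix.SpecialLinearGroup (Fin 2) F) : a = 2 := by
  have h2F : (2 : F) = 0 := two_eq_zero_of_card F a ha1 hF
  have ha_ne1 : a ≠ 1 := by
    rintro rfl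
    apply hns
    apply isSolvable_of_two_primes 2 3 Nat.prime_two Nat.prime_three
    intro d hd hdd
    have h6 : d ∣ 6 := by
      have h7 := hdd.trans hfact
      have h8 : (2 ^ 1 + 1).factorial = 6 := by decide
      rw [h8] at h7
      exact h7
    have hle : d ≤ 6 := Nat.le_of_dvd (by norm_num) h6
    clear hdd
    interval_cases d
    · exact absurd hd (by norm_num)
    · exact absurd hd (by norm_num)
    · exact Or.inl rfl
    · exact Or.inr rfl
    · exact absurd hd (by norm_num)
    · exact absurd h6 (by norm_num)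
    · exact absurd hd (by norm_num)
  obtain ⟨D, hD⟩ := exists_orderOf_eq_card_sub_one F
  rw [hF] at hD
  have hpos : 1 ≤ 2 ^ a := Nat.one_le_two_pow
  have hr : (2 ^ a - 1).Prime := by
    have hD1 : e.symm D ≠ 1 := by
      intro h
      have h3 : orderOf (e.symm D) = 1 := by rw [h, orderOf_one]
      rw [MulEquiv.orderOf_eq, hD] at h3
      have h4 : 2 ^ a = 2 ^ 1 := by omega
      exact ha_ne1 (Nat.pow_right_injective (le_refl 2) h4)
    have h5 := hprime _ hD1
    rwa [MulEquiv.orderOf_eq, hD] at h5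
  have hrdvd : (2 ^ a - 1) ∣ Nat.card G := by
    have h5 := orderOf_dvd_natCard (e.symm D)
    rwa [MulEquiv.orderOf_eq, hD] at h5
  by_contra ha2
  have ha3 : 3 ≤ a := by omega
  have h8 : 8 ≤ 2 ^ a := by
    calc 8 = 2 ^ 3 := by norm_num
      _ ≤ 2 ^ a := Nat.pow_le_pow_right (by norm_num) ha3
  have hmod : 2 ^ a % 3 = 1 ∨ 2 ^ a % 3 = 2 := by
    clear * -
    induction a with
    | zero => left; rfl
    | succ n ih => rw [pow_succ]; omega
  have heven : 2 ∣ 2 ^ a := dvd_pow_self 2 (by omega)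
  generalize 2 ^ a = q at *
  have h3w : 3 ∣ q + 1 := by
    rcases hmod with h | h
    · exfalso
      have h3r : 3 ∣ q - 1 := by omega
      have h5 := (Nat.prime_dvd_prime_iff_eq Nat.prime_three hr).mp h3r
      omega
    · omega
  have h3G : 3 ∣ Nat.card G := h3w.trans hdvd
  have hPr : ∀ d : ℕ, d.Prime → d ∣ Nat.card G → d = 2 ∨ d = 3 ∨ d = q - 1 := by
    intro d hd hdd
    have q1 := hP 2 Nat.prime_two h2
    have q2 := hP 3 Nat.prime_three h3G
    have q3 := hP (q - 1) hr hrdvd
    have q4 := hP d hd hdd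
    omega
  have hw : q + 1 = 3 ^ (q + 1).primeFactorsList.length := by
    apply Nat.eq_prime_pow_of_unique_prime_dvd (by omega)
    intro d hd hdd
    rcases hPr d hd (hdd.trans hdvd) with h | h | h
    · exfalso; subst h; omega
    · exact h
    · exfalso
      subst h
      have h5 : q + 1 = (q - 1) + 2 := by omega
      rw [h5] at hdd
      have h6 : (q - 1) ∣ 2 := (Nat.dvd_add_right dvd_rfl).mp hdd
      have h7 := Nat.le_of_dvd (by norm_num) h6
      omega
  generalize (q + 1).primeFactorsList.length = j at hw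
  have h9 : 3 ^ 2 ∣ Nat.card G := by
    have hj : 2 ≤ j := by
      by_contra hlt
      have h5 : j = 0 ∨ j = 1 := by omega
      rcases h5 with h | h <;> rw [h] at hw <;> omega
    exact (pow_dvd_pow 3 hj).trans (hw ▸ hdvd)
  haveI : Fact (Nat.Prime 3) := ⟨Nat.prime_three⟩
  obtain ⟨B, hB⟩ := Sylow.exists_subgroup_card_pow_prime 3 h9
  have hBcomm : ∀ u v : B, u * v = v * u := by
    haveI := IsPGroup.isMulCommutative_of_card_eq_prime_sq hB
    exact fun u v => mul_comm u v
  have hBexp : ∀ y ∈ B, y ^ 3 = 1 := by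
    intro y hy
    by_cases hy1 : y = 1
    · rw [hy1, one_pow]
    have hyd : orderOf y ∣ 3 ^ 2 := by
      rw [← hB]
      have h5 := orderOf_dvd_natCard (⟨y, hy⟩ : B)
      rwa [Subgroup.orderOf_mk] at h5
    have h6 := (Nat.prime_dvd_prime_iff_eq (hprime y hy1) Nat.prime_three).mp
      ((hprime y hy1).dvd_of_dvd_pow hyd)
    rw [← h6]
    exact pow_orderOf_eq_one y
  haveI : Nontrivial B := by
    rw [← Finite.one_lt_card_iff_nontrivial, hB]
    norm_num
  obtain ⟨x', hx'⟩ := exists_ne (1 : B)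
  have hx1 : (x' : G) ≠ 1 := fun h => hx' (Subtype.ext h)
  have hBle : B ≤ Subgroup.zpowers (x' : G) := by
    intro y hy
    have hcomm : (x' : G) * y = y * x' := congrArg Subtype.val (hBcomm x' ⟨y, hy⟩)
    have h5 := sl2_commuting_cubes h2F (e x') (e y)
      (by rw [← map_pow, hBexp _ x'.2, map_one])
      (by
        intro h
        apply hx1
        apply e.injective
        rw [h, map_one])
      (by rw [← map_pow, hBexp y hy, map_one])
      (by rw [← map_mul, ← map_mul, hcomm])
    rcases h5 with h | h | h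
    · have h6 : y = 1 := e.injective (by rw [h, map_one])
      rw [h6]
      exact Subgroup.one_mem _
    · have h6 : y = x' := e.injective h
      rw [h6]
      exact Subgroup.mem_zpowers _
    · have h6 : y = (x' : G) ^ 2 := e.injective (by rw [h, map_pow])
      rw [h6]
      exact Subgroup.pow_mem _ (Subgroup.mem_zpowers _) 2
  have hcard_le := Subgroup.card_le_of_le hBle
  rw [hB, Nat.card_zpowers] at hcard_le
  have hx3 : orderOf (x' : G) ∣ 3 := orderOf_dvd_of_pow_eq_one (hBexp _ x'.2)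
  have h10 := Nat.le_of_dvd (by norm_num) hx3
  omega

omit [Finite G] in
theorem mk_orbit_eq_iff (g h : G) :
    (Quotient.mk'' g : MulAction.orbitRel.Quotient (MulAut G) G) = Quotient.mk'' h
      ↔ ∃ α : MulAut G, α h = g := by
  rw [Quotient.eq'', MulAction.orbitRel_apply, MulAction.mem_orbit_iff]
  simp [MulAut.smul_def]

omit [Finite G] in
theorem orderOf_eq_of_mk_orbit_eq (g h : G)
    (hgh : (Quotient.mk'' g : MulAction.orbitRel.Quotient (MulAut G) G) = Quotient.mk'' h) :
    orderOf g = orderOf h := by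
  obtain ⟨α, rfl⟩ := (mk_orbit_eq_iff g h).mp hgh
  exact MulEquiv.orderOf_eq α h

theorem four_orbit_data (hns : ¬ Group.IsSolvable G)
    (h4 : Nat.card (MulAction.orbitRel.Quotient (MulAut G) G) = 4) :
    ∃ p1 p2 p3 : ℕ, p1.Prime ∧ p2.Prime ∧ p3.Prime ∧ p1 ≠ p2 ∧ p1 ≠ p3 ∧ p2 ≠ p3 ∧
      (∀ g : G, g ≠ 1 → (orderOf g).Prime) ∧
      (∀ g h : G, orderOf g = orderOf h → ∃ α : MulAut G, α g = h) ∧
      (∀ d : ℕ, d.Prime → d ∣ Nat.card G → d = p1 ∨ d = p2 ∨ d = p3) := by
  classical
  have hcard1 : Nat.card G ≠ 1 := by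
    intro h
    apply hns
    apply isSolvable_of_two_primes 2 3 Nat.prime_two Nat.prime_three
    intro d hd hdd
    rw [h] at hdd
    exact absurd (Nat.dvd_one.mp hdd) hd.ne_one
  obtain ⟨p1, hp1, hd1⟩ := Nat.exists_prime_and_dvd hcard1
  obtain ⟨p2, hp2, hd2, h21⟩ : ∃ q, q.Prime ∧ q ∣ Nat.card G ∧ q ≠ p1 := by
    by_contra hcon
    push Not at hcon
    apply hns
    apply isSolvable_of_two_primes p1 p1 hp1 hp1
    intro d hd hdd
    exact Or.inl (hcon d hd hdd)
  obtain ⟨p3, hp3, hd3, h31, h32⟩ : ∃ q, q.Prime ∧ q ∣ Nat.card G ∧ q ≠ p1 ∧ q ≠ p2 := by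
    by_contra hcon
    push Not at hcon
    apply hns
    apply isSolvable_of_two_primes p1 p2 hp1 hp2
    intro d hd hdd
    by_cases h : d = p1
    · exact Or.inl h
    · exact Or.inr (hcon d hd hdd h)
  haveI : Fact p1.Prime := ⟨hp1⟩
  haveI : Fact p2.Prime := ⟨hp2⟩
  haveI : Fact p3.Prime := ⟨hp3⟩
  obtain ⟨a1, ha1⟩ := exists_prime_orderOf_dvd_card' (G := G) p1 hd1
  obtain ⟨a2, ha2⟩ := exists_prime_orderOf_dvd_card' (G := G) p2 hd2
  obtain ⟨a3, ha3⟩ := exists_prime_orderOf_dvd_card' (G := G) p3 hd3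
  let mk : G → MulAction.orbitRel.Quotient (MulAut G) G := Quotient.mk''
  have hmk : ∀ g h : G, mk g = mk h ↔ ∃ α : MulAut G, α h = g := mk_orbit_eq_iff
  have hmkord : ∀ g h : G, mk g = mk h → orderOf g = orderOf h := orderOf_eq_of_mk_orbit_eq
  have hp1' := hp1.ne_one
  have hp2' := hp2.ne_one
  have hp3' := hp3.ne_one
  haveI : Fintype (MulAction.orbitRel.Quotient (MulAut G) G) := Fintype.ofFinite _
  have hS : ({mk 1, mk a1, mk a2, mk a3} : Finset (MulAction.orbitRel.Quotient (MulAut G) G))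
      = Finset.univ := by
    apply Finset.eq_univ_of_card
    rw [← Nat.card_eq_fintype_card, h4, Finset.card_insert_of_notMem,
      Finset.card_insert_of_notMem, Finset.card_pair]
    · intro h
      have h1 := hmkord _ _ h
      rw [ha2, ha3] at h1
      exact h32 h1.symm
    · simp only [Finset.mem_insert, Finset.mem_singleton]
      rintro (h | h)
      · have h1 := hmkord _ _ h
        rw [ha1, ha2] at h1
        exact h21 h1.symm
      · have h1 := hmkord _ _ h
        rw [ha1, ha3] at h1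
        exact h31 h1.symm
    · simp only [Finset.mem_insert, Finset.mem_singleton]
      rintro (h | h | h)
      · have h1 := hmkord _ _ h
        rw [orderOf_one, ha1] at h1
        exact hp1' h1.symm
      · have h1 := hmkord _ _ h
        rw [orderOf_one, ha2] at h1
        exact hp2' h1.symm
      · have h1 := hmkord _ _ h
        rw [orderOf_one, ha3] at h1
        exact hp3' h1.symm
  have hclass : ∀ g : G, mk g = mk 1 ∨ mk g = mk a1 ∨ mk g = mk a2 ∨ mk g = mk a3 := by
    intro g
    have h1 : mk g ∈ ({mk 1, mk a1, mk a2, mk a3} :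
        Finset (MulAction.orbitRel.Quotient (MulAut G) G)) := hS ▸ Finset.mem_univ _
    simpa using h1
  have horders : ∀ g : G, orderOf g = 1 ∨ orderOf g = p1 ∨ orderOf g = p2 ∨ orderOf g = p3 := by
    intro g
    rcases hclass g with h | h | h | h
    · left; rw [hmkord _ _ h, orderOf_one]
    · right; left; rw [hmkord _ _ h, ha1]
    · right; right; left; rw [hmkord _ _ h, ha2]
    · right; right; right; rw [hmkord _ _ h, ha3]
  refine ⟨p1, p2, p3, hp1, hp2, hp3, Ne.symm h21, Ne.symm h31, Ne.symm h32, ?_, ?_, ?_⟩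
  · intro g hg
    rcases horders g with h | h | h | h
    · exact absurd (orderOf_eq_one_iff.mp h) hg
    · rw [h]; exact hp1
    · rw [h]; exact hp2
    · rw [h]; exact hp3
  · intro g h hgh
    have key : mk h = mk g := by
      rcases hclass g with h1 | h1 | h1 | h1 <;> rcases hclass h with h2 | h2 | h2 | h2 <;>
        first
        | exact h2.trans h1.symm
        | (exfalso
           have e1 := hmkord _ _ h1
           have e2 := hmkord _ _ h2
           simp only [orderOf_one, ha1, ha2, ha3] at e1 e2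
           omega)
    exact (hmk h g).mp key
  · intro d hd hdd
    haveI : Fact d.Prime := ⟨hd⟩
    obtain ⟨x, hx⟩ := exists_prime_orderOf_dvd_card' (G := G) d hdd
    rcases horders x with h | h | h | h
    · rw [hx] at h; exact absurd h hd.ne_one
    · left; rw [← hx, h]
    · right; left; rw [← hx, h]
    · right; right; rw [← hx, h]

/-- A finite non-solvable group with exactly four automorphism orbits is `A₅`. -/
theorem four_orbits_main (hns : ¬ Group.IsSolvable G)
    (h4 : Nat.card (MulAction.orbitRel.Quotient (MulAut G) G) = 4) :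
    Nonempty (G ≃* alternatingGroup (Fin 5)) := by
  obtain ⟨p1, p2, p3, hp1, hp2, hp3, h12, h13, h23, hprime, htr, hP⟩ := four_orbit_data hns h4
  have h2 := two_dvd_card hns hprime htr hp1 hp2 hp3 h12 h13 h23 hP
  obtain ⟨a, ha1, hdvd, hfact, F, instF, instFt, hF, ⟨e⟩⟩ :=
    exists_sl2 hns hprime hp1 hp2 hp3 hP h2
  have ha2 := a_eq_two hns hprime hP h2 a ha1 hdvd hfact F hF e
  subst ha2
  have h2F : (2 : F) = 0 := two_eq_zero_of_card F 2 (le_refl _ |>.trans (by norm_num)) hF
  obtain ⟨e2⟩ := nonempty_sl2_equiv_psl2 F h2F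
  obtain ⟨e3⟩ := Cfsg.Agent.S0252.result (F := F) (by rw [hF]; norm_num)
  exact ⟨(e.trans e2).trans e3⟩

end Main

end Cfsg.Agent.Lib.helper71.FourOrb
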