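import Mathlib
import Cfsg.Agent.Lib.helper3.GfDefs

set_option autoImplicit false

/-! S4395 piece ALGI (racing copy, prefixed name): the group generated by the values of an invariant
alternating biadditive map `κ` and a compatible quadratic-type map `π` on an irreducible module is
bounded by the number of invariant alternating forms. -/

namespace Cfsg.Agent.Lib.helper3.Gf

/-- The dual of a finite `ZMod p`-module `M` injects into the invariant alternating forms when no
non-zero homomorphism `M →+ ZMod p` kills `κ`. -/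
theorem helper71_algi_aux (p : ℕ) [Fact p.Prime] {V M : Type*}
    [AddCommGroup V] [Finite V] [AddCommGroup M] [Finite M] [Module (ZMod p) M] (T : V ≃+ V)
    (κ : V → V → M)
    (hκl : ∀ u u' v, κ (u + u') v = κ u v + κ u' v) (hκr : ∀ u v v', κ u (v + v') = κ u v + κ u v')
    (hκa : ∀ v, κ v v = 0) (hκT : ∀ u v, κ (T u) (T v) = κ u v)
    (hkill : ∀ f : M →+ ZMod p, (∀ u v, f (κ u v) = 0) → ∀ n : M, f n = 0) :
    Nat.card M ≤ Nat.card {β : V → V → ZMod p // InvAlt p T β} := by
  have : NeZero p := ⟨(Fact.out : p.Prime).ne_zero⟩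
  have instF : Module.Finite (ZMod p) M := Module.Finite.of_finite
  have hcard : Nat.card M = Nat.card (M →ₗ[ZMod p] ZMod p) := by
    have h1 : Module.finrank (ZMod p) (M →ₗ[ZMod p] ZMod p) = Module.finrank (ZMod p) M :=
      Subspace.dual_finrank_eq
    rw [Module.natCard_eq_pow_finrank (K := ZMod p) (V := M),
      Module.natCard_eq_pow_finrank (K := ZMod p) (V := (M →ₗ[ZMod p] ZMod p)), h1]
  have hinv : ∀ φ : (M →ₗ[ZMod p] ZMod p), InvAlt p T (fun u v => φ (κ u v)) := by
    intro φ
    refine ⟨fun u u' v => ?_, fun u v v' => ?_, fun v => ?_, fun u v => ?_⟩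
    · beta_reduce
      rw [hκl, map_add]
    · beta_reduce
      rw [hκr, map_add]
    · beta_reduce
      rw [hκa, map_zero]
    · beta_reduce
      rw [hκT]
  have hinj : Function.Injective
      (fun φ : (M →ₗ[ZMod p] ZMod p) => (⟨fun u v => φ (κ u v), hinv φ⟩ :
        {β : V → V → ZMod p // InvAlt p T β})) := by
    intro φ₁ φ₂ heq
    have h1 : ∀ u v, φ₁ (κ u v) = φ₂ (κ u v) := fun u v =>
      congrFun (congrFun (congrArg Subtype.val heq) u) v
    have h2 := hkill ((φ₁ - φ₂ : (M →ₗ[ZMod p] ZMod p)).toAddMonoidHom) (fun u v => by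
      change φ₁ (κ u v) - φ₂ (κ u v) = 0
      rw [h1, sub_self])
    apply LinearMap.ext
    intro n
    exact sub_eq_zero.mp (h2 n)
  rw [hcard]
  exact Nat.card_le_card_of_injective _ hinj

/-- ALGI (racing copy). -/
theorem helper71_algi (p q : ℕ) [Fact p.Prime] [Fact q.Prime] (hpq : p ≠ q) {V M : Type*}
    [AddCommGroup V] [Finite V] [AddCommGroup M] [Finite M] (T : V ≃+ V) (h : Irr p q T)
    (κ : V → V → M) (π : V → M)
    (hκl : ∀ u u' v, κ (u + u') v = κ u v + κ u' v) (hκr : ∀ u v v', κ u (v + v') = κ u v + κ u v')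
    (hκa : ∀ v, κ v v = 0) (hκT : ∀ u v, κ (T u) (T v) = κ u v)
    (hπ : ∀ u v, π (u + v) = π u + π v + (p.choose 2) • κ v u) (hπT : ∀ v, π (T v) = π v)
    (hgen : AddSubgroup.closure (Set.range (fun uv : V × V => κ uv.1 uv.2) ∪ Set.range π) = ⊤)
    (a : ℕ)
    (hF : (a % 2 = 1 → ∀ β : V → V → ZMod p, InvAlt p T β → β = 0) ∧
      (a % 2 = 0 → Nat.card {β : V → V → ZMod p // InvAlt p T β} ≤ p ^ (a / 2))) :
    (a % 2 = 1 → ∀ n : M, n = 0) ∧ (a % 2 = 0 → Nat.card M ≤ p ^ (a / 2)) := by
  have : NeZero p := ⟨(Fact.out : p.Prime).ne_zero⟩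
  have hκ0l : ∀ v, κ 0 v = 0 := fun v => by
    have h1 := hκl 0 0 v
    rw [add_zero] at h1
    exact left_eq_add.mp h1
  have hκ0r : ∀ u, κ u 0 = 0 := fun u => by
    have h1 := hκr u 0 0
    rw [add_zero] at h1
    exact left_eq_add.mp h1
  have hκnl : ∀ (n : ℕ) u v, κ (n • u) v = n • κ u v := by
    intro n u v
    induction n with
    | zero => rw [zero_smul, zero_smul, hκ0l]
    | succ n ih => rw [succ_nsmul, hκl, ih, succ_nsmul]
  have hκnr : ∀ (n : ℕ) u v, κ u (n • v) = n • κ u v := by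
    intro n u v
    induction n with
    | zero => rw [zero_smul, zero_smul, hκ0r]
    | succ n ih => rw [succ_nsmul, hκr, ih, succ_nsmul]
  have hpκ : ∀ u v, p • κ u v = 0 := fun u v => by rw [← hκnl, h.exp, hκ0l]
  have hπ0 : π 0 = 0 := by
    have h1 := hπ 0 0
    rw [add_zero, hκ0l, smul_zero, add_zero] at h1
    exact left_eq_add.mp h1
  have hπn : ∀ (n : ℕ) u, π (n • u) = n • π u := by
    intro n u
    induction n with
    | zero => rw [zero_smul, zero_smul, hπ0]
    | succ n ih => rw [succ_nsmul, hπ, ih, hκnr, hκa, smul_zero, smul_zero, add_zero, succ_nsmul]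
  have hpπ : ∀ u, p • π u = 0 := fun u => by rw [← hπn, h.exp, hπ0]
  have hpM : ∀ n : M, p • n = 0 := by
    intro n
    have hn : n ∈ AddSubgroup.closure (Set.range (fun uv : V × V => κ uv.1 uv.2) ∪ Set.range π) := by
      rw [hgen]; trivial
    induction hn using AddSubgroup.closure_induction with
    | mem x hx =>
      rcases hx with ⟨uv, rfl⟩ | ⟨u, rfl⟩
      · exact hpκ _ _
      · exact hpπ _
    | zero => exact smul_zero _
    | add x y _ _ hx hy => rw [smul_add, hx, hy, add_zero]
    | neg x _ hx => rw [smul_neg, hx, neg_zero]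
  -- `T - 1` is onto
  have hsurj : ∀ w : V, ∃ v : V, T v - v = w := by
    obtain ⟨D, hD⟩ : ∃ D : V →+ V, ∀ v, D v = T v - v :=
      ⟨T.toAddMonoidHom - AddMonoidHom.id V, fun v => rfl⟩
    have hker : D.ker = ⊥ := by
      rcases h.irr D.ker (fun w hw => by
        rw [AddMonoidHom.mem_ker, hD, sub_eq_zero] at hw ⊢
        rw [hw, hw]) with h0 | h1
      · exact h0
      · exfalso
        obtain ⟨v, hv⟩ := h.ne
        have h2 : v ∈ D.ker := h1 ▸ AddSubgroup.mem_top v
        rw [AddMonoidHom.mem_ker, hD, sub_eq_zero] at h2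
        exact hv h2
    have hinj : Function.Injective D := (AddMonoidHom.ker_eq_bot_iff D).mp hker
    intro w
    obtain ⟨v, hv⟩ := (Finite.injective_iff_surjective.mp hinj) w
    exact ⟨v, by rw [← hD, hv]⟩
  -- a homomorphism killing `κ` is zero
  have hkill : ∀ f : M →+ ZMod p, (∀ u v, f (κ u v) = 0) → ∀ n : M, f n = 0 := by
    intro f hf
    have hfπ_add : ∀ u v, f (π (u + v)) = f (π u) + f (π v) := fun u v => by
      rw [hπ, map_add, map_add, map_nsmul, hf, smul_zero, add_zero]
    have hfπ0 : ∀ w, f (π w) = 0 := by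
      intro w
      obtain ⟨v, rfl⟩ := hsurj w
      have h1 := hfπ_add (T v - v) v
      rw [sub_add_cancel, hπT] at h1
      exact right_eq_add.mp h1
    have hle : AddSubgroup.closure (Set.range (fun uv : V × V => κ uv.1 uv.2) ∪ Set.range π) ≤ f.ker := by
      rw [AddSubgroup.closure_le]
      rintro x (⟨uv, rfl⟩ | ⟨u, rfl⟩)
      · exact hf _ _
      · exact hfπ0 _
    intro n
    have h2 : n ∈ f.ker := hle (by rw [hgen]; trivial)
    exact h2
  have hle : Nat.card M ≤ Nat.card {β : V → V → ZMod p // InvAlt p T β} :=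
    @helper71_algi_aux p _ V M _ _ _ _ (AddCommGroup.zmodModule hpM) T κ hκl hκr hκa hκT hkill
  constructor
  · intro ha
    have hsub : Subsingleton {β : V → V → ZMod p // InvAlt p T β} :=
      ⟨fun β₁ β₂ => Subtype.ext (by rw [hF.1 ha β₁.1 β₁.2, hF.1 ha β₂.1 β₂.2])⟩
    have h1 : Nat.card M ≤ 1 := hle.trans (Finite.card_le_one_iff_subsingleton.mpr hsub)
    have h2 : Subsingleton M := Finite.card_le_one_iff_subsingleton.mp h1
    intro n
    exact Subsingleton.elim n 0
  · intro ha
    exact hle.trans (hF.2 ha)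

end Cfsg.Agent.Lib.helper3.Gf
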