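import Mathlib

set_option autoImplicit false

namespace Cfsg.Agent.Lib.helper71.Gheri

open Finset

section fix
variable {V : Type*} [Group V]

/-- the subgroup of fixed points of an automorphism -/
def fixSub (e : MulAut V) : Subgroup V where
  carrier := {v | e v = v}
  mul_mem' := by
    intro a b ha hb
    simp only [Set.mem_ofPred_eq] at *
    rw [map_mul, ha, hb]
  one_mem' := map_one e
  inv_mem' := by
    intro a ha
    simp only [Set.mem_ofPred_eq] at *
    rw [map_inv, ha]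

theorem mem_fixSub (e : MulAut V) (v : V) : v ∈ fixSub e ↔ e v = v := Iff.rfl

theorem zpow_fix (e : MulAut V) (v : V) (h : e v = v) (l : ℤ) : (e ^ l) v = v := by
  have h1 : e ∈ MulAction.stabilizer (MulAut V) v := by
    rw [MulAction.mem_stabilizer_iff]
    exact h
  have h2 := (MulAction.stabilizer (MulAut V) v).zpow_mem h1 l
  rw [MulAction.mem_stabilizer_iff] at h2
  exact h2

end fix

section ind
variable {V : Type*} [CommGroup V]

theorem ind_core [Finite V] (p : ℕ) [Fact p.Prime] (hcop : (Nat.card V).Coprime p)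
    (ξ ζ : MulAut V) (hcomm : ξ * ζ = ζ * ξ) (hp : ζ ^ p = 1) (hfix : ∀ v : V, ζ v = v → v = 1)
    (d : ℕ → V) (hd : ∀ i < p, (ξ * ζ ^ i) (d i) = d i) (hprod : ∏ i ∈ range p, d i = 1) :
    ∀ j < p, d j = 1 := by
  intro j hj
  have hpp : p.Prime := Fact.out
  have hcz : Commute ξ ζ := hcomm
  have h1 : ∀ i < p, ∀ m : ℕ, (ξ ^ m) (d i) = (((ζ ^ i)⁻¹) ^ m) (d i) := by
    intro i hi m
    have hc : Commute ξ ((ζ ^ i)⁻¹) := (hcz.pow_right i).inv_right
    have hb : ξ (d i) = ((ζ ^ i)⁻¹) (d i) := by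
      have h := hd i hi
      rw [(hcz.pow_right i).eq, MulAut.mul_apply] at h
      have h' := congrArg (fun v => ((ζ ^ i)⁻¹ : MulAut V) v) h
      simp only [MulAut.inv_apply_self] at h'
      exact h'
    induction m with
    | zero => simp
    | succ m ih =>
      rw [pow_succ, MulAut.mul_apply, hb, ← MulAut.mul_apply, (hc.pow_left m).eq,
        MulAut.mul_apply, ih, ← MulAut.mul_apply, ← pow_succ']
  have h2 : ∀ m : ℕ, ∏ i ∈ range p, (((ζ ^ i)⁻¹) ^ m) (d i) = 1 := by
    intro m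
    have h := congrArg (fun v => (ξ ^ m) v) hprod
    rw [map_prod, map_one] at h
    rw [← h]
    apply Finset.prod_congr rfl
    intro i hi
    exact (h1 i (mem_range.mp hi) m).symm
  have h3 : ∀ m : ℕ, ∏ i ∈ range p, ((ζ ^ j * (ζ ^ i)⁻¹) ^ m) (d i) = 1 := by
    intro m
    have h := congrArg (fun v => ((ζ ^ j) ^ m) v) (h2 m)
    rw [map_prod, map_one] at h
    rw [← h]
    apply Finset.prod_congr rfl
    intro i _
    have hc : Commute (ζ ^ j) ((ζ ^ i)⁻¹) := (Commute.pow_pow_self ζ j i).inv_right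
    rw [hc.mul_pow, MulAut.mul_apply]
  have h4 : ∏ i ∈ range p, ∏ m ∈ range p, ((ζ ^ j * (ζ ^ i)⁻¹) ^ m) (d i) = 1 := by
    rw [Finset.prod_comm]
    exact Finset.prod_eq_one (fun m _ => h3 m)
  have h5 : ∀ i ∈ range p, i ≠ j → ∏ m ∈ range p, ((ζ ^ j * (ζ ^ i)⁻¹) ^ m) (d i) = 1 := by
    intro i hi hij
    have hi' := mem_range.mp hi
    obtain ⟨η, hη⟩ : ∃ η : MulAut V, η = ζ ^ j * (ζ ^ i)⁻¹ := ⟨_, rfl⟩
    rw [← hη]
    have hηz : η = ζ ^ ((j : ℤ) - (i : ℤ)) := by
      rw [hη, zpow_sub, zpow_natCast, zpow_natCast]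
    have hηp : η ^ p = 1 := by
      rw [hηz, ← zpow_natCast, ← zpow_mul, mul_comm, zpow_mul, zpow_natCast, hp, one_zpow]
    obtain ⟨N, hN⟩ : ∃ N : V, N = ∏ m ∈ range p, (η ^ m) (d i) := ⟨_, rfl⟩
    rw [← hN]
    have hηN : η N = N := by
      rw [hN, map_prod]
      have e1 := Finset.prod_range_succ' (fun m => (η ^ m) (d i)) p
      have e2 := Finset.prod_range_succ (fun m => (η ^ m) (d i)) p
      rw [e2] at e1
      simp only [pow_zero, hηp, MulAut.one_apply] at e1
      have e3 : ∏ m ∈ range p, η ((η ^ m) (d i)) = ∏ m ∈ range p, (η ^ (m + 1)) (d i) := by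
        apply Finset.prod_congr rfl
        intro m _
        rw [pow_succ', MulAut.mul_apply]
      rw [e3]
      exact (mul_right_cancel e1).symm
    have hndvd : ¬ ((p : ℤ) ∣ ((j : ℤ) - (i : ℤ))) := by
      intro hdvd
      have := Int.eq_zero_of_abs_lt_dvd hdvd (by rw [abs_lt]; constructor <;> omega)
      omega
    have hco : IsCoprime (p : ℤ) ((j : ℤ) - (i : ℤ)) :=
      (Nat.prime_iff_prime_int.mp hpp).coprime_iff_not_dvd.mpr hndvd
    obtain ⟨u, v, huv⟩ := hco
    have hζ : ζ = η ^ v := by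
      have : ζ = ζ ^ (u * (p : ℤ) + v * ((j : ℤ) - (i : ℤ))) := by rw [huv, zpow_one]
      rw [this, zpow_add, zpow_mul' ζ u, zpow_natCast, hp, one_zpow, one_mul, zpow_mul' ζ v, ← hηz]
    apply hfix
    rw [hζ]
    exact zpow_fix η N hηN v
  rw [Finset.prod_eq_single j (fun i hi hij => h5 i hi hij)
    (fun hj' => absurd (mem_range.mpr hj) hj')] at h4
  simp only [mul_inv_cancel, one_pow, MulAut.one_apply, Finset.prod_const, card_range] at h4
  have h6 : orderOf (d j) ∣ p := orderOf_dvd_of_pow_eq_one h4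
  have h7 : orderOf (d j) ∣ Nat.card V := orderOf_dvd_natCard (d j)
  have h8 := Nat.dvd_gcd h7 h6
  rw [show Nat.gcd (Nat.card V) p = 1 from hcop] at h8
  exact orderOf_eq_one_iff.mp (Nat.dvd_one.mp h8)

theorem ind_card [Finite V] (p : ℕ) [Fact p.Prime] (hcop : (Nat.card V).Coprime p)
    (ξ ζ : MulAut V) (hcomm : ξ * ζ = ζ * ξ) (hp : ζ ^ p = 1) (hfix : ∀ v : V, ζ v = v → v = 1) :
    ∏ i ∈ range p, Nat.card {v : V // (ξ * ζ ^ i) v = v} ≤ Nat.card V := by
  classical
  let Φ : (∀ i : Fin p, {v : V // (ξ * ζ ^ (i : ℕ)) v = v}) → V := fun w => ∏ i : Fin p, (w i).1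
  have hinj : Function.Injective Φ := by
    intro w w' hww
    funext i
    apply Subtype.ext
    let d : ℕ → V := fun k => if h : k < p then (w ⟨k, h⟩).1 * ((w' ⟨k, h⟩).1)⁻¹ else 1
    have hd : ∀ k < p, (ξ * ζ ^ k) (d k) = d k := by
      intro k hk
      simp only [d, dif_pos hk]
      rw [map_mul, map_inv, (w ⟨k, hk⟩).2, (w' ⟨k, hk⟩).2]
    have hdk : ∀ k : Fin p, d k = (w k).1 * ((w' k).1)⁻¹ := by
      intro k
      simp only [d, dif_pos k.2, Fin.eta]
    have hprod : ∏ k ∈ range p, d k = 1 := by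
      rw [← Fin.prod_univ_eq_prod_range d p]
      simp_rw [hdk]
      rw [Finset.prod_mul_distrib, Finset.prod_inv_distrib]
      exact mul_inv_eq_one.mpr hww
    have h := ind_core p hcop ξ ζ hcomm hp hfix d hd hprod i i.2
    rw [hdk i] at h
    exact mul_inv_eq_one.mp h
  have hcard := Nat.card_le_card_of_injective Φ hinj
  rw [Nat.card_pi] at hcard
  rw [← Fin.prod_univ_eq_prod_range (fun i => Nat.card {v : V // (ξ * ζ ^ i) v = v}) p]
  exact hcard

theorem base_irred {A : Type*} [Group A] [Fintype A] [Finite V]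
    (p : ℕ) [Fact p.Prime] (hA : IsPGroup p A) (hcop : (Nat.card V).Coprime p) (ψ : A →* MulAut V)
    (hirr : ∀ U : Subgroup V, (∀ a : A, ∀ v ∈ U, ψ a v ∈ U) → U = ⊥ ∨ U = ⊤)
    (hnt : ∃ a : A, ψ a ≠ 1) :
    (∏ x : A, Nat.card {v : V // ψ x v = v}) ^ p ≤ Nat.card V ^ Nat.card A := by
  classical
  have hB : IsPGroup p ψ.range := hA.of_surjective ψ.rangeRestrict ψ.rangeRestrict_surjective
  have : Nontrivial ψ.range := by
    obtain ⟨a, ha⟩ := hnt
    refine ⟨⟨⟨ψ a, a, rfl⟩, 1, ?_⟩⟩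
    intro h
    exact ha (congrArg Subtype.val h)
  have : Finite ψ.range := Finite.of_surjective _ ψ.rangeRestrict_surjective
  have hZ : Nontrivial (Subgroup.center ψ.range) := hB.center_nontrivial
  have hZp : IsPGroup p (Subgroup.center ψ.range) := hB.to_subgroup _
  obtain ⟨n, hn⟩ := IsPGroup.iff_card.mp hZp
  have hn0 : n ≠ 0 := by
    rintro rfl
    rw [pow_zero] at hn
    have := Finite.one_lt_card (α := Subgroup.center ψ.range)
    omega
  have hdvd : p ∣ Nat.card (Subgroup.center ψ.range) := by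
    rw [hn]
    exact dvd_pow_self p hn0
  obtain ⟨ζ0, hζ0⟩ := exists_prime_orderOf_dvd_card' p hdvd
  obtain ⟨ζ, hζdef⟩ : ∃ ζ : MulAut V, ζ = ((ζ0 : ψ.range) : MulAut V) := ⟨_, rfl⟩
  have hpp : p.Prime := Fact.out
  have hζo : orderOf ζ = p := by
    rw [hζdef]
    exact (Subgroup.orderOf_coe _).trans ((Subgroup.orderOf_coe _).trans hζ0)
  have hζp : ζ ^ p = 1 := by
    rw [← hζo]
    exact pow_orderOf_eq_one ζ
  have hζ1 : ζ ≠ 1 := by
    intro h
    rw [h, orderOf_one] at hζo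
    exact hpp.one_lt.ne hζo
  have hcommζ : ∀ x : A, ψ x * ζ = ζ * ψ x := by
    intro x
    have h := Subgroup.mem_center_iff.mp ζ0.2 ⟨ψ x, x, rfl⟩
    rw [hζdef]
    exact congrArg Subtype.val h
  obtain ⟨z, hz⟩ := (ζ0 : ψ.range).2
  rw [← hζdef] at hz
  have hfixS : fixSub ζ = ⊥ := by
    rcases hirr (fixSub ζ) (by
      intro a v hv
      rw [mem_fixSub] at hv ⊢
      rw [← MulAut.mul_apply, ← hcommζ a, MulAut.mul_apply, hv]) with h | h
    · exact h
    · exfalso
      apply hζ1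
      ext v
      have : v ∈ fixSub ζ := by rw [h]; exact Subgroup.mem_top v
      exact this
  have hfix : ∀ v : V, ζ v = v → v = 1 := by
    intro v hv
    have : v ∈ fixSub ζ := hv
    rw [hfixS] at this
    exact Subgroup.mem_bot.mp this
  have key : ∀ x : A, ∏ i ∈ range p, Nat.card {v : V // ψ (x * z ^ i) v = v} ≤ Nat.card V := by
    intro x
    have h := ind_card p hcop (ψ x) ζ (hcommζ x) hζp hfix
    simpa [map_mul, map_pow, hz] using h
  calc (∏ x : A, Nat.card {v : V // ψ x v = v}) ^ p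
      = ∏ i ∈ range p, ∏ x : A, Nat.card {v : V // ψ x v = v} := by
        rw [Finset.prod_const, card_range]
    _ = ∏ i ∈ range p, ∏ x : A, Nat.card {v : V // ψ (x * z ^ i) v = v} := by
        apply Finset.prod_congr rfl
        intro i _
        exact (Equiv.prod_comp (Equiv.mulRight (z ^ i))
          (fun x => Nat.card {v : V // ψ x v = v})).symm
    _ = ∏ x : A, ∏ i ∈ range p, Nat.card {v : V // ψ (x * z ^ i) v = v} := Finset.prod_comm
    _ ≤ ∏ x : A, Nat.card V :=
        Finset.prod_le_prod (fun _ _ => Nat.zero_le _) (fun x _ => key x)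
    _ = Nat.card V ^ Nat.card A := by
        rw [Finset.prod_const, Finset.card_univ, ← Nat.card_eq_fintype_card (α := A)]

end ind

end Cfsg.Agent.Lib.helper71.Gheri
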