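import Mathlib
import Cfsg.Agent.Lib.helper1.Coprime
import Cfsg.Agent.Lib.helper71.GheriInd

set_option autoImplicit false
set_option linter.style.haveILetI false

namespace Cfsg.Agent.Lib.helper71.Gheri

open Finset

universe u
variable {G : Type u} [Group G]

/-- conjugation by a normalising element as an automorphism of the subgroup -/
def conjN (Q : Subgroup G) (a : G) (ha : a ∈ Subgroup.normalizer (Q : Set G)) : MulAut Q where
  toFun u := ⟨a * u * a⁻¹, (Subgroup.mem_normalizer_iff.mp ha u).mp u.2⟩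
  invFun u := ⟨a⁻¹ * u * a, (Subgroup.mem_normalizer_iff''.mp ha u).mp u.2⟩
  left_inv u := by ext; simp [mul_assoc]
  right_inv u := by ext; simp [mul_assoc]
  map_mul' u v := by ext; simp [mul_assoc]

theorem conjN_coe (Q : Subgroup G) (a : G) (ha : a ∈ Subgroup.normalizer (Q : Set G)) (u : Q) :
    ((conjN Q a ha u : Q) : G) = a * u * a⁻¹ := rfl

theorem map_conjN (Q W : Subgroup G) (a : G) (ha : a ∈ Subgroup.normalizer (Q : Set G))
    (haW : a ∈ Subgroup.normalizer (W : Set G)) :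
    (W.subgroupOf Q).map ((conjN Q a ha : Q ≃* Q) : Q →* Q) = W.subgroupOf Q := by
  ext u
  rw [Subgroup.mem_map]
  constructor
  · rintro ⟨w, hw, rfl⟩
    rw [Subgroup.mem_subgroupOf] at hw ⊢
    exact (Subgroup.mem_normalizer_iff.mp haW w).mp hw
  · intro hu
    rw [Subgroup.mem_subgroupOf] at hu
    refine ⟨(conjN Q a ha).symm u, ?_, ?_⟩
    · rw [Subgroup.mem_subgroupOf]
      exact (Subgroup.mem_normalizer_iff''.mp haW u).mp hu
    · exact (conjN Q a ha).apply_symm_apply u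

/-- the action of `A` on the quotient `Q/W` -/
noncomputable def quotAct (A Q W : Subgroup G) (hAQ : A ≤ Subgroup.normalizer (Q : Set G))
    (hAW : A ≤ Subgroup.normalizer (W : Set G)) [(W.subgroupOf Q).Normal] :
    A →* MulAut (Q ⧸ W.subgroupOf Q) where
  toFun a := QuotientGroup.congr (W.subgroupOf Q) (W.subgroupOf Q) (conjN Q a (hAQ a.2))
    (map_conjN Q W a (hAQ a.2) (hAW a.2))
  map_one' := by
    ext v
    induction v using QuotientGroup.induction_on with
    | H u =>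
      rw [QuotientGroup.congr_mk, MulAut.one_apply]
      congr 1
      ext
      simp [conjN_coe]
  map_mul' a b := by
    ext v
    induction v using QuotientGroup.induction_on with
    | H u =>
      rw [MulAut.mul_apply, QuotientGroup.congr_mk, QuotientGroup.congr_mk, QuotientGroup.congr_mk]
      congr 1
      ext
      simp [conjN_coe, mul_assoc]

theorem quotAct_mk (A Q W : Subgroup G) (hAQ : A ≤ Subgroup.normalizer (Q : Set G))
    (hAW : A ≤ Subgroup.normalizer (W : Set G)) [(W.subgroupOf Q).Normal] (a : A) (u : Q) :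
    quotAct A Q W hAQ hAW a (QuotientGroup.mk u) =
      QuotientGroup.mk (conjN Q a (hAQ a.2) u) :=
  QuotientGroup.congr_mk (W.subgroupOf Q) (W.subgroupOf Q) (conjN Q a (hAQ a.2))
    (map_conjN Q W a (hAQ a.2) (hAW a.2)) u

theorem card_fix_le [Finite G] (A Q W : Subgroup G) (hAQ : A ≤ Subgroup.normalizer (Q : Set G))
    (hAW : A ≤ Subgroup.normalizer (W : Set G)) [(W.subgroupOf Q).Normal] (x : A) :
    Nat.card (Q ⊓ Subgroup.centralizer {(x : G)} : Subgroup G) ≤
      Nat.card (W ⊓ Subgroup.centralizer {(x : G)} : Subgroup G) *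
        Nat.card {v : Q ⧸ W.subgroupOf Q // quotAct A Q W hAQ hAW x v = v} := by
  have hCQ : (Q ⊓ Subgroup.centralizer {(x : G)} : Subgroup G) ≤ Q := inf_le_left
  let θ : (Q ⊓ Subgroup.centralizer {(x : G)} : Subgroup G) →* Q ⧸ W.subgroupOf Q :=
    (QuotientGroup.mk' (W.subgroupOf Q)).comp (Subgroup.inclusion hCQ)
  have h1 : Nat.card (Q ⊓ Subgroup.centralizer {(x : G)} : Subgroup G) =
      Nat.card θ.ker * Nat.card θ.range := by
    rw [← Subgroup.index_ker, Subgroup.card_mul_index]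
  have hk : ∀ u : θ.ker, ((u : (Q ⊓ Subgroup.centralizer {(x : G)} : Subgroup G)) : G) ∈
      W ⊓ Subgroup.centralizer {(x : G)} := by
    intro u
    have hu := u.2
    rw [MonoidHom.mem_ker] at hu
    have h2 : (Subgroup.inclusion hCQ (u : (Q ⊓ Subgroup.centralizer {(x : G)} : Subgroup G)) : Q)
        ∈ W.subgroupOf Q :=
      (QuotientGroup.eq_one_iff _).mp hu
    have h3 := (u : (Q ⊓ Subgroup.centralizer {(x : G)} : Subgroup G)).2
    exact ⟨h2, h3.2⟩
  have h2 : Nat.card θ.ker ≤ Nat.card (W ⊓ Subgroup.centralizer {(x : G)} : Subgroup G) := by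
    apply Nat.card_le_card_of_injective (fun u : θ.ker =>
      (⟨((u : (Q ⊓ Subgroup.centralizer {(x : G)} : Subgroup G)) : G), hk u⟩ :
      (W ⊓ Subgroup.centralizer {(x : G)} : Subgroup G)))
    intro u u' h
    have h' := congrArg (fun t : (W ⊓ Subgroup.centralizer {(x : G)} : Subgroup G) => (t : G)) h
    exact Subtype.ext (Subtype.ext h')
  have hf : ∀ v : θ.range, quotAct A Q W hAQ hAW x (v : Q ⧸ W.subgroupOf Q) = v := by
    intro v
    obtain ⟨u, hu⟩ := v.2
    rw [← hu]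
    show quotAct A Q W hAQ hAW x (QuotientGroup.mk (Subgroup.inclusion hCQ u)) =
      QuotientGroup.mk (Subgroup.inclusion hCQ u)
    rw [quotAct_mk]
    congr 1
    ext
    rw [conjN_coe]
    have h3 := u.2
    have h4 := Subgroup.mem_centralizer_iff.mp h3.2 (x : G) rfl
    show (x : G) * (u : G) * (x : G)⁻¹ = (u : G)
    rw [h4, mul_inv_cancel_right]
  have h3 : Nat.card θ.range ≤
      Nat.card {v : Q ⧸ W.subgroupOf Q // quotAct A Q W hAQ hAW x v = v} := by
    apply Nat.card_le_card_of_injective (fun v : θ.range =>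
      (⟨(v : Q ⧸ W.subgroupOf Q), hf v⟩ :
        {v : Q ⧸ W.subgroupOf Q // quotAct A Q W hAQ hAW x v = v}))
    intro v v' h
    have h' := congrArg (fun t : {v : Q ⧸ W.subgroupOf Q // quotAct A Q W hAQ hAW x v = v} =>
      (t : Q ⧸ W.subgroupOf Q)) h
    exact Subtype.ext h'
  rw [h1]
  exact Nat.mul_le_mul h2 h3

/-- `Q/W` is commutative when `W` contains the commutators of `Q` -/
theorem quot_comm (Q W : Subgroup G) [(W.subgroupOf Q).Normal]
    (hcomm : ∀ u ∈ Q, ∀ v ∈ Q, u * v * u⁻¹ * v⁻¹ ∈ W) (a b : Q ⧸ W.subgroupOf Q) :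
    a * b = b * a := by
  induction a using QuotientGroup.induction_on with
  | H u =>
  induction b using QuotientGroup.induction_on with
  | H v =>
  rw [← QuotientGroup.mk_mul, ← QuotientGroup.mk_mul, QuotientGroup.eq, Subgroup.mem_subgroupOf]
  have h := hcomm (v : G)⁻¹ (Q.inv_mem v.2) (u : G)⁻¹ (Q.inv_mem u.2)
  have e : ((((u * v)⁻¹ * (v * u) : Q)) : G) =
      (v : G)⁻¹ * (u : G)⁻¹ * ((v : G)⁻¹)⁻¹ * ((u : G)⁻¹)⁻¹ := by
    simp [mul_assoc]
  rw [e]
  exact h

theorem base_irred' {A V : Type*} [Group A] [Fintype A] [Group V] [Finite V]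
    (hc : ∀ a b : V, a * b = b * a)
    (p : ℕ) [Fact p.Prime] (hA : IsPGroup p A) (hcop : (Nat.card V).Coprime p) (ψ : A →* MulAut V)
    (hirr : ∀ U : Subgroup V, (∀ a : A, ∀ v ∈ U, ψ a v ∈ U) → U = ⊥ ∨ U = ⊤)
    (hnt : ∃ a : A, ψ a ≠ 1) :
    (∏ x : A, Nat.card {v : V // ψ x v = v}) ^ p ≤ Nat.card V ^ Nat.card A := by
  letI : CommGroup V := { ‹Group V› with mul_comm := hc }
  exact base_irred p hA hcop ψ hirr hnt

theorem arith1 (a p w v zW zQ X Y : ℕ) (hX : X ≤ w ^ a * zW ^ ((p - 1) * a)) (hY : Y ≤ v ^ a)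
    (hz : zW ≤ zQ) : X * Y ≤ (v * w) ^ a * zQ ^ ((p - 1) * a) := by
  calc X * Y ≤ (w ^ a * zW ^ ((p - 1) * a)) * v ^ a := Nat.mul_le_mul hX hY
    _ = (v * w) ^ a * zW ^ ((p - 1) * a) := by ring
    _ ≤ (v * w) ^ a * zQ ^ ((p - 1) * a) := Nat.mul_le_mul_left _ (Nat.pow_le_pow_left hz _)

theorem arith2 (a p w v zW zQ X : ℕ) (hp : 1 ≤ p) (hX : X ≤ w ^ a * zW ^ ((p - 1) * a))
    (hz : zW * v ≤ zQ) : X * (v ^ a) ^ p ≤ (v * w) ^ a * zQ ^ ((p - 1) * a) := by
  obtain ⟨p', rfl⟩ : ∃ p', p = p' + 1 := ⟨p - 1, by omega⟩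
  simp only [Nat.add_sub_cancel] at *
  calc X * (v ^ a) ^ (p' + 1) ≤ (w ^ a * zW ^ (p' * a)) * (v ^ a) ^ (p' + 1) :=
        Nat.mul_le_mul_right _ hX
    _ = (v * w) ^ a * (zW * v) ^ (p' * a) := by ring
    _ ≤ (v * w) ^ a * zQ ^ (p' * a) := Nat.mul_le_mul_left _ (Nat.pow_le_pow_left hz _)

end Cfsg.Agent.Lib.helper71.Gheri
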