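import Mathlib
import Cfsg.Agent.Lib.helper1.Coprime

set_option autoImplicit false
set_option linter.style.haveILetI false

namespace Cfsg.Agent.Lib.helper71.Gheri

open Finset Pointwise
open Cfsg.Agent.Lib.helper1

/-- number of `g` conjugating `X` into `P` -/
noncomputable def lamS {G : Type*} [Group G] (P X : Subgroup G) : ℕ :=
  Nat.card {g : G // ∀ x ∈ X, g⁻¹ * x * g ∈ P}

theorem card_fibers {α β : Type*} [Finite α] [Finite β] (f : α → β) (c : ℕ)
    (h : ∀ b, Nat.card {a // f a = b} = c) : Nat.card α = Nat.card β * c := by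
  haveI := Fintype.ofFinite β
  rw [← Nat.card_congr (Equiv.sigmaFiberEquiv f), Nat.card_sigma]
  simp only [h]
  rw [Finset.sum_const, Finset.card_univ, smul_eq_mul, Nat.card_eq_fintype_card]

theorem card_fibers_sub {α β : Type*} [Finite α] [Finite β] (p : α → Prop) (q : β → Prop)
    (f : α → β) (c : ℕ) (hf : ∀ a, p a → q (f a))
    (hc : ∀ b, q b → Nat.card {a : α // p a ∧ f a = b} = c) :
    Nat.card {a // p a} = Nat.card {b // q b} * c := by
  apply card_fibers (fun s : {a // p a} => (⟨f s, hf s s.2⟩ : {b // q b}))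
  intro b
  rw [← hc b b.2]
  apply Nat.card_congr
  exact (Equiv.subtypeEquivRight (fun s => by rw [Subtype.ext_iff])).trans
    (Equiv.subtypeSubtypeEquivSubtypeInter p (fun a => f a = b))

theorem prod_comp_hom {A B : Type*} [Group A] [Group B] [Fintype A] [Fintype B] (φ : A →* B)
    (hφ : Function.Surjective φ) (f : B → ℕ) :
    ∏ a : A, f (φ a) = (∏ b : B, f b) ^ Nat.card φ.ker := by
  classical
  rw [Finset.prod_comp f φ, Finset.image_univ_of_surjective hφ, ← Finset.prod_pow]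
  apply Finset.prod_congr rfl
  intro b _
  congr 1
  rw [MonoidHom.card_fiber_eq_of_mem_range φ (hφ b) (hφ 1), ← Fintype.card_subtype,
    ← Nat.card_eq_fintype_card]
  exact Nat.card_congr (Equiv.subtypeEquivRight (fun a => (MonoidHom.mem_ker).symm))

theorem card_hom {A B : Type*} [Group A] [Group B] [Finite A] (φ : A →* B)
    (hφ : Function.Surjective φ) : Nat.card A = Nat.card φ.ker * Nat.card B := by
  rw [← Subgroup.card_mul_index φ.ker, Subgroup.index_ker,
    MonoidHom.range_eq_top.mpr hφ, Subgroup.card_top]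

section

variable {G : Type*} [Group G]

theorem mk_mul_of_mem (N : Subgroup G) [N.Normal] (g n : G) (hn : n ∈ N) :
    QuotientGroup.mk' N (g * n) = QuotientGroup.mk' N g := by
  rw [map_mul, show QuotientGroup.mk' N n = 1 from (QuotientGroup.eq_one_iff n).mpr hn, mul_one]

theorem mk_mul_of_mem' (N : Subgroup G) [N.Normal] (g n : G) (hn : n ∈ N) :
    QuotientGroup.mk' N (n * g) = QuotientGroup.mk' N g := by
  rw [map_mul, show QuotientGroup.mk' N n = 1 from (QuotientGroup.eq_one_iff n).mpr hn, one_mul]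

theorem lamS_map_of_mem (N : Subgroup G) [N.Normal] (P X : Subgroup G) (g : G)
    (hg : ∀ x ∈ X, g⁻¹ * x * g ∈ P) :
    ∀ x ∈ X.map (QuotientGroup.mk' N),
      (QuotientGroup.mk' N g)⁻¹ * x * QuotientGroup.mk' N g ∈ P.map (QuotientGroup.mk' N) := by
  rintro _ ⟨x, hx, rfl⟩
  exact ⟨g⁻¹ * x * g, hg x hx, by simp⟩

theorem q1count [Finite G] (N : Subgroup G) [N.Normal] (P X : Subgroup G) (hNP : N ≤ P) :
    lamS P X = lamS (P.map (QuotientGroup.mk' N)) (X.map (QuotientGroup.mk' N)) * Nat.card N := by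
  unfold lamS
  apply card_fibers_sub _ _ (QuotientGroup.mk' N)
  · intro g hg
    exact lamS_map_of_mem N P X g hg
  · intro gb hgb
    obtain ⟨g₀, rfl⟩ := QuotientGroup.mk'_surjective N gb
    have key : ∀ g : G, QuotientGroup.mk' N g = QuotientGroup.mk' N g₀ →
        ∀ x ∈ X, g⁻¹ * x * g ∈ P := by
      intro g hg x hx
      have h1 := hgb _ (Subgroup.mem_map_of_mem _ hx)
      rw [← hg, ← map_inv, ← map_mul, ← map_mul] at h1
      obtain ⟨u, hu, hux⟩ := h1
      have h2 : u⁻¹ * (g⁻¹ * x * g) ∈ N := QuotientGroup.eq.mp hux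
      have e : g⁻¹ * x * g = u * (u⁻¹ * (g⁻¹ * x * g)) := by group
      rw [e]
      exact P.mul_mem hu (hNP h2)
    symm
    apply Nat.card_congr
    refine Equiv.ofBijective (fun n : N => (⟨g₀ * n, key _ (mk_mul_of_mem N g₀ n n.2),
      mk_mul_of_mem N g₀ n n.2⟩ : {g : G // (∀ x ∈ X, g⁻¹ * x * g ∈ P) ∧
        QuotientGroup.mk' N g = QuotientGroup.mk' N g₀})) ⟨?_, ?_⟩
    · intro n n' h
      have h' := congrArg (fun t : {g : G // (∀ x ∈ X, g⁻¹ * x * g ∈ P) ∧
        QuotientGroup.mk' N g = QuotientGroup.mk' N g₀} => (t : G)) h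
      exact Subtype.ext (mul_left_cancel h')
    · rintro ⟨g, hg1, hg2⟩
      have hn : g₀⁻¹ * g ∈ N := QuotientGroup.eq.mp hg2.symm
      refine ⟨⟨g₀⁻¹ * g, hn⟩, ?_⟩
      apply Subtype.ext
      show g₀ * (g₀⁻¹ * g) = g
      group

theorem conj_into [Finite G] {p : ℕ} [Fact p.Prime] (P : Sylow p G) (H : Subgroup G)
    (hPH : (P : Subgroup G) ≤ H) (Y : Subgroup G) (hYH : Y ≤ H) (hY : IsPGroup p Y) :
    ∃ h ∈ H, ∀ y ∈ Y, h * y * h⁻¹ ∈ P := by
  have hY' : IsPGroup p (Y.subgroupOf H) := hY.comap_subtype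
  obtain ⟨Q, hQ⟩ := hY'.exists_le_sylow
  obtain ⟨h, hh⟩ := MulAction.exists_smul_eq H Q (P.subtype hPH)
  refine ⟨h, h.2, fun y hy => ?_⟩
  have h1 : (⟨y, hYH hy⟩ : H) ∈ (Q : Subgroup H) := hQ (Subgroup.mem_subgroupOf.mpr hy)
  have h2 : h * ⟨y, hYH hy⟩ * h⁻¹ ∈ ((h • Q : Sylow p H) : Subgroup H) := by
    rw [Sylow.coe_subgroup_smul]
    exact conj_mem_conj_smul h1
  rw [hh, Sylow.coe_subtype, Subgroup.mem_subgroupOf] at h2
  exact h2

theorem q2count [Finite G] {p : ℕ} [Fact p.Prime] (K : Subgroup G) [hKn : K.Normal]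
    (P : Sylow p G) (hK : (Nat.card K).Coprime p) (X : Subgroup G) (hXP : X ≤ P) :
    lamS (P : Subgroup G) X =
      lamS ((P : Subgroup G).map (QuotientGroup.mk' K)) (X.map (QuotientGroup.mk' K)) *
        Nat.card (K ⊓ Subgroup.centralizer (X : Set G) : Subgroup G) := by
  have hPK : ∀ g : G, g ∈ (P : Subgroup G) → g ∈ K → g = 1 := by
    intro g hgP hgK
    have hcop : (Nat.card (P : Subgroup G)).Coprime (Nat.card K) := by
      obtain ⟨k, hk⟩ := IsPGroup.iff_card.mp P.isPGroup'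
      rw [hk]
      exact (hK.symm).pow_left k
    have hdisj := Subgroup.disjoint_of_coprime_natCard hcop
    have : g ∈ (P : Subgroup G) ⊓ K := ⟨hgP, hgK⟩
    rw [disjoint_iff.mp hdisj] at this
    exact this
  unfold lamS
  apply card_fibers_sub _ _ (QuotientGroup.mk' K)
  · intro g hg
    exact lamS_map_of_mem K P X g hg
  · intro gb hgb
    obtain ⟨g₀, rfl⟩ := QuotientGroup.mk'_surjective K gb
    obtain ⟨g₁, hg₁, hg₁P⟩ : ∃ g₁ : G, QuotientGroup.mk' K g₁ = QuotientGroup.mk' K g₀ ∧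
        ∀ x ∈ X, g₁⁻¹ * x * g₁ ∈ P := by
      have hXp : IsPGroup p X := P.isPGroup'.to_le hXP
      have hYp : IsPGroup p (MulAut.conj g₀⁻¹ • X : Subgroup G) := by
        obtain ⟨k, hk⟩ := IsPGroup.iff_card.mp hXp
        exact IsPGroup.of_card (by rw [card_conj_smul]; exact hk)
      have hYH : (MulAut.conj g₀⁻¹ • X : Subgroup G) ≤
          ((P : Subgroup G).map (QuotientGroup.mk' K)).comap (QuotientGroup.mk' K) := by
        intro y hy
        rw [mem_conj_smul] at hy
        rw [Subgroup.mem_comap]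
        have h1 := hgb _ (Subgroup.mem_map_of_mem _ hy)
        have e : (QuotientGroup.mk' K g₀)⁻¹ * QuotientGroup.mk' K (g₀⁻¹⁻¹ * y * g₀⁻¹) *
            QuotientGroup.mk' K g₀ = QuotientGroup.mk' K y := by
          rw [← map_inv, ← map_mul, ← map_mul]
          congr 1
          group
        rw [e] at h1
        exact h1
      obtain ⟨h, hh, hhY⟩ := conj_into P _ (Subgroup.le_comap_map _ _) _ hYH hYp
      obtain ⟨u, hu, huh⟩ := (Subgroup.mem_comap.mp hh)
      have hk : u⁻¹ * h ∈ K := QuotientGroup.eq.mp huh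
      refine ⟨g₀ * (u⁻¹ * h)⁻¹, mk_mul_of_mem K g₀ _ (K.inv_mem hk), ?_⟩
      intro x hx
      have hy : g₀⁻¹ * x * g₀ ∈ (MulAut.conj g₀⁻¹ • X : Subgroup G) := by
        rw [mem_conj_smul]
        have e : g₀⁻¹⁻¹ * (g₀⁻¹ * x * g₀) * g₀⁻¹ = x := by group
        rw [e]
        exact hx
      have h3 := hhY _ hy
      have e : (g₀ * (u⁻¹ * h)⁻¹)⁻¹ * x * (g₀ * (u⁻¹ * h)⁻¹) =
          u⁻¹ * (h * (g₀⁻¹ * x * g₀) * h⁻¹) * u := by group
      rw [e]
      exact Subgroup.mul_mem _ (Subgroup.mul_mem _ (Subgroup.inv_mem _ hu) h3) hu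
    symm
    apply Nat.card_congr
    have hmem : ∀ c : (K ⊓ Subgroup.centralizer (X : Set G) : Subgroup G),
        (∀ x ∈ X, ((c : G) * g₁)⁻¹ * x * ((c : G) * g₁) ∈ (P : Subgroup G)) ∧
        QuotientGroup.mk' K ((c : G) * g₁) = QuotientGroup.mk' K g₀ := by
      intro c
      refine ⟨?_, ?_⟩
      · intro x hx
        have hc := Subgroup.mem_centralizer_iff.mp c.2.2 x hx
        have e : ((c : G) * g₁)⁻¹ * x * ((c : G) * g₁) = g₁⁻¹ * ((c : G)⁻¹ * (x * c)) * g₁ := by
          group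
        rw [e, hc, inv_mul_cancel_left]
        exact hg₁P x hx
      · rw [mk_mul_of_mem' K g₁ c c.2.1, hg₁]
    refine Equiv.ofBijective (fun c : (K ⊓ Subgroup.centralizer (X : Set G) : Subgroup G) =>
      (⟨(c : G) * g₁, hmem c⟩ : {g : G // (∀ x ∈ X, g⁻¹ * x * g ∈ (P : Subgroup G)) ∧
        QuotientGroup.mk' K g = QuotientGroup.mk' K g₀})) ⟨?_, ?_⟩
    · intro c c' h
      have h' := congrArg (fun t : {g : G // (∀ x ∈ X, g⁻¹ * x * g ∈ (P : Subgroup G)) ∧
        QuotientGroup.mk' K g = QuotientGroup.mk' K g₀} => (t : G)) h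
      exact Subtype.ext (mul_right_cancel h')
    · rintro ⟨g, hg1, hg2⟩
      have hcK : g * g₁⁻¹ ∈ K := by
        rw [← QuotientGroup.eq_one_iff, ← QuotientGroup.mk'_apply, map_mul, map_inv, hg2, hg₁,
          mul_inv_cancel]
      have hcC : g * g₁⁻¹ ∈ Subgroup.centralizer (X : Set G) := by
        rw [Subgroup.mem_centralizer_iff]
        intro x hx
        have h5 : (g₁⁻¹ * x * g₁)⁻¹ * (g⁻¹ * x * g) = 1 := by
          apply hPK _ (Subgroup.mul_mem _ (Subgroup.inv_mem _ (hg₁P x hx)) (hg1 x hx))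
          apply QuotientGroup.eq.mp
          rw [← QuotientGroup.mk'_apply, ← QuotientGroup.mk'_apply]
          simp only [map_mul, map_inv, hg2, hg₁]
        have h6 : g₁⁻¹ * x * g₁ = g⁻¹ * x * g := inv_mul_eq_one.mp h5
        calc x * (g * g₁⁻¹) = g * (g⁻¹ * x * g) * g₁⁻¹ := by group
          _ = g * (g₁⁻¹ * x * g₁) * g₁⁻¹ := by rw [h6]
          _ = g * g₁⁻¹ * x := by group
      refine ⟨⟨g * g₁⁻¹, hcK, hcC⟩, ?_⟩
      apply Subtype.ext
      show g * g₁⁻¹ * g₁ = g
      group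

theorem lamS_self [Finite G] (P : Subgroup G) :
    lamS P P = Nat.card (Subgroup.normalizer (P : Set G)) := by
  unfold lamS
  apply Nat.card_congr
  apply Equiv.subtypeEquivRight
  intro g
  constructor
  · intro h
    have h1 : MulAut.conj g⁻¹ • P ≤ P := by
      intro y hy
      rw [mem_conj_smul] at hy
      have h2 := h _ hy
      have e : g⁻¹ * (g⁻¹⁻¹ * y * g⁻¹) * g = y := by group
      rw [e] at h2
      exact h2
    have h3 : MulAut.conj g⁻¹ • P = P :=
      Subgroup.eq_of_le_of_card_ge h1 (by rw [card_conj_smul])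
    have h4 := mem_normalizer_of_conj_smul_eq h3
    have h5 := Subgroup.inv_mem _ h4
    rw [inv_inv] at h5
    exact h5
  · intro h x hx
    exact (Subgroup.mem_normalizer_iff''.mp h x).mp hx

theorem lamS_zpowers (P : Subgroup G) (x : G) :
    lamS P (Subgroup.zpowers x) = Nat.card {g : G // g⁻¹ * x * g ∈ P} := by
  unfold lamS
  apply Nat.card_congr
  apply Equiv.subtypeEquivRight
  intro g
  constructor
  · intro h
    exact h x (Subgroup.mem_zpowers x)
  · intro h
    have h1 : Subgroup.zpowers x ≤ MulAut.conj g • P := by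
      rw [Subgroup.zpowers_le, mem_conj_smul]
      exact h
    intro y hy
    exact mem_conj_smul.mp (h1 hy)

end

end Cfsg.Agent.Lib.helper71.Gheri
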