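import Mathlib
import Cfsg.Agent.Lib.helper71.GheriCop

set_option autoImplicit false
set_option linter.style.haveILetI false

namespace Cfsg.Agent.Lib.helper71.Gheri

open Finset
open scoped commutatorElement

universe u
variable {G : Type u} [Group G]

/-- existence of a maximal invariant proper subgroup containing the commutators -/
theorem exists_max_invariant [Finite G] (A Q : Subgroup G)
    (hAQ : A ≤ Subgroup.normalizer (Q : Set G)) (hsolv : Group.IsSolvable Q) (hQ : Q ≠ ⊥) :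
    ∃ W : Subgroup G, W ≤ Q ∧ W ≠ Q ∧ (∀ u ∈ Q, ∀ v ∈ Q, u * v * u⁻¹ * v⁻¹ ∈ W) ∧
      (∀ a ∈ A, ∀ w ∈ W, a * w * a⁻¹ ∈ W) ∧
      ∀ U : Subgroup G, W ≤ U → U ≤ Q → (∀ a ∈ A, ∀ w ∈ U, a * w * a⁻¹ ∈ U) → U = W ∨ U = Q := by
  have hAQ' := Subgroup.le_normalizer_iff.mp hAQ
  have h0 : ⁅Q, Q⁆ ≤ Q := by
    rw [Subgroup.commutator_le]
    intro u hu v hv
    rw [commutatorElement_def]
    exact Q.mul_mem (Q.mul_mem (Q.mul_mem hu hv) (Q.inv_mem hu)) (Q.inv_mem hv)
  have h1 : ⁅Q, Q⁆ ≠ Q := by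
    haveI : Nontrivial Q := (Subgroup.nontrivial_iff_ne_bot Q).mpr hQ
    haveI := hsolv
    have h := Group.IsSolvable.commutator_lt_top_of_nontrivial Q
    intro h'
    have e : (commutator Q).map Q.subtype = (⊤ : Subgroup Q).map Q.subtype := by
      rw [Subgroup.map_subtype_commutator, h', ← MonoidHom.range_eq_map, Subgroup.range_subtype]
    exact h.ne (Subgroup.map_injective Q.subtype_injective e)
  have h2 : ∀ a ∈ A, ∀ w ∈ ⁅Q, Q⁆, a * w * a⁻¹ ∈ ⁅Q, Q⁆ := by
    intro a ha w hw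
    have hm : Q.map (MulAut.conj a).toMonoidHom ≤ Q := by
      rintro _ ⟨u, hu, rfl⟩
      exact hAQ' a ha u hu
    have h3 : (⁅Q, Q⁆).map (MulAut.conj a).toMonoidHom ≤ ⁅Q, Q⁆ := by
      rw [Subgroup.map_commutator]
      exact Subgroup.commutator_mono hm hm
    exact h3 ⟨w, hw, rfl⟩
  obtain ⟨W, hW, hWmax⟩ := Finite.exists_le_maximal
    (p := fun W : Subgroup G => W ≤ Q ∧ W ≠ Q ∧ (∀ a ∈ A, ∀ w ∈ W, a * w * a⁻¹ ∈ W))
    (a := ⁅Q, Q⁆) ⟨h0, h1, h2⟩
  refine ⟨W, hWmax.1.1, hWmax.1.2.1, ?_, hWmax.1.2.2, ?_⟩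
  · intro u hu v hv
    exact hW (Subgroup.commutator_mem_commutator hu hv)
  · intro U hWU hUQ hUA
    by_cases hU : U = Q
    · exact Or.inr hU
    · left
      exact le_antisymm (hWmax.2 ⟨hUQ, hU, hUA⟩ hWU) hWU

theorem quot_irred [Finite G] (A Q W : Subgroup G) (hAQ : A ≤ Subgroup.normalizer (Q : Set G))
    (hAW : A ≤ Subgroup.normalizer (W : Set G)) [(W.subgroupOf Q).Normal] (hWQ : W ≤ Q)
    (hmax : ∀ U : Subgroup G, W ≤ U → U ≤ Q → (∀ a ∈ A, ∀ w ∈ U, a * w * a⁻¹ ∈ U) →
      U = W ∨ U = Q)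
    (U : Subgroup (Q ⧸ W.subgroupOf Q))
    (hU : ∀ a : A, ∀ v ∈ U, quotAct A Q W hAQ hAW a v ∈ U) : U = ⊥ ∨ U = ⊤ := by
  have h1 : W ≤ (U.comap (QuotientGroup.mk' (W.subgroupOf Q))).map Q.subtype := by
    intro w hw
    refine ⟨⟨w, hWQ hw⟩, ?_, rfl⟩
    rw [SetLike.mem_coe, Subgroup.mem_comap]
    have : (QuotientGroup.mk' (W.subgroupOf Q)) ⟨w, hWQ hw⟩ = 1 := by
      rw [QuotientGroup.mk'_apply, QuotientGroup.eq_one_iff, Subgroup.mem_subgroupOf]
      exact hw
    rw [this]
    exact U.one_mem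
  have h2 : (U.comap (QuotientGroup.mk' (W.subgroupOf Q))).map Q.subtype ≤ Q := by
    rintro _ ⟨u, _, rfl⟩
    exact u.2
  have h3 : ∀ a ∈ A, ∀ w ∈ (U.comap (QuotientGroup.mk' (W.subgroupOf Q))).map Q.subtype,
      a * w * a⁻¹ ∈ (U.comap (QuotientGroup.mk' (W.subgroupOf Q))).map Q.subtype := by
    rintro a ha _ ⟨u, hu, rfl⟩
    refine ⟨conjN Q a (hAQ ha) u, ?_, rfl⟩
    rw [SetLike.mem_coe, Subgroup.mem_comap] at hu ⊢
    have := hU ⟨a, ha⟩ _ hu
    rw [QuotientGroup.mk'_apply, quotAct_mk] at this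
    exact this
  rcases hmax _ h1 h2 h3 with h | h
  · left
    rw [Subgroup.eq_bot_iff_forall]
    intro v hv
    induction v using QuotientGroup.induction_on with
    | H u =>
      have hu : (u : G) ∈ (U.comap (QuotientGroup.mk' (W.subgroupOf Q))).map Q.subtype :=
        ⟨u, hv, rfl⟩
      rw [h] at hu
      rw [QuotientGroup.eq_one_iff, Subgroup.mem_subgroupOf]
      exact hu
  · right
    rw [Subgroup.eq_top_iff']
    intro v
    induction v using QuotientGroup.induction_on with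
    | H u =>
      have hu : (u : G) ∈ (U.comap (QuotientGroup.mk' (W.subgroupOf Q))).map Q.subtype := by
        rw [h]; exact u.2
      obtain ⟨u', hu', e⟩ := hu
      have : u' = u := Subtype.ext e
      rw [this] at hu'
      exact hu'

/-- lifting of fixed points when the action on `Q/W` is trivial -/
theorem card_lift [Finite G] (A Q W : Subgroup G) (hAQ : A ≤ Subgroup.normalizer (Q : Set G))
    (hAW : A ≤ Subgroup.normalizer (W : Set G)) [(W.subgroupOf Q).Normal] (hWQ : W ≤ Q)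
    (hcop : (Nat.card A).Coprime (Nat.card W)) (hsolv : Group.IsSolvable A)
    (htriv : ∀ a : A, quotAct A Q W hAQ hAW a = 1) :
    Nat.card (W ⊓ Subgroup.centralizer (A : Set G) : Subgroup G) *
      Nat.card (Q ⧸ W.subgroupOf Q) ≤
      Nat.card (Q ⊓ Subgroup.centralizer (A : Set G) : Subgroup G) := by
  have hCQ : (Q ⊓ Subgroup.centralizer (A : Set G) : Subgroup G) ≤ Q := inf_le_left
  let θ : (Q ⊓ Subgroup.centralizer (A : Set G) : Subgroup G) →* Q ⧸ W.subgroupOf Q :=
    (QuotientGroup.mk' (W.subgroupOf Q)).comp (Subgroup.inclusion hCQ)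
  have hsurj : Function.Surjective θ := by
    intro v
    induction v using QuotientGroup.induction_on with
    | H u =>
      have hg : ∀ a ∈ A, a * (u : G) * a⁻¹ * (u : G)⁻¹ ∈ W := by
        intro a ha
        have h1 := htriv ⟨a, ha⟩
        have h2 : quotAct A Q W hAQ hAW ⟨a, ha⟩ (QuotientGroup.mk u) = QuotientGroup.mk u := by
          rw [h1]; rfl
        rw [quotAct_mk] at h2
        have h3 : ((conjN Q a (hAQ ha) u * u⁻¹ : Q) : Q ⧸ W.subgroupOf Q) = 1 := by
          rw [QuotientGroup.mk_mul, h2, QuotientGroup.mk_inv, mul_inv_cancel]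
        rw [QuotientGroup.eq_one_iff, Subgroup.mem_subgroupOf] at h3
        exact h3
      obtain ⟨c, hc, hcu⟩ := Cfsg.Agent.Lib.helper1.coset_fixed A W hAW hcop (Or.inl hsolv)
        (u : G) hg
      have hcQ : c ∈ Q := by
        have : c = c * (u : G)⁻¹ * u := by group
        rw [this]
        exact Q.mul_mem (hWQ hcu) u.2
      refine ⟨⟨c, hcQ, hc⟩, ?_⟩
      show ((⟨c, hcQ⟩ : Q) : Q ⧸ W.subgroupOf Q) = (u : Q ⧸ W.subgroupOf Q)
      have h4 : (((⟨c, hcQ⟩ : Q) * u⁻¹ : Q) : Q ⧸ W.subgroupOf Q) = 1 := by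
        rw [QuotientGroup.eq_one_iff, Subgroup.mem_subgroupOf]
        exact hcu
      rw [QuotientGroup.mk_mul, QuotientGroup.mk_inv, mul_inv_eq_one] at h4
      exact h4
  have hker : θ.ker = (W ⊓ Subgroup.centralizer (A : Set G) : Subgroup G).subgroupOf
      (Q ⊓ Subgroup.centralizer (A : Set G) : Subgroup G) := by
    ext u
    rw [MonoidHom.mem_ker, Subgroup.mem_subgroupOf]
    show ((Subgroup.inclusion hCQ u : Q) : Q ⧸ W.subgroupOf Q) = 1 ↔ _
    rw [QuotientGroup.eq_one_iff, Subgroup.mem_subgroupOf]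
    constructor
    · intro h
      exact ⟨h, u.2.2⟩
    · intro h
      exact h.1
  have h1 : Nat.card (Q ⊓ Subgroup.centralizer (A : Set G) : Subgroup G) =
      Nat.card θ.ker * Nat.card (Q ⧸ W.subgroupOf Q) := by
    rw [← Subgroup.card_mul_index θ.ker, Subgroup.index_ker,
      MonoidHom.range_eq_top.mpr hsurj, Subgroup.card_top]
  rw [h1, hker]
  apply Nat.mul_le_mul_right
  exact (Nat.card_congr (Subgroup.subgroupOfEquivOfLe
    (inf_le_inf_right _ hWQ)).toEquiv).symm.le

theorem coprime_ineq_solvable [Finite G] (p : ℕ) [Fact p.Prime] (A : Subgroup G) [Fintype A]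
    (hA : IsPGroup p A) :
    ∀ (n : ℕ) (Q : Subgroup G), Nat.card Q ≤ n → A ≤ Subgroup.normalizer (Q : Set G) →
      (Nat.card Q).Coprime p → Group.IsSolvable Q →
      (∏ x : A, Nat.card (Q ⊓ Subgroup.centralizer {(x : G)} : Subgroup G)) ^ p ≤
        Nat.card Q ^ Nat.card A *
          Nat.card (Q ⊓ Subgroup.centralizer (A : Set G) : Subgroup G) ^
            ((p - 1) * Nat.card A) := by
  intro n
  induction n with
  | zero =>
    intro Q hn
    have := Nat.card_pos (α := Q)
    omega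
  | succ n ih =>
    intro Q hn hAQ hcop hsolv
    by_cases hQ : Q = ⊥
    · subst hQ
      simp
    obtain ⟨W, hWQ, hWne, hcomm, hAW', hmax⟩ := exists_max_invariant A Q hAQ hsolv hQ
    have hAW : A ≤ Subgroup.normalizer (W : Set G) := Subgroup.le_normalizer_iff.mpr hAW'
    haveI hWn : (W.subgroupOf Q).Normal := by
      constructor
      intro w hw u
      rw [Subgroup.mem_subgroupOf] at hw ⊢
      have h1 := hcomm u u.2 w (hWQ hw)
      have e : ((u * w * u⁻¹ : Q) : G) = ((u : G) * w * (u : G)⁻¹ * (w : G)⁻¹) * w := by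
        simp [mul_assoc]
      rw [e]
      exact W.mul_mem h1 hw
    have hWlt : Nat.card W < Nat.card Q := by
      by_contra hc
      exact hWne (Subgroup.eq_of_le_of_card_ge hWQ (not_lt.mp hc))
    have hcopW : (Nat.card W).Coprime p :=
      Nat.Coprime.coprime_dvd_left (Subgroup.card_dvd_of_le hWQ) hcop
    have hsolvW : Group.IsSolvable W :=
      Group.isSolvable_of_isSolvable_injective (Subgroup.inclusion_injective hWQ)
    have ihW := ih W (by omega) hAW hcopW hsolvW
    have hcard : Nat.card Q = Nat.card (Q ⧸ W.subgroupOf Q) * Nat.card W := by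
      rw [Subgroup.card_eq_card_quotient_mul_card_subgroup (W.subgroupOf Q)]
      congr 1
      exact Nat.card_congr (Subgroup.subgroupOfEquivOfLe hWQ).toEquiv
    have hcopV : (Nat.card (Q ⧸ W.subgroupOf Q)).Coprime p :=
      Nat.Coprime.coprime_dvd_left (Dvd.intro _ hcard.symm) hcop
    have hzle : Nat.card (W ⊓ Subgroup.centralizer (A : Set G) : Subgroup G) ≤
        Nat.card (Q ⊓ Subgroup.centralizer (A : Set G) : Subgroup G) :=
      Subgroup.card_le_of_le (inf_le_inf_right _ hWQ)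
    have hprod : (∏ x : A, Nat.card (Q ⊓ Subgroup.centralizer {(x : G)} : Subgroup G)) ^ p ≤
        (∏ x : A, Nat.card (W ⊓ Subgroup.centralizer {(x : G)} : Subgroup G)) ^ p *
        (∏ x : A, Nat.card {v : Q ⧸ W.subgroupOf Q // quotAct A Q W hAQ hAW x v = v}) ^ p := by
      rw [← mul_pow, ← Finset.prod_mul_distrib]
      apply Nat.pow_le_pow_left
      apply Finset.prod_le_prod
      · intro x _
        exact Nat.zero_le _
      · intro x _
        exact card_fix_le A Q W hAQ hAW x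
    rw [hcard]
    by_cases hnt : ∃ a : A, quotAct A Q W hAQ hAW a ≠ 1
    · have hb := base_irred' (quot_comm Q W hcomm) p hA hcopV (quotAct A Q W hAQ hAW)
        (quot_irred A Q W hAQ hAW hWQ hmax) hnt
      exact hprod.trans (arith1 _ p _ _ _ _ _ _ ihW hb hzle)
    · push Not at hnt
      have hfix : (∏ x : A, Nat.card {v : Q ⧸ W.subgroupOf Q //
          quotAct A Q W hAQ hAW x v = v}) = Nat.card (Q ⧸ W.subgroupOf Q) ^ Nat.card A := by
        rw [Nat.card_eq_fintype_card (α := A), ← Finset.card_univ, ← Finset.prod_const]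
        apply Finset.prod_congr rfl
        intro x _
        apply Nat.card_congr
        apply Equiv.subtypeUnivEquiv
        intro v
        rw [hnt x]
        rfl
      have hcopAW : (Nat.card A).Coprime (Nat.card W) := by
        obtain ⟨k, hk⟩ := IsPGroup.iff_card.mp hA
        rw [hk]
        exact (hcopW.symm).pow_left k
      have hsolvA : Group.IsSolvable A := by
        haveI := hA.isNilpotent
        infer_instance
      have hl := card_lift A Q W hAQ hAW hWQ hcopAW hsolvA hnt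
      rw [hfix] at hprod
      exact hprod.trans (arith2 _ p _ _ _ _ _ (Fact.out : p.Prime).one_lt.le ihW hl)

end Cfsg.Agent.Lib.helper71.Gheri
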