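import Mathlib
import Cfsg.Agent.Lib.helper71.GheriSolv

set_option autoImplicit false
set_option linter.style.haveILetI false

namespace Cfsg.Agent.Lib.helper71.Gheri

open Finset
open Pointwise
open Cfsg.Agent.Lib.helper1

universe u
variable {G : Type u} [Group G]

/-- an invariant Sylow subgroup meets the fixed points of any acting subgroup in a Sylow subgroup -/
theorem sylow_cent [Finite G] (q : ℕ) [Fact q.Prime] (B K : Subgroup G)
    (hBK : B ≤ Subgroup.normalizer (K : Set G)) (hcop : (Nat.card B).Coprime (Nat.card K))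
    (hsolv : Group.IsSolvable B) (S : Sylow q K)
    (hS : B ≤ Subgroup.normalizer (((S : Subgroup K).map K.subtype : Subgroup G) : Set G)) :
    Nat.card ((S : Subgroup K).map K.subtype ⊓ Subgroup.centralizer (B : Set G) : Subgroup G) =
      q ^ (Nat.card (K ⊓ Subgroup.centralizer (B : Set G) : Subgroup G)).factorization q := by
  obtain ⟨T⟩ := (Sylow.nonempty :
    Nonempty (Sylow q (K ⊓ Subgroup.centralizer (B : Set G) : Subgroup G)))
  have hT' : IsPGroup q ((T : Subgroup (K ⊓ Subgroup.centralizer (B : Set G) : Subgroup G)).map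
      (K ⊓ Subgroup.centralizer (B : Set G) : Subgroup G).subtype) := T.isPGroup'.map _
  have hTK : (T : Subgroup (K ⊓ Subgroup.centralizer (B : Set G) : Subgroup G)).map
      (K ⊓ Subgroup.centralizer (B : Set G) : Subgroup G).subtype ≤ K := by
    rintro _ ⟨t, _, rfl⟩
    exact t.2.1
  have hTC : (T : Subgroup (K ⊓ Subgroup.centralizer (B : Set G) : Subgroup G)).map
      (K ⊓ Subgroup.centralizer (B : Set G) : Subgroup G).subtype ≤
        Subgroup.centralizer (B : Set G) := by
    rintro _ ⟨t, _, rfl⟩
    exact t.2.2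
  have hTB : B ≤ Subgroup.normalizer
      (((T : Subgroup (K ⊓ Subgroup.centralizer (B : Set G) : Subgroup G)).map
      (K ⊓ Subgroup.centralizer (B : Set G) : Subgroup G).subtype : Subgroup G) : Set G) := by
    rw [Subgroup.le_normalizer_iff]
    intro b hb t ht
    have h := Subgroup.mem_centralizer_iff.mp (hTC ht) b hb
    have e : b * t * b⁻¹ = t := by rw [h, mul_inv_cancel_right]
    rw [e]
    exact ht
  obtain ⟨P, hTP, hP⟩ := exists_invariant_sylow_ge (p := q) B K hBK hcop (Or.inl hsolv) _ hTK hT' hTB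
  obtain ⟨c, hc, hcP⟩ := invariant_sylow_conj B K hBK hcop (Or.inl hsolv) P S hP hS
  have hge : q ^ (Nat.card (K ⊓ Subgroup.centralizer (B : Set G) : Subgroup G)).factorization q ≤
      Nat.card ((S : Subgroup K).map K.subtype ⊓ Subgroup.centralizer (B : Set G) : Subgroup G) := by
    rw [← Sylow.card_eq_multiplicity T]
    have e1 : Nat.card (T : Subgroup (K ⊓ Subgroup.centralizer (B : Set G) : Subgroup G)) =
        Nat.card ((T : Subgroup (K ⊓ Subgroup.centralizer (B : Set G) : Subgroup G)).map
          (K ⊓ Subgroup.centralizer (B : Set G) : Subgroup G).subtype) :=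
      (Subgroup.card_map_of_injective (Subgroup.subtype_injective _)).symm
    rw [e1, ← card_conj_smul c]
    apply Subgroup.card_le_of_le
    intro y hy
    rw [mem_conj_smul] at hy
    refine ⟨?_, ?_⟩
    · have h5 : y ∈ MulAut.conj c • (P : Subgroup K).map K.subtype := mem_conj_smul.mpr (hTP hy)
      rw [hcP] at h5
      exact h5
    · have h1 : c⁻¹ * y * c ∈ Subgroup.centralizer (B : Set G) := hTC hy
      have h2 : c ∈ Subgroup.centralizer (B : Set G) := hc.2
      have e : y = c * (c⁻¹ * y * c) * c⁻¹ := by group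
      rw [e]
      exact Subgroup.mul_mem _ (Subgroup.mul_mem _ h2 h1) (Subgroup.inv_mem _ h2)
  have hle : Nat.card ((S : Subgroup K).map K.subtype ⊓ Subgroup.centralizer (B : Set G) :
      Subgroup G) ≤
      q ^ (Nat.card (K ⊓ Subgroup.centralizer (B : Set G) : Subgroup G)).factorization q := by
    have hq : IsPGroup q ((S : Subgroup K).map K.subtype ⊓ Subgroup.centralizer (B : Set G) :
        Subgroup G) := (S.isPGroup'.map _).to_le inf_le_left
    obtain ⟨k, hk⟩ := IsPGroup.iff_card.mp hq
    have hdvd : Nat.card ((S : Subgroup K).map K.subtype ⊓ Subgroup.centralizer (B : Set G) :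
        Subgroup G) ∣ Nat.card (K ⊓ Subgroup.centralizer (B : Set G) : Subgroup G) :=
      Subgroup.card_dvd_of_le (inf_le_inf_right _ (Subgroup.map_subtype_le _))
    rw [hk] at hdvd ⊢
    exact Nat.pow_le_pow_right (Fact.out : q.Prime).pos
      ((Nat.Prime.pow_dvd_iff_le_factorization Fact.out Nat.card_pos.ne').mp hdvd)
  exact le_antisymm hle hge

theorem nat_eq_prod (n N : ℕ) (h : n ∣ N) (hN : N ≠ 0) :
    n = ∏ q ∈ N.primeFactors, q ^ n.factorization q := by
  have hn : n ≠ 0 := fun h0 => hN (by rw [h0] at h; exact Nat.eq_zero_of_zero_dvd h)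
  conv_lhs => rw [← Nat.prod_factorization_pow_eq_self hn]
  apply Finsupp.prod_of_support_subset
  · rw [Nat.support_factorization]
    exact Nat.primeFactors_mono h hN
  · intro i _
    exact pow_zero i

theorem coprime_ineq [Finite G] (p : ℕ) [Fact p.Prime] (A : Subgroup G) [Fintype A]
    (hA : IsPGroup p A) (K : Subgroup G) (hAK : A ≤ Subgroup.normalizer (K : Set G))
    (hcop : (Nat.card K).Coprime p) :
    (∏ x : A, Nat.card (K ⊓ Subgroup.centralizer {(x : G)} : Subgroup G)) ^ p ≤
      Nat.card K ^ Nat.card A *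
        Nat.card (K ⊓ Subgroup.centralizer (A : Set G) : Subgroup G) ^ ((p - 1) * Nat.card A) := by
  have hsolv : ∀ B : Subgroup G, B ≤ A → Group.IsSolvable B := by
    intro B hB
    haveI := (hA.to_le hB).isNilpotent
    infer_instance
  have hcopB : ∀ B : Subgroup G, B ≤ A → (Nat.card B).Coprime (Nat.card K) := by
    intro B hB
    obtain ⟨k, hk⟩ := IsPGroup.iff_card.mp (hA.to_le hB)
    rw [hk]
    exact (hcop.symm).pow_left k
  have hex : ∀ q : ℕ, ∃ S : Subgroup G, (q.Prime → (S ≤ K ∧
      A ≤ Subgroup.normalizer (S : Set G) ∧ IsPGroup q S ∧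
      (∀ B : Subgroup G, B ≤ A →
        Nat.card (S ⊓ Subgroup.centralizer (B : Set G) : Subgroup G) =
          q ^ (Nat.card (K ⊓ Subgroup.centralizer (B : Set G) : Subgroup G)).factorization q))) := by
    intro q
    by_cases hq : q.Prime
    · haveI : Fact q.Prime := ⟨hq⟩
      obtain ⟨S, hS⟩ := exists_invariant_sylow (p := q) A K hAK (hcopB A le_rfl)
        (Or.inl (hsolv A le_rfl))
      refine ⟨(S : Subgroup K).map K.subtype, fun _ =>
        ⟨Subgroup.map_subtype_le _, hS, S.isPGroup'.map _, ?_⟩⟩
      intro B hBA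
      exact sylow_cent q B K (hBA.trans hAK) (hcopB B hBA) (hsolv B hBA) S (hBA.trans hS)
    · exact ⟨⊥, fun h => absurd h hq⟩
  choose S hS using hex
  have hcx : ∀ x : G, Subgroup.centralizer {x} =
      Subgroup.centralizer ((Subgroup.zpowers x : Subgroup G) : Set G) := by
    intro x
    rw [Subgroup.zpowers_eq_closure, Subgroup.centralizer_closure]
  have hform : ∀ B : Subgroup G, B ≤ A →
      Nat.card (K ⊓ Subgroup.centralizer (B : Set G) : Subgroup G) =
        ∏ q ∈ (Nat.card K).primeFactors,
          Nat.card (S q ⊓ Subgroup.centralizer (B : Set G) : Subgroup G) := by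
    intro B hB
    rw [nat_eq_prod _ (Nat.card K) (Subgroup.card_dvd_of_le inf_le_left) Nat.card_pos.ne']
    apply Finset.prod_congr rfl
    intro q hq
    exact ((hS q (Nat.prime_of_mem_primeFactors hq)).2.2.2 B hB).symm
  have hformx : ∀ x : A, Nat.card (K ⊓ Subgroup.centralizer {(x : G)} : Subgroup G) =
        ∏ q ∈ (Nat.card K).primeFactors,
          Nat.card (S q ⊓ Subgroup.centralizer {(x : G)} : Subgroup G) := by
    intro x
    rw [hcx]
    have := hform (Subgroup.zpowers (x : G)) ((Subgroup.zpowers_le).mpr x.2)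
    rw [this]
  have hK : Nat.card K = ∏ q ∈ (Nat.card K).primeFactors, Nat.card (S q) := by
    have h := hform ⊥ bot_le
    have e : Subgroup.centralizer (((⊥ : Subgroup G) : Subgroup G) : Set G) = ⊤ := by
      rw [Subgroup.centralizer_eq_top_iff_subset]
      intro y hy
      have : y = 1 := hy
      rw [this]
      exact Subgroup.one_mem _
    simp only [e, inf_top_eq] at h
    exact h
  have hq : ∀ q ∈ (Nat.card K).primeFactors,
      (∏ x : A, Nat.card (S q ⊓ Subgroup.centralizer {(x : G)} : Subgroup G)) ^ p ≤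
        Nat.card (S q) ^ Nat.card A *
          Nat.card (S q ⊓ Subgroup.centralizer (A : Set G) : Subgroup G) ^
            ((p - 1) * Nat.card A) := by
    intro q hq
    obtain ⟨hSK, hSA, hSq, -⟩ := hS q (Nat.prime_of_mem_primeFactors hq)
    haveI : Fact q.Prime := ⟨Nat.prime_of_mem_primeFactors hq⟩
    exact coprime_ineq_solvable p A hA _ (S q) le_rfl hSA
      (Nat.Coprime.coprime_dvd_left (Subgroup.card_dvd_of_le hSK) hcop)
      (by haveI := hSq.isNilpotent; infer_instance)
  calc (∏ x : A, Nat.card (K ⊓ Subgroup.centralizer {(x : G)} : Subgroup G)) ^ p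
      = (∏ x : A, ∏ q ∈ (Nat.card K).primeFactors,
          Nat.card (S q ⊓ Subgroup.centralizer {(x : G)} : Subgroup G)) ^ p := by
        congr 1
        exact Finset.prod_congr rfl (fun x _ => hformx x)
    _ = ∏ q ∈ (Nat.card K).primeFactors,
          (∏ x : A, Nat.card (S q ⊓ Subgroup.centralizer {(x : G)} : Subgroup G)) ^ p := by
        rw [Finset.prod_comm, Finset.prod_pow]
    _ ≤ ∏ q ∈ (Nat.card K).primeFactors, (Nat.card (S q) ^ Nat.card A *
          Nat.card (S q ⊓ Subgroup.centralizer (A : Set G) : Subgroup G) ^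
            ((p - 1) * Nat.card A)) :=
        Finset.prod_le_prod (fun _ _ => Nat.zero_le _) hq
    _ = Nat.card K ^ Nat.card A *
        Nat.card (K ⊓ Subgroup.centralizer (A : Set G) : Subgroup G) ^ ((p - 1) * Nat.card A) := by
        rw [Finset.prod_mul_distrib, Finset.prod_pow, Finset.prod_pow, ← hK, ← hform A le_rfl]

end Cfsg.Agent.Lib.helper71.Gheri
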