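import Mathlib
import Cfsg.Prelude.Def_Local
import Cfsg.Agent.Lib.helper80.PSolv
import Cfsg.Agent.Lib.helper71.GheriSyl
import Cfsg.Agent.Lib.helper71.GheriCount

set_option autoImplicit false
set_option linter.style.haveILetI false

namespace Cfsg.Agent.Lib.helper71.Gheri

open Finset Pointwise
open Cfsg.Agent.Lib.helper1

universe u

theorem arithQ1 (N Gb Lb m mb c S p : ℕ) (hp : 1 ≤ p)
    (IH : S ^ p ≤ (Gb * Lb ^ (p - 1)) ^ mb) (hm : m = c * mb) :
    (S ^ c * N ^ m) ^ p ≤ (Gb * N * (Lb * N) ^ (p - 1)) ^ m := by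
  obtain ⟨p', rfl⟩ : ∃ p', p = p' + 1 := ⟨p - 1, by omega⟩
  simp only [Nat.add_sub_cancel] at *
  subst hm
  calc (S ^ c * N ^ (c * mb)) ^ (p' + 1)
      = (S ^ (p' + 1)) ^ c * N ^ (c * mb * (p' + 1)) := by ring
    _ ≤ ((Gb * Lb ^ p') ^ mb) ^ c * N ^ (c * mb * (p' + 1)) :=
        Nat.mul_le_mul_right _ (Nat.pow_le_pow_left IH _)
    _ = (Gb * N * (Lb * N) ^ p') ^ (c * mb) := by ring

theorem arithQ2 (K z Gb Lb m mb c S Cx p : ℕ)
    (IH : S ^ p ≤ (Gb * Lb ^ (p - 1)) ^ mb) (hm : m = c * mb)
    (hC : Cx ^ p ≤ K ^ m * z ^ ((p - 1) * m)) :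
    (S ^ c * Cx) ^ p ≤ (Gb * K * (Lb * z) ^ (p - 1)) ^ m := by
  subst hm
  calc (S ^ c * Cx) ^ p = (S ^ p) ^ c * Cx ^ p := by ring
    _ ≤ ((Gb * Lb ^ (p - 1)) ^ mb) ^ c * (K ^ (c * mb) * z ^ ((p - 1) * (c * mb))) :=
        Nat.mul_le_mul (Nat.pow_le_pow_left IH _) hC
    _ = (Gb * K * (Lb * z) ^ (p - 1)) ^ (c * mb) := by ring

theorem kprime (p : ℕ) [Fact p.Prime] :
    ∀ (n : ℕ) (G : Type u) [Group G] [Finite G], Nat.card G ≤ n → Cfsg.IsPSolvable p G →
      ∀ (P : Sylow p G) [Fintype (P : Subgroup G)],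
        (∏ x : (P : Subgroup G), lamS (P : Subgroup G) (Subgroup.zpowers (x : G))) ^ p ≤
          (Nat.card G * lamS (P : Subgroup G) (P : Subgroup G) ^ (p - 1)) ^
            Nat.card (P : Subgroup G) := by
  intro n
  induction n with
  | zero =>
    intro G _ _ hn
    have := Nat.card_pos (α := G)
    omega
  | succ n ih =>
    intro G _ _ hn hps P _
    have hL1 : 1 ≤ lamS (P : Subgroup G) (P : Subgroup G) := by
      rw [lamS_self]
      exact Nat.card_pos
    by_cases htriv : Subsingleton G
    · have hG1 : Nat.card G = 1 := Nat.card_eq_one_iff_unique.mpr ⟨htriv, ⟨1⟩⟩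
      have hle : ∀ X : Subgroup G, lamS (P : Subgroup G) X ≤ 1 := by
        intro X
        unfold lamS
        rw [← hG1]
        exact Finite.card_subtype_le _
      calc (∏ x : (P : Subgroup G), lamS (P : Subgroup G) (Subgroup.zpowers (x : G))) ^ p
          ≤ (∏ x : (P : Subgroup G), 1) ^ p :=
            Nat.pow_le_pow_left (Finset.prod_le_prod (fun _ _ => Nat.zero_le _)
              (fun x _ => hle _)) p
        _ = 1 := by simp
        _ ≤ _ := Nat.one_le_pow _ _ (Nat.mul_pos Nat.card_pos (Nat.pow_pos hL1))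
    · haveI : Nontrivial G := not_subsingleton_iff_nontrivial.mp htriv
      obtain ⟨N, hNn, hNne, hN⟩ := Cfsg.Agent.Lib.helper80.exists_normal_of_isPSolvable p hps
      haveI := hNn
      have hcardG : Nat.card G = Nat.card (G ⧸ N) * Nat.card N :=
        Subgroup.card_eq_card_quotient_mul_card_subgroup N
      have hNgt : 1 < Nat.card N := (Subgroup.one_lt_card_iff_ne_bot N).mpr hNne
      have hlt : Nat.card (G ⧸ N) ≤ n := by
        have h1 : Nat.card (G ⧸ N) * 2 ≤ Nat.card (G ⧸ N) * Nat.card N :=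
          Nat.mul_le_mul_left _ hNgt
        omega
      have hπ : Function.Surjective (QuotientGroup.mk' N) := QuotientGroup.mk'_surjective N
      letI : Fintype ((P.mapSurjective hπ : Sylow p (G ⧸ N)) : Subgroup (G ⧸ N)) :=
        Fintype.ofFinite _
      have IH := ih (G ⧸ N) hlt (Cfsg.Agent.Lib.helper80.isPSolvable_quotient p N hps)
        (P.mapSurjective hπ)
      obtain ⟨φ, hφdef⟩ : ∃ φ : (P : Subgroup G) →*
          ((P.mapSurjective hπ : Sylow p (G ⧸ N)) : Subgroup (G ⧸ N)),
          φ = (QuotientGroup.mk' N).subgroupMap (P : Subgroup G) := ⟨_, rfl⟩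
      have hφ : Function.Surjective φ := by
        rw [hφdef]
        exact MonoidHom.subgroupMap_surjective _ _
      have hφc : ∀ x : (P : Subgroup G), ((φ x : _) : G ⧸ N) = QuotientGroup.mk' N (x : G) := by
        intro x
        rw [hφdef]
        rfl
      have hm : Nat.card (P : Subgroup G) = Nat.card φ.ker *
          Nat.card ((P.mapSurjective hπ : Sylow p (G ⧸ N)) : Subgroup (G ⧸ N)) := card_hom φ hφ
      have hcomp := prod_comp_hom φ hφ (fun xb =>
        lamS ((P.mapSurjective hπ : Sylow p (G ⧸ N)) : Subgroup (G ⧸ N))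
          (Subgroup.zpowers (xb : G ⧸ N)))
      rcases hN with hNp | hNc
      · have hNP : N ≤ (P : Subgroup G) := normal_pgroup_le_sylow N hNp P
        have hx : ∀ x : (P : Subgroup G), lamS (P : Subgroup G) (Subgroup.zpowers (x : G)) =
            lamS ((P.mapSurjective hπ : Sylow p (G ⧸ N)) : Subgroup (G ⧸ N))
              (Subgroup.zpowers ((φ x : _) : G ⧸ N)) * Nat.card N := by
          intro x
          rw [q1count N (P : Subgroup G) _ hNP, MonoidHom.map_zpowers, hφc]
          rfl
        have hPP : lamS (P : Subgroup G) (P : Subgroup G) =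
            lamS ((P.mapSurjective hπ : Sylow p (G ⧸ N)) : Subgroup (G ⧸ N))
              ((P.mapSurjective hπ : Sylow p (G ⧸ N)) : Subgroup (G ⧸ N)) * Nat.card N :=
          q1count N (P : Subgroup G) _ hNP
        have hprod : ∏ x : (P : Subgroup G), lamS (P : Subgroup G) (Subgroup.zpowers (x : G)) =
            (∏ b : ((P.mapSurjective hπ : Sylow p (G ⧸ N)) : Subgroup (G ⧸ N)),
              lamS ((P.mapSurjective hπ : Sylow p (G ⧸ N)) : Subgroup (G ⧸ N))
                (Subgroup.zpowers (b : G ⧸ N))) ^ Nat.card φ.ker *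
              Nat.card N ^ Nat.card (P : Subgroup G) := by
          rw [← hcomp, Nat.card_eq_fintype_card (α := (P : Subgroup G)), ← Finset.card_univ,
            ← Finset.prod_const, ← Finset.prod_mul_distrib]
          exact Finset.prod_congr rfl (fun x _ => hx x)
        rw [hprod, hPP, hcardG]
        exact arithQ1 _ _ _ _ _ _ _ p (Fact.out : p.Prime).one_lt.le IH hm
      · have hcx : ∀ x : G, Subgroup.centralizer {x} =
            Subgroup.centralizer ((Subgroup.zpowers x : Subgroup G) : Set G) := by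
          intro x
          rw [Subgroup.zpowers_eq_closure, Subgroup.centralizer_closure]
        have hx : ∀ x : (P : Subgroup G), lamS (P : Subgroup G) (Subgroup.zpowers (x : G)) =
            lamS ((P.mapSurjective hπ : Sylow p (G ⧸ N)) : Subgroup (G ⧸ N))
              (Subgroup.zpowers ((φ x : _) : G ⧸ N)) *
              Nat.card (N ⊓ Subgroup.centralizer {(x : G)} : Subgroup G) := by
          intro x
          rw [q2count N P hNc _ ((Subgroup.zpowers_le).mpr x.2), MonoidHom.map_zpowers, hφc,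
            ← hcx]
          rfl
        have hPP : lamS (P : Subgroup G) (P : Subgroup G) =
            lamS ((P.mapSurjective hπ : Sylow p (G ⧸ N)) : Subgroup (G ⧸ N))
              ((P.mapSurjective hπ : Sylow p (G ⧸ N)) : Subgroup (G ⧸ N)) *
              Nat.card (N ⊓ Subgroup.centralizer ((P : Subgroup G) : Set G) : Subgroup G) :=
          q2count N P hNc _ le_rfl
        have hC := coprime_ineq p (P : Subgroup G) P.isPGroup' N
          (by rw [Subgroup.normalizer_eq_top]; exact le_top) hNc
        have hprod : ∏ x : (P : Subgroup G), lamS (P : Subgroup G) (Subgroup.zpowers (x : G)) =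
            (∏ b : ((P.mapSurjective hπ : Sylow p (G ⧸ N)) : Subgroup (G ⧸ N)),
              lamS ((P.mapSurjective hπ : Sylow p (G ⧸ N)) : Subgroup (G ⧸ N))
                (Subgroup.zpowers (b : G ⧸ N))) ^ Nat.card φ.ker *
              ∏ x : (P : Subgroup G),
                Nat.card (N ⊓ Subgroup.centralizer {(x : G)} : Subgroup G) := by
          rw [← hcomp, ← Finset.prod_mul_distrib]
          exact Finset.prod_congr rfl (fun x _ => hx x)
        rw [hprod, hPP, hcardG]
        exact arithQ2 _ _ _ _ _ _ _ _ _ p IH hm hC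

end Cfsg.Agent.Lib.helper71.Gheri
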