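import Mathlib
import Cfsg.Prelude.Def_Local
import Cfsg.Agent.Lib.helper71.GheriMain

set_option autoImplicit false
set_option linter.style.haveILetI false

namespace Cfsg.Agent.Lib.helper71.Gheri

open Finset Pointwise
open Cfsg.Agent.Lib.helper1

universe u

theorem amgm {ι : Type*} (s : Finset ι) (hs : s.Nonempty) (z : ι → ℝ) (hz : ∀ i ∈ s, 0 ≤ z i) :
    (s.card : ℝ) ^ s.card * ∏ i ∈ s, z i ≤ (∑ i ∈ s, z i) ^ s.card := by
  have hm : (0 : ℝ) < s.card := by exact_mod_cast hs.card_pos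
  have h := Real.geom_mean_le_arith_mean_weighted s (fun _ => (1 : ℝ) / s.card) z
    (fun _ _ => by positivity) (by rw [Finset.sum_const, nsmul_eq_mul]; field_simp) hz
  have h0 : 0 ≤ ∏ i ∈ s, z i ^ ((1 : ℝ) / s.card) :=
    Finset.prod_nonneg (fun i hi => Real.rpow_nonneg (hz i hi) _)
  have h2 := pow_le_pow_left₀ h0 h s.card
  have e1 : (∏ i ∈ s, z i ^ ((1 : ℝ) / s.card)) ^ s.card = ∏ i ∈ s, z i := by
    rw [← Finset.prod_pow]
    apply Finset.prod_congr rfl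
    intro i hi
    rw [← Real.rpow_natCast, ← Real.rpow_mul (hz i hi), one_div, inv_mul_cancel₀ hm.ne',
      Real.rpow_one]
  have e2 : (∑ i ∈ s, (1 : ℝ) / s.card * z i) = (∑ i ∈ s, z i) / s.card := by
    rw [← Finset.mul_sum]
    ring
  rw [e1, e2, div_pow, le_div_iff₀ (pow_pos hm _)] at h2
  linarith [h2]

theorem lam_conj {G : Type*} [Group G] (P : Subgroup G) (g w : G) :
    Nat.card {h : G // h⁻¹ * (g * w * g⁻¹) * h ∈ P} = Nat.card {h : G // h⁻¹ * w * h ∈ P} := by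
  apply Nat.card_congr
  exact Equiv.subtypeEquiv (Equiv.mulLeft g⁻¹) (fun h => by
    have e : (g⁻¹ * h)⁻¹ * w * (g⁻¹ * h) = h⁻¹ * (g * w * g⁻¹) * h := by group
    simp only [Equiv.coe_mulLeft]
    rw [e])

theorem lam_ne_zero_iff {G : Type*} [Group G] [Finite G] {p : ℕ} [Fact p.Prime] (P : Sylow p G)
    (w : G) :
    Nat.card {g : G // g⁻¹ * w * g ∈ (P : Subgroup G)} ≠ 0 ↔ ∃ k : ℕ, orderOf w = p ^ k := by
  rw [Nat.card_ne_zero]
  constructor
  · rintro ⟨⟨g, hg⟩, -⟩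
    obtain ⟨k, hk⟩ := P.isPGroup' ⟨g⁻¹ * w * g, hg⟩
    have h1 : (g⁻¹ * w * g) ^ p ^ k = 1 := by
      have := congrArg Subtype.val hk
      simpa using this
    have h2 : w ^ p ^ k = 1 := by
      have e : w = g * (g⁻¹ * w * g) * g⁻¹ := by group
      rw [e, conj_pow, h1]
      group
    obtain ⟨j, -, hj⟩ := (Nat.dvd_prime_pow Fact.out).mp (orderOf_dvd_of_pow_eq_one h2)
    exact ⟨j, hj⟩
  · rintro ⟨k, hk⟩
    refine ⟨?_, inferInstance⟩
    have hz : IsPGroup p (Subgroup.zpowers w) :=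
      IsPGroup.of_card (n := k) (by rw [Nat.card_zpowers, hk])
    obtain ⟨Q, hQ⟩ := hz.exists_le_sylow
    obtain ⟨g, hg⟩ := MulAction.exists_smul_eq G P Q
    have h1 : w ∈ ((g • P : Sylow p G) : Subgroup G) := by
      rw [hg]
      exact hQ (Subgroup.mem_zpowers w)
    rw [Sylow.coe_subgroup_smul, mem_conj_smul] at h1
    exact ⟨⟨g, h1⟩⟩

theorem count_p_elements {G : Type*} [Group G] [Finite G] {p : ℕ} [Fact p.Prime] (P : Sylow p G)
    [Fintype (P : Subgroup G)] :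
    (Nat.card {g : G // ∃ k : ℕ, orderOf g = p ^ k} : ℝ) =
      Nat.card G * ∑ y : (P : Subgroup G),
        ((Nat.card {g : G // g⁻¹ * (y : G) * g ∈ (P : Subgroup G)} : ℕ) : ℝ)⁻¹ := by
  classical
  haveI := Fintype.ofFinite G
  obtain ⟨Λ, hΛ⟩ : ∃ Λ : G → ℕ,
      ∀ w, Λ w = Nat.card {g : G // g⁻¹ * w * g ∈ (P : Subgroup G)} := ⟨_, fun _ => rfl⟩
  simp only [← hΛ]
  have hA : ∀ w, (Λ w : ℝ) =
      ∑ g : G, (if g⁻¹ * w * g ∈ (P : Subgroup G) then (1 : ℝ) else 0) := by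
    intro w
    rw [hΛ, Nat.card_eq_fintype_card, Fintype.card_subtype, Finset.sum_boole]
  have hB : ∀ g w, Λ (g * w * g⁻¹) = Λ w := by
    intro g w
    rw [hΛ, hΛ]
    exact lam_conj _ g w
  have hC : ∀ w, Λ w ≠ 0 ↔ ∃ k : ℕ, orderOf w = p ^ k := by
    intro w
    rw [hΛ]
    exact lam_ne_zero_iff P w
  have hD : (Nat.card {g : G // ∃ k : ℕ, orderOf g = p ^ k} : ℝ) =
      ∑ w : G, (if Λ w ≠ 0 then (1 : ℝ) else 0) := by
    rw [Finset.sum_boole, Nat.card_eq_fintype_card, Fintype.card_subtype]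
    congr 2
    ext w
    simp only [Finset.mem_filter, Finset.mem_univ, true_and]
    exact (hC w).symm
  have hE : ∀ w, (if Λ w ≠ 0 then (1 : ℝ) else 0) =
      ∑ g : G, (if g⁻¹ * w * g ∈ (P : Subgroup G) then ((Λ w : ℕ) : ℝ)⁻¹ else 0) := by
    intro w
    have h1 : ∑ g : G, (if g⁻¹ * w * g ∈ (P : Subgroup G) then ((Λ w : ℕ) : ℝ)⁻¹ else 0) =
        (Λ w : ℝ) * ((Λ w : ℕ) : ℝ)⁻¹ := by
      rw [hA w, Finset.sum_mul]
      apply Finset.sum_congr rfl
      intro g _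
      split_ifs <;> simp
    rw [h1]
    by_cases h : Λ w = 0
    · simp [h]
    · rw [if_pos h, mul_inv_cancel₀ (Nat.cast_ne_zero.mpr h)]
  have hF : ∀ g : G,
      ∑ w : G, (if g⁻¹ * w * g ∈ (P : Subgroup G) then ((Λ w : ℕ) : ℝ)⁻¹ else 0) =
        ∑ y : (P : Subgroup G), ((Λ (y : G) : ℕ) : ℝ)⁻¹ := by
    intro g
    rw [← Equiv.sum_comp (MulAut.conj g).toEquiv]
    have h1 : ∀ y : G, (if g⁻¹ * ((MulAut.conj g).toEquiv y) * g ∈ (P : Subgroup G) then
        ((Λ ((MulAut.conj g).toEquiv y) : ℕ) : ℝ)⁻¹ else 0) =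
        (if y ∈ (P : Subgroup G) then ((Λ y : ℕ) : ℝ)⁻¹ else 0) := by
      intro y
      have e1 : (MulAut.conj g).toEquiv y = g * y * g⁻¹ := rfl
      have e2 : g⁻¹ * (g * y * g⁻¹) * g = y := by group
      rw [e1, e2, hB]
    simp only [h1]
    rw [← Finset.sum_filter]
    exact Finset.sum_subtype (Finset.univ.filter (· ∈ (P : Subgroup G))) (by simp)
      (fun y => ((Λ y : ℕ) : ℝ)⁻¹)
  rw [hD, Finset.sum_congr rfl (fun w _ => hE w), Finset.sum_comm,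
    Finset.sum_congr rfl (fun g _ => hF g), Finset.sum_const, Finset.card_univ, nsmul_eq_mul,
    Nat.card_eq_fintype_card]

theorem arith_final (m g L u Nn n p : ℕ) (hp : 1 ≤ p) (hm : m ≠ 0) (hn : 0 < n) (hNn : 0 < Nn)
    (h2 : m ^ m * g ^ m ≤ u ^ m * L) (h3 : L ^ p ≤ (g * Nn ^ (p - 1)) ^ m) (h4 : g = n * Nn) :
    m ^ p * n ^ (p - 1) ≤ u ^ p := by
  obtain ⟨p', rfl⟩ : ∃ p', p = p' + 1 := ⟨p - 1, by omega⟩
  simp only [Nat.add_sub_cancel] at *
  subst h4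
  have h5 : (m ^ (p' + 1) * (n * Nn) ^ (p' + 1)) ^ m ≤
      (u ^ (p' + 1) * (n * Nn * Nn ^ p')) ^ m := by
    calc (m ^ (p' + 1) * (n * Nn) ^ (p' + 1)) ^ m
        = (m ^ m * (n * Nn) ^ m) ^ (p' + 1) := by ring
      _ ≤ (u ^ m * L) ^ (p' + 1) := Nat.pow_le_pow_left h2 _
      _ = (u ^ (p' + 1)) ^ m * L ^ (p' + 1) := by ring
      _ ≤ (u ^ (p' + 1)) ^ m * (n * Nn * Nn ^ p') ^ m := Nat.mul_le_mul_left _ h3
      _ = (u ^ (p' + 1) * (n * Nn * Nn ^ p')) ^ m := by ring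
  have h6 : m ^ (p' + 1) * (n * Nn) ^ (p' + 1) ≤ u ^ (p' + 1) * (n * Nn * Nn ^ p') :=
    (Nat.pow_le_pow_iff_left hm).mp h5
  have h7 : (m ^ (p' + 1) * n ^ p') * (n * Nn ^ (p' + 1)) ≤
      u ^ (p' + 1) * (n * Nn ^ (p' + 1)) := by
    calc (m ^ (p' + 1) * n ^ p') * (n * Nn ^ (p' + 1))
        = m ^ (p' + 1) * (n * Nn) ^ (p' + 1) := by ring
      _ ≤ u ^ (p' + 1) * (n * Nn * Nn ^ p') := h6
      _ = u ^ (p' + 1) * (n * Nn ^ (p' + 1)) := by ring
  exact Nat.le_of_mul_le_mul_right h7 (Nat.mul_pos hn (Nat.pow_pos hNn))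

theorem gheri_main {G : Type u} [Group G] [Finite G] (p : ℕ) [Fact p.Prime]
    (hG : Cfsg.IsPSolvable p G) (P : Sylow p G) :
    Nat.card (P : Subgroup G) ^ p * Nat.card (Sylow p G) ^ (p - 1) ≤
      Nat.card {g : G // ∃ k : ℕ, orderOf g = p ^ k} ^ p := by
  classical
  haveI := Fintype.ofFinite (P : Subgroup G)
  have hK := kprime p (Nat.card G) G le_rfl hG P
  rw [lamS_self] at hK
  simp only [lamS_zpowers] at hK
  have hcount := count_p_elements P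
  have hpos : ∀ y : (P : Subgroup G),
      0 < Nat.card {g : G // g⁻¹ * (y : G) * g ∈ (P : Subgroup G)} := by
    intro y
    exact Nat.card_pos_iff.mpr ⟨⟨⟨1, by simp⟩⟩, inferInstance⟩
  have ham := amgm (Finset.univ : Finset (P : Subgroup G)) Finset.univ_nonempty
    (fun y => ((Nat.card {g : G // g⁻¹ * (y : G) * g ∈ (P : Subgroup G)} : ℕ) : ℝ)⁻¹)
    (fun y _ => by positivity)
  have hg : (0 : ℝ) < (Nat.card G : ℝ) := by exact_mod_cast Nat.card_pos
  have hsum : ∑ y : (P : Subgroup G),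
      ((Nat.card {g : G // g⁻¹ * (y : G) * g ∈ (P : Subgroup G)} : ℕ) : ℝ)⁻¹ =
        (Nat.card {g : G // ∃ k : ℕ, orderOf g = p ^ k} : ℝ) / Nat.card G := by
    rw [hcount]
    field_simp
  rw [hsum, Finset.prod_inv_distrib, ← Nat.cast_prod, div_pow, Finset.card_univ,
    ← Nat.card_eq_fintype_card] at ham
  have hLpos : (0 : ℝ) < ((∏ y : (P : Subgroup G),
      Nat.card {g : G // g⁻¹ * (y : G) * g ∈ (P : Subgroup G)} : ℕ) : ℝ) := by
    exact_mod_cast Finset.prod_pos (fun y _ => hpos y)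
  have h2r : ((Nat.card (P : Subgroup G) : ℕ) : ℝ) ^ Nat.card (P : Subgroup G) *
      (Nat.card G : ℝ) ^ Nat.card (P : Subgroup G) ≤
      (Nat.card {g : G // ∃ k : ℕ, orderOf g = p ^ k} : ℝ) ^ Nat.card (P : Subgroup G) *
        ((∏ y : (P : Subgroup G),
          Nat.card {g : G // g⁻¹ * (y : G) * g ∈ (P : Subgroup G)} : ℕ) : ℝ) := by
    have h := ham
    rw [le_div_iff₀ (pow_pos hg _)] at h
    calc ((Nat.card (P : Subgroup G) : ℕ) : ℝ) ^ Nat.card (P : Subgroup G) *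
        (Nat.card G : ℝ) ^ Nat.card (P : Subgroup G)
        = (((Nat.card (P : Subgroup G) : ℕ) : ℝ) ^ Nat.card (P : Subgroup G) *
          (((∏ y : (P : Subgroup G),
            Nat.card {g : G // g⁻¹ * (y : G) * g ∈ (P : Subgroup G)} : ℕ) : ℝ))⁻¹ *
          (Nat.card G : ℝ) ^ Nat.card (P : Subgroup G)) *
          ((∏ y : (P : Subgroup G),
            Nat.card {g : G // g⁻¹ * (y : G) * g ∈ (P : Subgroup G)} : ℕ) : ℝ) := by
          field_simp
      _ ≤ _ := mul_le_mul_of_nonneg_right h hLpos.le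
  have h2 : Nat.card (P : Subgroup G) ^ Nat.card (P : Subgroup G) *
      Nat.card G ^ Nat.card (P : Subgroup G) ≤
      Nat.card {g : G // ∃ k : ℕ, orderOf g = p ^ k} ^ Nat.card (P : Subgroup G) *
        ∏ y : (P : Subgroup G),
          Nat.card {g : G // g⁻¹ * (y : G) * g ∈ (P : Subgroup G)} := by
    exact_mod_cast h2r
  have h4 : Nat.card G = Nat.card (Sylow p G) *
      Nat.card (Subgroup.normalizer ((P : Subgroup G) : Set G)) := by
    rw [Sylow.card_eq_index_normalizer P, mul_comm]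
    exact (Subgroup.card_mul_index _).symm
  exact arith_final _ _ _ _ _ _ p (Fact.out : p.Prime).one_lt.le Nat.card_pos.ne' Nat.card_pos
    Nat.card_pos h2 hK h4

end Cfsg.Agent.Lib.helper71.Gheri
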