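import Mathlib

/-!
# Minimal idempotents over a local ring with split characteristic polynomials
-/

set_option autoImplicit false

namespace Cfsg.Agent.Lib.helper71

open Polynomial

theorem exists_min_idem {R B : Type*} [CommRing R] [IsDomain R] [IsLocalRing R] [Ring B]
    [Algebra R B] [Module.Free R B] [Module.Finite R B]
    (hsplit : ∀ f : R[X], f.Monic → ∃ f₁ f₂ : R[X], f = f₁ * f₂ ∧ IsCoprime f₁ f₂ ∧
      IsUnit (f₂.coeff 0) ∧ ∀ r : R, IsUnit r → f.IsRoot r → f₂.IsRoot r)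
    (ε : B →ₐ[R] R) (μ : B → ℕ)
    (hμ : ∀ ι κ : B, ι * ι = ι → κ * κ = κ → ι * κ = κ → κ * ι = κ →
      μ κ ≤ μ ι ∧ (μ κ = μ ι → κ = ι)) :
    ∃ ι : B, ι * ι = ι ∧ ε ι = 1 ∧ ∀ z : B, ι * z = z → z * ι = z → IsUnit (ε z) →
      ∃ w : B, ι * w = w ∧ w * ι = w ∧ z * w = ι := by
  classical
  have hex : ∃ n : ℕ, ∃ ι : B, ι * ι = ι ∧ ε ι = 1 ∧ μ ι = n :=
    ⟨μ 1, 1, mul_one 1, map_one ε, rfl⟩
  obtain ⟨ι, hιι, hει, hμι⟩ := Nat.find_spec hex
  have hmin : ∀ κ : B, κ * κ = κ → ε κ = 1 → μ ι ≤ μ κ := by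
    intro κ hκκ hεκ
    rw [hμι]
    exact Nat.find_min' hex ⟨κ, hκκ, hεκ, rfl⟩
  refine ⟨ι, hιι, hει, ?_⟩
  intro z hιz hzι hεz
  set f : R[X] := (LinearMap.mulLeft R z).charpoly with hf
  have hfm : f.Monic := LinearMap.charpoly_monic _
  have hfz : aeval z f = 0 := by
    have h1 : aeval (LinearMap.mulLeft R z) f = 0 := LinearMap.aeval_self_charpoly _
    have h2 : aeval (Algebra.lmul R B z) f = Algebra.lmul R B (aeval z f) :=
      Polynomial.aeval_algHom_apply (Algebra.lmul R B) z f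
    have h3 : (Algebra.lmul R B z : B →ₗ[R] B) = LinearMap.mulLeft R z := rfl
    rw [h3, h1] at h2
    have h4 := congrArg (fun φ : B →ₗ[R] B => φ 1) h2
    simpa using h4.symm
  obtain ⟨f₁, f₂, hff, ⟨a, b, hab⟩, hc₀, hroot⟩ := hsplit f hfm
  have h1κ : 1 - aeval z (a * f₁) = aeval z (b * f₂) := by
    rw [← map_one (aeval (R := R) z), ← hab, map_add]; abel
  have hκκ : aeval z (a * f₁) * aeval z (a * f₁) = aeval z (a * f₁) := by
    have h : aeval z (a * f₁) * (1 - aeval z (a * f₁)) = 0 := by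
      rw [h1κ, ← map_mul]
      have h' : a * f₁ * (b * f₂) = a * b * f := by rw [hff]; ring
      rw [h', map_mul, hfz, mul_zero]
    rw [mul_sub, mul_one, sub_eq_zero] at h
    exact h.symm
  have hεaeval : ∀ g : R[X], ε (aeval z g) = g.eval (ε z) := by
    intro g
    rw [← Polynomial.aeval_algHom_apply, Polynomial.coe_aeval_eq_eval]
  have hrootf : f.IsRoot (ε z) := by
    rw [Polynomial.IsRoot, ← hεaeval, hfz, map_zero]
  have hroot2 : f₂.eval (ε z) = 0 := hroot (ε z) hεz hrootf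
  have hεκ : ε (aeval z (a * f₁)) = 1 := by
    have h : ε (1 - aeval z (a * f₁)) = 0 := by
      rw [h1κ, hεaeval, eval_mul, hroot2, mul_zero]
    rw [map_sub, map_one, sub_eq_zero] at h
    exact h.symm
  have hzpow : ∀ n : ℕ, ι * z ^ n = z ^ n * ι := by
    intro n
    have hc : Commute ι z := by rw [Commute, SemiconjBy, hιz, hzι]
    exact (hc.pow_right n).eq
  have hcomm : ∀ g : R[X], ι * aeval z g = aeval z g * ι := by
    intro g
    induction g using Polynomial.induction_on' with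
    | add p q hp hq => rw [map_add, mul_add, add_mul, hp, hq]
    | monomial n c => rw [aeval_monomial, Algebra.left_comm, hzpow n, mul_assoc]
  set κ : B := aeval z (a * f₁) with hκ
  have hικc : ι * κ = κ * ι := hcomm (a * f₁)
  have hικ : ι * κ = ι := by
    have hκ' : (ι * κ) * (ι * κ) = ι * κ := by
      calc (ι * κ) * (ι * κ) = ι * (κ * ι) * κ := by simp only [mul_assoc]
        _ = ι * (ι * κ) * κ := by rw [hικc]
        _ = (ι * ι) * (κ * κ) := by simp only [mul_assoc]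
        _ = ι * κ := by rw [hιι, hκκ]
    have h1 : ι * (ι * κ) = ι * κ := by rw [← mul_assoc, hιι]
    have h2 : (ι * κ) * ι = ι * κ := by rw [mul_assoc, ← hικc, ← mul_assoc, hιι]
    have h3 := hμ ι (ι * κ) hιι hκ' h1 h2
    have h4 : ε (ι * κ) = 1 := by rw [map_mul, hει, hεκ, mul_one]
    exact h3.2 (le_antisymm h3.1 (hmin _ hκ' h4))
  have h2ι : aeval z f₂ * ι = 0 := by
    have h' : f₂ * (a * f₁) = a * f := by rw [hff]; ring
    calc aeval z f₂ * ι = aeval z f₂ * (ι * κ) := by rw [hικ]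
      _ = aeval z f₂ * (κ * ι) := by rw [hικc]
      _ = aeval z (f₂ * (a * f₁)) * ι := by rw [map_mul, mul_assoc]
      _ = aeval z (a * f) * ι := by rw [h']
      _ = 0 := by rw [map_mul, hfz, mul_zero, zero_mul]
  set c₀ : R := f₂.coeff 0 with hc₀def
  set h : B := aeval z (divX f₂) with hh
  have hf₂ : aeval z f₂ = h * z + algebraMap R B c₀ := by
    conv_lhs => rw [← Polynomial.divX_mul_X_add f₂]
    rw [map_add, map_mul, aeval_X, aeval_C]
  have hzh : z * h = h * z := by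
    have h0 : (X : R[X]) * divX f₂ = divX f₂ * X := mul_comm _ _
    have h1 := congrArg (aeval z) h0
    rwa [map_mul, map_mul, aeval_X] at h1
  obtain ⟨u, hu⟩ := hc₀.exists_left_inv
  have h5 : h * z + c₀ • ι = 0 := by
    rw [hf₂, add_mul, mul_assoc, hzι] at h2ι
    rwa [← Algebra.smul_def] at h2ι
  have h6 : ι = -(u • (h * z)) := by
    have h7 : u • (h * z + c₀ • ι) = 0 := by rw [h5, smul_zero]
    rw [smul_add, smul_smul, hu, one_smul] at h7
    exact eq_neg_of_add_eq_zero_right h7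
  refine ⟨ι * (-(u • h)) * ι, ?_, ?_, ?_⟩
  · rw [← mul_assoc, ← mul_assoc, hιι]
  · rw [mul_assoc, hιι]
  · calc z * (ι * (-(u • h)) * ι) = (z * ι) * (-(u • h)) * ι := by simp only [mul_assoc]
      _ = z * (-(u • h)) * ι := by rw [hzι]
      _ = -(u • (h * z)) * ι := by rw [mul_neg, mul_smul_comm, hzh]
      _ = ι * ι := by rw [← h6]
      _ = ι := hιι

end Cfsg.Agent.Lib.helper71
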