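import Mathlib

set_option autoImplicit false

namespace Cfsg.Agent.Lib.helper71

open scoped commutatorElement

theorem mem_of_zpow_mem_of_isCoprime {G : Type*} [Group G] {H : Subgroup G} {x : G} {m n : ℤ}
    (h : IsCoprime m n) (hm : x ^ m ∈ H) (hn : x ^ n ∈ H) : x ∈ H := by
  obtain ⟨a, b, hab⟩ := h
  have : x = (x ^ m) ^ a * (x ^ n) ^ b := by
    rw [← zpow_mul, ← zpow_mul, ← zpow_add, mul_comm m a, mul_comm n b, hab, zpow_one]
  rw [this]
  exact mul_mem (zpow_mem hm a) (zpow_mem hn b)

/-- A maximal subgroup of a finite p-group contains all p-th powers. -/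
theorem pow_mem_of_isCoatom {P : Type*} [Group P] [Finite P] {p : ℕ} [Fact p.Prime]
    (hP : IsPGroup p P) {A : Subgroup P} (hA : IsCoatom A) (x : P) : x ^ p ∈ A := by
  have hnil : Group.IsNilpotent P := hP.isNilpotent
  have hAn : A.Normal := Subgroup.NormalizerCondition.normal_of_coatom A Group.normalizerCondition_of_isNilpotent hA
  by_contra hx
  have h1 : A ⊔ Subgroup.zpowers (x ^ p) = ⊤ := by
    apply hA.2
    refine lt_of_le_of_ne le_sup_left ?_
    intro h
    apply hx
    have h' : Subgroup.zpowers (x ^ p) ≤ A ⊔ Subgroup.zpowers (x ^ p) := le_sup_right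
    rw [← h] at h'
    exact h' (Subgroup.mem_zpowers _)
  have h2 : x ∈ A ⊔ Subgroup.zpowers (x ^ p) := by rw [h1]; trivial
  obtain ⟨α, hα, y, hy, hxy⟩ := Subgroup.mem_sup_of_normal_left.mp h2
  obtain ⟨j, rfl⟩ := Subgroup.mem_zpowers_iff.mp hy
  have h3 : x ^ (1 - (p : ℤ) * j) ∈ A := by
    have : x ^ (1 - (p : ℤ) * j) = α := by
      rw [zpow_sub, zpow_one, zpow_mul, zpow_natCast, mul_inv_eq_iff_eq_mul]
      exact hxy.symm
    rw [this]; exact hα
  obtain ⟨k, hk⟩ := hP x
  have h4 : x ^ ((p : ℤ) ^ k) ∈ A := by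
    have : x ^ ((p : ℤ) ^ k) = 1 := by
      rw [← Nat.cast_pow, zpow_natCast, hk]
    rw [this]; exact one_mem _
  have hcop : IsCoprime (1 - (p : ℤ) * j) ((p : ℤ) ^ k) := by
    apply IsCoprime.pow_right
    exact ⟨1, j, by ring⟩
  exact hx (pow_mem (mem_of_zpow_mem_of_isCoprime hcop h3 h4) p)

/-- Structure of a minimal non-abelian finite `p`-group: the derived subgroup is
generated by a central element of order dividing `p`. -/
theorem minNonAbelian_structure {P : Type*} [Group P] [Finite P] {p : ℕ} [Fact p.Prime]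
    (hP : IsPGroup p P) (a b : P) (hab : a * b ≠ b * a)
    (hmin : ∀ H : Subgroup P, H ≠ ⊤ → ∀ x ∈ H, ∀ y ∈ H, x * y = y * x) :
    ∃ c : P, c ∈ Subgroup.center P ∧ c ^ p = 1 ∧ commutator P ≤ Subgroup.zpowers c := by
  have hnil : Group.IsNilpotent P := hP.isNilpotent
  have hcl : Subgroup.closure ({a, b} : Set P) = ⊤ := by
    by_contra h
    exact hab (hmin _ h a (Subgroup.subset_closure (by simp)) b (Subgroup.subset_closure (by simp)))
  have hzb : Subgroup.zpowers b ≠ ⊤ := by
    intro h
    have ha : a ∈ Subgroup.zpowers b := by rw [h]; trivial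
    obtain ⟨i, rfl⟩ := Subgroup.mem_zpowers_iff.mp ha
    apply hab
    rw [← zpow_add_one, ← zpow_one_add, add_comm]
  have hza : Subgroup.zpowers a ≠ ⊤ := by
    intro h
    have hb : b ∈ Subgroup.zpowers a := by rw [h]; trivial
    obtain ⟨i, rfl⟩ := Subgroup.mem_zpowers_iff.mp hb
    apply hab
    rw [← zpow_add_one, ← zpow_one_add, add_comm]
  obtain ⟨A, hA, hbA⟩ := (eq_top_or_exists_le_coatom (Subgroup.zpowers b)).resolve_left hzb
  obtain ⟨A', hA', haA'⟩ := (eq_top_or_exists_le_coatom (Subgroup.zpowers a)).resolve_left hza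
  have hAn : A.Normal := Subgroup.NormalizerCondition.normal_of_coatom A Group.normalizerCondition_of_isNilpotent hA
  have hA'n : A'.Normal := Subgroup.NormalizerCondition.normal_of_coatom A' Group.normalizerCondition_of_isNilpotent hA'
  have hb : b ∈ A := hbA (Subgroup.mem_zpowers b)
  have ha : a ∈ A' := haA' (Subgroup.mem_zpowers a)
  obtain ⟨c, hc⟩ : ∃ c : P, c = a * b * a⁻¹ * b⁻¹ := ⟨_, rfl⟩
  have hcb : c * b = b * c :=
    hmin A hA.1 c (hc ▸ mul_mem (hAn.conj_mem b hb a) (inv_mem hb)) b hb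
  have hca : c * a = a * c := by
    have : c ∈ A' := by
      have e : c = a * (b * a⁻¹ * b⁻¹) := by rw [hc]; group
      rw [e]; exact mul_mem ha (hA'n.conj_mem _ (inv_mem ha) b)
    exact hmin A' hA'.1 c this a ha
  have hcc : c ∈ Subgroup.center P := by
    rw [Subgroup.mem_center_iff]
    have : Subgroup.closure ({a, b} : Set P) ≤ Subgroup.centralizer {c} := by
      rw [Subgroup.closure_le]
      rintro x (rfl | rfl)
      · rw [SetLike.mem_coe, Subgroup.mem_centralizer_iff]
        intro h hh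
        rw [Set.mem_singleton_iff] at hh
        subst hh; exact hca
      · rw [SetLike.mem_coe, Subgroup.mem_centralizer_iff]
        intro h hh
        rw [Set.mem_singleton_iff] at hh
        subst hh; exact hcb
    intro g
    have hg : g ∈ Subgroup.centralizer {c} := this (hcl ▸ Subgroup.mem_top g)
    exact (Subgroup.mem_centralizer_iff.mp hg c rfl).symm
  have hab' : a * b = c * b * a := by rw [hc]; group
  have hpow : ∀ n : ℕ, a ^ n * b = c ^ n * b * a ^ n := by
    intro n
    induction n with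
    | zero => simp
    | succ n ih =>
      have hcn : a * c ^ n = c ^ n * a := Subgroup.mem_center_iff.mp (pow_mem hcc n) a
      calc a ^ (n + 1) * b = a * (a ^ n * b) := by rw [pow_succ', mul_assoc]
        _ = a * (c ^ n * b * a ^ n) := by rw [ih]
        _ = (a * c ^ n) * b * a ^ n := by simp only [mul_assoc]
        _ = (c ^ n * a) * b * a ^ n := by rw [hcn]
        _ = c ^ n * (a * b) * a ^ n := by simp only [mul_assoc]
        _ = c ^ n * (c * b * a) * a ^ n := by rw [hab']
        _ = c ^ (n + 1) * b * a ^ (n + 1) := by rw [pow_succ, pow_succ']; simp only [mul_assoc]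
  have hpa : a ^ p * b = b * a ^ p := hmin A hA.1 _ (pow_mem_of_isCoatom hP hA a) b hb
  have hcp : c ^ p = 1 := by
    have h := hpow p
    rw [hpa] at h
    have : c ^ p * (b * a ^ p) = 1 * (b * a ^ p) := by rw [one_mul, ← mul_assoc]; exact h.symm
    exact mul_right_cancel this
  have hCn : (Subgroup.zpowers c).Normal := by
    constructor
    intro n hn g
    obtain ⟨i, rfl⟩ := Subgroup.mem_zpowers_iff.mp hn
    have : g * c ^ i * g⁻¹ = c ^ i := by
      have := Subgroup.mem_center_iff.mp (zpow_mem hcc i) g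
      rw [this]; group
    rw [this]; exact hn
  refine ⟨c, hcc, hcp, ?_⟩
  rw [commutator_def, Subgroup.commutator_le]
  intro x _ y _
  have hq : ∀ u v : P ⧸ Subgroup.zpowers c, u * v = v * u := by
    have e : ((a : P ⧸ Subgroup.zpowers c)) * (b : P ⧸ Subgroup.zpowers c)
        = (b : P ⧸ Subgroup.zpowers c) * (a : P ⧸ Subgroup.zpowers c) := by
      rw [← QuotientGroup.mk_mul, ← QuotientGroup.mk_mul, QuotientGroup.eq]
      have : (a * b)⁻¹ * (b * a) = c⁻¹ := by
        rw [hab']
        have h1 := Subgroup.mem_center_iff.mp (inv_mem hcc) (b * a)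
        calc (c * b * a)⁻¹ * (b * a) = (b * a)⁻¹ * (c⁻¹ * (b * a)) := by group
          _ = (b * a)⁻¹ * ((b * a) * c⁻¹) := by rw [h1]
          _ = c⁻¹ := by group
      rw [this]; exact inv_mem (Subgroup.mem_zpowers c)
    have hcomm : ∀ u ∈ ({(a : P ⧸ Subgroup.zpowers c), (b : P ⧸ Subgroup.zpowers c)} : Set _),
        ∀ v ∈ ({(a : P ⧸ Subgroup.zpowers c), (b : P ⧸ Subgroup.zpowers c)} : Set _),
        u * v = v * u := by
      rintro u (rfl | rfl) v (rfl | rfl)
      · rfl
      · exact e
      · exact e.symm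
      · rfl
    have hcl' : Subgroup.closure
        ({(a : P ⧸ Subgroup.zpowers c), (b : P ⧸ Subgroup.zpowers c)} : Set _) = ⊤ := by
      have := congrArg (Subgroup.map (QuotientGroup.mk' (Subgroup.zpowers c))) hcl
      rw [MonoidHom.map_closure, Subgroup.map_top_of_surjective _
        (QuotientGroup.mk'_surjective _)] at this
      rw [← this]
      congr 1
      simp [Set.image_pair]
    have hcomm' := Subgroup.isMulCommutative_closure hcomm
    intro u v
    have hu : u ∈ Subgroup.closure
        ({(a : P ⧸ Subgroup.zpowers c), (b : P ⧸ Subgroup.zpowers c)} : Set _) := by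
      rw [hcl']; trivial
    have hv : v ∈ Subgroup.closure
        ({(a : P ⧸ Subgroup.zpowers c), (b : P ⧸ Subgroup.zpowers c)} : Set _) := by
      rw [hcl']; trivial
    have := mul_comm' (⟨u, hu⟩ : Subgroup.closure
        ({(a : P ⧸ Subgroup.zpowers c), (b : P ⧸ Subgroup.zpowers c)} : Set _)) ⟨v, hv⟩
    exact congrArg Subtype.val this
  have : ((⁅x, y⁆ : P) : P ⧸ Subgroup.zpowers c) = 1 := by
    rw [commutatorElement_def]
    simp only [QuotientGroup.mk_mul, QuotientGroup.mk_inv]
    rw [hq x y]; group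
  exact (QuotientGroup.eq_one_iff _).mp this

end Cfsg.Agent.Lib.helper71
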