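import Mathlib
import Cfsg.Prelude.Def_Transfer
import Cfsg.Agent.Lib.helper71.NilMax
import Cfsg.Agent.Lib.helper67.Tate
import Cfsg.Agent.Lib.helper3.PGroupFrattini
import Cfsg.Agent.S0077

/-!
# Nilpotent maximal subgroups: Sylow subgroups of class at most two (helper71)

In the core-free situation of `Cfsg.Agent.Lib.helper71.SylData`, if the Sylow `p`-subgroup `P`
has class at most two then `Z(P)` is weakly closed in `P`, hence (Grün's second theorem and
Tate's theorem) `G` has a normal `p`-complement.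
-/

set_option autoImplicit false

namespace Cfsg.Agent.Lib.helper71

open scoped commutatorElement Pointwise

universe u

variable {G : Type u} [Group G]

/-- Weak closure of `Z(P)` in the core-free situation when `P` has class at most two. -/
theorem isWeaklyClosed_center_of_class_two [Finite G] {M : Subgroup G} (hmax : IsCoatom M)
    (hcore : ∀ N : Subgroup G, N.Normal → N ≤ M → N = ⊥) {p : ℕ} [Fact p.Prime]
    (P : Sylow p G) (Q : Subgroup G) (hd : SylData p M (P : Subgroup G) Q)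
    (hcl : ∀ x ∈ (P : Subgroup G), ∀ y ∈ (P : Subgroup G), ∀ z ∈ (P : Subgroup G),
      ⁅⁅x, y⁆, z⁆ = 1) :
    Cfsg.IsWeaklyClosed
      ((P : Subgroup G) ⊓ Subgroup.centralizer ((P : Subgroup G) : Set G)) (P : Subgroup G) := by
  obtain ⟨Z, hZdef⟩ : ∃ Z : Subgroup G,
      Z = (P : Subgroup G) ⊓ Subgroup.centralizer ((P : Subgroup G) : Set G) := ⟨_, rfl⟩
  rw [← hZdef]
  have hZP : Z ≤ (P : Subgroup G) := by rw [hZdef]; exact inf_le_left
  have hZC : Z ≤ Subgroup.centralizer ((P : Subgroup G) : Set G) := by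
    rw [hZdef]; exact inf_le_right
  have hZne : Z ≠ ⊥ := by rw [hZdef]; exact hd.center_ne_bot
  have hZnorm : Subgroup.normalizer (Z : Set G) = M := by
    rw [hZdef]; exact hd.normalizer_center hmax hcore
  have hZcomm : ∀ z ∈ Z, ∀ h ∈ (P : Subgroup G), h * z = z * h := fun z hz h hh =>
    Subgroup.mem_centralizer_iff.mp (hZC hz) h hh
  -- commutators of elements of `P` lie in `Z`
  have hcomZ : ∀ x ∈ (P : Subgroup G), ∀ y ∈ (P : Subgroup G), ⁅x, y⁆ ∈ Z := by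
    intro x hx y hy
    have hxy : ⁅x, y⁆ ∈ (P : Subgroup G) := by
      rw [commutatorElement_def]
      exact Subgroup.mul_mem _ (Subgroup.mul_mem _ (Subgroup.mul_mem _ hx hy)
        (Subgroup.inv_mem _ hx)) (Subgroup.inv_mem _ hy)
    rw [hZdef]
    refine ⟨hxy, ?_⟩
    show ⁅x, y⁆ ∈ Subgroup.centralizer ((P : Subgroup G) : Set G)
    rw [Subgroup.mem_centralizer_iff]
    intro h hh
    have h1 := hcl x hx y hy h hh
    rw [commutatorElement_eq_one_iff_commute] at h1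
    exact h1.eq.symm
  have hppow : ∀ x ∈ (P : Subgroup G), ∃ k : ℕ, x ^ p ^ k = 1 := by
    intro x hx
    obtain ⟨k, hk⟩ := P.isPGroup' ⟨x, hx⟩
    exact ⟨k, by simpa using congrArg Subtype.val hk⟩
  refine ⟨hZP, ?_⟩
  intro g hg
  have hg' : ∀ z ∈ Z, g * z * g⁻¹ ∈ (P : Subgroup G) :=
    Cfsg.Agent.Lib.helper53.conj_le_iff.mp hg
  -- Step 1: `g⁻¹ Z g ≤ P`
  have hstep1 : ∀ z ∈ Z, g⁻¹ * z * g ∈ (P : Subgroup G) := by
    intro z hz
    have h1 : g⁻¹ * z * g ∈ Subgroup.centralizer (Z : Set G) := by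
      rw [Subgroup.mem_centralizer_iff]
      intro h hh
      have h2 := hZcomm z hz (g * h * g⁻¹) (hg' h hh)
      calc h * (g⁻¹ * z * g) = g⁻¹ * ((g * h * g⁻¹) * z) * g := by group
        _ = g⁻¹ * (z * (g * h * g⁻¹)) * g := by rw [h2]
        _ = g⁻¹ * z * g * h := by group
    have h3 : g⁻¹ * z * g ∈ M := by
      rw [← hZnorm]
      exact Subgroup.centralizer_le_normalizer _ h1
    obtain ⟨k, hk⟩ := hppow z (hZP hz)
    refine hd.pmem _ h3 ⟨k, ?_⟩
    have e : g⁻¹ * z * g = g⁻¹ * z * g⁻¹⁻¹ := by rw [inv_inv]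
    rw [e, conj_pow, hk]
    group
  -- Step 2: the subgroup `R = P ∩ gPg⁻¹`
  obtain ⟨R, hRdef⟩ : ∃ R : Subgroup G, R = (P : Subgroup G) ⊓ MulAut.conj g • (P : Subgroup G) :=
    ⟨_, rfl⟩
  have hRmem : ∀ x : G, x ∈ R ↔ x ∈ (P : Subgroup G) ∧ g⁻¹ * x * g ∈ (P : Subgroup G) := by
    intro x
    rw [hRdef, Subgroup.mem_inf, Cfsg.Agent.Lib.helper1.mem_conj_smul]
  have hZR : Z ≤ R := fun z hz => (hRmem z).mpr ⟨hZP hz, hstep1 z hz⟩
  have hZgR : ∀ z ∈ Z, g * z * g⁻¹ ∈ R := by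
    intro z hz
    refine (hRmem _).mpr ⟨hg' z hz, ?_⟩
    have e : g⁻¹ * (g * z * g⁻¹) * g = z := by group
    rw [e]
    exact hZP hz
  have hRP : R ≤ (P : Subgroup G) := fun x hx => ((hRmem x).mp hx).1
  have hRne : R ≠ ⊥ := by
    intro h
    apply hZne
    rw [eq_bot_iff, ← h]
    exact hZR
  -- Step 3: `M` normalizes `R`
  have hMR : M ≤ Subgroup.normalizer (R : Set G) := by
    intro m hm
    apply mem_normalizer_of_forall
    intro r hr
    obtain ⟨s, hs, c, hc, rfl⟩ := hd.decomp m hm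
    have hc' := Subgroup.mem_centralizer_iff.mp (hd.qcent hc) r (hRP hr)
    have e : s * c * r * (s * c)⁻¹ = ⁅s, r⁆ * r := by
      calc s * c * r * (s * c)⁻¹ = s * (c * r) * c⁻¹ * s⁻¹ := by group
        _ = s * (r * c) * c⁻¹ * s⁻¹ := by rw [hc']
        _ = ⁅s, r⁆ * r := by rw [commutatorElement_def]; group
    rw [e]
    exact R.mul_mem (hZR (hcomZ s hs r (hRP hr))) hr
  have hRnorm : Subgroup.normalizer (R : Set G) = M :=
    normalizer_eq_of_coatom hmax hcore (hRP.trans hd.le) hRne hMR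
  -- Step 5: `gPg⁻¹` normalizes `R`
  have hconjP : ∀ x ∈ (P : Subgroup G), g * x * g⁻¹ ∈ (P : Subgroup G) := by
    intro x hx
    have h1 : g * x * g⁻¹ ∈ Subgroup.normalizer (R : Set G) := by
      apply mem_normalizer_of_forall
      intro r hr
      have hr' := ((hRmem r).mp hr).2
      have e : g * x * g⁻¹ * r * (g * x * g⁻¹)⁻¹ = g * ⁅x, g⁻¹ * r * g⁆ * g⁻¹ * r := by
        rw [commutatorElement_def]; group
      rw [e]
      exact R.mul_mem (hZgR _ (hcomZ x hx _ hr')) hr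
    rw [hRnorm] at h1
    obtain ⟨k, hk⟩ := hppow x hx
    refine hd.pmem _ h1 ⟨k, ?_⟩
    rw [conj_pow, hk]
    group
  have hgN : g ∈ Subgroup.normalizer ((P : Subgroup G) : Set G) := mem_normalizer_of_forall hconjP
  rw [hd.normalizer_eq, ← hZnorm] at hgN
  exact Cfsg.Agent.Lib.helper1.conj_smul_eq_of_mem_normalizer hgN

/-- In the core-free situation, if the Sylow `p`-subgroup `P` of the nilpotent maximal subgroup
has class at most two, then `G` has a normal `p`-complement. -/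
theorem hasNPC_of_class_two [Finite G] {M : Subgroup G} (hmax : IsCoatom M)
    (hcore : ∀ N : Subgroup G, N.Normal → N ≤ M → N = ⊥) {p : ℕ} [Fact p.Prime]
    (P : Sylow p G) (Q : Subgroup G) (hd : SylData p M (P : Subgroup G) Q)
    (hcl : ∀ x ∈ (P : Subgroup G), ∀ y ∈ (P : Subgroup G), ∀ z ∈ (P : Subgroup G),
      ⁅⁅x, y⁆, z⁆ = 1) :
    Cfsg.HasNormalPComplement p G := by
  have hW := isWeaklyClosed_center_of_class_two hmax hcore P Q hd hcl
  have hgrun : commutator G ⊓ (P : Subgroup G) =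
      ⁅Subgroup.normalizer (((P : Subgroup G) ⊓ Subgroup.centralizer ((P : Subgroup G) : Set G) :
        Subgroup G) : Set G),
       Subgroup.normalizer (((P : Subgroup G) ⊓ Subgroup.centralizer ((P : Subgroup G) : Set G) :
        Subgroup G) : Set G)⁆ ⊓ (P : Subgroup G) :=
    Cfsg.Agent.S0077.result P
      ((P : Subgroup G) ⊓ Subgroup.centralizer ((P : Subgroup G) : Set G)) inf_le_right hW
  rw [hd.normalizer_center hmax hcore] at hgrun
  apply Cfsg.Agent.Lib.helper67.tate_commutator P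
  rw [inf_comm, hgrun]
  -- `[M, M] ∩ P ≤ [P, P] ≤ Φ(P)`
  have hQc : ∀ q ∈ Q, ∀ x ∈ (P : Subgroup G), q * x = x * q := fun q hq x hx =>
    (Subgroup.mem_centralizer_iff.mp (hd.qcent hq) x hx).symm
  have key : ∀ a ∈ (P : Subgroup G), ∀ c ∈ (P : Subgroup G), ∀ b ∈ Q, ∀ d ∈ Q,
      ⁅a * b, c * d⁆ = ⁅b, d⁆ * ⁅a, c⁆ := by
    intro a ha c hc b hb d hd'
    have e1 := hQc b hb c hc
    have e2 := hQc (b * d * b⁻¹) (Q.mul_mem (Q.mul_mem hb hd') (Q.inv_mem hb)) a⁻¹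
      (Subgroup.inv_mem _ ha)
    have e3 := hQc (b * d * b⁻¹ * d⁻¹)
      (Q.mul_mem (Q.mul_mem (Q.mul_mem hb hd') (Q.inv_mem hb)) (Q.inv_mem hd')) c⁻¹
      (Subgroup.inv_mem _ hc)
    have e4 := hQc (b * d * b⁻¹ * d⁻¹)
      (Q.mul_mem (Q.mul_mem (Q.mul_mem hb hd') (Q.inv_mem hb)) (Q.inv_mem hd')) (a * c * a⁻¹ * c⁻¹)
      (Subgroup.mul_mem _ (Subgroup.mul_mem _ (Subgroup.mul_mem _ ha hc) (Subgroup.inv_mem _ ha))
        (Subgroup.inv_mem _ hc))
    calc ⁅a * b, c * d⁆ = a * (b * c) * d * b⁻¹ * a⁻¹ * d⁻¹ * c⁻¹ := by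
          rw [commutatorElement_def]; group
      _ = a * (c * b) * d * b⁻¹ * a⁻¹ * d⁻¹ * c⁻¹ := by rw [e1]
      _ = a * c * ((b * d * b⁻¹) * a⁻¹) * d⁻¹ * c⁻¹ := by group
      _ = a * c * (a⁻¹ * (b * d * b⁻¹)) * d⁻¹ * c⁻¹ := by rw [e2]
      _ = a * c * a⁻¹ * ((b * d * b⁻¹ * d⁻¹) * c⁻¹) := by group
      _ = a * c * a⁻¹ * (c⁻¹ * (b * d * b⁻¹ * d⁻¹)) := by rw [e3]
      _ = (a * c * a⁻¹ * c⁻¹) * (b * d * b⁻¹ * d⁻¹) := by group
      _ = (b * d * b⁻¹ * d⁻¹) * (a * c * a⁻¹ * c⁻¹) := by rw [e4]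
      _ = ⁅b, d⁆ * ⁅a, c⁆ := by rw [commutatorElement_def, commutatorElement_def]
  have hPP : ⁅(P : Subgroup G), (P : Subgroup G)⁆ ≤ (P : Subgroup G) := by
    rw [Subgroup.commutator_le]
    intro a ha b hb
    rw [commutatorElement_def]
    exact Subgroup.mul_mem _ (Subgroup.mul_mem _ (Subgroup.mul_mem _ ha hb)
      (Subgroup.inv_mem _ ha)) (Subgroup.inv_mem _ hb)
  have hPQ : ⁅(P : Subgroup G), (P : Subgroup G)⁆ ≤ Subgroup.normalizer (Q : Set G) := by
    refine le_trans hPP (le_trans ?_ (Subgroup.centralizer_le_normalizer _))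
    intro x hx
    rw [Subgroup.mem_centralizer_iff]
    intro q hq
    exact hQc q hq x hx
  have hMM : ⁅M, M⁆ ≤ Q ⊔ ⁅(P : Subgroup G), (P : Subgroup G)⁆ := by
    rw [Subgroup.commutator_le]
    intro m₁ hm₁ m₂ hm₂
    obtain ⟨a, ha, b, hb, rfl⟩ := hd.decomp m₁ hm₁
    obtain ⟨c, hc, d, hd', rfl⟩ := hd.decomp m₂ hm₂
    rw [key a ha c hc b hb d hd']
    exact Subgroup.mul_mem _
      ((le_sup_left : Q ≤ _) (by
        rw [commutatorElement_def]
        exact Q.mul_mem (Q.mul_mem (Q.mul_mem hb hd') (Q.inv_mem hb)) (Q.inv_mem hd')))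
      ((le_sup_right : ⁅(P : Subgroup G), (P : Subgroup G)⁆ ≤ _)
        (Subgroup.commutator_mem_commutator ha hc))
  have hfr : ⁅(P : Subgroup G), (P : Subgroup G)⁆ ≤
      (frattini ↥(P : Subgroup G)).map (P : Subgroup G).subtype := by
    rw [Subgroup.commutator_le]
    intro a ha b hb
    refine ⟨⁅(⟨a, ha⟩ : ↥(P : Subgroup G)), (⟨b, hb⟩ : ↥(P : Subgroup G))⁆, ?_, rfl⟩
    apply Cfsg.Agent.Lib.helper3.commutator_le_frattini P.isPGroup'
    show ⁅(⟨a, ha⟩ : ↥(P : Subgroup G)), (⟨b, hb⟩ : ↥(P : Subgroup G))⁆ ∈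
      ⁅(⊤ : Subgroup ↥(P : Subgroup G)), ⊤⁆
    exact Subgroup.commutator_mem_commutator (Subgroup.mem_top _) (Subgroup.mem_top _)
  rintro x ⟨hxM, hxP⟩
  apply hfr
  obtain ⟨n, hn, h, hh, rfl⟩ := Cfsg.Agent.Lib.helper1.mem_sup_normal_left hPQ (hMM hxM)
  have hnP : n ∈ (P : Subgroup G) := by
    have e : n = n * h * h⁻¹ := by group
    rw [e]
    exact Subgroup.mul_mem _ hxP (Subgroup.inv_mem _ (hPP hh))
  have hn1 : n = 1 :=
    Cfsg.Agent.Lib.lead.eq_one_of_mem_of_coprime P.isPGroup' hnP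
      (Nat.Coprime.coprime_dvd_left (Subgroup.orderOf_dvd_natCard Q hn) hd.qcop)
  rw [hn1, one_mul]
  exact hh

end Cfsg.Agent.Lib.helper71
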