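import Mathlib
import Cfsg.Agent.Lib.helper1.SZ

set_option autoImplicit false

namespace Cfsg.Agent.Lib.helper71

open Pointwise

universe u

/-- No nontrivial element of odd order is inverted. -/
def NoInv (G : Type*) [Group G] : Prop :=
  ∀ u s : G, ¬ 2 ∣ orderOf u → s * u * s⁻¹ = u⁻¹ → u = 1

theorem noInv_of_hhom {G : Type*} [Group G] [Finite G]
    (hhom : ∀ H : Subgroup G, H ≠ ⊥ → ¬ 2 ∣ Nat.card ↥H →
        ¬ 2 ∣ (Subgroup.centralizer (H : Set G)).relIndex (Subgroup.normalizer (H : Set G))) :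
    NoInv G := by
  intro u s hodd hs
  by_contra hu
  have hHne : Subgroup.zpowers u ≠ ⊥ := by
    rw [Ne, Subgroup.zpowers_eq_bot]; exact hu
  have hcard : ¬ 2 ∣ Nat.card ↥(Subgroup.zpowers u) := by
    rw [Nat.card_zpowers]; exact hodd
  have h := hhom _ hHne hcard
  apply h
  have hs' : s⁻¹ * u * s = u⁻¹ := by
    have : s * u⁻¹ * s⁻¹ = u := by
      have := congrArg (fun x => x⁻¹) hs
      simpa [mul_assoc] using this
    calc s⁻¹ * u * s = s⁻¹ * (s * u⁻¹ * s⁻¹) * s := by rw [this]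
      _ = u⁻¹ := by group
  have hsN : s ∈ Subgroup.normalizer ((Subgroup.zpowers u : Subgroup G) : Set G) := by
    rw [Subgroup.mem_normalizer_iff]
    intro h
    constructor
    · intro hh
      obtain ⟨k, rfl⟩ := Subgroup.mem_zpowers_iff.mp hh
      rw [← conj_zpow, hs]
      exact zpow_mem (inv_mem (Subgroup.mem_zpowers u)) k
    · intro hh
      obtain ⟨k, hk⟩ := Subgroup.mem_zpowers_iff.mp hh
      have : h = (s⁻¹ * u * s) ^ k := by
        have h2 : (s⁻¹ * u * s) ^ k = s⁻¹ * u ^ k * s := by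
          have := @conj_zpow G _ k s⁻¹ u
          simpa using this
        rw [h2, hk]; group
      rw [this, hs']
      exact zpow_mem (inv_mem (Subgroup.mem_zpowers u)) k
  rw [Subgroup.relIndex, ← Subgroup.normalizerMonoidHom_ker, Subgroup.index_ker]
  set f := (Subgroup.zpowers u).normalizerMonoidHom with hf
  have h1 : f ⟨s, hsN⟩ ≠ 1 := by
    intro h1
    have h2 : (⟨s, hsN⟩ : ↥(Subgroup.normalizer ((Subgroup.zpowers u : Subgroup G) : Set G))) ∈ f.ker := h1
    rw [hf, Subgroup.normalizerMonoidHom_ker, Subgroup.mem_subgroupOf] at h2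
    have h3 := Subgroup.mem_centralizer_iff.mp h2 u (Subgroup.mem_zpowers u)
    simp only at h3
    -- u * s = s * u
    have h4 : u = u⁻¹ := by
      rw [← hs, ← h3]; group
    have h5 : u ^ 2 = 1 := by
      rw [pow_two]; nth_rewrite 1 [h4]; group
    have h6 := orderOf_dvd_of_pow_eq_one h5
    have h7 : orderOf u = 1 ∨ orderOf u = 2 := (Nat.dvd_prime Nat.prime_two).mp h6
    rcases h7 with h7 | h7
    · exact hu (orderOf_eq_one_iff.mp h7)
    · exact hodd (by rw [h7])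
  have h2 : (f ⟨s, hsN⟩) ^ 2 = 1 := by
    rw [← map_pow]
    have h2 : (⟨s, hsN⟩ : ↥(Subgroup.normalizer ((Subgroup.zpowers u : Subgroup G) : Set G))) ^ 2 ∈ f.ker := by
      rw [hf, Subgroup.normalizerMonoidHom_ker, Subgroup.mem_subgroupOf]
      rw [Subgroup.mem_centralizer_iff]
      intro h hh
      obtain ⟨k, rfl⟩ := Subgroup.mem_zpowers_iff.mp hh
      have h3 : s ^ 2 * u = u * s ^ 2 := by
        have : s * u = u⁻¹ * s := by rw [← hs]; group
        have h4 : s * u⁻¹ = u * s := by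
          calc s * u⁻¹ = s * (s⁻¹ * u * s) := by rw [hs']
            _ = u * s := by group
        rw [pow_two, mul_assoc, this, ← mul_assoc, h4, mul_assoc]
      have h4 : Commute (s ^ 2) u := h3
      exact (h4.zpow_right k).eq.symm
    exact h2
  have : Fact (Nat.Prime 2) := ⟨Nat.prime_two⟩
  have h3 : orderOf (f ⟨s, hsN⟩) = 2 := orderOf_eq_prime h2 h1
  have h4 : orderOf (⟨f ⟨s, hsN⟩, ⟨_, rfl⟩⟩ : f.range) = 2 := by
    rw [← h3, ← Subgroup.orderOf_coe]
  rw [← h4]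
  exact orderOf_dvd_natCard _

theorem noInv_key {G : Type*} [Group G] [Finite G] (hE : NoInv G) (D : Subgroup G) [hDn : D.Normal]
    (hD : IsPGroup 2 D) (u s : G) (hodd : ¬ 2 ∣ orderOf u) (hd : (s * u * s⁻¹)⁻¹ * u⁻¹ ∈ D) :
    u = 1 := by
  have hcop : (Nat.card D).Coprime (Nat.card (Subgroup.zpowers u)) := by
    rw [Nat.card_zpowers]
    obtain ⟨n, hn⟩ := IsPGroup.iff_card.mp hD
    rw [hn]
    exact Nat.Coprime.pow_left n ((Nat.Prime.coprime_iff_not_dvd Nat.prime_two).mpr hodd)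
  have hordK : orderOf (s * u * s⁻¹) = orderOf u := by
    have := (MulAut.conj s).orderOf_eq u
    rwa [MulAut.conj_apply] at this
  have hdH : D ⊓ Subgroup.zpowers u = ⊥ := (Subgroup.disjoint_of_coprime_natCard hcop).eq_bot
  have hdK : D ⊓ Subgroup.zpowers (s * u * s⁻¹) = ⊥ := by
    apply Disjoint.eq_bot
    apply Subgroup.disjoint_of_coprime_natCard
    rw [Nat.card_zpowers, hordK, ← Nat.card_zpowers]; exact hcop
  have hsup : D ⊔ Subgroup.zpowers u = D ⊔ Subgroup.zpowers (s * u * s⁻¹) := by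
    apply le_antisymm
    · apply sup_le le_sup_left
      rw [Subgroup.zpowers_le]
      have hx : ((s * u * s⁻¹)⁻¹ * u⁻¹)⁻¹ * (s * u * s⁻¹)⁻¹ ∈ D ⊔ Subgroup.zpowers (s * u * s⁻¹) :=
        mul_mem (Subgroup.mem_sup_left (inv_mem hd))
          (Subgroup.mem_sup_right (inv_mem (Subgroup.mem_zpowers _)))
      have e : ((s * u * s⁻¹)⁻¹ * u⁻¹)⁻¹ * (s * u * s⁻¹)⁻¹ = u := by group
      rwa [e] at hx
    · apply sup_le le_sup_left
      rw [Subgroup.zpowers_le]
      have hx : u⁻¹ * ((s * u * s⁻¹)⁻¹ * u⁻¹)⁻¹ ∈ D ⊔ Subgroup.zpowers u :=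
        mul_mem (Subgroup.mem_sup_right (inv_mem (Subgroup.mem_zpowers _)))
          (Subgroup.mem_sup_left (inv_mem hd))
      have e : u⁻¹ * ((s * u * s⁻¹)⁻¹ * u⁻¹)⁻¹ = s * u * s⁻¹ := by group
      rwa [e] at hx
  have hHN : Subgroup.zpowers u ≤ Subgroup.normalizer (D : Set G) := by
    rw [Subgroup.normalizer_eq_top_iff.mpr hDn]; exact le_top
  have hsolv : Group.IsSolvable (Subgroup.zpowers u) := by
    apply Group.isSolvable_of_comm
    rintro ⟨a, ha⟩ ⟨b, hb⟩
    obtain ⟨i, rfl⟩ := Subgroup.mem_zpowers_iff.mp ha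
    obtain ⟨j, rfl⟩ := Subgroup.mem_zpowers_iff.mp hb
    apply Subtype.ext
    show u ^ i * u ^ j = u ^ j * u ^ i
    rw [← zpow_add, ← zpow_add, add_comm]
  obtain ⟨n, hnD, hn⟩ := Cfsg.Agent.Lib.helper1.sz_conj_internal D (Subgroup.zpowers u)
    (Subgroup.zpowers (s * u * s⁻¹)) hHN hdH hdK hsup hcop (Or.inr hsolv)
  have h1 : n * u * n⁻¹ ∈ Subgroup.zpowers (s * u * s⁻¹) := by
    rw [← hn]; exact Cfsg.Agent.Lib.helper1.conj_mem_conj_smul (Subgroup.mem_zpowers u)
  obtain ⟨j, hj⟩ := Subgroup.mem_zpowers_iff.mp h1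
  rw [conj_zpow] at hj
  have h2 : (s⁻¹ * n) * u * (s⁻¹ * n)⁻¹ = u ^ j := by
    calc (s⁻¹ * n) * u * (s⁻¹ * n)⁻¹ = s⁻¹ * (n * u * n⁻¹) * s := by group
      _ = s⁻¹ * (s * u ^ j * s⁻¹) * s := by rw [hj]
      _ = u ^ j := by group
  have h3 : u ^ j * u ∈ D := by
    rw [← h2]
    have e : (s⁻¹ * n) * u * (s⁻¹ * n)⁻¹ * u
        = (s⁻¹ * (n * (u * n⁻¹ * u⁻¹)) * s⁻¹⁻¹) * (s⁻¹ * ((s * u * s⁻¹)⁻¹ * u⁻¹)⁻¹ * s⁻¹⁻¹) := by
      group
    rw [e]
    exact mul_mem (hDn.conj_mem _ (mul_mem hnD (hDn.conj_mem _ (inv_mem hnD) u)) _)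
      (hDn.conj_mem _ (inv_mem hd) _)
  have h4 : u ^ j * u ∈ D ⊓ Subgroup.zpowers u :=
    ⟨h3, mul_mem (zpow_mem (Subgroup.mem_zpowers u) j) (Subgroup.mem_zpowers u)⟩
  rw [hdH, Subgroup.mem_bot] at h4
  have h5 : u ^ j = u⁻¹ := eq_inv_of_mul_eq_one_left h4
  exact hE u (s⁻¹ * n) hodd (h2.trans h5)

theorem noInv_quotient {G : Type*} [Group G] [Finite G] (hE : NoInv G) (D : Subgroup G) [D.Normal]
    (hD : IsPGroup 2 D) : NoInv (G ⧸ D) := by
  intro ubar sbar hodd hs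
  obtain ⟨u₀, rfl⟩ := QuotientGroup.mk_surjective ubar
  obtain ⟨s, rfl⟩ := QuotientGroup.mk_surjective sbar
  obtain ⟨k, m, hm, hkm⟩ := Nat.exists_eq_two_pow_mul_odd (orderOf_pos u₀).ne'
  have hordu : orderOf (u₀ ^ (2 ^ k)) = m := by
    rw [orderOf_pow_of_dvd (by positivity) (Dvd.intro _ hkm.symm), hkm]
    exact Nat.mul_div_cancel_left m (by positivity)
  have hmodd : ¬ 2 ∣ m := fun h => (Nat.not_even_iff_odd.mpr hm) (even_iff_two_dvd.mpr h)
  have ha : ((s * u₀ ^ (2 ^ k) * s⁻¹ : G) : G ⧸ D) = (((u₀ ^ (2 ^ k))⁻¹ : G) : G ⧸ D) := by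
    simp only [QuotientGroup.mk_mul, QuotientGroup.mk_inv, QuotientGroup.mk_pow]
    rw [← conj_pow, hs, inv_pow]
  have hd : (s * u₀ ^ (2 ^ k) * s⁻¹)⁻¹ * (u₀ ^ (2 ^ k))⁻¹ ∈ D := QuotientGroup.eq.mp ha
  have hu1 : u₀ ^ (2 ^ k) = 1 := noInv_key hE D hD _ s (by rw [hordu]; exact hmodd) hd
  have h1 : ((u₀ : G ⧸ D)) ^ (2 ^ k) = 1 := by
    rw [← QuotientGroup.mk_pow, hu1]; rfl
  have h2 : orderOf (u₀ : G ⧸ D) ∣ 2 ^ k := orderOf_dvd_of_pow_eq_one h1
  have h3 : Nat.Coprime (orderOf (u₀ : G ⧸ D)) (2 ^ k) :=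
    (((Nat.Prime.coprime_iff_not_dvd Nat.prime_two).mpr hodd).pow_left k).symm
  exact orderOf_eq_one_iff.mp (Nat.Coprime.eq_one_of_dvd h3 h2)

theorem exists_involution_of_ne_bot {G : Type*} [Group G] [Finite G] (P : Subgroup G)
    (hP : IsPGroup 2 P) (hne : P ≠ ⊥) : ∃ s ∈ P, s ≠ 1 ∧ s * s = 1 := by
  have : Fact (Nat.Prime 2) := ⟨Nat.prime_two⟩
  obtain ⟨k, hk⟩ := IsPGroup.iff_card.mp hP
  have h1 : 1 < Nat.card P := P.one_lt_card_iff_ne_bot.mpr hne
  have hk0 : k ≠ 0 := by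
    rintro rfl
    rw [pow_zero] at hk
    omega
  have h2 : 2 ∣ Nat.card P := by
    rw [hk]; exact dvd_pow_self 2 hk0
  obtain ⟨x, hx⟩ := exists_prime_orderOf_dvd_card' 2 h2
  refine ⟨(x : G), x.2, ?_, ?_⟩
  · intro h
    have : x = 1 := Subtype.ext h
    rw [this, orderOf_one] at hx
    omega
  · have := pow_orderOf_eq_one x
    rw [hx, pow_two] at this
    exact_mod_cast congrArg Subtype.val this

theorem sylow2_unique_aux (n : ℕ) : ∀ (G : Type u) [Group G] [Finite G], Nat.card G = n → NoInv G →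
    ∀ P Q : Sylow 2 G, P = Q := by
  induction n using Nat.strong_induction_on with
  | _ n ih =>
  intro G _ _ hcard hE
  by_contra hne
  push Not at hne
  obtain ⟨P₀, Q₀, hPQ₀⟩ := hne
  have : Fact (Nat.Prime 2) := ⟨Nat.prime_two⟩
  have hnon : Nonempty {pq : Sylow 2 G × Sylow 2 G // pq.1 ≠ pq.2} := ⟨⟨(P₀, Q₀), hPQ₀⟩⟩
  obtain ⟨⟨⟨P, Q⟩, hPQ⟩, hmax⟩ := Finite.exists_max
    (fun pq : {pq : Sylow 2 G × Sylow 2 G // pq.1 ≠ pq.2} =>
      Nat.card ↥((pq.1.1 : Subgroup G) ⊓ (pq.1.2 : Subgroup G)))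
  simp only at hPQ hmax
  have hS : ∀ (R P' : Sylow 2 G) (T : Subgroup G), T ≤ R → T ≤ P' →
      Nat.card ↥((P : Subgroup G) ⊓ Q) < Nat.card T → R = P' := by
    intro R P' T hTR hTP hlt
    by_contra hRP
    have h1 := hmax ⟨(R, P'), hRP⟩
    have h2 : Nat.card T ≤ Nat.card ↥((R : Subgroup G) ⊓ P') :=
      Subgroup.card_le_of_le (le_inf hTR hTP)
    simp only at h1
    omega
  have hDP : (P : Subgroup G) ⊓ Q ≤ P := inf_le_left
  have hDQ : (P : Subgroup G) ⊓ Q ≤ Q := inf_le_right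
  have hD2 : IsPGroup 2 ↥((P : Subgroup G) ⊓ Q) := P.isPGroup'.to_le hDP
  have hDneP : (P : Subgroup G) ⊓ Q ≠ (P : Subgroup G) := by
    intro h
    have h1 : (P : Subgroup G) ≤ Q := h ▸ hDQ
    exact hPQ (Sylow.ext (P.is_maximal' Q.isPGroup' h1).symm)
  have hDneQ : (P : Subgroup G) ⊓ Q ≠ (Q : Subgroup G) := by
    intro h
    have h1 : (Q : Subgroup G) ≤ P := h ▸ hDP
    exact hPQ (Sylow.ext (Q.is_maximal' P.isPGroup' h1))
  by_cases hDn : ((P : Subgroup G) ⊓ Q).Normal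
  · by_cases hDbot : (P : Subgroup G) ⊓ Q = ⊥
    · -- TI case
      have hcardD : Nat.card ↥((P : Subgroup G) ⊓ Q) = 1 := by rw [hDbot]; exact Subgroup.card_bot
      have hPne : (P : Subgroup G) ≠ ⊥ := by
        intro h; rw [h] at hDneP; simp at hDneP
      have hQne : (Q : Subgroup G) ≠ ⊥ := by
        intro h; rw [h] at hDneQ; simp at hDneQ
      obtain ⟨s, hsP, hs1, hss⟩ := exists_involution_of_ne_bot _ P.isPGroup' hPne
      obtain ⟨t, htQ, ht1, htt⟩ := exists_involution_of_ne_bot _ Q.isPGroup' hQne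
      have hsinv : s⁻¹ = s := inv_eq_of_mul_eq_one_left hss
      have htinv : t⁻¹ = t := inv_eq_of_mul_eq_one_left htt
      have hsw : s * (s * t) * s⁻¹ = (s * t)⁻¹ := by
        rw [mul_inv_rev, hsinv, htinv, ← mul_assoc, hss, one_mul]
      have htw : t * (s * t) * t⁻¹ = (s * t)⁻¹ := by
        rw [mul_inv_rev, hsinv, htinv, mul_assoc, mul_assoc, htt, mul_one]
      by_cases hw : 2 ∣ orderOf (s * t)
      · obtain ⟨m, hm⟩ := hw
        have hpos : 0 < orderOf (s * t) := orderOf_pos _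
        have hz1 : (s * t) ^ m ≠ 1 := pow_ne_one_of_lt_orderOf (by omega) (by omega)
        have hzz : (s * t) ^ m * (s * t) ^ m = 1 := by
          rw [← pow_add, ← two_mul, ← hm, pow_orderOf_eq_one]
        have hzinv : ((s * t) ^ m)⁻¹ = (s * t) ^ m := inv_eq_of_mul_eq_one_left hzz
        have hsz : s * (s * t) ^ m * s⁻¹ = (s * t) ^ m := by
          rw [← conj_pow, hsw, inv_pow, hzinv]
        have htz : t * (s * t) ^ m * t⁻¹ = (s * t) ^ m := by
          rw [← conj_pow, htw, inv_pow, hzinv]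
        have hzP2 : IsPGroup 2 (Subgroup.zpowers ((s * t) ^ m)) := by
          apply IsPGroup.of_card (n := 1)
          rw [Nat.card_zpowers, pow_one]
          exact orderOf_eq_prime (by rw [pow_two]; exact hzz) hz1
        have hzmem : ∀ (P' : Sylow 2 G) (s' : G), s' ∈ P' → s' ≠ 1 → s' * s' = 1 →
            s' * (s * t) ^ m * s'⁻¹ = (s * t) ^ m → (s * t) ^ m ∈ (P' : Subgroup G) := by
          intro P' s' hs'P hs'1 hs's' hs'z
          have h1 : ((s * t) ^ m) • P' = P' := by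
            apply hS _ _ (Subgroup.zpowers s')
            · rw [Subgroup.zpowers_le, Sylow.coe_subgroup_smul, Cfsg.Agent.Lib.helper1.mem_conj_smul]
              have : ((s * t) ^ m)⁻¹ * s' * (s * t) ^ m = s' := by
                have e : s' * (s * t) ^ m = (s * t) ^ m * s' := by
                  calc s' * (s * t) ^ m = (s' * (s * t) ^ m * s'⁻¹) * s' := by group
                    _ = (s * t) ^ m * s' := by rw [hs'z]
                rw [mul_assoc, e, ← mul_assoc, inv_mul_cancel, one_mul]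
              rw [this]; exact hs'P
            · rw [Subgroup.zpowers_le]; exact hs'P
            · rw [hcardD, Nat.card_zpowers]
              have : orderOf s' = 2 := orderOf_eq_prime (by rw [pow_two]; exact hs's') hs'1
              omega
          have h2 := Sylow.smul_eq_iff_mem_normalizer.mp h1
          have h3 := (hzP2.inf_normalizer_sylow P').le ⟨Subgroup.mem_zpowers _, h2⟩
          exact h3.2
        have hzP := hzmem P s hsP hs1 hss hsz
        have hzQ := hzmem Q t htQ ht1 htt htz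
        have : (s * t) ^ m ∈ (P : Subgroup G) ⊓ Q := ⟨hzP, hzQ⟩
        rw [hDbot, Subgroup.mem_bot] at this
        exact hz1 this
      · have h1 := hE (s * t) s hw hsw
        have h2 : t = s⁻¹ := eq_inv_of_mul_eq_one_right h1
        rw [hsinv] at h2
        have : t ∈ (P : Subgroup G) ⊓ Q := ⟨h2 ▸ hsP, htQ⟩
        rw [hDbot, Subgroup.mem_bot] at this
        exact ht1 this
    · -- quotient
      have hlt : Nat.card (G ⧸ ((P : Subgroup G) ⊓ Q)) < n := by
        rw [← hcard]; exact Cfsg.Agent.Lib.helper1.card_quot_lt hDbot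
      have hEq := noInv_quotient hE _ hD2
      have key := ih _ hlt (G ⧸ ((P : Subgroup G) ⊓ Q)) rfl hEq
        (Sylow.mapSurjective (QuotientGroup.mk'_surjective _) P)
        (Sylow.mapSurjective (QuotientGroup.mk'_surjective _) Q)
      have key2 := congrArg (fun S : Sylow 2 (G ⧸ ((P : Subgroup G) ⊓ Q)) =>
        ((S : Subgroup (G ⧸ ((P : Subgroup G) ⊓ Q))).comap (QuotientGroup.mk' _))) key
      simp only [Sylow.coe_mapSurjective] at key2
      rw [Subgroup.comap_map_eq_self (by rw [QuotientGroup.ker_mk']; exact hDP),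
        Subgroup.comap_map_eq_self (by rw [QuotientGroup.ker_mk']; exact hDQ)] at key2
      exact hPQ (Sylow.ext key2)
  · -- normalizer case
    have hNtop : Subgroup.normalizer (((P : Subgroup G) ⊓ Q : Subgroup G) : Set G) ≠ ⊤ :=
      fun h => hDn (Subgroup.normalizer_eq_top_iff.mp h)
    have hlt : Nat.card ↥(Subgroup.normalizer (((P : Subgroup G) ⊓ Q : Subgroup G) : Set G)) < n := by
      rw [← hcard]; exact Cfsg.Agent.Lib.helper1.card_lt_of_ne_top hNtop
    have hEN : NoInv ↥(Subgroup.normalizer (((P : Subgroup G) ⊓ Q : Subgroup G) : Set G)) := by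
      intro u s hodd hs
      have := hE (u : G) (s : G) (by rwa [Subgroup.orderOf_coe])
        (by exact_mod_cast congrArg Subtype.val hs)
      exact Subtype.ext this
    have key := ih _ hlt _ rfl hEN
    have hgrow : ∀ P' : Sylow 2 G, (P : Subgroup G) ⊓ Q ≤ P' → (P : Subgroup G) ⊓ Q ≠ (P' : Subgroup G) →
        Nat.card ↥((P : Subgroup G) ⊓ Q) < Nat.card ↥((P' : Subgroup G) ⊓
          Subgroup.normalizer (((P : Subgroup G) ⊓ Q : Subgroup G) : Set G)) := by
      intro P' hDP' hne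
      have hnil : Group.IsNilpotent (P' : Subgroup G) := P'.isPGroup'.isNilpotent
      have hnc := Group.normalizerCondition_of_isNilpotent (G := (P' : Subgroup G))
      have hlt' : ((P : Subgroup G) ⊓ Q).subgroupOf P' < ⊤ := by
        rw [lt_top_iff_ne_top, Ne, Subgroup.subgroupOf_eq_top]
        intro h; exact hne (le_antisymm hDP' h)
      have h1 := hnc _ hlt'
      rw [← Subgroup.subgroupOf_normalizer_eq hDP'] at h1
      obtain ⟨x, hxN, hxD⟩ := SetLike.exists_of_lt h1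
      by_contra hle
      push Not at hle
      have h2 : (P : Subgroup G) ⊓ Q = (P' : Subgroup G) ⊓
          Subgroup.normalizer (((P : Subgroup G) ⊓ Q : Subgroup G) : Set G) :=
        Subgroup.eq_of_le_of_card_ge (le_inf hDP' Subgroup.le_normalizer) hle
      apply hxD
      rw [Subgroup.mem_subgroupOf, h2]
      exact ⟨x.2, Subgroup.mem_subgroupOf.mp hxN⟩
    obtain ⟨SP, hSP⟩ := (P.isPGroup'.comap_subtype
      (K := Subgroup.normalizer (((P : Subgroup G) ⊓ Q : Subgroup G) : Set G))).exists_le_sylow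
    obtain ⟨SQ, hSQ⟩ := (Q.isPGroup'.comap_subtype
      (K := Subgroup.normalizer (((P : Subgroup G) ⊓ Q : Subgroup G) : Set G))).exists_le_sylow
    have hSS := key SP SQ
    obtain ⟨R, hR⟩ := (SP.isPGroup'.map (Subgroup.subtype _)).exists_le_sylow
    have hPR : (P : Subgroup G) ⊓ Subgroup.normalizer (((P : Subgroup G) ⊓ Q : Subgroup G) : Set G) ≤ R := by
      rintro g ⟨hgP, hgN⟩
      apply hR
      exact ⟨⟨g, hgN⟩, hSP hgP, rfl⟩
    have hQR : (Q : Subgroup G) ⊓ Subgroup.normalizer (((P : Subgroup G) ⊓ Q : Subgroup G) : Set G) ≤ R := by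
      rintro g ⟨hgQ, hgN⟩
      apply hR
      exact ⟨⟨g, hgN⟩, hSS ▸ hSQ hgQ, rfl⟩
    have hRP : R = P := hS R P _ hPR inf_le_left (hgrow P hDP hDneP)
    have hRQ : R = Q := hS R Q _ hQR inf_le_left (hgrow Q hDQ hDneQ)
    exact hPQ (hRP.symm.trans hRQ)

/-- If no nontrivial element of odd order is inverted by conjugation, the Sylow 2-subgroup
is unique. -/
theorem sylow2_unique {G : Type u} [Group G] [Finite G] (hE : NoInv G) (P Q : Sylow 2 G) : P = Q :=
  sylow2_unique_aux _ G rfl hE P Q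

end Cfsg.Agent.Lib.helper71
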