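import Mathlib
import Cfsg.Agent.Lib.helper68.HallPet
import Cfsg.Agent.Lib.helper65.PearlDefs
import Cfsg.Agent.Lib.helper65.PearlBasic

set_option autoImplicit false

namespace Cfsg.Agent.Lib.helper65.PearlPow

open Cfsg.Agent.Lib.helper68

variable {H : Type*} [Group H]

/-- A3 core: Taylor expansion at `p`, with the pieces A1 (`atom_remove`) and A2 (`dl_iter_vanish`)
as hypotheses. -/
theorem helper71_taylor_top_core
    (hA1 : ∀ (v : ℕ) (_ : 1 ≤ v) (s : ℕ → H) (_ : PolySeq v s) (k : ℕ) (_ : 1 ≤ k) (a : H)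
      (_ : a ∈ gam H (k + v)) (j : ℕ) (_ : k + 1 ≤ j),
      Rel (v + j + 1) (dl^[j] s) (dl^[j] (fun n => (a ^ (n.choose k))⁻¹ * s n)))
    (hA2 : ∀ (s : ℕ → H) (p : ℕ) (_ : ∀ i < p, s i = 1), dl^[p] s 0 = s p)
    {w : ℕ} (hw : 1 ≤ w) (p : ℕ) (hp : p.Prime) (hnil : gam H (w + 1 + p) = ⊥)
    (hexp : ∀ y ∈ gam H (w + 2), y ^ p = 1) {s : ℕ → H} (hs : PolySeq w s) (h0 : s 0 = 1) :
    s p = (s 1) ^ p * dl^[p] s 0 := by
  have hp2 : 2 ≤ p := hp.two_le
  have key : ∀ k, 1 ≤ k → k ≤ p - 1 → ∃ r : ℕ → H, PolySeq w r ∧ (∀ i ≤ k, r i = 1) ∧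
      s p = (s 1) ^ p * r p ∧ Rel (w + p + 1) (dl^[p] s) (dl^[p] r) := by
    intro k hk
    induction k, hk using Nat.le_induction with
    | base =>
      intro _
      have ha0 : s 1 ∈ gam H (w + 1) := PolySeq.vanish 1 hs (fun i hi => by
        have hi0 : i = 0 := by omega
        rw [hi0]
        exact h0)
      have ha : s 1 ∈ gam H (1 + w) := by
        rw [add_comm 1 w]
        exact ha0
      refine ⟨fun n => (s 1 ^ (n.choose 1))⁻¹ * s n, ?_, ?_, ?_, ?_⟩
      · exact PolySeq.mul (PolySeq.inv (PolySeq.atom 1 w (s 1) ha)) hs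
      · intro i hi
        interval_cases i
        · show (s 1 ^ (Nat.choose 0 1))⁻¹ * s 0 = 1
          rw [h0]
          simp
        · show (s 1 ^ (Nat.choose 1 1))⁻¹ * s 1 = 1
          simp
      · show s p = s 1 ^ p * ((s 1 ^ (p.choose 1))⁻¹ * s p)
        rw [Nat.choose_one_right, mul_inv_cancel_left]
      · exact hA1 w hw s hs 1 le_rfl (s 1) ha p (by omega)
    | succ k hk ih =>
      intro hkp
      obtain ⟨r, hr, hr1, hrp, hrel⟩ := ih (by omega)
      have ha0 : r (k + 1) ∈ gam H (w + (k + 1)) :=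
        PolySeq.vanish (k + 1) hr (fun i hi => hr1 i (by omega))
      have ha : r (k + 1) ∈ gam H (k + 1 + w) := by
        rw [add_comm (k + 1) w]
        exact ha0
      have hap : r (k + 1) ^ p = 1 := hexp _ (gam_antitone (by omega) ha0)
      have hdvd : p ∣ p.choose (k + 1) := Nat.Prime.dvd_choose_self hp (by omega) (by omega)
      have hpow : r (k + 1) ^ (p.choose (k + 1)) = 1 := by
        obtain ⟨c, hc⟩ := hdvd
        rw [hc, pow_mul, hap, one_pow]
      refine ⟨fun n => (r (k + 1) ^ (n.choose (k + 1)))⁻¹ * r n, ?_, ?_, ?_, ?_⟩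
      · exact PolySeq.mul (PolySeq.inv (PolySeq.atom (k + 1) w (r (k + 1)) ha)) hr
      · intro i hi
        show (r (k + 1) ^ (i.choose (k + 1)))⁻¹ * r i = 1
        rcases Nat.lt_or_ge i (k + 1) with h | h
        · rw [Nat.choose_eq_zero_of_lt h, hr1 i (by omega)]
          simp
        · have hik : i = k + 1 := by omega
          rw [hik, Nat.choose_self]
          simp
      · show s p = s 1 ^ p * ((r (k + 1) ^ (p.choose (k + 1)))⁻¹ * r p)
        rw [hpow, inv_one, one_mul]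
        exact hrp
      · exact rel_trans hrel (hA1 w hw r hr (k + 1) (by omega) (r (k + 1)) ha p (by omega))
  obtain ⟨r, hr, hr1, hrp, hrel⟩ := key (p - 1) (by omega) le_rfl
  have h1 : dl^[p] r 0 = r p := hA2 r p (fun i hi => hr1 i (by omega))
  have hrel' : PolySeq (w + p + 1) (fun n => (dl^[p] s n)⁻¹ * dl^[p] r n) := hrel
  have h2 : (dl^[p] s 0)⁻¹ * dl^[p] r 0 ∈ gam H (w + p + 1) := PolySeq.mem hrel' 0
  have h3 : gam H (w + p + 1) = ⊥ := by
    have h5 : w + p + 1 = w + 1 + p := by ring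
    rw [h5]
    exact hnil
  rw [h3, Subgroup.mem_bot] at h2
  have h4 : dl^[p] s 0 = dl^[p] r 0 := inv_mul_eq_one.mp h2
  rw [h4, h1]
  exact hrp

end Cfsg.Agent.Lib.helper65.PearlPow

#print axioms Cfsg.Agent.Lib.helper65.PearlPow.helper71_taylor_top_core
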