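import Mathlib
import Cfsg.Agent.Lib.helper68.HallPet
import Cfsg.Agent.Lib.helper65.PearlDefs
import Cfsg.Agent.Lib.helper65.PearlBasic
import Cfsg.Agent.Lib.helper71.PearlA3

set_option autoImplicit false

namespace Cfsg.Agent.Lib.helper65.PearlPow

open Cfsg.Agent.Lib.helper68

variable {H : Type*} [Group H]

/-- A2 (verbatim statement, prefixed name). -/
theorem helper71_dl_iter_vanish (s : ℕ → H) (p : ℕ) (hs : ∀ i < p, s i = 1) : dl^[p] s 0 = s p := by
  have key : ∀ j, j ≤ p → (∀ i, i + j < p → dl^[j] s i = 1) ∧ dl^[j] s (p - j) = s p := by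
    intro j
    induction j with
    | zero =>
      intro _
      exact ⟨fun i hi => hs i (by omega), rfl⟩
    | succ j ih =>
      intro hj
      obtain ⟨h1, h2⟩ := ih (by omega)
      rw [Function.iterate_succ_apply']
      refine ⟨fun i hi => ?_, ?_⟩
      · show (dl^[j] s i)⁻¹ * dl^[j] s (i + 1) = 1
        rw [h1 i (by omega), h1 (i + 1) (by omega)]
        simp
      · show (dl^[j] s (p - (j + 1)))⁻¹ * dl^[j] s (p - (j + 1) + 1) = s p
        have e : p - (j + 1) + 1 = p - j := by omega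
        rw [e, h2, h1 (p - (j + 1)) (by omega)]
        simp
  have h := (key p le_rfl).2
  rwa [Nat.sub_self] at h

/-- A3 with A2 discharged: only A1 (`atom_remove`) is left as a hypothesis. -/
theorem helper71_taylor_top_of_atom_remove
    (hA1 : ∀ (v : ℕ) (_ : 1 ≤ v) (s : ℕ → H) (_ : PolySeq v s) (k : ℕ) (_ : 1 ≤ k) (a : H)
      (_ : a ∈ gam H (k + v)) (j : ℕ) (_ : k + 1 ≤ j),
      Rel (v + j + 1) (dl^[j] s) (dl^[j] (fun n => (a ^ (n.choose k))⁻¹ * s n)))
    {w : ℕ} (hw : 1 ≤ w) (p : ℕ) (hp : p.Prime) (hnil : gam H (w + 1 + p) = ⊥)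
    (hexp : ∀ y ∈ gam H (w + 2), y ^ p = 1) {s : ℕ → H} (hs : PolySeq w s) (h0 : s 0 = 1) :
    s p = (s 1) ^ p * dl^[p] s 0 :=
  helper71_taylor_top_core hA1 (fun s p hs => helper71_dl_iter_vanish s p hs) hw p hp hnil hexp hs h0

end Cfsg.Agent.Lib.helper65.PearlPow

#print axioms Cfsg.Agent.Lib.helper65.PearlPow.helper71_taylor_top_of_atom_remove
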