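import Mathlib
import Cfsg.Agent.Lib.helper68.HallPet
import Cfsg.Agent.Lib.helper65.PearlDefs
import Cfsg.Agent.Lib.helper65.PearlBasic
import Cfsg.Agent.Lib.helper71.PearlA2

set_option autoImplicit false

namespace Cfsg.Agent.Lib.helper65.PearlPow

open Cfsg.Agent.Lib.helper68

variable {H : Type*} [Group H]

/-- D1 (verbatim statement, prefixed name). -/
theorem helper71_rel_dl {u v : ℕ} {s s' : ℕ → H} (hs : PolySeq v s) (h : Rel u s s') :
    Rel (u + 1) (dl s) (dl s') := by
  unfold Rel at h ⊢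
  have e : (fun n => (dl s n)⁻¹ * dl s' n) = fun n => com (dl s n) ((s n)⁻¹ * s' n) *
      (((s n)⁻¹ * s' n)⁻¹ * ((s (n + 1))⁻¹ * s' (n + 1))) := by
    funext n
    unfold dl com
    group
  rw [e]
  have h1 : PolySeq (v + 1 + u) (fun n => com (dl s n) ((s n)⁻¹ * s' n)) :=
    PolySeq.comm (PolySeq.diff hs) h
  have h2 : PolySeq (u + 1) (fun n => ((s n)⁻¹ * s' n)⁻¹ * ((s (n + 1))⁻¹ * s' (n + 1))) :=
    PolySeq.diff h
  exact PolySeq.mul (PolySeq.mono (by omega) h1) h2

/-- A1 (verbatim statement, prefixed name). -/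
theorem helper71_atom_remove {v : ℕ} (hv : 1 ≤ v) {s : ℕ → H} (hs : PolySeq v s) (k : ℕ) (hk : 1 ≤ k)
    (a : H) (ha : a ∈ gam H (k + v)) (j : ℕ) (hj : k + 1 ≤ j) :
    Rel (v + j + 1) (dl^[j] s) (dl^[j] (fun n => (a ^ (n.choose k))⁻¹ * s n)) := by
  obtain ⟨s', hs'⟩ : ∃ s' : ℕ → H, s' = fun n => (a ^ (n.choose k))⁻¹ * s n := ⟨_, rfl⟩
  rw [← hs']
  have C : ∀ i, i ≤ k → Rel (v + i + 1) (fun n => (a ^ (n.choose (k - i)))⁻¹ * dl^[i] s n)
      (dl^[i] s') := by
    intro i
    induction i with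
    | zero =>
      intro _
      apply rel_of_eq
      rw [hs']
      rfl
    | succ i ih =>
      intro hi
      have ih' := ih (by omega)
      have hr : PolySeq (v + i) (dl^[i] s) := polyseq_dl_iter hs i
      obtain ⟨m, hm⟩ : ∃ m, k - i = m + 1 := ⟨k - i - 1, by omega⟩
      have hm' : k - (i + 1) = m := by omega
      rw [hm] at ih'
      rw [hm']
      have hAm : PolySeq (v + i + 1) (fun n => a ^ (n.choose m)) :=
        PolySeq.atom m (v + i + 1) a (by
          have h5 : m + (v + i + 1) = k + v := by omega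
          rw [h5]
          exact ha)
      have hAm1 : PolySeq 0 (fun n => (a ^ (n.choose (m + 1)))⁻¹ * dl^[i] s n) :=
        PolySeq.mul (PolySeq.inv (PolySeq.atom (m + 1) 0 a (gam_antitone (by omega) ha)))
          (PolySeq.mono (Nat.zero_le _) hr)
      have h1 : Rel (v + i + 1 + 1) (dl (fun n => (a ^ (n.choose (m + 1)))⁻¹ * dl^[i] s n))
          (dl (dl^[i] s')) := helper71_rel_dl hAm1 ih'
      have h2 : Rel (v + i + 1 + 1) (fun n => (a ^ (n.choose m))⁻¹ * dl^[i + 1] s n)
          (dl (fun n => (a ^ (n.choose (m + 1)))⁻¹ * dl^[i] s n)) := by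
        unfold Rel
        have e : (fun n => ((a ^ (n.choose m))⁻¹ * dl^[i + 1] s n)⁻¹ *
            dl (fun n => (a ^ (n.choose (m + 1)))⁻¹ * dl^[i] s n) n)
            = fun n => (dl (dl^[i] s) n)⁻¹ * com ((a ^ (n.choose m))⁻¹) (dl^[i] s n) *
              dl (dl^[i] s) n := by
          funext n
          rw [Function.iterate_succ_apply']
          show ((a ^ (n.choose m))⁻¹ * ((dl^[i] s n)⁻¹ * dl^[i] s (n + 1)))⁻¹ *
              (((a ^ (n.choose (m + 1)))⁻¹ * dl^[i] s n)⁻¹ *
                ((a ^ ((n + 1).choose (m + 1)))⁻¹ * dl^[i] s (n + 1)))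
            = ((dl^[i] s n)⁻¹ * dl^[i] s (n + 1))⁻¹ * com ((a ^ (n.choose m))⁻¹) (dl^[i] s n) *
              ((dl^[i] s n)⁻¹ * dl^[i] s (n + 1))
          rw [Nat.choose_succ_succ', pow_add]
          generalize dl^[i] s n = X
          generalize dl^[i] s (n + 1) = Y
          generalize a ^ (n.choose m) = P
          generalize a ^ (n.choose (m + 1)) = Q
          unfold com
          group
        rw [e]
        have h3 : PolySeq (v + i + 1 + (v + i)) (fun n => com ((a ^ (n.choose m))⁻¹) (dl^[i] s n)) :=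
          PolySeq.comm (PolySeq.inv hAm) hr
        exact polyseq_conj (PolySeq.mono (by omega) h3) (PolySeq.diff hr)
      rw [Function.iterate_succ_apply' dl i s']
      exact rel_trans h2 h1
  have Ck := C k le_rfl
  have hconst : (fun n => (a ^ (n.choose (k - k)))⁻¹ * dl^[k] s n) = fun n => a⁻¹ * dl^[k] s n := by
    funext n
    rw [Nat.sub_self, Nat.choose_zero_right, pow_one]
  rw [hconst] at Ck
  have hrk : PolySeq (v + k) (dl^[k] s) := polyseq_dl_iter hs k
  have hP0 : PolySeq 0 (fun n => a⁻¹ * dl^[k] s n) :=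
    PolySeq.mul (PolySeq.inv (polyseq_const (gam_antitone (Nat.zero_le _) ha)))
      (PolySeq.mono (Nat.zero_le _) hrk)
  have h1 := helper71_rel_dl hP0 Ck
  have e2 : dl (fun n => a⁻¹ * dl^[k] s n) = dl (dl^[k] s) := by
    funext n
    show (a⁻¹ * dl^[k] s n)⁻¹ * (a⁻¹ * dl^[k] s (n + 1)) = (dl^[k] s n)⁻¹ * dl^[k] s (n + 1)
    group
  rw [e2] at h1
  have base : Rel (v + (k + 1) + 1) (dl^[k + 1] s) (dl^[k + 1] s') := by
    rw [Function.iterate_succ_apply', Function.iterate_succ_apply']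
    exact h1
  induction j, hj using Nat.le_induction with
  | base => exact base
  | succ j hj ih =>
    rw [Function.iterate_succ_apply', Function.iterate_succ_apply']
    exact helper71_rel_dl (polyseq_dl_iter hs j) ih

/-- A3 (verbatim statement, prefixed name). -/
theorem helper71_taylor_top {w : ℕ} (hw : 1 ≤ w) (p : ℕ) (hp : p.Prime) (hnil : gam H (w + 1 + p) = ⊥)
    (hexp : ∀ y ∈ gam H (w + 2), y ^ p = 1) {s : ℕ → H} (hs : PolySeq w s) (h0 : s 0 = 1) :
    s p = (s 1) ^ p * dl^[p] s 0 :=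
  helper71_taylor_top_of_atom_remove
    (fun _ hv _ hs k hk a ha j hj => helper71_atom_remove hv hs k hk a ha j hj) hw p hp hnil hexp hs h0

end Cfsg.Agent.Lib.helper65.PearlPow

#print axioms Cfsg.Agent.Lib.helper65.PearlPow.helper71_taylor_top
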