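import Mathlib
import Cfsg.Agent.Lib.helper71.MinNonAbelian

set_option autoImplicit false

namespace Cfsg.Agent.Lib.helper71

open scoped commutatorElement

/-- In a perfect finite group, a central element lying in a Sylow subgroup `P` lies in the
derived subgroup of `P` (transfer into `P / P'`). -/
theorem center_mem_commutator_sylow {G : Type*} [Group G] [Finite G] (hperf : commutator G = ⊤)
    {p : ℕ} [Fact p.Prime] (P : Sylow p G) (z : G) (hzc : z ∈ Subgroup.center G)
    (hzP : z ∈ (P : Subgroup G)) :
    (⟨z, hzP⟩ : (P : Subgroup G)) ∈ commutator (P : Subgroup G) := by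
  have key : ∀ (k : ℕ) (g₀ : G), g₀⁻¹ * z ^ k * g₀ ∈ (P : Subgroup G) →
      g₀⁻¹ * z ^ k * g₀ = z ^ k := by
    intro k g₀ _
    have h := Subgroup.mem_center_iff.mp (pow_mem hzc k) g₀
    rw [mul_assoc, ← h, inv_mul_cancel_left]
  have h1 := MonoidHom.transfer_eq_pow
    (Abelianization.of : (P : Subgroup G) →* Abelianization (P : Subgroup G)) z key
  have h2 : MonoidHom.transfer
      (Abelianization.of : (P : Subgroup G) →* Abelianization (P : Subgroup G)) z = 1 := by
    have : z ∈ (MonoidHom.transfer
        (Abelianization.of : (P : Subgroup G) →* Abelianization (P : Subgroup G))).ker :=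
      Abelianization.commutator_subset_ker _ (hperf ▸ Subgroup.mem_top z)
    exact this
  rw [h2] at h1
  have h3 : (⟨z, hzP⟩ : (P : Subgroup G)) ^ (P : Subgroup G).index
      ∈ commutator (P : Subgroup G) := by
    rw [← Abelianization.ker_of, MonoidHom.mem_ker]
    exact h1.symm
  obtain ⟨k, hk⟩ := P.isPGroup' ⟨z, hzP⟩
  have h4 : (⟨z, hzP⟩ : (P : Subgroup G)) ^ (p ^ k) ∈ commutator (P : Subgroup G) := by
    rw [hk]; exact one_mem _
  have hcop : IsCoprime (((P : Subgroup G).index : ℕ) : ℤ) ((p ^ k : ℕ) : ℤ) := by
    rw [Nat.isCoprime_iff_coprime]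
    apply Nat.Coprime.pow_right
    exact (Nat.Coprime.symm ((Nat.Prime.coprime_iff_not_dvd Fact.out).mpr P.not_dvd_index))
  exact mem_of_zpow_mem_of_isCoprime hcop (by rw [zpow_natCast]; exact h3)
    (by rw [zpow_natCast]; exact h4)

/-- Burnside's transfer theorem for perfect groups: a Sylow subgroup with `N(P) ≤ C(P)` in a
perfect finite group is trivial. -/
theorem sylow_eq_bot_of_perfect {S : Type*} [Group S] [Finite S] (hperf : commutator S = ⊤)
    {p : ℕ} [Fact p.Prime] (P : Sylow p S)
    (hP : Subgroup.normalizer ((P : Subgroup S) : Set S)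
      ≤ Subgroup.centralizer ((P : Subgroup S) : Set S)) :
    (P : Subgroup S) = ⊥ := by
  have hc := MonoidHom.ker_transferSylow_isComplement' P hP
  have hker : (MonoidHom.transferSylow P hP).ker = ⊤ := by
    rw [eq_top_iff, ← hperf, commutator_def, Subgroup.commutator_le]
    intro x _ y _
    rw [MonoidHom.mem_ker, map_commutatorElement, commutatorElement_eq_one_iff_mul_comm]
    apply Subtype.ext
    exact hP (Subgroup.le_normalizer (Subtype.property _)) _ (Subtype.property _)
  rw [hker] at hc
  exact Subgroup.isComplement'_top_left.mp hc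

/-- A quotient of a perfect group is perfect. -/
theorem commutator_quotient_eq_top {G : Type*} [Group G] (hperf : commutator G = ⊤)
    (N : Subgroup G) [N.Normal] : commutator (G ⧸ N) = ⊤ := by
  have h := Subgroup.map_commutator (⊤ : Subgroup G) ⊤ (QuotientGroup.mk' N)
  rw [Subgroup.map_top_of_surjective _ (QuotientGroup.mk'_surjective N), ← commutator_def,
    ← commutator_def, hperf, Subgroup.map_top_of_surjective _ (QuotientGroup.mk'_surjective N)] at h
  exact h.symm

end Cfsg.Agent.Lib.helper71
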