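import Mathlib
import Cfsg.Agent.Lib.helper1.SZ
import Cfsg.Agent.Lib.helper71.MinNonAbelian

set_option autoImplicit false

namespace Cfsg.Agent.Lib.helper71

open Pointwise

/-- The `π`-elements of `G` form a subgroup. -/
def PiElts (π : Set ℕ) (G : Type*) [Group G] : Prop :=
  ∃ L : Subgroup G, ∀ x : G, x ∈ L ↔ ∀ p : ℕ, p.Prime → p ∣ orderOf x → p ∈ π

/-- `π`-elements normalizing a `q`-subgroup (`q ∉ π`) centralize it. -/
def EP (π : Set ℕ) (G : Type*) [Group G] : Prop :=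
  ∀ q : ℕ, q.Prime → q ∉ π → ∀ T : Subgroup G, IsPGroup q T →
    ∀ x ∈ Subgroup.normalizer (T : Set G), (∀ p : ℕ, p.Prime → p ∣ orderOf x → p ∈ π) →
      x ∈ Subgroup.centralizer (T : Set G)

theorem ep_of_hhom {G : Type*} [Group G] [Finite G] (π : Set ℕ)
    (hhom : ∀ H : Subgroup G, H ≠ ⊥ → (∀ p : ℕ, p.Prime → p ∣ Nat.card ↥H → p ∉ π) →
        ∀ p : ℕ, p.Prime → p ∣ (Subgroup.centralizer (H : Set G)).relIndex
          (Subgroup.normalizer (H : Set G)) → p ∉ π) :
    EP π G := by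
  intro q hq hqπ T hT x hxN hxπ
  have : Fact q.Prime := ⟨hq⟩
  by_cases hTbot : T = ⊥
  · subst hTbot
    rw [Subgroup.mem_centralizer_iff]
    intro h hh
    rw [SetLike.mem_coe, Subgroup.mem_bot] at hh
    subst hh; simp
  have hTπ : ∀ p : ℕ, p.Prime → p ∣ Nat.card ↥T → p ∉ π := by
    intro p hp hpd
    obtain ⟨n, hn⟩ := IsPGroup.iff_card.mp hT
    rw [hn] at hpd
    have := (Nat.prime_dvd_prime_iff_eq hp hq).mp (hp.dvd_of_dvd_pow hpd)
    rw [this]; exact hqπ
  have h := hhom T hTbot hTπ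
  rw [Subgroup.relIndex, ← Subgroup.normalizerMonoidHom_ker, Subgroup.index_ker] at h
  have h1 : orderOf (T.normalizerMonoidHom ⟨x, hxN⟩) ∣ orderOf x := by
    have := orderOf_map_dvd T.normalizerMonoidHom (⟨x, hxN⟩ : Subgroup.normalizer (T : Set G))
    rwa [Subgroup.orderOf_mk] at this
  have h2 : orderOf (T.normalizerMonoidHom ⟨x, hxN⟩) ∣ Nat.card T.normalizerMonoidHom.range := by
    have : orderOf (⟨T.normalizerMonoidHom ⟨x, hxN⟩, ⟨_, rfl⟩⟩ : T.normalizerMonoidHom.range)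
        = orderOf (T.normalizerMonoidHom ⟨x, hxN⟩) := by rw [← Subgroup.orderOf_coe]
    rw [← this]; exact orderOf_dvd_natCard _
  have h3 : orderOf (T.normalizerMonoidHom ⟨x, hxN⟩) = 1 := by
    by_contra hne
    obtain ⟨p, hp, hpd⟩ := Nat.exists_prime_and_dvd hne
    exact h p hp (hpd.trans h2) (hxπ p hp (hpd.trans h1))
  have h4 : (⟨x, hxN⟩ : Subgroup.normalizer (T : Set G)) ∈ T.normalizerMonoidHom.ker :=
    orderOf_eq_one_iff.mp h3
  rw [Subgroup.normalizerMonoidHom_ker, Subgroup.mem_subgroupOf] at h4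
  exact h4

theorem ep_subgroup {G : Type*} [Group G] (π : Set ℕ) (hE : EP π G) (A : Subgroup G) :
    EP π ↥A := by
  intro q hq hqπ T hT x hxN hxπ
  have h := hE q hq hqπ (T.map A.subtype) (hT.map _) (x : G) ?_ ?_
  · rw [Subgroup.mem_centralizer_iff] at h ⊢
    intro t ht
    have := h (t : G) (Subgroup.mem_map_of_mem _ ht)
    exact Subtype.ext this
  · rw [Subgroup.mem_normalizer_iff]
    intro g
    constructor
    · rintro ⟨t, ht, rfl⟩
      exact ⟨x * t * x⁻¹, (Subgroup.mem_normalizer_iff.mp hxN t).mp ht, rfl⟩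
    · rintro ⟨t, ht, hteq⟩
      refine ⟨x⁻¹ * t * x, ?_, ?_⟩
      · apply (Subgroup.mem_normalizer_iff.mp hxN (x⁻¹ * t * x)).mpr
        have e : x * (x⁻¹ * t * x) * x⁻¹ = t := by group
        rw [e]; exact ht
      · have hteq' : (t : G) = (x : G) * g * (x : G)⁻¹ := hteq
        show (x : G)⁻¹ * (t : G) * (x : G) = g
        rw [hteq']; group
  · intro p hp hpd
    exact hxπ p hp (by rwa [Subgroup.orderOf_coe] at hpd)

theorem piElts_of_mulEquiv {G G' : Type*} [Group G] [Group G'] (π : Set ℕ) (e : G ≃* G')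
    (h : PiElts π G) : PiElts π G' := by
  obtain ⟨L, hL⟩ := h
  refine ⟨L.comap e.symm.toMonoidHom, fun x => ?_⟩
  rw [Subgroup.mem_comap]
  have := hL (e.symm x)
  rw [e.symm.orderOf_eq] at this
  exact this

/-- If `L` is a normal subgroup all of whose elements are `π`-elements and `x L` is a
`π`-element of `G ⧸ L`, then `x` is a `π`-element. -/
theorem pi_lift {G : Type*} [Group G] [Finite G] (π : Set ℕ) (L : Subgroup G) [L.Normal]
    (hLπ : ∀ x ∈ L, ∀ p : ℕ, p.Prime → p ∣ orderOf x → p ∈ π) (x : G)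
    (hx : ∀ p : ℕ, p.Prime → p ∣ orderOf (x : G ⧸ L) → p ∈ π) :
    ∀ p : ℕ, p.Prime → p ∣ orderOf x → p ∈ π := by
  intro p hp hpd
  have h1 : x ^ orderOf (x : G ⧸ L) ∈ L := by
    rw [← QuotientGroup.eq_one_iff, QuotientGroup.mk_pow, pow_orderOf_eq_one]
  have h2 : x ^ (orderOf (x : G ⧸ L) * orderOf (x ^ orderOf (x : G ⧸ L))) = 1 := by
    rw [pow_mul, pow_orderOf_eq_one]
  have h3 := orderOf_dvd_of_pow_eq_one h2
  rcases (hp.dvd_mul).mp (hpd.trans h3) with h | h
  · exact hx p hp h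
  · exact hLπ _ h1 p hp h

theorem ep_quotient {G : Type*} [Group G] [Finite G] (π : Set ℕ) (hE : EP π G) (L : Subgroup G)
    [hL : L.Normal] (hLπ : ∀ x ∈ L, ∀ p : ℕ, p.Prime → p ∣ orderOf x → p ∈ π) :
    EP π (G ⧸ L) := by
  intro q hq hqπ T hT xbar hxN hxπ
  have : Fact q.Prime := ⟨hq⟩
  obtain ⟨x, rfl⟩ := QuotientGroup.mk_surjective xbar
  obtain ⟨Q⟩ : Nonempty (Sylow q (T.comap (QuotientGroup.mk' L))) := inferInstance
  have hLT₁ : L ≤ T.comap (QuotientGroup.mk' L) := by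
    intro l hl
    rw [Subgroup.mem_comap]
    have : (QuotientGroup.mk' L) l = 1 := (QuotientGroup.eq_one_iff l).mpr hl
    rw [this]; exact one_mem _
  obtain ⟨T₀, hT₀⟩ : ∃ T₀ : Subgroup G,
      T₀ = (Q : Subgroup (T.comap (QuotientGroup.mk' L))).map (Subgroup.subtype _) := ⟨_, rfl⟩
  have hT₀q : IsPGroup q T₀ := hT₀ ▸ Q.isPGroup'.map _
  have hT₀T₁ : T₀ ≤ T.comap (QuotientGroup.mk' L) := by
    rw [hT₀]
    rintro _ ⟨k, _, rfl⟩; exact k.2
  have hsup : L ⊔ T₀ = T.comap (QuotientGroup.mk' L) := by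
    apply le_antisymm (sup_le hLT₁ hT₀T₁)
    intro t ht
    have hf := MonoidHom.subgroupComap_surjective_of_surjective (QuotientGroup.mk' L) T
      (QuotientGroup.mk'_surjective L)
    have hQ' : ((Sylow.mapSurjective hf Q : Sylow q T) : Subgroup T) = ⊤ :=
      ((Sylow.mapSurjective hf Q).is_maximal' (Q := ⊤) (hT.to_subgroup _) le_top).symm
    rw [Sylow.coe_mapSurjective] at hQ'
    have hmem : ((QuotientGroup.mk' L).subgroupComap T) ⟨t, ht⟩
        ∈ (Q : Subgroup _).map ((QuotientGroup.mk' L).subgroupComap T) := by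
      rw [hQ']; trivial
    obtain ⟨k, hk, hkeq⟩ := hmem
    have hkeq' : ((k : G) : G ⧸ L) = (t : G ⧸ L) := congrArg Subtype.val hkeq
    have h1 : (k : G)⁻¹ * t ∈ L := QuotientGroup.eq.mp hkeq'
    have h2 : (k : G) * ((k : G)⁻¹ * t) = t := by group
    rw [← h2]
    exact mul_mem (Subgroup.mem_sup_right (hT₀ ▸ ⟨k, hk, rfl⟩)) (Subgroup.mem_sup_left h1)
  have hqL : ¬ q ∣ Nat.card L := by
    intro hd
    obtain ⟨l, hl⟩ := exists_prime_orderOf_dvd_card' q hd
    exact hqπ (hLπ (l : G) l.2 q hq (by rw [Subgroup.orderOf_coe, hl]))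
  have hcop : (Nat.card L).Coprime (Nat.card T₀) := by
    obtain ⟨n, hn⟩ := IsPGroup.iff_card.mp hT₀q
    rw [hn]
    exact Nat.Coprime.pow_right n ((Nat.Prime.coprime_iff_not_dvd hq).mpr hqL).symm
  have hxT₁ : x ∈ Subgroup.normalizer ((T.comap (QuotientGroup.mk' L) : Subgroup G) : Set G) := by
    rw [← Subgroup.comap_normalizer_eq_of_surjective _ (QuotientGroup.mk'_surjective L)]
    exact hxN
  have hLtop : Subgroup.normalizer (L : Set G) = ⊤ := Subgroup.normalizer_eq_top_iff.mpr hL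
  have hsup2 : L ⊔ T₀ = L ⊔ MulAut.conj x • T₀ := by
    have h1 : MulAut.conj x • (L ⊔ T₀) = L ⊔ T₀ := by
      rw [hsup]; exact Cfsg.Agent.Lib.helper1.conj_smul_eq_of_mem_normalizer hxT₁
    have h2 : MulAut.conj x • L = L :=
      Cfsg.Agent.Lib.helper1.conj_smul_eq_of_mem_normalizer (by rw [hLtop]; trivial)
    rw [Subgroup.smul_sup, h2] at h1
    exact h1.symm
  have hnil : Group.IsNilpotent T₀ := hT₀q.isNilpotent
  have hsolv : Group.IsSolvable T₀ := inferInstance
  obtain ⟨l, hlL, hl⟩ := Cfsg.Agent.Lib.helper1.sz_conj_internal L T₀ (MulAut.conj x • T₀)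
    (by rw [hLtop]; exact le_top)
    (Subgroup.disjoint_of_coprime_natCard hcop).eq_bot
    (Subgroup.disjoint_of_coprime_natCard
      (by rw [Cfsg.Agent.Lib.helper1.card_conj_smul]; exact hcop)).eq_bot
    hsup2 hcop (Or.inr hsolv)
  have hy : l⁻¹ * x ∈ Subgroup.normalizer (T₀ : Set G) := by
    apply Cfsg.Agent.Lib.helper1.mem_normalizer_of_conj_smul_eq
    rw [map_mul, mul_smul, ← hl, ← mul_smul, ← map_mul, inv_mul_cancel, map_one, one_smul]
  have hyπ : ∀ p : ℕ, p.Prime → p ∣ orderOf (l⁻¹ * x) → p ∈ π := by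
    apply pi_lift π L hLπ
    have : ((l⁻¹ * x : G) : G ⧸ L) = (x : G ⧸ L) := by
      rw [QuotientGroup.mk_mul, QuotientGroup.mk_inv, (QuotientGroup.eq_one_iff l).mpr hlL,
        inv_one, one_mul]
    rw [this]; exact hxπ
  have hyc := hE q hq hqπ T₀ hT₀q _ hy hyπ
  rw [Subgroup.mem_centralizer_iff]
  intro tbar htbar
  obtain ⟨t, rfl⟩ := QuotientGroup.mk_surjective tbar
  have ht : t ∈ T.comap (QuotientGroup.mk' L) := htbar
  rw [← hsup] at ht
  obtain ⟨l', hl', t₀, ht₀, rfl⟩ := Subgroup.mem_sup_of_normal_left.mp ht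
  have h1 := Subgroup.mem_centralizer_iff.mp hyc t₀ ht₀
  have h2 := congrArg (fun g : G => (g : G ⧸ L)) h1
  simp only [QuotientGroup.mk_mul, QuotientGroup.mk_inv, (QuotientGroup.eq_one_iff l).mpr hlL,
    inv_one, one_mul] at h2
  rw [QuotientGroup.mk_mul, (QuotientGroup.eq_one_iff l').mpr hl', one_mul]
  exact h2

theorem core_centralize_ppow {G : Type*} [Group G] [Finite G] (π : Set ℕ) (hE : EP π G)
    (K : Subgroup G) [hKn : K.Normal]
    (hK : ∀ k ∈ K, ∀ p : ℕ, p.Prime → p ∣ orderOf k → p ∉ π)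
    (p : ℕ) (hp : p.Prime) (hpπ : p ∈ π) (x : G) (a : ℕ) (hx : orderOf x = p ^ a) :
    x ∈ Subgroup.centralizer (K : Set G) := by
  have : Fact p.Prime := ⟨hp⟩
  have hpK : ¬ p ∣ Nat.card K := by
    intro hd
    obtain ⟨k, hk⟩ := exists_prime_orderOf_dvd_card' p hd
    exact hK (k : G) k.2 p hp (by rw [Subgroup.orderOf_coe, hk]) hpπ
  suffices hsuff : (Subgroup.centralizer ({x} : Set G)).subgroupOf K = ⊤ by
    rw [Subgroup.mem_centralizer_iff]
    intro k hk
    have : (⟨k, hk⟩ : K) ∈ (Subgroup.centralizer ({x} : Set G)).subgroupOf K := by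
      rw [hsuff]; trivial
    rw [Subgroup.mem_subgroupOf, Subgroup.mem_centralizer_iff] at this
    exact (this x rfl).symm
  apply Subgroup.eq_top_of_card_eq
  apply Nat.dvd_antisymm (Subgroup.card_subgroup_dvd_card _)
  rw [Nat.dvd_iff_prime_pow_dvd_dvd]
  intro q k hq hqk
  by_cases hk0 : k = 0
  · subst hk0; simp
  have : Fact q.Prime := ⟨hq⟩
  have hqK : q ∣ Nat.card K := (dvd_pow_self q hk0).trans hqk
  have hqπ : q ∉ π := by
    obtain ⟨k', hk'⟩ := exists_prime_orderOf_dvd_card' q hqK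
    exact hK (k' : G) k'.2 q hq (by rw [Subgroup.orderOf_coe, hk'])
  have hA : IsPGroup p (Subgroup.zpowers (ConjAct.toConjAct x)) := by
    apply IsPGroup.of_card (n := a)
    rw [Nat.card_zpowers, ← hx]
    exact (ConjAct.toConjAct (G := G)).orderOf_eq x
  have hcard : ¬ p ∣ Nat.card (Sylow q K) := by
    intro hd
    obtain ⟨Q₀⟩ : Nonempty (Sylow q K) := inferInstance
    exact hpK ((hd.trans (Sylow.card_dvd_index Q₀)).trans (Subgroup.index_dvd_card _))
  obtain ⟨Q, hQ⟩ := hA.nonempty_fixed_point_of_prime_not_dvd_card (Sylow q K) hcard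
  rw [MulAction.mem_fixedPoints] at hQ
  have hQx : (ConjAct.toConjAct x) • Q = Q := hQ ⟨_, Subgroup.mem_zpowers _⟩
  have hQx' : (ConjAct.toConjAct x)⁻¹ • Q = Q := inv_smul_eq_iff.mpr hQx.symm
  have hT : IsPGroup q ((Q : Subgroup K).map K.subtype) := Q.isPGroup'.map _
  have hmem1 : ∀ g : ConjAct G, g • Q = Q → ∀ k : K, k ∈ Q → g • k ∈ Q := by
    intro g hg k hk
    have := Subgroup.smul_mem_pointwise_smul k g (Q : Subgroup K) hk
    rw [← Sylow.pointwise_smul_def, hg] at this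
    exact this
  have hxN : x ∈ Subgroup.normalizer (((Q : Subgroup K).map K.subtype : Subgroup G) : Set G) := by
    rw [Subgroup.mem_normalizer_iff]
    intro g
    constructor
    · rintro ⟨k, hk, rfl⟩
      refine ⟨ConjAct.toConjAct x • k, hmem1 _ hQx k hk, ?_⟩
      show ((ConjAct.toConjAct x • k : K) : G) = x * (k : G) * x⁻¹
      rw [ConjAct.Subgroup.val_conj_smul, ConjAct.toConjAct_smul]
    · rintro ⟨k, hk, hkeq⟩
      refine ⟨(ConjAct.toConjAct x)⁻¹ • k, hmem1 _ hQx' k hk, ?_⟩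
      have hkeq' : (k : G) = x * g * x⁻¹ := hkeq
      show (((ConjAct.toConjAct x)⁻¹ • k : K) : G) = g
      rw [ConjAct.Subgroup.val_conj_smul, ← map_inv, ConjAct.toConjAct_smul, hkeq']
      group
  have hxπ : ∀ r : ℕ, r.Prime → r ∣ orderOf x → r ∈ π := by
    intro r hr hrd
    rw [hx] at hrd
    have := (Nat.prime_dvd_prime_iff_eq hr hp).mp (hr.dvd_of_dvd_pow hrd)
    rw [this]; exact hpπ
  have hxc := hE q hq hqπ _ hT x hxN hxπ
  have hle : (Q : Subgroup K) ≤ (Subgroup.centralizer ({x} : Set G)).subgroupOf K := by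
    intro k hk
    rw [Subgroup.mem_subgroupOf, Subgroup.mem_centralizer_iff]
    intro y hy
    rw [Set.mem_singleton_iff] at hy; subst hy
    exact (Subgroup.mem_centralizer_iff.mp hxc (k : G) ⟨k, hk, rfl⟩).symm
  exact (Q.pow_dvd_card_of_pow_dvd_card hqk).trans (Subgroup.card_dvd_of_le hle)

theorem core_centralize {G : Type*} [Group G] [Finite G] (π : Set ℕ) (hE : EP π G)
    (K : Subgroup G) [hKn : K.Normal]
    (hK : ∀ k ∈ K, ∀ p : ℕ, p.Prime → p ∣ orderOf k → p ∉ π) :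
    ∀ (n : ℕ) (x : G), orderOf x = n → (∀ p : ℕ, p.Prime → p ∣ orderOf x → p ∈ π) →
      x ∈ Subgroup.centralizer (K : Set G) := by
  intro n
  induction n using Nat.strong_induction_on with
  | _ n ih =>
  intro x hxn hxπ
  by_cases hn1 : n = 1
  · have : x = 1 := orderOf_eq_one_iff.mp (hxn.trans hn1)
    rw [this]; exact one_mem _
  obtain ⟨p, hp, hpn⟩ := Nat.exists_prime_and_dvd hn1
  have hn0 : n ≠ 0 := by rw [← hxn]; exact (orderOf_pos x).ne'
  have hpπ : p ∈ π := hxπ p hp (hxn ▸ hpn)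
  have hm := Nat.ordProj_mul_ordCompl_eq_self n p
  have hcop : p.Coprime (n / p ^ n.factorization p) := Nat.coprime_ordCompl hp hn0
  by_cases hm2 : n / p ^ n.factorization p = 1
  · rw [hm2, mul_one] at hm
    exact core_centralize_ppow π hE K hK p hp hpπ x (n.factorization p) (hxn.trans hm.symm)
  · have hf1 : 0 < n.factorization p := hp.factorization_pos_of_dvd hn0 hpn
    have hm1 : 1 < p ^ n.factorization p := Nat.one_lt_pow (by omega) hp.one_lt
    have hm2pos : 0 < n / p ^ n.factorization p := by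
      rcases Nat.eq_zero_or_pos (n / p ^ n.factorization p) with h | h
      · rw [h, mul_zero] at hm; exact absurd hm.symm hn0
      · exact h
    have hm2' : 1 < n / p ^ n.factorization p := by omega
    have h1 : orderOf (x ^ (p ^ n.factorization p)) = n / p ^ n.factorization p := by
      rw [orderOf_pow_of_dvd (by positivity) (by rw [hxn]; exact Dvd.intro _ hm), hxn]
    have h2 : orderOf (x ^ (n / p ^ n.factorization p)) = p ^ n.factorization p := by
      rw [orderOf_pow_of_dvd (by omega) (by rw [hxn]; exact Dvd.intro_left _ hm), hxn]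
      exact Nat.div_eq_of_eq_mul_left hm2pos hm.symm
    have hlt1 : n / p ^ n.factorization p < n := Nat.div_lt_self (by omega) hm1
    have hlt2 : p ^ n.factorization p < n := by
      calc p ^ n.factorization p = p ^ n.factorization p * 1 := (mul_one _).symm
        _ < p ^ n.factorization p * (n / p ^ n.factorization p) :=
            Nat.mul_lt_mul_of_pos_left hm2' (by omega)
        _ = n := hm
    have hπ1 : ∀ r : ℕ, r.Prime → r ∣ orderOf (x ^ (p ^ n.factorization p)) → r ∈ π :=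
      fun r hr hrd => hxπ r hr (hrd.trans (orderOf_pow_dvd _))
    have hπ2 : ∀ r : ℕ, r.Prime → r ∣ orderOf (x ^ (n / p ^ n.factorization p)) → r ∈ π :=
      fun r hr hrd => hxπ r hr (hrd.trans (orderOf_pow_dvd _))
    have c1 := ih _ hlt1 _ h1 hπ1
    have c2 := ih _ hlt2 _ h2 hπ2
    have hcop' : IsCoprime ((p ^ n.factorization p : ℕ) : ℤ)
        ((n / p ^ n.factorization p : ℕ) : ℤ) := by
      rw [Nat.isCoprime_iff_coprime]
      exact Nat.Coprime.pow_left _ hcop
    exact mem_of_zpow_mem_of_isCoprime hcop' (by rw [zpow_natCast]; exact c1)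
      (by rw [zpow_natCast]; exact c2)

/-- Core case: `K` a normal `π'`-subgroup with `G/K` a `π`-group. -/
theorem core {G : Type*} [Group G] [Finite G] (π : Set ℕ) (hE : EP π G)
    (K : Subgroup G) [hKn : K.Normal]
    (hK : ∀ k ∈ K, ∀ p : ℕ, p.Prime → p ∣ orderOf k → p ∉ π)
    (hGK : ∀ x : G, ∃ n : ℕ, n ≠ 0 ∧ (∀ p : ℕ, p.Prime → p ∣ n → p ∈ π) ∧ x ^ n ∈ K) :
    PiElts π G := by
  have hidx : ∀ p : ℕ, p.Prime → p ∣ K.index → p ∈ π := by
    intro p hp hpd
    have : Fact p.Prime := ⟨hp⟩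
    rw [Subgroup.index_eq_card] at hpd
    obtain ⟨y, hy⟩ := exists_prime_orderOf_dvd_card' p hpd
    obtain ⟨y, rfl⟩ := QuotientGroup.mk_surjective y
    obtain ⟨n, hn0, hnπ, hyn⟩ := hGK y
    have : (y : G ⧸ K) ^ n = 1 := by
      rw [← QuotientGroup.mk_pow]; exact (QuotientGroup.eq_one_iff _).mpr hyn
    have := orderOf_dvd_of_pow_eq_one this
    rw [hy] at this
    exact hnπ p hp this
  have hcardK : ∀ p : ℕ, p.Prime → p ∣ Nat.card K → p ∉ π := by
    intro p hp hpd
    have : Fact p.Prime := ⟨hp⟩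
    obtain ⟨k, hk⟩ := exists_prime_orderOf_dvd_card' p hpd
    exact hK (k : G) k.2 p hp (by rw [Subgroup.orderOf_coe, hk])
  have hcop : (Nat.card K).Coprime K.index := by
    by_contra h
    obtain ⟨p, hp, h1, h2⟩ := Nat.Prime.not_coprime_iff_dvd.mp h
    exact hcardK p hp h1 (hidx p hp h2)
  obtain ⟨H, hH⟩ := Subgroup.exists_right_complement'_of_coprime hcop
  have hHcard : K.index = Nat.card H := hH.symm.index_eq_card
  have hHπ : ∀ h ∈ H, ∀ p : ℕ, p.Prime → p ∣ orderOf h → p ∈ π := by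
    intro h hh p hp hpd
    apply hidx p hp
    rw [hHcard]
    have : orderOf (⟨h, hh⟩ : H) ∣ Nat.card H := orderOf_dvd_natCard _
    rw [Subgroup.orderOf_mk] at this
    exact hpd.trans this
  have hcent := core_centralize π hE K hK
  refine ⟨H, fun x => ⟨fun hx => hHπ x hx, fun hx => ?_⟩⟩
  have hxtop : x ∈ K ⊔ H := by rw [hH.sup_eq_top]; trivial
  obtain ⟨k, hk, h, hh, rfl⟩ := Subgroup.mem_sup_of_normal_left.mp hxtop
  have hhc := hcent _ h rfl (hHπ h hh)
  have hkh : Commute k h := (Subgroup.mem_centralizer_iff.mp hhc k hk)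
  have h1 : (k * h) ^ Nat.card H = k ^ Nat.card H := by
    rw [hkh.mul_pow]
    have : h ^ Nat.card H = 1 := by
      have := pow_card_eq_one' (G := H) (x := ⟨h, hh⟩)
      exact congrArg Subtype.val this
    rw [this, mul_one]
  have h2 : k ^ Nat.card H = 1 := by
    rw [← orderOf_eq_one_iff]
    by_contra hne
    obtain ⟨p, hp, hpd⟩ := Nat.exists_prime_and_dvd hne
    have hp1 : p ∈ π := hx p hp (by rw [← h1] at hpd; exact hpd.trans (orderOf_pow_dvd _))
    exact hK _ (pow_mem hk _) p hp hpd hp1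
  have h3 : orderOf k ∣ Nat.card H := orderOf_dvd_of_pow_eq_one h2
  have h4 : orderOf k ∣ Nat.card K := by
    have : orderOf (⟨k, hk⟩ : K) ∣ Nat.card K := orderOf_dvd_natCard _
    rwa [Subgroup.orderOf_mk] at this
  have h5 : orderOf k = 1 := by
    have := Nat.dvd_gcd h4 h3
    rw [← hHcard, hcop.gcd_eq_one] at this
    exact Nat.dvd_one.mp this
  rw [orderOf_eq_one_iff.mp h5, one_mul]
  exact hh

/-- `K` a normal `π'`-subgroup such that the `π`-elements of `G ⧸ K` form a subgroup. -/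
theorem corePlus {G : Type*} [Group G] [Finite G] (π : Set ℕ) (hE : EP π G)
    (K : Subgroup G) [hKn : K.Normal]
    (hK : ∀ k ∈ K, ∀ p : ℕ, p.Prime → p ∣ orderOf k → p ∉ π)
    (hQ : PiElts π (G ⧸ K)) : PiElts π G := by
  obtain ⟨LQ, hLQ⟩ := hQ
  have hcore : PiElts π ↥(LQ.comap (QuotientGroup.mk' K)) := by
    refine core π (ep_subgroup π hE _) (K.subgroupOf (LQ.comap (QuotientGroup.mk' K))) ?_ ?_
    · intro k hk p hp hpd
      rw [Subgroup.mem_subgroupOf] at hk
      exact hK (k : G) hk p hp (by rwa [Subgroup.orderOf_coe])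
    · intro x
      refine ⟨orderOf ((x : G) : G ⧸ K), (orderOf_pos _).ne', ?_, ?_⟩
      · exact (hLQ _).mp x.2
      · rw [Subgroup.mem_subgroupOf, Subgroup.coe_pow, ← QuotientGroup.eq_one_iff,
          QuotientGroup.mk_pow, pow_orderOf_eq_one]
  obtain ⟨H', hH'⟩ := hcore
  refine ⟨H'.map (Subgroup.subtype _), fun x => ⟨?_, fun hx => ?_⟩⟩
  · rintro ⟨m, hm, rfl⟩
    have := (hH' m).mp hm
    intro p hp hpd
    exact this p hp (by rwa [Subgroup.coe_subtype, Subgroup.orderOf_coe] at hpd)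
  · have hxM : x ∈ LQ.comap (QuotientGroup.mk' K) := by
      rw [Subgroup.mem_comap, hLQ]
      intro p hp hpd
      exact hx p hp (hpd.trans (orderOf_map_dvd _ x))
    refine ⟨⟨x, hxM⟩, (hH' _).mpr ?_, rfl⟩
    intro p hp hpd
    rw [Subgroup.orderOf_mk] at hpd
    exact hx p hp hpd

/-- If the `π`-elements of a normal subgroup `K` and of `G ⧸ K` form subgroups, and `π`-elements
normalizing a `π'`-subgroup of prime power order centralize it, then the `π`-elements of `G`
form a subgroup. -/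
theorem piElts_main {G : Type*} [Group G] [Finite G] (π : Set ℕ) (hE : EP π G)
    (K : Subgroup G) [hKn : K.Normal] (hK : PiElts π ↥K) (hQ : PiElts π (G ⧸ K)) :
    PiElts π G := by
  obtain ⟨LK, hLK⟩ := hK
  have hLn : (LK.map K.subtype).Normal := by
    constructor
    rintro _ ⟨k, hk, rfl⟩ g
    have hgk : g * (k : G) * g⁻¹ ∈ K := hKn.conj_mem _ k.2 g
    refine ⟨⟨g * (k : G) * g⁻¹, hgk⟩, (hLK _).mpr ?_, rfl⟩
    rw [Subgroup.orderOf_mk]
    have h1 : orderOf (g * (k : G) * g⁻¹) = orderOf (k : G) := by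
      have := (MulAut.conj g).orderOf_eq (k : G)
      rwa [MulAut.conj_apply] at this
    rw [h1, Subgroup.orderOf_coe]
    exact (hLK k).mp hk
  have hLπ : ∀ x ∈ LK.map K.subtype, ∀ p : ℕ, p.Prime → p ∣ orderOf x → p ∈ π := by
    rintro _ ⟨k, hk, rfl⟩ p hp hpd
    exact (hLK k).mp hk p hp (by rwa [Subgroup.coe_subtype, Subgroup.orderOf_coe] at hpd)
  have hLK' : LK.map K.subtype ≤ K := by
    rintro _ ⟨k, _, rfl⟩; exact k.2
  have hEq := ep_quotient π hE (LK.map K.subtype) hLπ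
  have hLKn : LK.Normal := by
    constructor
    intro n hn g
    rw [hLK] at hn ⊢
    have h1 : orderOf (g * n * g⁻¹) = orderOf n := by
      have := (MulAut.conj g).orderOf_eq n
      rwa [MulAut.conj_apply] at this
    rw [h1]; exact hn
  have hidx : ∀ p : ℕ, p.Prime → p ∣ LK.index → p ∉ π := by
    intro p hp hpd hpπ
    have : Fact p.Prime := ⟨hp⟩
    obtain ⟨P⟩ : Nonempty (Sylow p K) := inferInstance
    have hPle : (P : Subgroup K) ≤ LK := by
      intro k hk
      rw [hLK]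
      intro r hr hrd
      obtain ⟨j, hj⟩ := (IsPGroup.iff_orderOf.mp P.isPGroup') ⟨k, hk⟩
      rw [Subgroup.orderOf_mk] at hj
      rw [hj] at hrd
      have := (Nat.prime_dvd_prime_iff_eq hr hp).mp (hr.dvd_of_dvd_pow hrd)
      rw [this]; exact hpπ
    exact P.not_dvd_index (hpd.trans (Subgroup.index_dvd_of_le hPle))
  have hKbar : ∀ k ∈ K.map (QuotientGroup.mk' (LK.map K.subtype)),
      ∀ p : ℕ, p.Prime → p ∣ orderOf k → p ∉ π := by
    rintro _ ⟨k, hk, rfl⟩ p hp hpd
    apply hidx p hp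
    have h1 : (⟨k, hk⟩ : K) ^ LK.index ∈ LK := Subgroup.pow_index_mem LK _
    have h2 : ((QuotientGroup.mk' (LK.map K.subtype)) k) ^ LK.index = 1 := by
      rw [← map_pow]
      exact (QuotientGroup.eq_one_iff _).mpr ⟨_, h1, rfl⟩
    exact hpd.trans (orderOf_dvd_of_pow_eq_one h2)
  have hKbarn : (K.map (QuotientGroup.mk' (LK.map K.subtype))).Normal :=
    hKn.map _ (QuotientGroup.mk'_surjective _)
  have hQ' : PiElts π ((G ⧸ LK.map K.subtype) ⧸ K.map (QuotientGroup.mk' (LK.map K.subtype))) :=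
    piElts_of_mulEquiv π
      (QuotientGroup.quotientQuotientEquivQuotient (LK.map K.subtype) K hLK').symm hQ
  obtain ⟨Hbar, hHbar⟩ := corePlus π hEq _ hKbar hQ'
  refine ⟨Hbar.comap (QuotientGroup.mk' (LK.map K.subtype)), fun x => ?_⟩
  rw [Subgroup.mem_comap, hHbar]
  constructor
  · intro h
    exact pi_lift π (LK.map K.subtype) hLπ x h
  · intro h p hp hpd
    exact h p hp (hpd.trans (orderOf_map_dvd _ x))

end Cfsg.Agent.Lib.helper71
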