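import Mathlib

set_option autoImplicit false

namespace Cfsg.Agent.Lib.helper2

open Matrix

/-- The `F`-linear map of `ι → F` induced by a `K'`-matrix through the coordinates `Φ`. -/
def helper71_emb_lin {F : Type*} [Field F] {ι : Type} [Fintype ι] [DecidableEq ι]
    (δ : F) (κ : Matrix ι ι F)
    (d : ℕ) (Φ : (Fin d → QuadraticAlgebra F δ 0) ≃+ (ι → F))
    (hΦ : ∀ (z : QuadraticAlgebra F δ 0) (k : Fin d → QuadraticAlgebra F δ 0),
        Φ (z • k) = z.re • Φ k + z.im • (κ *ᵥ Φ k))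
    (M : Matrix (Fin d) (Fin d) (QuadraticAlgebra F δ 0)) : (ι → F) →ₗ[F] (ι → F) where
  toFun v := Φ (M *ᵥ Φ.symm v)
  map_add' v w := by
    rw [map_add, Matrix.mulVec_add, map_add]
  map_smul' a v := by
    have h1 : Φ.symm (a • v) = (⟨a, 0⟩ : QuadraticAlgebra F δ 0) • Φ.symm v := by
      apply Φ.injective
      rw [hΦ]
      simp only [AddEquiv.apply_symm_apply]
      simp
    simp only [RingHom.id_apply]
    rw [h1, Matrix.mulVec_smul, hΦ]
    simp

/-- The multiplicative map on matrices. -/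
def helper71_emb_mat {F : Type*} [Field F] {ι : Type} [Fintype ι] [DecidableEq ι]
    (δ : F) (κ : Matrix ι ι F)
    (d : ℕ) (Φ : (Fin d → QuadraticAlgebra F δ 0) ≃+ (ι → F))
    (hΦ : ∀ (z : QuadraticAlgebra F δ 0) (k : Fin d → QuadraticAlgebra F δ 0),
        Φ (z • k) = z.re • Φ k + z.im • (κ *ᵥ Φ k)) :
    Matrix (Fin d) (Fin d) (QuadraticAlgebra F δ 0) →* Matrix ι ι F where
  toFun M := LinearMap.toMatrix' (helper71_emb_lin δ κ d Φ hΦ M)
  map_one' := by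
    have h : helper71_emb_lin δ κ d Φ hΦ 1 = LinearMap.id := by
      apply LinearMap.ext
      intro v
      show Φ ((1 : Matrix (Fin d) (Fin d) (QuadraticAlgebra F δ 0)) *ᵥ Φ.symm v) = v
      rw [Matrix.one_mulVec, AddEquiv.apply_symm_apply]
    rw [h, LinearMap.toMatrix'_id]
  map_mul' M N := by
    have h : helper71_emb_lin δ κ d Φ hΦ (M * N)
        = (helper71_emb_lin δ κ d Φ hΦ M).comp (helper71_emb_lin δ κ d Φ hΦ N) := by
      apply LinearMap.ext
      intro v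
      show Φ ((M * N) *ᵥ Φ.symm v) = Φ (M *ᵥ Φ.symm (Φ (N *ᵥ Φ.symm v)))
      rw [AddEquiv.symm_apply_apply, Matrix.mulVec_mulVec]
    rw [h, LinearMap.toMatrix'_comp]

theorem helper71_emb_mat_mulVec {F : Type*} [Field F] {ι : Type} [Fintype ι] [DecidableEq ι]
    (δ : F) (κ : Matrix ι ι F)
    (d : ℕ) (Φ : (Fin d → QuadraticAlgebra F δ 0) ≃+ (ι → F))
    (hΦ : ∀ (z : QuadraticAlgebra F δ 0) (k : Fin d → QuadraticAlgebra F δ 0),
        Φ (z • k) = z.re • Φ k + z.im • (κ *ᵥ Φ k))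
    (M : Matrix (Fin d) (Fin d) (QuadraticAlgebra F δ 0)) (k : Fin d → QuadraticAlgebra F δ 0) :
    (helper71_emb_mat δ κ d Φ hΦ M) *ᵥ Φ k = Φ (M *ᵥ k) := by
  show (LinearMap.toMatrix' (helper71_emb_lin δ κ d Φ hΦ M)) *ᵥ Φ k = _
  rw [← Matrix.toLin'_apply, Matrix.toLin'_toMatrix']
  show Φ (M *ᵥ Φ.symm (Φ k)) = _
  rw [AddEquiv.symm_apply_apply]

/-- EMB1 (verbatim statement, prefixed name). -/
theorem helper71_qfc_hom {F : Type*} [Field F] {ι : Type} [Fintype ι] [DecidableEq ι]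
    (δ : F) [Fact (∀ r : F, r ^ 2 ≠ δ + 0 * r)] (κ : Matrix ι ι F)
    (d : ℕ) (Φ : (Fin d → QuadraticAlgebra F δ 0) ≃+ (ι → F))
    (hΦ : ∀ (z : QuadraticAlgebra F δ 0) (k : Fin d → QuadraticAlgebra F δ 0),
        Φ (z • k) = z.re • Φ k + z.im • (κ *ᵥ Φ k)) :
    ∃ φ : GL (Fin d) (QuadraticAlgebra F δ 0) →* GL ι F, Function.Injective φ ∧
      ∀ (T : GL (Fin d) (QuadraticAlgebra F δ 0)) (k : Fin d → QuadraticAlgebra F δ 0),
        (φ T : Matrix ι ι F) *ᵥ Φ k =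
          Φ ((T : Matrix (Fin d) (Fin d) (QuadraticAlgebra F δ 0)) *ᵥ k) := by
  refine ⟨Units.map (helper71_emb_mat δ κ d Φ hΦ), ?_, ?_⟩
  · intro T T' h
    have h1 : helper71_emb_mat δ κ d Φ hΦ (T : Matrix (Fin d) (Fin d) (QuadraticAlgebra F δ 0))
        = helper71_emb_mat δ κ d Φ hΦ (T' : Matrix (Fin d) (Fin d) (QuadraticAlgebra F δ 0)) := by
      have h0 := congrArg (fun u : GL ι F => (u : Matrix ι ι F)) h
      simpa using h0
    apply Units.ext
    apply Matrix.toLin'.injective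
    apply LinearMap.ext
    intro k
    rw [Matrix.toLin'_apply, Matrix.toLin'_apply]
    apply Φ.injective
    rw [← helper71_emb_mat_mulVec δ κ d Φ hΦ, ← helper71_emb_mat_mulVec δ κ d Φ hΦ, h1]
  · intro T k
    exact helper71_emb_mat_mulVec δ κ d Φ hΦ T k

end Cfsg.Agent.Lib.helper2

#print axioms Cfsg.Agent.Lib.helper2.helper71_qfc_hom
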