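import Mathlib

/-!
S2111 piece F2 (`field_pt`), verbatim statement under the prefixed name `helper71_field_pt`
(pure Mathlib): a point `x ≠ 0, 1` of the field of order `2 ^ (2 m + 1)`, `m ≥ 2`, at which
`((x + 1) (x + 1) ^ e)⁻¹ + (x x ^ e)⁻¹ + 1 ≠ 0`, `e = 2 ^ (m + 1)`.

Proof: otherwise the nonzero polynomial
`X ^ (e + 1) + (X + 1) ^ (e + 1) + X ^ (e + 1) * (X + 1) ^ (e + 1)` of degree `≤ 2 e + 2`
would have at least `q - 2 > 2 e + 2` roots.
-/

set_option autoImplicit false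

namespace Cfsg.Agent.Lib.helper71.S2111

open Polynomial

/-- PIECE F2. -/
theorem helper71_field_pt {F : Type*} [Field F] [Fintype F] {m : ℕ} (hm : 2 ≤ m)
    (hF : Fintype.card F = 2 ^ (2 * m + 1)) :
    ∃ x : F, x ≠ 0 ∧ x + 1 ≠ 0 ∧
      ((x + 1) * (x + 1) ^ 2 ^ (m + 1))⁻¹ + (x * x ^ 2 ^ (m + 1))⁻¹ + 1 ≠ 0 := by
  classical
  by_contra hcon
  push Not at hcon
  obtain ⟨e, he⟩ : ∃ e : ℕ, e = 2 ^ (m + 1) := ⟨_, rfl⟩
  rw [← he] at hcon
  obtain ⟨P, hPdef⟩ : ∃ P : F[X],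
      P = X ^ (e + 1) + (X + 1) ^ (e + 1) + X ^ (e + 1) * (X + 1) ^ (e + 1) := ⟨_, rfl⟩
  have hP0 : P.eval 0 = 1 := by
    rw [hPdef]
    simp
  have hPne : P ≠ 0 := by
    intro h
    rw [h] at hP0
    simp at hP0
  have hdeg : P.natDegree ≤ 2 * e + 2 := by
    rw [hPdef]
    have h1 : (X ^ (e + 1) : F[X]).natDegree ≤ e + 1 := natDegree_X_pow_le _
    have h2 : ((X + 1 : F[X]) ^ (e + 1)).natDegree ≤ e + 1 := by
      refine (natDegree_pow_le).trans ?_
      have : (X + 1 : F[X]).natDegree ≤ 1 := by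
        have := natDegree_X_add_C (1 : F)
        rw [map_one] at this
        rw [this]
      calc (e + 1) * (X + 1 : F[X]).natDegree ≤ (e + 1) * 1 := Nat.mul_le_mul_left _ this
        _ = e + 1 := mul_one _
    have h3 : ((X ^ (e + 1) : F[X]) * (X + 1) ^ (e + 1)).natDegree ≤ 2 * e + 2 := by
      refine (natDegree_mul_le).trans ?_
      omega
    refine natDegree_add_le_of_degree_le (natDegree_add_le_of_degree_le ?_ ?_) h3
    · omega
    · omega
  have hroot : ∀ x : F, x ≠ 0 → x + 1 ≠ 0 → P.IsRoot x := by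
    intro x hx0 hx1
    have h := hcon x hx0 hx1
    obtain ⟨A, hA⟩ : ∃ A : F, A = (x + 1) * (x + 1) ^ e := ⟨_, rfl⟩
    obtain ⟨B, hB⟩ : ∃ B : F, B = x * x ^ e := ⟨_, rfl⟩
    have hA0 : A ≠ 0 := by rw [hA]; exact mul_ne_zero hx1 (pow_ne_zero _ hx1)
    have hB0 : B ≠ 0 := by rw [hB]; exact mul_ne_zero hx0 (pow_ne_zero _ hx0)
    rw [← hA, ← hB] at h
    have key : B + A + B * A = 0 := by
      have h1 : B + A + B * A = (A⁻¹ + B⁻¹ + 1) * (A * B) := by
        field_simp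
      rw [h1, h, zero_mul]
    rw [IsRoot, hPdef]
    simp only [eval_add, eval_mul, eval_pow, eval_X, eval_one]
    rw [pow_succ' x e, pow_succ' (x + 1) e, ← hA, ← hB]
    exact key
  -- counting
  have hsub : (Finset.univ \ {0, -1} : Finset F) ⊆ P.roots.toFinset := by
    intro x hx
    rw [Finset.mem_sdiff, Finset.mem_insert, Finset.mem_singleton] at hx
    rw [Multiset.mem_toFinset, mem_roots hPne]
    refine hroot x (fun h => hx.2 (Or.inl h)) (fun h => hx.2 (Or.inr ?_))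
    exact eq_neg_of_add_eq_zero_left h
  have h1 : (Finset.univ : Finset F).card ≤
      (Finset.univ \ {0, -1} : Finset F).card + ({0, -1} : Finset F).card :=
    Finset.card_le_card_sdiff_add_card
  have h2 : ({0, -1} : Finset F).card ≤ 2 := Finset.card_le_two
  have h3 : (Finset.univ \ {0, -1} : Finset F).card ≤ 2 * e + 2 :=
    (Finset.card_le_card hsub).trans
      ((Multiset.toFinset_card_le _).trans ((card_roots' P).trans hdeg))
  rw [Finset.card_univ, hF] at h1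
  have h4 : 2 ^ (2 * m + 1) = e * 2 ^ m := by
    rw [he, ← pow_add]
    congr 1
    omega
  have h5 : 4 ≤ 2 ^ m := by
    calc 4 = 2 ^ 2 := by norm_num
      _ ≤ 2 ^ m := Nat.pow_le_pow_right (by norm_num) hm
  have h6 : 8 ≤ e := by
    rw [he]
    calc 8 = 2 ^ 3 := by norm_num
      _ ≤ 2 ^ (m + 1) := Nat.pow_le_pow_right (by norm_num) (by omega)
  have h7 : e * 4 ≤ e * 2 ^ m := Nat.mul_le_mul_left e h5
  omega

end Cfsg.Agent.Lib.helper71.S2111
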