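import Mathlib
import Cfsg.Prelude.Def_Classical
import Cfsg.Agent.Lib.helper92.S3664Defs

/-!
S3664 piece X7: the explicit torus element `x7` of `Sz(8)` has order 7 and its non-identity powers
have trace outside the prime field.
-/

set_option autoImplicit false

namespace Cfsg.Agent.Lib.helper71.S3664

open Cfsg.Agent.Lib.helper92.S3664 Cfsg.Agent.Lib.helper17 Cfsg.Agent.Lib.helper8

/-- the unit `h2` of `K` -/
def h71u : Kˣ := Units.mk0 H8.h2 (by decide)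

theorem h71_x7_eq : x7 = gD hS h71u := rfl

theorem h71_u_pow : h71u ^ 7 = 1 := Units.ext (by decide)

theorem h71_x7_pow7 : x7 ^ 7 = 1 := by
  rw [h71_x7_eq, ← map_pow, h71_u_pow, map_one]

theorem h71_matS_gD (v : Kˣ) : matS (gD hS v) = matD 1 (v : K) := rfl

theorem h71_trS_gD (v : Kˣ) :
    trS (gD hS v) = (v : K) * th 1 (v : K) + (v : K) + (v : K)⁻¹ + ((v : K) * th 1 (v : K))⁻¹ := by
  unfold trS
  rw [h71_matS_gD]
  simp [Matrix.trace, Fin.sum_univ_four, matD]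

theorem h71_tr_dec : ∀ z : K, z ≠ 0 → z ≠ 1 →
    (z * z ^ 4 + z + z⁻¹ + (z * z ^ 4)⁻¹ ≠ 0 ∧ z * z ^ 4 + z + z⁻¹ + (z * z ^ 4)⁻¹ ≠ 1) := by
  decide

theorem h71_th (z : K) : th 1 z = z ^ 4 := by
  unfold th
  norm_num

theorem h71_x7_ne_one : x7 ≠ 1 := by
  intro h
  have h2 := congrArg (fun u : S => matS u 1 1) h
  simp only [x7_mat, matS_one] at h2
  revert h2
  simp [matD]

theorem orderOf_x7 : orderOf x7 = 7 := by
  have : Fact (Nat.Prime 7) := ⟨by norm_num⟩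
  exact orderOf_eq_prime h71_x7_pow7 h71_x7_ne_one

theorem h71_u_pow_ne (r : ℕ) (h0 : 0 < r) (h7 : r < 7) : ((h71u ^ r : Kˣ) : K) ≠ 1 := by
  interval_cases r <;> simp only [Units.val_pow_eq_pow_val, h71u, Units.val_mk0] <;> decide

theorem trace_x7_pow (j : ℕ) : x7 ^ j = 1 ∨ (trS (x7 ^ j) ≠ 0 ∧ trS (x7 ^ j) ≠ 1) := by
  have hmod : x7 ^ j = x7 ^ (j % 7) := by
    rw [← orderOf_x7, pow_mod_orderOf]
  rw [hmod]
  have hlt : j % 7 < 7 := Nat.mod_lt _ (by norm_num)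
  rcases Nat.eq_zero_or_pos (j % 7) with h0 | h0
  · left
    rw [h0, pow_zero]
  · right
    rw [h71_x7_eq, ← map_pow, h71_trS_gD, h71_th]
    exact h71_tr_dec _ (Units.ne_zero _) (h71_u_pow_ne _ h0 hlt)

end Cfsg.Agent.Lib.helper71.S3664
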