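import Mathlib
import Cfsg.Prelude.Def_Classical
import Cfsg.Agent.Lib.helper92.S3664Defs
import Cfsg.Agent.Lib.helper71.S3664X7

/-!
S3664 piece FIX: explicit nonzero fixed points on `A = M₄(F₈)` of elements of order 3, 5, 7 of
`G = Sz(8) : 3`.
-/

set_option autoImplicit false

namespace Cfsg.Agent.Lib.helper71.S3664

open Cfsg.Agent.Lib.helper92.S3664 Cfsg.Agent.Lib.helper17 Cfsg.Agent.Lib.helper8

theorem h71_map_frK0 (M : A) : M.map (frK 0) = M := by
  ext i j
  simp [frK_zero]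

theorem h71_act_inl (u : S) (M : A) :
    act (SemidirectProduct.inl u) M = matS u * M * ((matS u).map (frK 1)).transpose := by
  show matS u * M.map (frK 0) * ((matS u).map (frK 1)).transpose = _
  rw [h71_map_frK0]

theorem h71_orderOf_inl (u : S) : orderOf (SemidirectProduct.inl u : G) = orderOf u :=
  orderOf_injective (SemidirectProduct.inl : S →* G) SemidirectProduct.inl_injective u

/-- the matrix of `n5` -/
def h71N5 : A := !![1, 1, 0, 1; 1, 0, 1, 0; 0, 1, 0, 0; 1, 0, 0, 0]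

theorem h71_n5_mat : matT 1 (0 : K) 1 * matW = h71N5 := by decide

theorem h71_n5_pow_mat : h71N5 * h71N5 * h71N5 * h71N5 * h71N5 = 1 := by decide

theorem h71_n5_ne_mat : h71N5 ≠ 1 := by decide

theorem h71_fix5_mat : h71N5 * (matW : A) * (h71N5.map (frK 1)).transpose = matW := by decide

theorem h71_matW_ne : (matW : A) ≠ 0 := by decide

theorem h71_orderOf_n5 : orderOf n5 = 5 := by
  have : Fact (Nat.Prime 5) := ⟨by norm_num⟩
  apply orderOf_eq_prime
  · apply matS_inj
    have h : n5 ^ 5 = n5 * n5 * n5 * n5 * n5 := by simp [pow_succ]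
    rw [h, matS_mul, matS_mul, matS_mul, matS_mul, n5_mat, h71_n5_mat, matS_one]
    exact h71_n5_pow_mat
  · intro h
    have h2 := congrArg matS h
    rw [n5_mat, h71_n5_mat, matS_one] at h2
    exact h71_n5_ne_mat h2

/-- the matrix unit `E₀₁` -/
def h71E : A := !![0, 1, 0, 0; 0, 0, 0, 0; 0, 0, 0, 0; 0, 0, 0, 0]

theorem h71_E_ne : h71E ≠ 0 := by decide

theorem h71_fix7_mat :
    matD 1 H8.h2 * h71E * ((matD 1 H8.h2 : A).map (frK 1)).transpose = h71E := by decide

theorem fix3 : ∃ g : G, orderOf g = 3 ∧ ∃ a : A, a ≠ 0 ∧ act g a = a := by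
  refine ⟨SemidirectProduct.inr q1, ?_, 1, one_ne_zero, ?_⟩
  · rw [orderOf_injective (SemidirectProduct.inr : Multiplicative (ZMod 3) →* G)
      SemidirectProduct.inr_injective q1]
    show orderOf (Multiplicative.ofAdd (1 : ZMod 3)) = 3
    rw [orderOf_ofAdd_eq_addOrderOf, ZMod.addOrderOf_one]
  · have h1 : (1 : A).map (frK 1) = 1 := Matrix.map_one _ (by decide) (by decide)
    show (1 : A) * (1 : A).map (frK 1) * ((1 : A).map (frK 1)).transpose = 1
    rw [h1, Matrix.transpose_one, mul_one, mul_one]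

theorem fix5 : ∃ g : G, orderOf g = 5 ∧ ∃ a : A, a ≠ 0 ∧ act g a = a := by
  refine ⟨SemidirectProduct.inl n5, ?_, matW, h71_matW_ne, ?_⟩
  · rw [h71_orderOf_inl, h71_orderOf_n5]
  · rw [h71_act_inl, n5_mat, h71_n5_mat]
    exact h71_fix5_mat

theorem fix7 : ∃ g : G, orderOf g = 7 ∧ ∃ a : A, a ≠ 0 ∧ act g a = a := by
  refine ⟨SemidirectProduct.inl x7, ?_, h71E, h71_E_ne, ?_⟩
  · rw [h71_orderOf_inl, orderOf_x7]
  · rw [h71_act_inl, x7_mat]
    exact h71_fix7_mat

end Cfsg.Agent.Lib.helper71.S3664
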