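import Mathlib

set_option autoImplicit false

namespace Cfsg.Agent.Lib.helper89.S60

/-- Abstract version of `TLike`: `s` is central of order at most two modulo the centre. -/
def helper71_TL (G : Type*) [Group G] (s : G) : Prop :=
  s * s ∈ Subgroup.center G ∧ ∀ g : G, s * g * s⁻¹ * g⁻¹ ∈ Subgroup.center G

theorem helper71_exists_second_center {G : Type*} [Group G] [Group.IsNilpotent G] (N : Subgroup G)
    (hN : N.Normal) (c : G) (hc : c ∈ N) (hcZ : c ∉ Subgroup.center G) :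
    ∃ c' ∈ N, c' ∉ Subgroup.center G ∧ ∀ g : G, c' * g * c'⁻¹ * g⁻¹ ∈ Subgroup.center G := by
  obtain ⟨n, hn⟩ := Subgroup.nilpotent_iff_lowerCentralSeries.mp (inferInstance : Group.IsNilpotent G)
  have key : ∀ d k, n ≤ k + d → ∀ c ∈ N, c ∈ (⊤ : Subgroup G).lowerCentralSeries k → c ∉ Subgroup.center G →
      ∃ c' ∈ N, c' ∉ Subgroup.center G ∧ ∀ g : G, c' * g * c'⁻¹ * g⁻¹ ∈ Subgroup.center G := by
    intro d
    induction d with
    | zero =>
      intro k hk c hc hck hcZ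
      exfalso
      have h1 : (⊤ : Subgroup G).lowerCentralSeries k = ⊥ := by
        have h2 := Subgroup.lowerCentralSeries_antitone (⊤ : Subgroup G) (show n ≤ k by omega)
        rw [hn] at h2
        exact le_bot_iff.mp h2
      rw [h1, Subgroup.mem_bot] at hck
      exact hcZ (hck ▸ Subgroup.one_mem _)
    | succ d ih =>
      intro k hk c hc hck hcZ
      by_cases h : ∀ g : G, c * g * c⁻¹ * g⁻¹ ∈ Subgroup.center G
      · exact ⟨c, hc, hcZ, h⟩
      · push Not at h
        obtain ⟨g, hg⟩ := h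
        apply ih (k + 1) (by omega) (c * g * c⁻¹ * g⁻¹) ?_ ?_ hg
        · have h1 : g * c⁻¹ * g⁻¹ ∈ N := hN.conj_mem _ (N.inv_mem hc) g
          have h2 : c * g * c⁻¹ * g⁻¹ = c * (g * c⁻¹ * g⁻¹) := by group
          rw [h2]
          exact N.mul_mem hc h1
        · rw [Subgroup.lowerCentralSeries_succ]
          exact Subgroup.commutator_mem_commutator hck (Subgroup.mem_top g)
  exact key n 0 (by omega) c hc (by rw [Subgroup.lowerCentralSeries_zero]; exact Subgroup.mem_top c) hcZ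

theorem helper71_comm_sq {G : Type*} [Group G] (t g : G)
    (hz : t * g * t⁻¹ * g⁻¹ ∈ Subgroup.center G) :
    (t * t) * g * (t * t)⁻¹ * g⁻¹ = (t * g * t⁻¹ * g⁻¹) * (t * g * t⁻¹ * g⁻¹) := by
  have h1 := Subgroup.mem_center_iff.mp hz t
  calc (t * t) * g * (t * t)⁻¹ * g⁻¹ = (t * (t * g * t⁻¹ * g⁻¹)) * (g * t⁻¹ * g⁻¹) := by group
    _ = ((t * g * t⁻¹ * g⁻¹) * t) * (g * t⁻¹ * g⁻¹) := by rw [h1]
    _ = (t * g * t⁻¹ * g⁻¹) * (t * g * t⁻¹ * g⁻¹) := by group

/-- The commutator map `g ↦ [t, g]` of an element `t` that is central modulo the centre. -/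
noncomputable def helper71_commHom {G : Type*} [Group G] (t : G)
    (ht : ∀ g : G, t * g * t⁻¹ * g⁻¹ ∈ Subgroup.center G) : G →* Subgroup.center G :=
  MonoidHom.mk' (fun g => ⟨t * g * t⁻¹ * g⁻¹, ht g⟩) (by
    intro g h
    apply Subtype.ext
    show t * (g * h) * t⁻¹ * (g * h)⁻¹ = (t * g * t⁻¹ * g⁻¹) * (t * h * t⁻¹ * h⁻¹)
    have hz := Subgroup.mem_center_iff.mp (ht h) g⁻¹
    calc t * (g * h) * t⁻¹ * (g * h)⁻¹ = t * g * t⁻¹ * ((t * h * t⁻¹ * h⁻¹) * g⁻¹) := by group
      _ = t * g * t⁻¹ * (g⁻¹ * (t * h * t⁻¹ * h⁻¹)) := by rw [hz]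
      _ = (t * g * t⁻¹ * g⁻¹) * (t * h * t⁻¹ * h⁻¹) := by group)

theorem helper71_commHom_eq_one {G : Type*} [Group G] (t : G)
    (ht : ∀ g : G, t * g * t⁻¹ * g⁻¹ ∈ Subgroup.center G) (x : G)
    (h : helper71_commHom t ht x = 1) : t * x = x * t := by
  have h1 : t * x * t⁻¹ * x⁻¹ = 1 := congrArg Subtype.val h
  have h2 : t * x * t⁻¹ = x := mul_inv_eq_one.mp h1
  exact mul_inv_eq_iff_eq_mul.mp h2

/-- Abstract form of AELT2. -/
theorem helper71_s60_abstract {G : Type*} [Group G] [Finite G] (hp : IsPGroup 2 G)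
    (hexp : ∀ g : G, g ^ 4 = 1)
    (hT : ∀ s : G, helper71_TL G s → (∀ t : G, helper71_TL G t → s * t = t * s) →
      s ∈ Subgroup.center G) : ∀ s : G, helper71_TL G s := by
  haveI : Fact (Nat.Prime 2) := ⟨Nat.prime_two⟩
  haveI : Group.IsNilpotent G := hp.isNilpotent
  have hconj : ∀ t : G, helper71_TL G t → ∀ g : G, helper71_TL G (g⁻¹ * t * g) := by
    intro t ht g
    have hnorm : ∀ z ∈ Subgroup.center G, g⁻¹ * z * g = z := by
      intro z hz
      have h1 := Subgroup.mem_center_iff.mp hz g⁻¹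
      rw [h1]
      group
    refine ⟨?_, fun h => ?_⟩
    · have h1 : g⁻¹ * t * g * (g⁻¹ * t * g) = g⁻¹ * (t * t) * g := by group
      rw [h1, hnorm _ ht.1]
      exact ht.1
    · have h1 : g⁻¹ * t * g * h * (g⁻¹ * t * g)⁻¹ * h⁻¹
          = g⁻¹ * (t * (g * h * g⁻¹) * t⁻¹ * (g * h * g⁻¹)⁻¹) * g := by group
      rw [h1, hnorm _ (ht.2 _)]
      exact ht.2 _
  have hCn : (Subgroup.centralizer {t : G | helper71_TL G t}).Normal := by
    refine ⟨fun c hc g => ?_⟩
    rw [Subgroup.mem_centralizer_iff]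
    intro t ht
    have h := (Subgroup.mem_centralizer_iff.mp hc) (g⁻¹ * t * g) (hconj t ht g)
    calc t * (g * c * g⁻¹) = g * ((g⁻¹ * t * g) * c) * g⁻¹ := by group
      _ = g * (c * (g⁻¹ * t * g)) * g⁻¹ := by rw [h]
      _ = g * c * g⁻¹ * t := by group
  have hCZ : Subgroup.centralizer {t : G | helper71_TL G t} ≤ Subgroup.center G := by
    intro c hc
    by_contra hcZ
    obtain ⟨c', hc'C, hc'Z, hc'2⟩ := helper71_exists_second_center _ hCn c hc hcZ
    by_cases h : c' * c' ∈ Subgroup.center G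
    · have hTL : helper71_TL G c' := ⟨h, hc'2⟩
      exact hc'Z (hT c' hTL (fun t ht => ((Subgroup.mem_centralizer_iff.mp hc'C) t ht).symm))
    · have hTL : helper71_TL G (c' * c') := by
        refine ⟨?_, fun g => ?_⟩
        · have h1 : c' * c' * (c' * c') = c' ^ 4 := by simp [pow_succ, mul_assoc]
          rw [h1, hexp]
          exact Subgroup.one_mem _
        · rw [helper71_comm_sq c' g (hc'2 g)]
          exact Subgroup.mul_mem _ (hc'2 g) (hc'2 g)
      have hmem : c' * c' ∈ Subgroup.centralizer {t : G | helper71_TL G t} :=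
        Subgroup.mul_mem _ hc'C hc'C
      exact h (hT (c' * c') hTL (fun t ht => ((Subgroup.mem_centralizer_iff.mp hmem) t ht).symm))
  have hcomm : ∀ a b : Subgroup.center G, a * b * a⁻¹ * b⁻¹ = 1 := by
    intro a b
    have hab : a * b = b * a := Subtype.ext (Subgroup.mem_center_iff.mp b.2 a.1)
    rw [hab]
    group
  intro s
  refine ⟨?_, fun g => ?_⟩
  · apply hCZ
    rw [Subgroup.mem_centralizer_iff]
    intro t ht
    apply helper71_commHom_eq_one t ht.2
    rw [map_mul]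
    apply Subtype.ext
    show (t * s * t⁻¹ * s⁻¹) * (t * s * t⁻¹ * s⁻¹) = 1
    rw [← helper71_comm_sq t s (ht.2 s)]
    have h1 := Subgroup.mem_center_iff.mp ht.1 s
    calc t * t * s * (t * t)⁻¹ * s⁻¹ = (t * t * s) * (t * t)⁻¹ * s⁻¹ := by group
      _ = (s * (t * t)) * (t * t)⁻¹ * s⁻¹ := by rw [h1]
      _ = 1 := by group
  · apply hCZ
    rw [Subgroup.mem_centralizer_iff]
    intro t ht
    apply helper71_commHom_eq_one t ht.2
    rw [map_mul, map_mul, map_mul, map_inv, map_inv]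
    exact hcomm _ _

end Cfsg.Agent.Lib.helper89.S60

#print axioms Cfsg.Agent.Lib.helper89.S60.helper71_s60_abstract
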