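import Mathlib
import Cfsg.Prelude.Def_GeometricClasses
import Cfsg.Agent.Lib.helper89.S60Defs
import Cfsg.Agent.Lib.helper71.S60Abs

set_option autoImplicit false

namespace Cfsg.Agent.Lib.helper89.S60

open Matrix Cfsg Cfsg.Geo

theorem helper71_s60_scalar_iff {F : Type*} [Field F] (R : Subgroup (GL (Fin 4) F))
    (hschur : ∀ y : Matrix (Fin 4) (Fin 4) F, (∀ s ∈ R, y * (s : Matrix (Fin 4) (Fin 4) F) = (s : Matrix (Fin 4) (Fin 4) F) * y) → ∃ c : F, y = c • (1 : Matrix (Fin 4) (Fin 4) F))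
    (x : ↥R) : (∃ c : F, ((x : GL (Fin 4) F) : Matrix (Fin 4) (Fin 4) F) = c • (1 : Matrix (Fin 4) (Fin 4) F)) ↔
      x ∈ Subgroup.center ↥R := by
  constructor
  · rintro ⟨c, hc⟩
    rw [Subgroup.mem_center_iff]
    intro g
    apply Subtype.ext
    apply Units.ext
    show ((g : GL (Fin 4) F) : Matrix (Fin 4) (Fin 4) F) * ((x : GL (Fin 4) F) : Matrix (Fin 4) (Fin 4) F)
      = ((x : GL (Fin 4) F) : Matrix (Fin 4) (Fin 4) F) * ((g : GL (Fin 4) F) : Matrix (Fin 4) (Fin 4) F)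
    rw [hc, Matrix.mul_smul, Matrix.smul_mul, Matrix.mul_one, Matrix.one_mul]
  · intro hx
    apply hschur
    intro s hs
    have h1 := Subgroup.mem_center_iff.mp hx ⟨s, hs⟩
    have h2 := congrArg (fun y : ↥R => ((y : GL (Fin 4) F) : Matrix (Fin 4) (Fin 4) F)) h1
    exact h2.symm

theorem helper71_s60_bridge {F : Type*} [Field F] (R : Subgroup (GL (Fin 4) F))
    (hschur : ∀ y : Matrix (Fin 4) (Fin 4) F, (∀ s ∈ R, y * (s : Matrix (Fin 4) (Fin 4) F) = (s : Matrix (Fin 4) (Fin 4) F) * y) → ∃ c : F, y = c • (1 : Matrix (Fin 4) (Fin 4) F))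
    (s : ↥R) : TLike R (s : GL (Fin 4) F) ↔ helper71_TL ↥R s := by
  constructor
  · rintro ⟨⟨c, hc⟩, h2⟩
    refine ⟨(helper71_s60_scalar_iff R hschur (s * s)).mp ⟨c, hc⟩, fun g => ?_⟩
    obtain ⟨c2, hc2⟩ := h2 (g : GL (Fin 4) F) g.2
    apply (helper71_s60_scalar_iff R hschur _).mp
    refine ⟨c2, ?_⟩
    have e1 : ((g : GL (Fin 4) F) * s * (s : GL (Fin 4) F)⁻¹ * (g : GL (Fin 4) F)⁻¹) = 1 := by group
    have e2 := congrArg (fun y : GL (Fin 4) F => (y : Matrix (Fin 4) (Fin 4) F)) e1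
    simp only [Units.val_mul, Units.val_one] at e2
    show (((s : GL (Fin 4) F) * g * (s : GL (Fin 4) F)⁻¹ * (g : GL (Fin 4) F)⁻¹ : GL (Fin 4) F) :
      Matrix (Fin 4) (Fin 4) F) = c2 • 1
    simp only [Units.val_mul]
    rw [hc2, Matrix.smul_mul, Matrix.smul_mul, e2]
  · rintro ⟨h1, h2⟩
    refine ⟨(helper71_s60_scalar_iff R hschur (s * s)).mpr h1, fun g hg => ?_⟩
    obtain ⟨c, hc⟩ := (helper71_s60_scalar_iff R hschur _).mpr (h2 ⟨g, hg⟩)
    refine ⟨c, ?_⟩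
    have hc' : (((s : GL (Fin 4) F) * g * (s : GL (Fin 4) F)⁻¹ * g⁻¹ : GL (Fin 4) F) :
      Matrix (Fin 4) (Fin 4) F) = c • 1 := hc
    have e : (s : GL (Fin 4) F) * g
        = ((s : GL (Fin 4) F) * g * (s : GL (Fin 4) F)⁻¹ * g⁻¹) * (g * (s : GL (Fin 4) F)) := by
      group
    show (((s : GL (Fin 4) F) * g : GL (Fin 4) F) : Matrix (Fin 4) (Fin 4) F)
      = c • (((g * (s : GL (Fin 4) F) : GL (Fin 4) F)) : Matrix (Fin 4) (Fin 4) F)
    rw [e, Units.val_mul, hc', Matrix.smul_mul, Matrix.one_mul]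

/-- AELT2 (verbatim statement, prefixed name). -/
theorem helper71_s60_sq_scalar {F : Type*} [Field F] [Fintype F] (h2 : (2 : F) ≠ 0) (R : Subgroup (GL (Fin 4) F))
    (hRs : IsSymplecticTypeGroup 2 R) (hRi : ActsAbsolutelyIrreducibly (matrixSet R))
    (hR6 : Nat.card R = 64) (hRZ : Nat.card (Subgroup.center R) = 4)
    (hT : ∀ s ∈ R, TLike R s → (∀ t ∈ R, TLike R t → (s : Matrix (Fin 4) (Fin 4) F) * (t : Matrix (Fin 4) (Fin 4) F) = (t : Matrix (Fin 4) (Fin 4) F) * (s : Matrix (Fin 4) (Fin 4) F)) →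
      ∃ c : F, (s : Matrix (Fin 4) (Fin 4) F) = c • (1 : Matrix (Fin 4) (Fin 4) F)) :
    ∀ s ∈ R, TLike R s := by
  have hschur : ∀ y : Matrix (Fin 4) (Fin 4) F, (∀ s ∈ R, y * (s : Matrix (Fin 4) (Fin 4) F) = (s : Matrix (Fin 4) (Fin 4) F) * y) → ∃ c : F, y = c • (1 : Matrix (Fin 4) (Fin 4) F) := by
    intro y hy
    apply hRi.2 y
    rintro m ⟨g, hg, rfl⟩
    exact hy g hg
  haveI : Finite ↥R := Nat.finite_of_card_ne_zero (by rw [hR6]; norm_num)
  have hexp : ∀ g : ↥R, g ^ 4 = 1 := by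
    intro g
    have h4 : Monoid.exponent ↥R = 4 := by
      rw [hRs.exponent_eq]
      rfl
    have h5 := Monoid.pow_exponent_eq_one g
    rw [h4] at h5
    exact h5
  have habs := helper71_s60_abstract (G := ↥R) hRs.pGroup hexp (by
    intro s hs hst
    apply (helper71_s60_scalar_iff R hschur s).mp
    apply hT (s : GL (Fin 4) F) s.2 ((helper71_s60_bridge R hschur s).mpr hs)
    intro t ht htl
    have h5 := hst ⟨t, ht⟩ ((helper71_s60_bridge R hschur ⟨t, ht⟩).mp htl)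
    exact congrArg (fun y : ↥R => ((y : GL (Fin 4) F) : Matrix (Fin 4) (Fin 4) F)) h5)
  intro s hs
  exact (helper71_s60_bridge R hschur ⟨s, hs⟩).mpr (habs ⟨s, hs⟩)

end Cfsg.Agent.Lib.helper89.S60

#print axioms Cfsg.Agent.Lib.helper89.S60.helper71_s60_sq_scalar
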