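import Mathlib
import Cfsg.Agent.Lib.helper89.S60Defs

/-!
# S6000 piece EX3 (racer copy, helper71): elements of order 3 of `N(R)` with traces `1` and `-2`.
Route: Hurwitz units `(1 + I + J + K)/2` of two commuting quaternion triples built from the frame.
-/

set_option autoImplicit false

namespace Cfsg.Agent.Lib.helper89.S60

open Matrix Cfsg Cfsg.Geo

/-- multiplication table of a quaternion triple -/
structure helper71_QT {A : Type*} [Ring A] (I J K : A) : Prop where
  ii : I * I = -1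
  jj : J * J = -1
  kk : K * K = -1
  ij : I * J = K
  ji : J * I = -K
  jk : J * K = I
  kj : K * J = -I
  ki : K * I = J
  ik : I * K = -J

theorem helper71_QT_mk {A : Type*} [Ring A] (I J : A) (hI : I * I = -1) (hJ : J * J = -1)
    (hJI : J * I = -(I * J)) : helper71_QT I J (I * J) := by
  refine ⟨hI, hJ, ?_, rfl, hJI, ?_, ?_, ?_, ?_⟩
  · calc I * J * (I * J) = I * (J * I) * J := by simp only [mul_assoc]
      _ = -(I * I * (J * J)) := by rw [hJI]; simp only [mul_neg, neg_mul, mul_assoc]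
      _ = -1 := by rw [hI, hJ]; simp
  · calc J * (I * J) = J * I * J := by simp only [mul_assoc]
      _ = -(I * (J * J)) := by rw [hJI]; simp only [mul_neg, neg_mul, mul_assoc]
      _ = I := by rw [hJ]; simp
  · calc I * J * J = I * (J * J) := by simp only [mul_assoc]
      _ = -I := by rw [hJ]; simp
  · calc I * J * I = I * (J * I) := by simp only [mul_assoc]
      _ = -(I * I * J) := by rw [hJI]; simp only [mul_neg, neg_mul, mul_assoc]
      _ = J := by rw [hI]; simp
  · calc I * (I * J) = I * I * J := by simp only [mul_assoc]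
      _ = -J := by rw [hI]; simp

section quat
variable {F : Type*} [Field F] {A : Type*} [Ring A] [Algebra F A]

theorem helper71_q4 (h : F) (hh : h * 2 = 1) (x : A) : (h * h) • (x + x + x + x) = x := by
  have : h * h + h * h + h * h + h * h = 1 := by linear_combination (h * 2 + 1) * hh
  rw [smul_add, smul_add, smul_add, ← add_smul, ← add_smul, ← add_smul, this, one_smul]

theorem helper71_q2 (h : F) (hh : h * 2 = 1) (x : A) : (h * h) • (x + x) = h • x := by
  have : h * h + h * h = h := by linear_combination h * hh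
  rw [smul_add, ← add_smul, this]

theorem helper71_q_uv (h : F) (hh : h * 2 = 1) (I J K : A) (q : helper71_QT I J K) :
    (h • (1 + I + J + K)) * (h • (1 - I - J - K)) = 1 := by
  have e : (1 + I + J + K) * (1 - I - J - K) = (1 + 1 + 1 + 1 : A) := by
    simp only [mul_add, add_mul, mul_sub, sub_mul, mul_one, one_mul, q.ii, q.jj, q.kk, q.ij, q.ji,
      q.jk, q.kj, q.ki, q.ik]
    abel
  rw [smul_mul_smul_comm, e, helper71_q4 h hh]

theorem helper71_q_vu (h : F) (hh : h * 2 = 1) (I J K : A) (q : helper71_QT I J K) :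
    (h • (1 - I - J - K)) * (h • (1 + I + J + K)) = 1 := by
  have e : (1 - I - J - K) * (1 + I + J + K) = (1 + 1 + 1 + 1 : A) := by
    simp only [mul_add, add_mul, mul_sub, sub_mul, mul_one, one_mul, q.ii, q.jj, q.kk, q.ij, q.ji,
      q.jk, q.kj, q.ki, q.ik]
    abel
  rw [smul_mul_smul_comm, e, helper71_q4 h hh]

theorem helper71_q_uu (h : F) (hh : h * 2 = 1) (I J K : A) (q : helper71_QT I J K) :
    (h • (1 + I + J + K)) * (h • (1 + I + J + K)) = h • (-1 + I + J + K) := by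
  have e : (1 + I + J + K) * (1 + I + J + K) = (-1 + I + J + K) + (-1 + I + J + K) := by
    simp only [mul_add, add_mul, mul_sub, sub_mul, mul_one, one_mul, q.ii, q.jj, q.kk, q.ij, q.ji,
      q.jk, q.kj, q.ki, q.ik]
    abel
  rw [smul_mul_smul_comm, e, helper71_q2 h hh]

theorem helper71_q_uuu (h : F) (hh : h * 2 = 1) (I J K : A) (q : helper71_QT I J K) :
    (h • (1 + I + J + K)) * (h • (1 + I + J + K)) * (h • (1 + I + J + K)) = -1 := by
  have e : (-1 + I + J + K) * (1 + I + J + K) = -(1 + 1 + 1 + 1 : A) := by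
    simp only [mul_add, add_mul, mul_sub, sub_mul, mul_one, one_mul, neg_mul, q.ii, q.jj, q.kk,
      q.ij, q.ji, q.jk, q.kj, q.ki, q.ik]
    abel
  rw [helper71_q_uu h hh I J K q, smul_mul_smul_comm, e, smul_neg, helper71_q4 h hh]

/-- `s` commutes with `I`, `J`. -/
theorem helper71_q_conj_cc (h : F) (hh : h * 2 = 1) (I J K : A) (q : helper71_QT I J K) (s : A)
    (hI : I * s = s * I) (hJ : J * s = s * J) :
    (h • (1 + I + J + K)) * s * (h • (1 - I - J - K)) = s := by
  have hK : K * s = s * K := by rw [← q.ij, mul_assoc, hJ, ← mul_assoc, hI, mul_assoc]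
  have e : (1 + I + J + K) * s = s * (1 + I + J + K) := by
    simp only [add_mul, mul_add, one_mul, mul_one, hI, hJ, hK]
  rw [smul_mul_assoc, e, ← mul_smul_comm, mul_assoc, helper71_q_uv h hh I J K q, mul_one]

/-- `s` anticommutes with `I`, `J`. -/
theorem helper71_q_conj_aa (h : F) (hh : h * 2 = 1) (I J K : A) (q : helper71_QT I J K) (s : A)
    (hI : I * s = -(s * I)) (hJ : J * s = -(s * J)) :
    (h • (1 + I + J + K)) * s * (h • (1 - I - J - K)) = -(s * J) := by
  have hK : K * s = s * K := by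
    rw [← q.ij, mul_assoc, hJ, mul_neg, ← mul_assoc, hI, neg_mul, neg_neg, mul_assoc]
  have e : (1 + I + J + K) * s = s * (1 - I - J + K) := by
    simp only [add_mul, mul_add, mul_sub, one_mul, mul_one, hI, hJ, hK]
    abel
  have e2 : (1 - I - J + K) * (1 - I - J - K) = -(J + J + J + J) := by
    simp only [mul_add, add_mul, mul_sub, sub_mul, mul_one, one_mul, q.ii, q.jj, q.kk, q.ij, q.ji,
      q.jk, q.kj, q.ki, q.ik]
    abel
  rw [smul_mul_assoc, e, smul_mul_smul_comm, mul_assoc, e2, mul_neg, mul_add, mul_add, mul_add,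
    smul_neg, helper71_q4 h hh]

/-- `s` commutes with `I`, anticommutes with `J`. -/
theorem helper71_q_conj_ca (h : F) (hh : h * 2 = 1) (I J K : A) (q : helper71_QT I J K) (s : A)
    (hI : I * s = s * I) (hJ : J * s = -(s * J)) :
    (h • (1 + I + J + K)) * s * (h • (1 - I - J - K)) = -(s * K) := by
  have hK : K * s = -(s * K) := by
    rw [← q.ij, mul_assoc, hJ, mul_neg, ← mul_assoc, hI, mul_assoc]
  have e : (1 + I + J + K) * s = s * (1 + I - J - K) := by
    simp only [add_mul, mul_add, mul_sub, one_mul, mul_one, hI, hJ, hK]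
    abel
  have e2 : (1 + I - J - K) * (1 - I - J - K) = -(K + K + K + K) := by
    simp only [mul_add, add_mul, mul_sub, sub_mul, mul_one, one_mul, q.ii, q.jj, q.kk, q.ij, q.ji,
      q.jk, q.kj, q.ki, q.ik]
    abel
  rw [smul_mul_assoc, e, smul_mul_smul_comm, mul_assoc, e2, mul_neg, mul_add, mul_add, mul_add,
    smul_neg, helper71_q4 h hh]

/-- `s` anticommutes with `I`, commutes with `J`. -/
theorem helper71_q_conj_ac (h : F) (hh : h * 2 = 1) (I J K : A) (q : helper71_QT I J K) (s : A)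
    (hI : I * s = -(s * I)) (hJ : J * s = s * J) :
    (h • (1 + I + J + K)) * s * (h • (1 - I - J - K)) = -(s * I) := by
  have hK : K * s = -(s * K) := by
    rw [← q.ij, mul_assoc, hJ, ← mul_assoc, hI, neg_mul, mul_assoc]
  have e : (1 + I + J + K) * s = s * (1 - I + J - K) := by
    simp only [add_mul, mul_add, mul_sub, one_mul, mul_one, hI, hJ, hK]
    abel
  have e2 : (1 - I + J - K) * (1 - I - J - K) = -(I + I + I + I) := by
    simp only [mul_add, add_mul, mul_sub, sub_mul, mul_one, one_mul, q.ii, q.jj, q.kk, q.ij, q.ji,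
      q.jk, q.kj, q.ki, q.ik]
    abel
  rw [smul_mul_assoc, e, smul_mul_smul_comm, mul_assoc, e2, mul_neg, mul_add, mul_add, mul_add,
    smul_neg, helper71_q4 h hh]

end quat

theorem helper71_trace_anti {F : Type*} [Field F] (h2 : (2 : F) ≠ 0)
    (x y : Matrix (Fin 4) (Fin 4) F) (hxy : x * y = -(y * x)) (hy : y * y = 1) :
    Matrix.trace x = 0 := by
  have h1 : x = -(y * x * y) := by
    calc x = x * (y * y) := by rw [hy, mul_one]
      _ = x * y * y := by rw [mul_assoc]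
      _ = -(y * x * y) := by rw [hxy, neg_mul]
  have h3 : Matrix.trace (y * x * y) = Matrix.trace x := by
    rw [Matrix.trace_mul_comm, ← mul_assoc, hy, one_mul]
  have h4 : Matrix.trace x = -Matrix.trace x := by
    conv_lhs => rw [h1]
    rw [Matrix.trace_neg, h3]
  have h5 : (2 : F) * Matrix.trace x = 0 := by linear_combination h4
  rcases mul_eq_zero.mp h5 with h | h
  · exact absurd h h2
  · exact h

theorem helper71_tr_prod {F : Type*} [Field F] (h : F) (hh : h * 2 = 1)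
    (I1 J1 K1 I2 J2 K2 : Matrix (Fin 4) (Fin 4) F)
    (z1 : Matrix.trace I1 = 0) (z2 : Matrix.trace J1 = 0) (z3 : Matrix.trace K1 = 0)
    (z4 : Matrix.trace I2 = 0) (z5 : Matrix.trace J2 = 0) (z6 : Matrix.trace K2 = 0)
    (y1 : Matrix.trace (I1 * I2) = 0) (y2 : Matrix.trace (I1 * J2) = 0) (y3 : Matrix.trace (I1 * K2) = 0)
    (y4 : Matrix.trace (J1 * I2) = 0) (y5 : Matrix.trace (J1 * J2) = 0) (y6 : Matrix.trace (J1 * K2) = 0)
    (y7 : Matrix.trace (K1 * I2) = 0) (y8 : Matrix.trace (K1 * J2) = 0) (y9 : Matrix.trace (K1 * K2) = 0) :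
    Matrix.trace ((h • (1 + I1 + J1 + K1)) * (h • (1 + I2 + J2 + K2))) = 1 := by
  rw [smul_mul_smul_comm, Matrix.trace_smul]
  simp only [mul_add, add_mul, mul_one, one_mul, Matrix.trace_add, z1, z2, z3, z4, z5, z6,
    y1, y2, y3, y4, y5, y6, y7, y8, y9, add_zero, Matrix.trace_one, Fintype.card_fin, smul_eq_mul]
  push_cast
  linear_combination (h * 2 + 1) * hh

theorem helper71_tr_sq {F : Type*} [Field F] (h : F) (hh : h * 2 = 1)
    (I1 J1 K1 : Matrix (Fin 4) (Fin 4) F) (q : helper71_QT I1 J1 K1)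
    (z1 : Matrix.trace I1 = 0) (z2 : Matrix.trace J1 = 0) (z3 : Matrix.trace K1 = 0) :
    Matrix.trace ((h • (1 + I1 + J1 + K1)) * (h • (1 + I1 + J1 + K1))) = -2 := by
  rw [helper71_q_uu h hh I1 J1 K1 q, Matrix.trace_smul]
  simp only [Matrix.trace_add, Matrix.trace_neg, z1, z2, z3, add_zero, Matrix.trace_one,
    Fintype.card_fin, smul_eq_mul]
  push_cast
  linear_combination (-2 : F) * hh

/-- matrix-level computations for EX3 -/
theorem helper71_ex3_mat {F : Type*} [Field F] (h2 : (2 : F) ≠ 0) (w : F) (hw : w * w = -1)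
    (T0 T1 T2 T3 : Matrix (Fin 4) (Fin 4) F)
    (s0 : T0 * T0 = 1) (s1 : T1 * T1 = 1) (s2 : T2 * T2 = 1) (s3 : T3 * T3 = 1)
    (a10 : T1 * T0 = -(T0 * T1)) (a20 : T2 * T0 = -(T0 * T2)) (a30 : T3 * T0 = -(T0 * T3))
    (a21 : T2 * T1 = -(T1 * T2)) (a31 : T3 * T1 = -(T1 * T3)) (a32 : T3 * T2 = -(T2 * T3)) :
    ∃ u1 v1 u2 v2 : Matrix (Fin 4) (Fin 4) F,
      u1 * v1 = 1 ∧ v1 * u1 = 1 ∧ u2 * v2 = 1 ∧ v2 * u2 = 1 ∧
      u1 * u1 * u1 = -1 ∧ u2 * u2 * u2 = -1 ∧ u1 * u2 = u2 * u1 ∧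
      u1 * T0 * v1 = T1 ∧ u1 * T1 * v1 = w • (T0 * T1) ∧ u1 * T2 * v1 = w • (T1 * T2) ∧
      u1 * T3 * v1 = w • (T1 * T3) ∧
      u2 * T0 * v2 = T0 ∧ u2 * T1 * v2 = T1 ∧ u2 * T2 * v2 = T3 ∧ u2 * T3 * v2 = T0 * T1 * T2 * T3 ∧
      Matrix.trace (u1 * u1) = -2 ∧ Matrix.trace (u1 * u2) = 1 := by
  have s0' : ∀ x, T0 * (T0 * x) = x := fun x => by rw [← mul_assoc, s0, one_mul]
  have s1' : ∀ x, T1 * (T1 * x) = x := fun x => by rw [← mul_assoc, s1, one_mul]
  have s2' : ∀ x, T2 * (T2 * x) = x := fun x => by rw [← mul_assoc, s2, one_mul]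
  have s3' : ∀ x, T3 * (T3 * x) = x := fun x => by rw [← mul_assoc, s3, one_mul]
  have a10' : ∀ x, T1 * (T0 * x) = -(T0 * (T1 * x)) := fun x => by
    rw [← mul_assoc, a10, neg_mul, mul_assoc]
  have a20' : ∀ x, T2 * (T0 * x) = -(T0 * (T2 * x)) := fun x => by
    rw [← mul_assoc, a20, neg_mul, mul_assoc]
  have a30' : ∀ x, T3 * (T0 * x) = -(T0 * (T3 * x)) := fun x => by
    rw [← mul_assoc, a30, neg_mul, mul_assoc]
  have a21' : ∀ x, T2 * (T1 * x) = -(T1 * (T2 * x)) := fun x => by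
    rw [← mul_assoc, a21, neg_mul, mul_assoc]
  have a31' : ∀ x, T3 * (T1 * x) = -(T1 * (T3 * x)) := fun x => by
    rw [← mul_assoc, a31, neg_mul, mul_assoc]
  have a32' : ∀ x, T3 * (T2 * x) = -(T2 * (T3 * x)) := fun x => by
    rw [← mul_assoc, a32, neg_mul, mul_assoc]
  have hh : (2⁻¹ : F) * 2 = 1 := inv_mul_cancel₀ h2
  have q1 : helper71_QT (w • T0) (w • T1) ((w • T0) * (w • T1)) := by
    refine helper71_QT_mk _ _ ?_ ?_ ?_ <;>
    simp only [mul_assoc, neg_mul, mul_neg, neg_neg, smul_mul_assoc, mul_smul_comm, smul_smul,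
      smul_neg, neg_smul, one_smul, hw, s0, s1, s2, s3, s0', s1', s2', s3', a10, a20, a30, a21, a31,
      a32, a10', a20', a30', a21', a31', a32', mul_one]
  have q2 : helper71_QT (T0 * T1 * T2) (T0 * T1 * T3) ((T0 * T1 * T2) * (T0 * T1 * T3)) := by
    refine helper71_QT_mk _ _ ?_ ?_ ?_ <;>
    simp only [mul_assoc, neg_mul, mul_neg, neg_neg, smul_mul_assoc, mul_smul_comm, smul_smul,
      smul_neg, neg_smul, one_smul, hw, s0, s1, s2, s3, s0', s1', s2', s3', a10, a20, a30, a21, a31,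
      a32, a10', a20', a30', a21', a31', a32', mul_one]
  refine ⟨(2⁻¹ : F) • (1 + w • T0 + w • T1 + (w • T0) * (w • T1)),
    (2⁻¹ : F) • (1 - w • T0 - w • T1 - (w • T0) * (w • T1)),
    (2⁻¹ : F) • (1 + T0 * T1 * T2 + T0 * T1 * T3 + (T0 * T1 * T2) * (T0 * T1 * T3)),
    (2⁻¹ : F) • (1 - T0 * T1 * T2 - T0 * T1 * T3 - (T0 * T1 * T2) * (T0 * T1 * T3)),
    helper71_q_uv _ hh _ _ _ q1, helper71_q_vu _ hh _ _ _ q1,
    helper71_q_uv _ hh _ _ _ q2, helper71_q_vu _ hh _ _ _ q2,
    helper71_q_uuu _ hh _ _ _ q1, helper71_q_uuu _ hh _ _ _ q2, ?_, ?_, ?_, ?_, ?_, ?_, ?_, ?_, ?_, ?_, ?_⟩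
  · -- commute
    have c11 : Commute (w • T0) (T0 * T1 * T2) := by
      show _ = _
      simp only [mul_assoc, neg_mul, mul_neg, neg_neg, smul_mul_assoc, mul_smul_comm, smul_smul,
        smul_neg, neg_smul, one_smul, hw, s0, s1, s2, s3, s0', s1', s2', s3', a10, a20, a30, a21, a31,
        a32, a10', a20', a30', a21', a31', a32', mul_one]
    have c12 : Commute (w • T0) (T0 * T1 * T3) := by
      show _ = _
      simp only [mul_assoc, neg_mul, mul_neg, neg_neg, smul_mul_assoc, mul_smul_comm, smul_smul,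
        smul_neg, neg_smul, one_smul, hw, s0, s1, s2, s3, s0', s1', s2', s3', a10, a20, a30, a21, a31,
        a32, a10', a20', a30', a21', a31', a32', mul_one]
    have c21 : Commute (w • T1) (T0 * T1 * T2) := by
      show _ = _
      simp only [mul_assoc, neg_mul, mul_neg, neg_neg, smul_mul_assoc, mul_smul_comm, smul_smul,
        smul_neg, neg_smul, one_smul, hw, s0, s1, s2, s3, s0', s1', s2', s3', a10, a20, a30, a21, a31,
        a32, a10', a20', a30', a21', a31', a32', mul_one]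
    have c22 : Commute (w • T1) (T0 * T1 * T3) := by
      show _ = _
      simp only [mul_assoc, neg_mul, mul_neg, neg_neg, smul_mul_assoc, mul_smul_comm, smul_smul,
        smul_neg, neg_smul, one_smul, hw, s0, s1, s2, s3, s0', s1', s2', s3', a10, a20, a30, a21, a31,
        a32, a10', a20', a30', a21', a31', a32', mul_one]
    have cI : Commute (w • T0) (1 + T0 * T1 * T2 + T0 * T1 * T3 + (T0 * T1 * T2) * (T0 * T1 * T3)) :=
      (((Commute.one_right _).add_right c11).add_right c12).add_right (c11.mul_right c12)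
    have cJ : Commute (w • T1) (1 + T0 * T1 * T2 + T0 * T1 * T3 + (T0 * T1 * T2) * (T0 * T1 * T3)) :=
      (((Commute.one_right _).add_right c21).add_right c22).add_right (c21.mul_right c22)
    have cX : Commute (1 + w • T0 + w • T1 + (w • T0) * (w • T1))
        (1 + T0 * T1 * T2 + T0 * T1 * T3 + (T0 * T1 * T2) * (T0 * T1 * T3)) :=
      (((Commute.one_left _).add_left cI).add_left cJ).add_left (cI.mul_left cJ)
    exact ((cX.smul_right _).smul_left _).eq
  · refine (helper71_q_conj_ca _ hh _ _ _ q1 T0 ?_ ?_).trans ?_ <;>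
    simp only [mul_assoc, neg_mul, mul_neg, neg_neg, smul_mul_assoc, mul_smul_comm, smul_smul,
      smul_neg, neg_smul, one_smul, hw, s0, s1, s2, s3, s0', s1', s2', s3', a10, a20, a30, a21, a31,
      a32, a10', a20', a30', a21', a31', a32', mul_one]
  · refine (helper71_q_conj_ac _ hh _ _ _ q1 T1 ?_ ?_).trans ?_ <;>
    simp only [mul_assoc, neg_mul, mul_neg, neg_neg, smul_mul_assoc, mul_smul_comm, smul_smul,
      smul_neg, neg_smul, one_smul, hw, s0, s1, s2, s3, s0', s1', s2', s3', a10, a20, a30, a21, a31,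
      a32, a10', a20', a30', a21', a31', a32', mul_one]
  · refine (helper71_q_conj_aa _ hh _ _ _ q1 T2 ?_ ?_).trans ?_ <;>
    simp only [mul_assoc, neg_mul, mul_neg, neg_neg, smul_mul_assoc, mul_smul_comm, smul_smul,
      smul_neg, neg_smul, one_smul, hw, s0, s1, s2, s3, s0', s1', s2', s3', a10, a20, a30, a21, a31,
      a32, a10', a20', a30', a21', a31', a32', mul_one]
  · refine (helper71_q_conj_aa _ hh _ _ _ q1 T3 ?_ ?_).trans ?_ <;>
    simp only [mul_assoc, neg_mul, mul_neg, neg_neg, smul_mul_assoc, mul_smul_comm, smul_smul,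
      smul_neg, neg_smul, one_smul, hw, s0, s1, s2, s3, s0', s1', s2', s3', a10, a20, a30, a21, a31,
      a32, a10', a20', a30', a21', a31', a32', mul_one]
  · refine helper71_q_conj_cc _ hh _ _ _ q2 T0 ?_ ?_ <;>
    simp only [mul_assoc, neg_mul, mul_neg, neg_neg, smul_mul_assoc, mul_smul_comm, smul_smul,
      smul_neg, neg_smul, one_smul, hw, s0, s1, s2, s3, s0', s1', s2', s3', a10, a20, a30, a21, a31,
      a32, a10', a20', a30', a21', a31', a32', mul_one]
  · refine helper71_q_conj_cc _ hh _ _ _ q2 T1 ?_ ?_ <;>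
    simp only [mul_assoc, neg_mul, mul_neg, neg_neg, smul_mul_assoc, mul_smul_comm, smul_smul,
      smul_neg, neg_smul, one_smul, hw, s0, s1, s2, s3, s0', s1', s2', s3', a10, a20, a30, a21, a31,
      a32, a10', a20', a30', a21', a31', a32', mul_one]
  · refine (helper71_q_conj_ca _ hh _ _ _ q2 T2 ?_ ?_).trans ?_ <;>
    simp only [mul_assoc, neg_mul, mul_neg, neg_neg, smul_mul_assoc, mul_smul_comm, smul_smul,
      smul_neg, neg_smul, one_smul, hw, s0, s1, s2, s3, s0', s1', s2', s3', a10, a20, a30, a21, a31,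
      a32, a10', a20', a30', a21', a31', a32', mul_one]
  · refine (helper71_q_conj_ac _ hh _ _ _ q2 T3 ?_ ?_).trans ?_ <;>
    simp only [mul_assoc, neg_mul, mul_neg, neg_neg, smul_mul_assoc, mul_smul_comm, smul_smul,
      smul_neg, neg_smul, one_smul, hw, s0, s1, s2, s3, s0', s1', s2', s3', a10, a20, a30, a21, a31,
      a32, a10', a20', a30', a21', a31', a32', mul_one]
  · refine helper71_tr_sq _ hh _ _ _ q1 (helper71_trace_anti h2 _ T1 ?_ s1)
      (helper71_trace_anti h2 _ T0 ?_ s0) (helper71_trace_anti h2 _ T0 ?_ s0) <;>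
    simp only [mul_assoc, neg_mul, mul_neg, neg_neg, smul_mul_assoc, mul_smul_comm, smul_smul,
      smul_neg, neg_smul, one_smul, hw, s0, s1, s2, s3, s0', s1', s2', s3', a10, a20, a30, a21, a31,
      a32, a10', a20', a30', a21', a31', a32', mul_one]
  · refine helper71_tr_prod _ hh _ _ _ _ _ _ (helper71_trace_anti h2 _ T1 ?_ s1)
      (helper71_trace_anti h2 _ T0 ?_ s0) (helper71_trace_anti h2 _ T0 ?_ s0)
      (helper71_trace_anti h2 _ T3 ?_ s3) (helper71_trace_anti h2 _ T2 ?_ s2)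
      (helper71_trace_anti h2 _ T2 ?_ s2)
      (helper71_trace_anti h2 _ T1 ?_ s1) (helper71_trace_anti h2 _ T1 ?_ s1)
      (helper71_trace_anti h2 _ T1 ?_ s1)
      (helper71_trace_anti h2 _ T0 ?_ s0) (helper71_trace_anti h2 _ T0 ?_ s0)
      (helper71_trace_anti h2 _ T0 ?_ s0)
      (helper71_trace_anti h2 _ T0 ?_ s0) (helper71_trace_anti h2 _ T0 ?_ s0)
      (helper71_trace_anti h2 _ T0 ?_ s0) <;>
    simp only [mul_assoc, neg_mul, mul_neg, neg_neg, smul_mul_assoc, mul_smul_comm, smul_smul,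
      smul_neg, neg_smul, one_smul, hw, s0, s1, s2, s3, s0', s1', s2', s3', a10, a20, a30, a21, a31,
      a32, a10', a20', a30', a21', a31', a32', mul_one]

theorem helper71_norm_frame {F : Type*} [Field F] (R : Subgroup (GL (Fin 4) F)) (w : F)
    (t : Fin 4 → GL (Fin 4) F) (hfr : Frame R w t) (z : GL (Fin 4) F) (hzR : z ∈ R)
    (hz : (z : Matrix (Fin 4) (Fin 4) F) = w • (1 : Matrix (Fin 4) (Fin 4) F)) (hfin : Finite R)
    (g : GL (Fin 4) F) (hg : ∀ j, g * t j * g⁻¹ ∈ R) : g ∈ subgroupNormalizer R := by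
  classical
  obtain ⟨htR, htsq, htanti, htgen⟩ := hfr
  have hzc : g * z * g⁻¹ = z := by
    apply Units.ext
    rw [Units.val_mul, Units.val_mul, hz, mul_smul_comm, mul_one, smul_mul_assoc, Units.mul_inv]
  let H : Subgroup (GL (Fin 4) F) := R ⊓ R.comap (MulAut.conj g).toMonoidHom
  have hH : ∀ s, s ∈ H ↔ s ∈ R ∧ g * s * g⁻¹ ∈ R := by
    intro s
    simp only [H, Subgroup.mem_inf, Subgroup.mem_comap, MulEquiv.coe_toMonoidHom, MulAut.conj_apply]
  have hzH : z ∈ H := (hH z).2 ⟨hzR, by rw [hzc]; exact hzR⟩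
  have htH : ∀ j, t j ∈ H := fun j => (hH _).2 ⟨htR j, hg j⟩
  have hb : ∀ (b : Bool) (j : Fin 4), (if b then t j else 1) ∈ H := by
    intro b j
    cases b
    · simpa using H.one_mem
    · simpa using htH j
  have hbv : ∀ (b : Bool) (j : Fin 4),
      (((if b then t j else 1 : GL (Fin 4) F)) : Matrix (Fin 4) (Fin 4) F) =
        if b then (t j : Matrix (Fin 4) (Fin 4) F) else 1 := by
    intro b j
    cases b <;> simp
  have hconj : ∀ s ∈ R, g * s * g⁻¹ ∈ R := by
    intro s hs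
    obtain ⟨a, e, hse⟩ := htgen s hs
    have hs' : s = z ^ e * (if a 0 then t 0 else 1) * (if a 1 then t 1 else 1) *
        (if a 2 then t 2 else 1) * (if a 3 then t 3 else 1) := by
      apply Units.ext
      rw [hse]
      simp only [Units.val_mul, Units.val_pow_eq_pow_val, hz, hbv, smul_pow, one_pow,
        smul_mul_assoc, one_mul]
    have hsH : s ∈ H := by
      rw [hs']
      exact H.mul_mem (H.mul_mem (H.mul_mem (H.mul_mem (H.pow_mem hzH e) (hb _ _)) (hb _ _))
        (hb _ _)) (hb _ _)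
    exact ((hH s).1 hsH).2
  haveI : Finite (R : Set (GL (Fin 4) F)) := hfin
  show g ∈ Subgroup.normalizer (R : Set (GL (Fin 4) F))
  exact Subgroup.mem_normalizer_fintype (fun n hn => hconj n hn)

/-- EX3 (racer copy of `s60_exists_three`, verbatim statement). -/
theorem helper71_s60_exists_three {F : Type*} [Field F] [Fintype F] (h2 : (2 : F) ≠ 0) (R : Subgroup (GL (Fin 4) F)) (w : F) (hG : Good R w) :
    ∃ hA hB : GL (Fin 4) F, hA ∈ subgroupNormalizer R ∧ hB ∈ subgroupNormalizer R ∧ hA ^ 3 = 1 ∧ hB ^ 3 = 1 ∧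
      Matrix.trace (hA : Matrix (Fin 4) (Fin 4) F) = 1 ∧ Matrix.trace (hB : Matrix (Fin 4) (Fin 4) F) = -2 := by
  classical
  obtain ⟨t, hfr⟩ := hG.frame
  have hfr' := hfr
  obtain ⟨htR, htsq, htanti, htgen⟩ := hfr'
  obtain ⟨z, hzR, hz⟩ := hG.wmem
  have hfin : Finite R := Nat.finite_of_card_ne_zero (by rw [hG.card]; norm_num)
  obtain ⟨u1, v1, u2, v2, e1, e2, e3, e4, c1, c2, cm, k0, k1, k2, k3, l0, l1, l2, l3, tr1, tr2⟩ :=
    helper71_ex3_mat h2 w hG.wsq (t 0 : Matrix (Fin 4) (Fin 4) F) (t 1 : Matrix (Fin 4) (Fin 4) F)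
      (t 2 : Matrix (Fin 4) (Fin 4) F) (t 3 : Matrix (Fin 4) (Fin 4) F)
      (htsq 0) (htsq 1) (htsq 2) (htsq 3) (htanti 1 0 (by decide)) (htanti 2 0 (by decide))
      (htanti 3 0 (by decide)) (htanti 2 1 (by decide)) (htanti 3 1 (by decide))
      (htanti 3 2 (by decide))
  let g1 : GL (Fin 4) F := ⟨u1, v1, e1, e2⟩
  let g2 : GL (Fin 4) F := ⟨u2, v2, e3, e4⟩
  have hg1 : g1 ∈ subgroupNormalizer R := by
    refine helper71_norm_frame R w t hfr z hzR hz hfin g1 ?_
    have h0 : g1 * t 0 * g1⁻¹ ∈ R := by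
      have : g1 * t 0 * g1⁻¹ = t 1 := Units.ext k0
      rw [this]; exact htR 1
    have h1 : g1 * t 1 * g1⁻¹ ∈ R := by
      have : g1 * t 1 * g1⁻¹ = z * t 0 * t 1 := Units.ext (by
        show u1 * (t 1 : Matrix (Fin 4) (Fin 4) F) * v1 =
          (z : Matrix (Fin 4) (Fin 4) F) * (t 0 : Matrix (Fin 4) (Fin 4) F) * (t 1 : Matrix (Fin 4) (Fin 4) F)
        rw [k1, hz, smul_mul_assoc, smul_mul_assoc, one_mul])
      rw [this]; exact R.mul_mem (R.mul_mem hzR (htR 0)) (htR 1)
    have h2' : g1 * t 2 * g1⁻¹ ∈ R := by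
      have : g1 * t 2 * g1⁻¹ = z * t 1 * t 2 := Units.ext (by
        show u1 * (t 2 : Matrix (Fin 4) (Fin 4) F) * v1 =
          (z : Matrix (Fin 4) (Fin 4) F) * (t 1 : Matrix (Fin 4) (Fin 4) F) * (t 2 : Matrix (Fin 4) (Fin 4) F)
        rw [k2, hz, smul_mul_assoc, smul_mul_assoc, one_mul])
      rw [this]; exact R.mul_mem (R.mul_mem hzR (htR 1)) (htR 2)
    have h3 : g1 * t 3 * g1⁻¹ ∈ R := by
      have : g1 * t 3 * g1⁻¹ = z * t 1 * t 3 := Units.ext (by
        show u1 * (t 3 : Matrix (Fin 4) (Fin 4) F) * v1 =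
          (z : Matrix (Fin 4) (Fin 4) F) * (t 1 : Matrix (Fin 4) (Fin 4) F) * (t 3 : Matrix (Fin 4) (Fin 4) F)
        rw [k3, hz, smul_mul_assoc, smul_mul_assoc, one_mul])
      rw [this]; exact R.mul_mem (R.mul_mem hzR (htR 1)) (htR 3)
    intro j
    fin_cases j
    exacts [h0, h1, h2', h3]
  have hg2 : g2 ∈ subgroupNormalizer R := by
    refine helper71_norm_frame R w t hfr z hzR hz hfin g2 ?_
    have h0 : g2 * t 0 * g2⁻¹ ∈ R := by
      have : g2 * t 0 * g2⁻¹ = t 0 := Units.ext l0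
      rw [this]; exact htR 0
    have h1 : g2 * t 1 * g2⁻¹ ∈ R := by
      have : g2 * t 1 * g2⁻¹ = t 1 := Units.ext l1
      rw [this]; exact htR 1
    have h2' : g2 * t 2 * g2⁻¹ ∈ R := by
      have : g2 * t 2 * g2⁻¹ = t 3 := Units.ext l2
      rw [this]; exact htR 3
    have h3 : g2 * t 3 * g2⁻¹ ∈ R := by
      have : g2 * t 3 * g2⁻¹ = t 0 * t 1 * t 2 * t 3 := Units.ext l3
      rw [this]; exact R.mul_mem (R.mul_mem (R.mul_mem (htR 0) (htR 1)) (htR 2)) (htR 3)
    intro j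
    fin_cases j
    exacts [h0, h1, h2', h3]
  have p1 : u1 ^ 3 = -1 := by rw [pow_succ, pow_two]; exact c1
  have p2 : u2 ^ 3 = -1 := by rw [pow_succ, pow_two]; exact c2
  refine ⟨g1 * g2, g1 * g1, (subgroupNormalizer R).mul_mem hg1 hg2,
    (subgroupNormalizer R).mul_mem hg1 hg1, ?_, ?_, tr2, tr1⟩
  · apply Units.ext
    rw [Units.val_pow_eq_pow_val]
    show (u1 * u2) ^ 3 = 1
    have cm' : Commute u1 u2 := cm
    rw [cm'.mul_pow, p1, p2]
    simp
  · apply Units.ext
    rw [Units.val_pow_eq_pow_val]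
    show (u1 * u1) ^ 3 = 1
    rw [← pow_two, ← pow_mul, show 2 * 3 = 3 * 2 from rfl, pow_mul, p1]
    simp

end Cfsg.Agent.Lib.helper89.S60
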