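import Mathlib
import Cfsg.Agent.Lib.helper27.Radical
import Cfsg.Agent.Lib.helper27.Signalizer
import Cfsg.Agent.Lib.helper65.Fitting

/-!
# Subnormalizers of `p`-subgroups (Casolo)

For a `p`-subgroup `H` of a finite group `G`, `H` is subnormal in `⟨H, g⟩` iff `g` normalizes
some `p`-subgroup containing `H`; such a `g` normalizes a radical `p`-subgroup containing `H`,
and radical `p`-subgroups are intersections of Sylow `p`-subgroups.
-/

set_option autoImplicit false

namespace Cfsg.Agent.Lib.helper71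

variable {G : Type*} [Group G]

theorem le_normalizer_map_subtype_of_normal (X : Subgroup G) (K : Subgroup ↥X) [hK : K.Normal] :
    X ≤ Subgroup.normalizer ((K.map X.subtype : Subgroup G) : Set G) := by
  intro x hx
  rw [Subgroup.mem_normalizer_iff]
  intro h
  constructor
  · rintro ⟨k, hk, rfl⟩
    exact ⟨⟨x, hx⟩ * k * ⟨x, hx⟩⁻¹, hK.conj_mem k hk ⟨x, hx⟩, rfl⟩
  · rintro ⟨k, hk, hkeq⟩
    refine ⟨⟨x, hx⟩⁻¹ * k * ⟨x, hx⟩, ?_, ?_⟩
    · have := hK.conj_mem k hk ⟨x, hx⟩⁻¹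
      simpa using this
    · have h1 : X.subtype (⟨x, hx⟩⁻¹ * k * ⟨x, hx⟩) = x⁻¹ * X.subtype k * x := rfl
      rw [h1, hkeq]
      group

variable [Finite G]

/-- Wielandt's criterion, local form: a `p`-subgroup `H` is subnormal in `⟨H, g⟩` iff `g`
normalizes some `p`-subgroup containing `H`. -/
theorem subnormal_sup_zpowers_iff (p : ℕ) [Fact p.Prime] (H : Subgroup G) (hH : IsPGroup p H)
    (g : G) :
    (H.subgroupOf (H ⊔ Subgroup.zpowers g)).IsSubnormal ↔
      ∃ R : Subgroup G, IsPGroup p R ∧ H ≤ R ∧ g ∈ Subgroup.normalizer (R : Set G) := by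
  constructor
  · intro hsn
    have hHX : H ≤ H ⊔ Subgroup.zpowers g := le_sup_left
    have hg : g ∈ H ⊔ Subgroup.zpowers g := le_sup_right (α := Subgroup G) (Subgroup.mem_zpowers g)
    refine ⟨(Cfsg.pCore p ↥(H ⊔ Subgroup.zpowers g)).map (H ⊔ Subgroup.zpowers g).subtype,
      Cfsg.Agent.Lib.helper27.map_pCore_isPGroup p _,
      Cfsg.Agent.Lib.helper27.le_map_pCore_of_subnormal hHX hsn hH, ?_⟩
    exact le_normalizer_map_subtype_of_normal _ _ hg
  · rintro ⟨R, hR, hHR, hg⟩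
    have hXN : H ⊔ Subgroup.zpowers g ≤ Subgroup.normalizer (R : Set G) :=
      sup_le (hHR.trans Subgroup.le_normalizer) (by rw [Subgroup.zpowers_le]; exact hg)
    have hn : (R.subgroupOf (H ⊔ Subgroup.zpowers g)).Normal :=
      Subgroup.normal_subgroupOf_of_le_normalizer hXN
    have hp : IsPGroup p ↥(R.subgroupOf (H ⊔ Subgroup.zpowers g)) := hR.comap_subtype
    have hnil : Group.IsNilpotent ↥(R.subgroupOf (H ⊔ Subgroup.zpowers g)) := hp.isNilpotent
    exact Cfsg.Agent.Lib.helper65.isSubnormal_of_le_of_isNilpotent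
      (Subgroup.comap_mono hHR) hn.isSubnormal hnil

/-- If `g` normalizes a `p`-subgroup `R₁`, it normalizes a radical `p`-subgroup containing it. -/
theorem exists_radical_ge (p : ℕ) [Fact p.Prime] (R₁ : Subgroup G) (hR₁ : IsPGroup p R₁) (g : G)
    (hg : g ∈ Subgroup.normalizer (R₁ : Set G)) :
    ∃ R : Subgroup G, R₁ ≤ R ∧
      (Cfsg.pCore p ↥(Subgroup.normalizer (R : Set G))).map
        (Subgroup.normalizer (R : Set G)).subtype = R ∧
      g ∈ Subgroup.normalizer (R : Set G) := by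
  obtain ⟨R, hR₁R, hmax⟩ := (Set.toFinite
    {R : Subgroup G | IsPGroup p R ∧ g ∈ Subgroup.normalizer (R : Set G)}).exists_le_maximal
      (a := R₁) ⟨hR₁, hg⟩
  obtain ⟨⟨hRp, hgR⟩, hmax'⟩ := hmax
  refine ⟨R, hR₁R, ?_, hgR⟩
  have h1 : R ≤ (Cfsg.pCore p ↥(Subgroup.normalizer (R : Set G))).map
      (Subgroup.normalizer (R : Set G)).subtype :=
    Cfsg.Agent.Lib.helper27.le_map_pCore_of_normal Subgroup.le_normalizer le_rfl hRp
  have h2 : g ∈ Subgroup.normalizer (((Cfsg.pCore p ↥(Subgroup.normalizer (R : Set G))).map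
      (Subgroup.normalizer (R : Set G)).subtype : Subgroup G) : Set G) :=
    le_normalizer_map_subtype_of_normal _ _ hgR
  exact le_antisymm (hmax' ⟨Cfsg.Agent.Lib.helper27.map_pCore_isPGroup p _, h2⟩ h1) h1

/-- A radical `p`-subgroup is the intersection of the Sylow `p`-subgroups containing it. -/
theorem sInf_sylow_eq_of_radical (p : ℕ) [Fact p.Prime] (R : Subgroup G)
    (hrad : (Cfsg.pCore p ↥(Subgroup.normalizer (R : Set G))).map
        (Subgroup.normalizer (R : Set G)).subtype = R) :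
    sInf {K : Subgroup G | ∃ Q : Sylow p G, R ≤ (Q : Subgroup G) ∧ K = (Q : Subgroup G)} = R := by
  have hR : IsPGroup p R := by
    rw [← hrad]
    exact Cfsg.Agent.Lib.helper27.map_pCore_isPGroup p _
  set W := sInf {K : Subgroup G | ∃ Q : Sylow p G, R ≤ (Q : Subgroup G) ∧ K = (Q : Subgroup G)}
    with hW
  have hRW : R ≤ W := by
    apply le_sInf
    rintro K ⟨Q, hQ, rfl⟩
    exact hQ
  have hWp : IsPGroup p W := by
    obtain ⟨Q, hQ⟩ := hR.exists_le_sylow
    exact Q.isPGroup'.to_le (sInf_le ⟨Q, hQ, rfl⟩)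
  -- conjugation by elements of `N(R)` preserves `W`
  have hconj : ∀ n ∈ Subgroup.normalizer (R : Set G), ∀ h ∈ W, n * h * n⁻¹ ∈ W := by
    intro n hn h hh
    rw [hW, Subgroup.mem_sInf]
    rintro K ⟨Q, hQ, rfl⟩
    have hQ' : R ≤ ((n⁻¹ • Q : Sylow p G) : Subgroup G) := by
      intro r hr
      rw [Sylow.coe_subgroup_smul, Subgroup.mem_pointwise_smul_iff_inv_smul_mem]
      have : n * r * n⁻¹ ∈ R := (Subgroup.mem_normalizer_iff.mp hn r).mp hr
      simpa [MulAut.smul_def] using hQ this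
    have h1 : h ∈ ((n⁻¹ • Q : Sylow p G) : Subgroup G) := by
      have hh' : h ∈ sInf {K : Subgroup G | ∃ Q : Sylow p G, R ≤ (Q : Subgroup G) ∧
          K = (Q : Subgroup G)} := hh
      exact Subgroup.mem_sInf.mp hh' ((n⁻¹ • Q : Sylow p G) : Subgroup G) ⟨n⁻¹ • Q, hQ', rfl⟩
    rw [Sylow.coe_subgroup_smul, Subgroup.mem_pointwise_smul_iff_inv_smul_mem] at h1
    simpa [MulAut.smul_def] using h1
  have hNW : Subgroup.normalizer (R : Set G) ≤
      Subgroup.normalizer ((W ⊓ Subgroup.normalizer (R : Set G) : Subgroup G) : Set G) := by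
    intro n hn
    rw [Subgroup.mem_normalizer_iff]
    intro h
    rw [Subgroup.mem_inf, Subgroup.mem_inf]
    constructor
    · rintro ⟨h1, h2⟩
      exact ⟨hconj n hn h h1, mul_mem (mul_mem hn h2) (inv_mem hn)⟩
    · rintro ⟨h1, h2⟩
      have e : h = n⁻¹ * (n * h * n⁻¹) * n⁻¹⁻¹ := by group
      rw [e]
      exact ⟨hconj n⁻¹ (inv_mem hn) _ h1, mul_mem (mul_mem (inv_mem hn) h2) (inv_mem (inv_mem hn))⟩
  have hle : W ⊓ Subgroup.normalizer (R : Set G) ≤ R := by
    have := Cfsg.Agent.Lib.helper27.le_map_pCore_of_normal (p := p)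
      (inf_le_right : W ⊓ Subgroup.normalizer (R : Set G) ≤ Subgroup.normalizer (R : Set G))
      hNW (hWp.to_le inf_le_left)
    rwa [hrad] at this
  by_contra hne
  obtain ⟨x, hx, hxR⟩ := Cfsg.Agent.Lib.helper27.exists_mem_normalizer_not_mem p hWp hRW
    (fun h => hne h.symm)
  exact hxR (hle ⟨hx.2, hx.1⟩)

end Cfsg.Agent.Lib.helper71
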