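import Mathlib
import Cfsg.Agent.Lib.helper71.Subnormalizer

/-!
# Casolo's formula for the subnormalizer of a `p`-subgroup

For a `p`-subgroup `H` of a finite group `G`, the number of `g ∈ G` that normalize some
`p`-subgroup containing `H` (equivalently, with `H` subnormal in `⟨H, g⟩`) equals
`∑_{Q ∈ Syl_p(G), H ≤ Q} |N_G(Q)|`.

The proof is by induction on `|G| - |H|`, using a Möbius-type weight `ν` on the `p`-subgroups
`K` with `H < K ≤ N_G(H)`.
-/

set_option autoImplicit false

universe u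

namespace Cfsg.Agent.Lib.helper71

open Classical in
/-- integer indicator of a proposition -/
noncomputable def ind (P : Prop) : ℤ := if P then 1 else 0

theorem ind_of {P : Prop} (h : P) : ind P = 1 := by
  classical
  exact if_pos h

theorem ind_not {P : Prop} (h : ¬ P) : ind P = 0 := by
  classical
  exact if_neg h

theorem ind_congr {P Q : Prop} (h : P ↔ Q) : ind P = ind Q := by
  rw [propext h]

theorem ind_or {P Q : Prop} : ind (P ∨ Q) = ind P + ind Q - ind (P ∧ Q) := by
  by_cases hP : P <;> by_cases hQ : Q <;> simp [ind, hP, hQ]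

theorem natCard_subtype_eq_sum_ind {α : Type*} [Fintype α] (P : α → Prop) :
    (Nat.card {a : α // P a} : ℤ) = ∑ a, ind (P a) := by
  classical
  rw [Nat.card_eq_fintype_card, Fintype.card_subtype]
  unfold ind
  rw [Finset.sum_boole]

/-- Existence of a Möbius-type weight on a finite set of a partial order. -/
theorem exists_nu {α : Type*} [PartialOrder α] (𝒦 : Finset α) :
    ∃ ν : α → ℤ, ∀ L ∈ 𝒦, ∑ K ∈ 𝒦, ν K * ind (K ≤ L) = 1 := by
  classical
  induction' h : 𝒦.card with n ih generalizing 𝒦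
  · rw [Finset.card_eq_zero] at h
    subst h
    exact ⟨fun _ => 0, by simp⟩
  · have hne : 𝒦.Nonempty := by
      rw [← Finset.card_pos]; omega
    obtain ⟨M, hM⟩ := 𝒦.exists_maximal hne
    have hMmem : M ∈ 𝒦 := hM.1
    obtain ⟨ν', hν'⟩ := ih (𝒦.erase M) (by rw [Finset.card_erase_of_mem hMmem]; omega)
    refine ⟨Function.update ν' M (1 - ∑ K ∈ 𝒦.erase M, ν' K * ind (K ≤ M)), ?_⟩
    intro L hL
    rw [← Finset.add_sum_erase 𝒦 _ hMmem]
    have hsum : ∀ L' : α, ∑ K ∈ 𝒦.erase M,
        Function.update ν' M (1 - ∑ K ∈ 𝒦.erase M, ν' K * ind (K ≤ M)) K * ind (K ≤ L') =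
        ∑ K ∈ 𝒦.erase M, ν' K * ind (K ≤ L') := by
      intro L'
      apply Finset.sum_congr rfl
      intro K hK
      rw [Function.update_of_ne (Finset.ne_of_mem_erase hK)]
    rw [hsum, Function.update_self]
    by_cases hLM : L = M
    · subst hLM
      rw [ind_of le_rfl]
      ring
    · have hnle : ¬ M ≤ L := by
        intro hle
        exact hLM (le_antisymm (hM.2 hL hle) hle)
      rw [ind_not hnle, mul_zero, zero_add]
      exact hν' L (Finset.mem_erase.mpr ⟨hLM, hL⟩)

/-- Inclusion-exclusion for a Möbius-type weight: the weighted count of the down-set generated by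
a nonempty meet-closed family is `1`. -/
theorem sum_nu_of_inf_closed {α : Type*} [SemilatticeInf α] (𝒦 : Finset α) (ν : α → ℤ)
    (hν : ∀ L ∈ 𝒦, ∑ K ∈ 𝒦, ν K * ind (K ≤ L) = 1) :
    ∀ (n : ℕ) (ℒ : Finset α), ℒ.card = n → ℒ.Nonempty → (∀ L ∈ ℒ, L ∈ 𝒦) →
      (∀ L₁ ∈ ℒ, ∀ L₂ ∈ ℒ, L₁ ⊓ L₂ ∈ ℒ) →
      ∑ K ∈ 𝒦, ν K * ind (∃ L ∈ ℒ, K ≤ L) = 1 := by
  classical
  intro n
  induction' n using Nat.strong_induction_on with n ih
  intro ℒ hcard hne hsub hinf
  obtain ⟨M, hM⟩ := ℒ.exists_maximal hne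
  have hMmem : M ∈ ℒ := hM.1
  have hmax : ∀ L ∈ ℒ, M ≤ L → L = M := fun L hL hle => le_antisymm (hM.2 hL hle) hle
  by_cases hne' : (ℒ.erase M).Nonempty
  · -- the family without `M`
    have hinf' : ∀ L₁ ∈ ℒ.erase M, ∀ L₂ ∈ ℒ.erase M, L₁ ⊓ L₂ ∈ ℒ.erase M := by
      intro L₁ h₁ L₂ h₂
      rw [Finset.mem_erase] at h₁ h₂ ⊢
      refine ⟨?_, hinf L₁ h₁.2 L₂ h₂.2⟩
      intro h
      exact h₁.1 (hmax L₁ h₁.2 (h ▸ inf_le_left))
    have hcard' : (ℒ.erase M).card < n := by
      rw [Finset.card_erase_of_mem hMmem]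
      have : 0 < ℒ.card := Finset.card_pos.mpr hne
      omega
    have h1 := ih _ hcard' (ℒ.erase M) rfl hne'
      (fun L hL => hsub L (Finset.mem_of_mem_erase hL)) hinf'
    -- the family of meets with `M`
    have himg_sub : (ℒ.erase M).image (fun L => L ⊓ M) ⊆ ℒ.erase M := by
      intro L hL
      rw [Finset.mem_image] at hL
      obtain ⟨L', hL', rfl⟩ := hL
      rw [Finset.mem_erase] at hL' ⊢
      refine ⟨?_, hinf L' hL'.2 M hMmem⟩
      intro h
      exact hL'.1 (hmax L' hL'.2 (h ▸ inf_le_left))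
    have hcard'' : ((ℒ.erase M).image (fun L => L ⊓ M)).card < n :=
      lt_of_le_of_lt (Finset.card_le_card himg_sub) hcard'
    have h2 := ih _ hcard'' ((ℒ.erase M).image (fun L => L ⊓ M)) rfl (hne'.image _)
      (fun L hL => hsub L (Finset.mem_of_mem_erase (himg_sub hL)))
      (by
        intro L₁ h₁ L₂ h₂
        rw [Finset.mem_image] at h₁ h₂ ⊢
        obtain ⟨A, hA, rfl⟩ := h₁
        obtain ⟨B, hB, rfl⟩ := h₂
        refine ⟨A ⊓ B, hinf' A hA B hB, ?_⟩
        rw [inf_inf_distrib_right])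
    have h3 := hν M (hsub M hMmem)
    have key : ∀ K : α, ind (∃ L ∈ ℒ, K ≤ L) =
        ind (∃ L ∈ ℒ.erase M, K ≤ L) + ind (K ≤ M) -
          ind (∃ L ∈ (ℒ.erase M).image (fun L => L ⊓ M), K ≤ L) := by
      intro K
      have e1 : (∃ L ∈ ℒ, K ≤ L) ↔ ((∃ L ∈ ℒ.erase M, K ≤ L) ∨ K ≤ M) := by
        constructor
        · rintro ⟨L, hL, hKL⟩
          by_cases hLM : L = M
          · right; rw [← hLM]; exact hKL
          · left; exact ⟨L, Finset.mem_erase.mpr ⟨hLM, hL⟩, hKL⟩
        · rintro (⟨L, hL, hKL⟩ | hKM)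
          · exact ⟨L, Finset.mem_of_mem_erase hL, hKL⟩
          · exact ⟨M, hMmem, hKM⟩
      have e2 : (∃ L ∈ (ℒ.erase M).image (fun L => L ⊓ M), K ≤ L) ↔
          ((∃ L ∈ ℒ.erase M, K ≤ L) ∧ K ≤ M) := by
        constructor
        · rintro ⟨L, hL, hKL⟩
          rw [Finset.mem_image] at hL
          obtain ⟨L', hL', rfl⟩ := hL
          exact ⟨⟨L', hL', hKL.trans inf_le_left⟩, hKL.trans inf_le_right⟩
        · rintro ⟨⟨L, hL, hKL⟩, hKM⟩
          exact ⟨L ⊓ M, Finset.mem_image_of_mem _ hL, le_inf hKL hKM⟩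
      rw [ind_congr e1, ind_congr e2, ind_or]
    calc ∑ K ∈ 𝒦, ν K * ind (∃ L ∈ ℒ, K ≤ L)
        = ∑ K ∈ 𝒦, (ν K * ind (∃ L ∈ ℒ.erase M, K ≤ L) + ν K * ind (K ≤ M) -
            ν K * ind (∃ L ∈ (ℒ.erase M).image (fun L => L ⊓ M), K ≤ L)) := by
          apply Finset.sum_congr rfl
          intro K _
          rw [key K]
          ring
      _ = 1 := by
          rw [Finset.sum_sub_distrib, Finset.sum_add_distrib, h1, h2, h3]
          norm_num
  · -- `ℒ = {M}`
    rw [Finset.not_nonempty_iff_eq_empty] at hne'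
    have hall : ∀ L ∈ ℒ, L = M := by
      intro L hL
      by_contra hLM
      have : L ∈ ℒ.erase M := Finset.mem_erase.mpr ⟨hLM, hL⟩
      rw [hne'] at this
      exact absurd this (Finset.notMem_empty L)
    have h3 := hν M (hsub M hMmem)
    rw [← h3]
    apply Finset.sum_congr rfl
    intro K _
    congr 1
    apply ind_congr
    constructor
    · rintro ⟨L, hL, hKL⟩
      rw [← hall L hL]; exact hKL
    · intro hKM
      exact ⟨M, hMmem, hKM⟩


section GroupPart

variable {G : Type u} [Group G]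

/-- `g` normalizes some `p`-subgroup containing `H`. -/
def InS (p : ℕ) (H : Subgroup G) (g : G) : Prop :=
  ∃ R : Subgroup G, IsPGroup p R ∧ H ≤ R ∧ g ∈ Subgroup.normalizer (R : Set G)

theorem InS.mono {p : ℕ} {H K : Subgroup G} (hHK : H ≤ K) {g : G} (h : InS p K g) :
    InS p H g := by
  obtain ⟨R, hR, hKR, hg⟩ := h
  exact ⟨R, hR, hHK.trans hKR, hg⟩

theorem mem_normalizer_inf {A B : Subgroup G} {g : G}
    (hA : g ∈ Subgroup.normalizer (A : Set G)) (hB : g ∈ Subgroup.normalizer (B : Set G)) :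
    g ∈ Subgroup.normalizer ((A ⊓ B : Subgroup G) : Set G) := by
  rw [Subgroup.mem_normalizer_iff] at hA hB ⊢
  intro h
  rw [Subgroup.mem_inf, Subgroup.mem_inf, hA h, hB h]

theorem inS_subgroupOf_iff {p : ℕ} (N K : Subgroup G) (hKN : K ≤ N) (g : ↥N) :
    InS p (K.subgroupOf N) g ↔ InS p K (g : G) := by
  constructor
  · rintro ⟨R', hR', hKR', hg⟩
    refine ⟨R'.map N.subtype, hR'.map _, ?_, ?_⟩
    · rw [← Subgroup.map_subgroupOf_eq_of_le hKN]
      exact Subgroup.map_mono hKR'
    · exact Subgroup.le_normalizer_map N.subtype (Subgroup.mem_map_of_mem _ hg)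
  · rintro ⟨R, hR, hKR, hg⟩
    refine ⟨R.subgroupOf N, hR.comap_subtype, Subgroup.comap_mono hKR, ?_⟩
    rw [Subgroup.mem_normalizer_iff] at hg ⊢
    intro h
    rw [Subgroup.mem_subgroupOf, Subgroup.mem_subgroupOf]
    exact hg h

theorem normal_pGroup_le_sylow {p : ℕ} [Fact p.Prime] (A : Subgroup G) [A.Normal]
    (hA : IsPGroup p A) (T : Sylow p G) : A ≤ (T : Subgroup G) := by
  have h : IsPGroup p ↥(A ⊔ (T : Subgroup G)) := IsPGroup.to_sup_of_normal_left hA T.isPGroup'
  have h2 := T.is_maximal' h le_sup_right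
  rw [← h2]
  exact le_sup_left

variable [Finite G]

theorem card_lt_of_lt {H K : Subgroup G} (h : H < K) : Nat.card H < Nat.card K := by
  by_contra hc
  exact h.ne (Subgroup.eq_of_le_of_card_ge h.le (not_lt.mp hc))

theorem lt_inf_normalizer (p : ℕ) [Fact p.Prime] {H R : Subgroup G} (hR : IsPGroup p R)
    (hHR : H ≤ R) (hne : R ≠ H) : H < R ⊓ Subgroup.normalizer (H : Set G) := by
  obtain ⟨x, hx, hxH⟩ := Cfsg.Agent.Lib.helper27.exists_mem_normalizer_not_mem p hR hHR
    (fun h => hne h.symm)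
  refine lt_of_le_of_ne (le_inf hHR Subgroup.le_normalizer) ?_
  intro h
  apply hxH
  rw [h]
  exact ⟨hx.2, hx.1⟩

theorem card_sylow_mul_card_normalizer (p : ℕ) [Fact p.Prime] (T : Sylow p G) :
    Nat.card (Sylow p G) * Nat.card (Subgroup.normalizer ((T : Subgroup G) : Set G)) =
      Nat.card G := by
  rw [Sylow.card_eq_index_normalizer T, mul_comm]
  exact Subgroup.card_mul_index _

theorem card_normalizer_sylow_eq (p : ℕ) [Fact p.Prime] (T T₀ : Sylow p G) :
    Nat.card (Subgroup.normalizer ((T : Subgroup G) : Set G)) =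
      Nat.card (Subgroup.normalizer ((T₀ : Subgroup G) : Set G)) := by
  have h := (card_sylow_mul_card_normalizer p T).trans (card_sylow_mul_card_normalizer p T₀).symm
  have hpos : 0 < Nat.card (Sylow p G) := Nat.card_pos
  exact Nat.eq_of_mul_eq_mul_left hpos h

theorem sum_card_normalizer_sylow (p : ℕ) [Fact p.Prime] [Fintype (Sylow p G)] :
    ∑ T : Sylow p G, (Nat.card (Subgroup.normalizer ((T : Subgroup G) : Set G)) : ℤ) =
      Nat.card G := by
  obtain ⟨T₀⟩ : Nonempty (Sylow p G) := inferInstance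
  rw [Finset.sum_congr rfl (fun T _ => by rw [card_normalizer_sylow_eq p T T₀]),
    Finset.sum_const, Finset.card_univ, nsmul_eq_mul, ← Nat.card_eq_fintype_card]
  exact_mod_cast card_sylow_mul_card_normalizer p T₀

end GroupPart

/-- Casolo's formula, induction form. -/
theorem card_inS_aux (p : ℕ) [Fact p.Prime] : ∀ (n : ℕ) (G : Type u) [Group G] [Finite G]
    (H : Subgroup G), IsPGroup p H → Nat.card G - Nat.card H = n →
    (Nat.card {g : G // InS p H g} : ℤ) =
      ∑ᶠ Q : Sylow p G, ind (H ≤ (Q : Subgroup G)) *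
        (Nat.card (Subgroup.normalizer ((Q : Subgroup G) : Set G)) : ℤ) := by
  intro n
  induction' n using Nat.strong_induction_on with n ih
  intro G _ _ H hH hn
  classical
  letI : Fintype G := Fintype.ofFinite G
  letI : Fintype (Sylow p G) := Fintype.ofFinite _
  letI : Fintype (Subgroup G) := Fintype.ofFinite _
  rw [finsum_eq_sum_of_fintype]
  by_cases hmax : ∀ K : Subgroup G, IsPGroup p K → H ≤ K → K = H
  · -- base case: `H` is a Sylow subgroup
    have h1 : ∀ g : G, InS p H g ↔ g ∈ Subgroup.normalizer (H : Set G) := by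
      intro g
      constructor
      · rintro ⟨R, hR, hHR, hg⟩
        rw [hmax R hR hHR] at hg
        exact hg
      · intro hg
        exact ⟨H, hH, le_rfl, hg⟩
    have h2 : Nat.card {g : G // InS p H g} = Nat.card (Subgroup.normalizer (H : Set G)) :=
      Nat.card_congr (Equiv.subtypeEquivRight h1)
    rw [h2]
    let Q₀ : Sylow p G := ⟨H, hH, fun {Q} hQ hle => hmax Q hQ hle⟩
    rw [Finset.sum_eq_single Q₀]
    · rw [ind_of (show H ≤ (Q₀ : Subgroup G) from le_rfl), one_mul]
    · intro Q _ hQ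
      rw [ind_not, zero_mul]
      intro hle
      apply hQ
      apply Sylow.ext
      exact hmax Q Q.isPGroup' hle
    · intro h
      exact absurd (Finset.mem_univ _) h
  · -- inductive case
    push Not at hmax
    obtain ⟨K₀, hK₀, hHK₀, hK₀ne⟩ := hmax
    set N := Subgroup.normalizer (H : Set G) with hN
    let 𝒦 : Finset (Subgroup G) := Finset.univ.filter (fun K => IsPGroup p K ∧ H < K ∧ K ≤ N)
    have h𝒦 : ∀ K : Subgroup G, K ∈ 𝒦 ↔ IsPGroup p K ∧ H < K ∧ K ≤ N := by
      intro K
      simp [𝒦]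
    obtain ⟨ν, hν⟩ := exists_nu 𝒦
    have hQN : ∀ Q : Sylow p G, H ≤ (Q : Subgroup G) → (Q : Subgroup G) ⊓ N ∈ 𝒦 := by
      intro Q hQ
      rw [h𝒦]
      refine ⟨Q.isPGroup'.to_le inf_le_left, lt_inf_normalizer p Q.isPGroup' hQ ?_, inf_le_right⟩
      intro h
      apply hK₀ne
      have h3 := Q.is_maximal' hK₀ (h.le.trans hHK₀)
      rw [h3, h]
    have hb : ∀ Q : Sylow p G, ∑ K ∈ 𝒦, ν K * ind (K ≤ (Q : Subgroup G)) =
        ind (H ≤ (Q : Subgroup G)) := by
      intro Q
      by_cases hQ : H ≤ (Q : Subgroup G)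
      · rw [ind_of hQ, ← hν _ (hQN Q hQ)]
        apply Finset.sum_congr rfl
        intro K hK
        congr 1
        apply ind_congr
        have hKN : K ≤ N := ((h𝒦 K).mp hK).2.2
        exact ⟨fun h => le_inf h hKN, fun h => h.trans inf_le_left⟩
      · rw [ind_not hQ]
        apply Finset.sum_eq_zero
        intro K hK
        rw [ind_not, mul_zero]
        intro h
        exact hQ (((h𝒦 K).mp hK).2.1.le.trans h)
    -- the pointwise identity
    have hPI : ∀ g : G, ind (InS p H g) = ind (g ∈ N) +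
        ∑ K ∈ 𝒦, ν K * (ind (InS p K g) - ind (g ∈ N ∧ InS p K g)) := by
      intro g
      by_cases hgN : g ∈ N
      · rw [ind_of (show InS p H g from ⟨H, hH, le_rfl, hgN⟩), ind_of hgN]
        have hz : ∑ K ∈ 𝒦, ν K * (ind (InS p K g) - ind (g ∈ N ∧ InS p K g)) = 0 := by
          apply Finset.sum_eq_zero
          intro K _
          rw [ind_congr (show (g ∈ N ∧ InS p K g) ↔ InS p K g from
            ⟨fun h => h.2, fun h => ⟨hgN, h⟩⟩), sub_self, mul_zero]
        rw [hz, add_zero]
      · rw [ind_not hgN, zero_add]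
        have hz : ∀ K : Subgroup G, ind (g ∈ N ∧ InS p K g) = 0 :=
          fun K => ind_not (fun h => hgN h.1)
        simp only [hz, sub_zero]
        by_cases hS : InS p H g
        · rw [ind_of hS]
          let ℛ : Finset (Subgroup G) := Finset.univ.filter
            (fun R => IsPGroup p R ∧ H ≤ R ∧ g ∈ Subgroup.normalizer (R : Set G))
          have hℛ : ∀ R : Subgroup G, R ∈ ℛ ↔
              IsPGroup p R ∧ H ≤ R ∧ g ∈ Subgroup.normalizer (R : Set G) := by
            intro R
            simp [ℛ]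
          have hℒne : (ℛ.image (fun R => R ⊓ N)).Nonempty := by
            obtain ⟨R, hR⟩ := hS
            exact ⟨R ⊓ N, Finset.mem_image_of_mem _ ((hℛ R).mpr hR)⟩
          have hℒsub : ∀ L ∈ ℛ.image (fun R => R ⊓ N), L ∈ 𝒦 := by
            intro L hL
            obtain ⟨R, hR, rfl⟩ := Finset.mem_image.mp hL
            obtain ⟨hRp, hHR, hgR⟩ := (hℛ R).mp hR
            rw [h𝒦]
            refine ⟨hRp.to_le inf_le_left, lt_inf_normalizer p hRp hHR ?_, inf_le_right⟩
            intro h
            apply hgN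
            rw [h] at hgR
            exact hgR
          have hℒinf : ∀ L₁ ∈ ℛ.image (fun R => R ⊓ N), ∀ L₂ ∈ ℛ.image (fun R => R ⊓ N),
              L₁ ⊓ L₂ ∈ ℛ.image (fun R => R ⊓ N) := by
            intro L₁ h₁ L₂ h₂
            obtain ⟨R₁, hR₁, rfl⟩ := Finset.mem_image.mp h₁
            obtain ⟨R₂, hR₂, rfl⟩ := Finset.mem_image.mp h₂
            obtain ⟨hp₁, hH₁, hg₁⟩ := (hℛ R₁).mp hR₁
            obtain ⟨hp₂, hH₂, hg₂⟩ := (hℛ R₂).mp hR₂
            refine Finset.mem_image.mpr ⟨R₁ ⊓ R₂, (hℛ _).mpr ⟨hp₁.to_le inf_le_left,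
              le_inf hH₁ hH₂, mem_normalizer_inf hg₁ hg₂⟩, ?_⟩
            rw [inf_inf_distrib_right]
          have hsum := sum_nu_of_inf_closed 𝒦 ν hν _ (ℛ.image (fun R => R ⊓ N)) rfl hℒne
            hℒsub hℒinf
          refine hsum.symm.trans ?_
          apply Finset.sum_congr rfl
          intro K hK
          congr 1
          apply ind_congr
          obtain ⟨hKp, hHK, hKN⟩ := (h𝒦 K).mp hK
          constructor
          · rintro ⟨L, hL, hKL⟩
            obtain ⟨R, hR, rfl⟩ := Finset.mem_image.mp hL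
            obtain ⟨hRp, hHR, hgR⟩ := (hℛ R).mp hR
            exact ⟨R, hRp, hKL.trans inf_le_left, hgR⟩
          · rintro ⟨R, hR, hKR, hgR⟩
            exact ⟨R ⊓ N, Finset.mem_image_of_mem _ ((hℛ R).mpr ⟨hR, hHK.le.trans hKR, hgR⟩),
              le_inf hKR hKN⟩
        · rw [ind_not hS]
          symm
          apply Finset.sum_eq_zero
          intro K hK
          rw [ind_not, mul_zero]
          intro h
          exact hS (h.mono ((h𝒦 K).mp hK).2.1.le)
    -- induction hypotheses
    have hIH1 : ∀ K ∈ 𝒦, (Nat.card {g : G // InS p K g} : ℤ) =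
        ∑ Q : Sylow p G, ind (K ≤ (Q : Subgroup G)) *
          (Nat.card (Subgroup.normalizer ((Q : Subgroup G) : Set G)) : ℤ) := by
      intro K hK
      obtain ⟨hKp, hHK, hKN⟩ := (h𝒦 K).mp hK
      have hlt := card_lt_of_lt hHK
      have hle : Nat.card K ≤ Nat.card G := Subgroup.card_le_card_group K
      have h3 := ih (Nat.card G - Nat.card K) (by omega) G K hKp rfl
      rw [finsum_eq_sum_of_fintype] at h3
      exact h3
    letI : Fintype ↥N := Fintype.ofFinite _
    letI : Fintype (Sylow p ↥N) := Fintype.ofFinite _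
    have hIH2 : ∀ K ∈ 𝒦, (Nat.card {g : G // g ∈ N ∧ InS p K g} : ℤ) =
        ∑ T : Sylow p ↥N, ind (K.subgroupOf N ≤ (T : Subgroup ↥N)) *
          (Nat.card (Subgroup.normalizer ((T : Subgroup ↥N) : Set ↥N)) : ℤ) := by
      intro K hK
      obtain ⟨hKp, hHK, hKN⟩ := (h𝒦 K).mp hK
      have hlt := card_lt_of_lt hHK
      have hcard : Nat.card (K.subgroupOf N) = Nat.card K :=
        Nat.card_congr (Subgroup.subgroupOfEquivOfLe hKN).toEquiv
      have hle : Nat.card (K.subgroupOf N) ≤ Nat.card ↥N := Subgroup.card_le_card_group _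
      have hle2 : Nat.card ↥N ≤ Nat.card G := Subgroup.card_le_card_group N
      have h3 := ih (Nat.card ↥N - Nat.card (K.subgroupOf N)) (by omega) ↥N (K.subgroupOf N)
        hKp.comap_subtype rfl
      rw [finsum_eq_sum_of_fintype] at h3
      rw [← h3]
      congr 1
      apply Nat.card_congr
      exact (Equiv.subtypeSubtypeEquivSubtypeInter (fun g : G => g ∈ N)
        (fun g => InS p K g)).symm.trans
          (Equiv.subtypeEquivRight (fun g' => (inS_subgroupOf_iff N K hKN g').symm))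
    have hc : ∀ T : Sylow p ↥N, ∑ K ∈ 𝒦, ν K * ind (K.subgroupOf N ≤ (T : Subgroup ↥N)) = 1 := by
      intro T
      have hLT : (T : Subgroup ↥N).map N.subtype ∈ 𝒦 := by
        rw [h𝒦]
        refine ⟨T.isPGroup'.map _, ?_, Subgroup.map_subtype_le _⟩
        have hHT : H.subgroupOf N ≤ (T : Subgroup ↥N) := by
          haveI : (H.subgroupOf N).Normal :=
            Subgroup.normal_subgroupOf_of_le_normalizer le_rfl
          exact normal_pGroup_le_sylow (H.subgroupOf N) hH.comap_subtype T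
        have hle : H ≤ (T : Subgroup ↥N).map N.subtype := by
          rw [← Subgroup.map_subgroupOf_eq_of_le (Subgroup.le_normalizer : H ≤ N)]
          exact Subgroup.map_mono hHT
        refine lt_of_le_of_ne hle ?_
        intro heq
        have hA : H < K₀ ⊓ N := lt_inf_normalizer p hK₀ hHK₀ hK₀ne
        have hAp : IsPGroup p ↥((K₀ ⊓ N).subgroupOf N) :=
          (hK₀.to_le inf_le_left).comap_subtype
        obtain ⟨T', hT'⟩ := hAp.exists_le_sylow
        have c1 : Nat.card ((K₀ ⊓ N).subgroupOf N) = Nat.card ↥(K₀ ⊓ N) :=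
          Nat.card_congr (Subgroup.subgroupOfEquivOfLe inf_le_right).toEquiv
        have c2 : Nat.card ((K₀ ⊓ N).subgroupOf N) ≤ Nat.card (T' : Subgroup ↥N) :=
          Subgroup.card_le_of_le hT'
        have c3 : Nat.card (T' : Subgroup ↥N) = Nat.card (T : Subgroup ↥N) := by
          rw [Sylow.card_eq_multiplicity, Sylow.card_eq_multiplicity]
        have c4 : Nat.card ((T : Subgroup ↥N).map N.subtype) = Nat.card (T : Subgroup ↥N) :=
          Subgroup.card_map_of_injective N.subtype_injective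
        have c5 := card_lt_of_lt hA
        rw [← heq] at c4
        omega
      rw [← hν _ hLT]
      apply Finset.sum_congr rfl
      intro K hK
      congr 1
      apply ind_congr
      have hKN : K ≤ N := ((h𝒦 K).mp hK).2.2
      constructor
      · intro h
        rw [← Subgroup.map_subgroupOf_eq_of_le hKN]
        exact Subgroup.map_mono h
      · intro h x hx
        have h4 : (x : G) ∈ (T : Subgroup ↥N).map N.subtype := h (Subgroup.mem_subgroupOf.mp hx)
        obtain ⟨y, hy, hyx⟩ := h4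
        have h5 : y = x := Subtype.ext hyx
        rw [← h5]
        exact hy
    -- the total
    have hNcard : ∑ g : G, ind (g ∈ N) = (Nat.card ↥N : ℤ) :=
      (natCard_subtype_eq_sum_ind (fun g : G => g ∈ N)).symm
    rw [natCard_subtype_eq_sum_ind, Finset.sum_congr rfl (fun g _ => hPI g),
      Finset.sum_add_distrib, hNcard, Finset.sum_comm]
    have hK : ∀ K ∈ 𝒦, ∑ g : G, ν K * (ind (InS p K g) - ind (g ∈ N ∧ InS p K g)) =
        ν K * (∑ Q : Sylow p G, ind (K ≤ (Q : Subgroup G)) *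
          (Nat.card (Subgroup.normalizer ((Q : Subgroup G) : Set G)) : ℤ)) -
        ν K * (∑ T : Sylow p ↥N, ind (K.subgroupOf N ≤ (T : Subgroup ↥N)) *
          (Nat.card (Subgroup.normalizer ((T : Subgroup ↥N) : Set ↥N)) : ℤ)) := by
      intro K hK
      rw [← Finset.mul_sum, Finset.sum_sub_distrib, ← natCard_subtype_eq_sum_ind,
        ← natCard_subtype_eq_sum_ind, hIH1 K hK, hIH2 K hK, mul_sub]
    rw [Finset.sum_congr rfl hK, Finset.sum_sub_distrib]
    have e1 : ∑ K ∈ 𝒦, ν K * (∑ Q : Sylow p G, ind (K ≤ (Q : Subgroup G)) *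
          (Nat.card (Subgroup.normalizer ((Q : Subgroup G) : Set G)) : ℤ)) =
        ∑ Q : Sylow p G, ind (H ≤ (Q : Subgroup G)) *
          (Nat.card (Subgroup.normalizer ((Q : Subgroup G) : Set G)) : ℤ) := by
      simp_rw [Finset.mul_sum]
      rw [Finset.sum_comm]
      apply Finset.sum_congr rfl
      intro Q _
      rw [← hb Q, Finset.sum_mul]
      apply Finset.sum_congr rfl
      intro K _
      ring
    have e2 : ∑ K ∈ 𝒦, ν K * (∑ T : Sylow p ↥N, ind (K.subgroupOf N ≤ (T : Subgroup ↥N)) *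
          (Nat.card (Subgroup.normalizer ((T : Subgroup ↥N) : Set ↥N)) : ℤ)) =
        (Nat.card ↥N : ℤ) := by
      simp_rw [Finset.mul_sum]
      rw [Finset.sum_comm, ← sum_card_normalizer_sylow (G := ↥N) p]
      apply Finset.sum_congr rfl
      intro T _
      calc ∑ K ∈ 𝒦, ν K * (ind (K.subgroupOf N ≤ (T : Subgroup ↥N)) *
            (Nat.card (Subgroup.normalizer ((T : Subgroup ↥N) : Set ↥N)) : ℤ))
          = (∑ K ∈ 𝒦, ν K * ind (K.subgroupOf N ≤ (T : Subgroup ↥N))) *
            (Nat.card (Subgroup.normalizer ((T : Subgroup ↥N) : Set ↥N)) : ℤ) := by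
            rw [Finset.sum_mul]
            apply Finset.sum_congr rfl
            intro K _
            ring
        _ = (Nat.card (Subgroup.normalizer ((T : Subgroup ↥N) : Set ↥N)) : ℤ) := by
            rw [hc T, one_mul]
    rw [e1, e2]
    ring

/-- **Casolo's formula**: the number of elements normalizing some `p`-subgroup containing the
`p`-subgroup `H` is the number of Sylow `p`-subgroups containing `H` times `|N_G(P)|`. -/
theorem card_inS (p : ℕ) [Fact p.Prime] {G : Type u} [Group G] [Finite G] (H : Subgroup G)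
    (hH : IsPGroup p H) (P : Sylow p G) :
    Nat.card {g : G // InS p H g} = Nat.card {Q : Sylow p G // H ≤ (Q : Subgroup G)} *
      Nat.card (Subgroup.normalizer ((P : Subgroup G) : Set G)) := by
  classical
  letI : Fintype (Sylow p G) := Fintype.ofFinite _
  have h := card_inS_aux p _ G H hH rfl
  rw [finsum_eq_sum_of_fintype] at h
  have h2 : ∀ Q : Sylow p G, (Nat.card (Subgroup.normalizer ((Q : Subgroup G) : Set G)) : ℤ) =
      Nat.card (Subgroup.normalizer ((P : Subgroup G) : Set G)) := fun Q => by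
    rw [card_normalizer_sylow_eq p Q P]
  rw [Finset.sum_congr rfl (fun Q _ => by rw [h2 Q]), ← Finset.sum_mul,
    ← natCard_subtype_eq_sum_ind] at h
  exact_mod_cast h


theorem natCard_eq_mul_of_fiber {α β : Type*} [Finite α] [Finite β] (f : α → β) (c : ℕ)
    (h : ∀ b : β, Nat.card {a : α // f a = b} = c) : Nat.card α = Nat.card β * c := by
  classical
  letI : Fintype β := Fintype.ofFinite β
  rw [Nat.card_congr (Equiv.sigmaFiberEquiv f).symm, Nat.card_sigma]
  simp only [h]
  rw [Finset.sum_const, Finset.card_univ, smul_eq_mul, Nat.card_eq_fintype_card]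

section Conj

variable {G : Type u} [Group G]

theorem map_conj_mul (H : Subgroup G) (x y : G) :
    H.map (MulAut.conj (x * y)).toMonoidHom =
      (H.map (MulAut.conj y).toMonoidHom).map (MulAut.conj x).toMonoidHom := by
  rw [Subgroup.map_map]
  congr 1
  ext z
  simp [mul_assoc]

theorem map_conj_one (H : Subgroup G) : H.map (MulAut.conj (1 : G)).toMonoidHom = H := by
  ext z
  simp

theorem map_conj_inv_map_conj (H : Subgroup G) (x : G) :
    (H.map (MulAut.conj x).toMonoidHom).map (MulAut.conj x⁻¹).toMonoidHom = H := by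
  rw [← map_conj_mul, inv_mul_cancel, map_conj_one]

theorem map_conj_map_conj_inv (H : Subgroup G) (x : G) :
    (H.map (MulAut.conj x⁻¹).toMonoidHom).map (MulAut.conj x).toMonoidHom = H := by
  rw [← map_conj_mul, mul_inv_cancel, map_conj_one]

theorem mem_normalizer_iff_map_conj (H : Subgroup G) (x : G) :
    x ∈ Subgroup.normalizer (H : Set G) ↔ H.map (MulAut.conj x).toMonoidHom = H :=
  Subgroup.mem_normalizer_iff_map_conj_eq

theorem map_conj_le_iff_le_smul {p : ℕ} (H : Subgroup G) (P : Sylow p G) (x : G) :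
    H.map (MulAut.conj x).toMonoidHom ≤ (P : Subgroup G) ↔
      H ≤ ((x⁻¹ • P : Sylow p G) : Subgroup G) := by
  rw [Sylow.coe_subgroup_smul, Subgroup.subset_pointwise_smul_iff, ← map_inv, inv_inv]
  rfl

variable [Finite G]

/-- Counting the `x` with `H^x ≤ P` by the Sylow subgroup `P^(x⁻¹)`. -/
theorem card_conj_le_eq_sylow (p : ℕ) [Fact p.Prime] (H : Subgroup G) (P : Sylow p G) :
    Nat.card {x : G // H.map (MulAut.conj x).toMonoidHom ≤ (P : Subgroup G)} =
      Nat.card {Q : Sylow p G // H ≤ (Q : Subgroup G)} *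
        Nat.card (Subgroup.normalizer ((P : Subgroup G) : Set G)) := by
  apply natCard_eq_mul_of_fiber
    (fun x : {x : G // H.map (MulAut.conj x).toMonoidHom ≤ (P : Subgroup G)} =>
      (⟨x.1⁻¹ • P, (map_conj_le_iff_le_smul H P x.1).mp x.2⟩ :
        {Q : Sylow p G // H ≤ (Q : Subgroup G)}))
  rintro ⟨Q, hQ⟩
  obtain ⟨g, rfl⟩ := MulAction.exists_smul_eq G P Q
  have e1 : {a : {x : G // H.map (MulAut.conj x).toMonoidHom ≤ (P : Subgroup G)} //
      (⟨a.1⁻¹ • P, (map_conj_le_iff_le_smul H P a.1).mp a.2⟩ :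
        {Q : Sylow p G // H ≤ (Q : Subgroup G)}) = ⟨g • P, hQ⟩} ≃
      {x : G // x⁻¹ • P = g • P} :=
    { toFun := fun a => ⟨a.1.1, congrArg Subtype.val a.2⟩
      invFun := fun x => ⟨⟨x.1, (map_conj_le_iff_le_smul H P x.1).mpr (by rw [x.2]; exact hQ)⟩,
        Subtype.ext x.2⟩
      left_inv := fun a => rfl
      right_inv := fun x => rfl }
  rw [Nat.card_congr e1]
  apply Nat.card_congr
  refine Equiv.subtypeEquiv (Equiv.mulRight g) ?_
  intro x
  show x⁻¹ • P = g • P ↔ x * g ∈ Subgroup.normalizer ((P : Subgroup G) : Set G)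
  have key : (x * g) • P = P ↔ x * g ∈ Subgroup.normalizer ((P : Subgroup G) : Set G) :=
    Sylow.smul_eq_iff_mem_normalizer
  rw [← key, mul_smul]
  constructor
  · intro h
    rw [← h, smul_inv_smul]
  · intro h
    calc x⁻¹ • P = x⁻¹ • (x • g • P) := by rw [h]
      _ = g • P := inv_smul_smul _ _

/-- Counting the `x` with `H^x ≤ P` by the conjugate `H^x`. -/
theorem card_conj_le_eq_conj (p : ℕ) (H : Subgroup G) (P : Sylow p G) :
    Nat.card {x : G // H.map (MulAut.conj x).toMonoidHom ≤ (P : Subgroup G)} =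
      Nat.card {K : Subgroup G // K ≤ (P : Subgroup G) ∧
        ∃ g : G, K = H.map (MulAut.conj g).toMonoidHom} *
        Nat.card (Subgroup.normalizer (H : Set G)) := by
  apply natCard_eq_mul_of_fiber
    (fun x : {x : G // H.map (MulAut.conj x).toMonoidHom ≤ (P : Subgroup G)} =>
      (⟨H.map (MulAut.conj x.1).toMonoidHom, x.2, x.1, rfl⟩ :
        {K : Subgroup G // K ≤ (P : Subgroup G) ∧
          ∃ g : G, K = H.map (MulAut.conj g).toMonoidHom}))
  rintro ⟨K, hKP, g, rfl⟩
  have e1 : {a : {x : G // H.map (MulAut.conj x).toMonoidHom ≤ (P : Subgroup G)} //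
      (⟨H.map (MulAut.conj a.1).toMonoidHom, a.2, a.1, rfl⟩ :
        {K : Subgroup G // K ≤ (P : Subgroup G) ∧
          ∃ g : G, K = H.map (MulAut.conj g).toMonoidHom}) =
        ⟨H.map (MulAut.conj g).toMonoidHom, hKP, g, rfl⟩} ≃
      {x : G // H.map (MulAut.conj x).toMonoidHom = H.map (MulAut.conj g).toMonoidHom} :=
    { toFun := fun a => ⟨a.1.1, congrArg Subtype.val a.2⟩
      invFun := fun x => ⟨⟨x.1, by rw [x.2]; exact hKP⟩, Subtype.ext x.2⟩
      left_inv := fun a => rfl
      right_inv := fun x => rfl }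
  rw [Nat.card_congr e1]
  apply Nat.card_congr
  refine Equiv.subtypeEquiv (Equiv.mulLeft g⁻¹) ?_
  intro x
  show H.map (MulAut.conj x).toMonoidHom = H.map (MulAut.conj g).toMonoidHom ↔
    g⁻¹ * x ∈ Subgroup.normalizer (H : Set G)
  rw [mem_normalizer_iff_map_conj, map_conj_mul]
  constructor
  · intro h
    rw [h, map_conj_inv_map_conj]
  · intro h
    rw [← map_conj_map_conj_inv (H.map (MulAut.conj x).toMonoidHom) g, h]

end Conj

end Cfsg.Agent.Lib.helper71
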