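import Mathlib
import Cfsg.Agent.Lib.helper71.SubnormalizerCount
import Cfsg.Agent.Lib.helper13.PCoreAct

/-!
# The subnormalizer of a `p`-subgroup along a `p`-series

For a chain of normal subgroups `1 = M₀ ≤ ⋯ ≤ Mₙ = G` with `p`- or `p'`-factors, the number of
`x` with `H^x ≤ P` is `|P| ∏ |C_{M_{i+1}/M_i}(H)|` over the `p'`-factors.
-/

set_option autoImplicit false

universe u

namespace Cfsg.Agent.Lib.helper71

theorem telescope_prod : ∀ (n : ℕ) (E : Fin (n + 1) → ℕ) (t c : Fin n → ℕ),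
    (∀ i : Fin n, E i.castSucc * t i = E i.succ * c i) →
    E 0 * ∏ i, t i = E (Fin.last n) * ∏ i, c i := by
  intro n
  induction n with
  | zero =>
    intro E t c _
    simp
  | succ n ih =>
    intro E t c h
    have h1 := ih (fun j => E j.succ) (fun i => t i.succ) (fun i => c i.succ) (by
      intro i
      have h2 := h i.succ
      rw [← Fin.succ_castSucc] at h2
      exact h2)
    have h0 := h 0
    rw [Fin.castSucc_zero] at h0
    rw [Fin.prod_univ_succ, Fin.prod_univ_succ]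
    have h3 : E (Fin.last n).succ = E (Fin.last (n + 1)) := by rw [Fin.succ_last]
    rw [h3] at h1
    calc E 0 * (t 0 * ∏ i : Fin n, t i.succ) = (E 0 * t 0) * ∏ i : Fin n, t i.succ := by ring
      _ = (E (Fin.succ 0) * c 0) * ∏ i : Fin n, t i.succ := by rw [h0]
      _ = c 0 * (E (Fin.succ 0) * ∏ i : Fin n, t i.succ) := by ring
      _ = c 0 * (E (Fin.last (n + 1)) * ∏ i : Fin n, c i.succ) := by rw [h1]
      _ = E (Fin.last (n + 1)) * (c 0 * ∏ i : Fin n, c i.succ) := by ring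

section Solv

variable {G : Type u} [Group G]

theorem map_conj_le_of_mem {Y K : Subgroup G} (hK : K ≤ Y) {g : G} (hg : g ∈ Y) :
    K.map (MulAut.conj g).toMonoidHom ≤ Y := by
  rintro _ ⟨k, hk, rfl⟩
  show g * k * g⁻¹ ∈ Y
  exact mul_mem (mul_mem hg (hK hk)) (inv_mem hg)

/-- the preimage in `B` of the centralizer of `H` in `B/A` -/
def commSub (H A B : Subgroup G) [hA : A.Normal] : Subgroup G where
  carrier := {u | u ∈ B ∧ ∀ h ∈ H, h * u * h⁻¹ * u⁻¹ ∈ A}
  mul_mem' := by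
    rintro u v ⟨hu, hu'⟩ ⟨hv, hv'⟩
    refine ⟨mul_mem hu hv, fun h hh => ?_⟩
    have e : h * (u * v) * h⁻¹ * (u * v)⁻¹ =
        (h * u * h⁻¹ * u⁻¹) * (u * (h * v * h⁻¹ * v⁻¹) * u⁻¹) := by group
    rw [e]
    exact mul_mem (hu' h hh) (hA.conj_mem _ (hv' h hh) u)
  one_mem' := ⟨one_mem _, fun h _ => by simp⟩
  inv_mem' := by
    rintro u ⟨hu, hu'⟩
    refine ⟨inv_mem hu, fun h hh => ?_⟩
    have e : h * u⁻¹ * h⁻¹ * u⁻¹⁻¹ = u⁻¹ * (h * u * h⁻¹ * u⁻¹)⁻¹ * u⁻¹⁻¹ := by group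
    rw [e]
    exact hA.conj_mem _ (inv_mem (hu' h hh)) u⁻¹

theorem le_commSub (H A B : Subgroup G) [hA : A.Normal] (hAB : A ≤ B) : A ≤ commSub H A B := by
  intro a ha
  refine ⟨hAB ha, fun h _ => ?_⟩
  exact mul_mem (hA.conj_mem a ha h) (inv_mem ha)

variable [Finite G]

theorem card_dvd_card_comm (H A B : Subgroup G) [hA : A.Normal] (hAB : A ≤ B) :
    Nat.card A ∣ Nat.card {u : G // u ∈ B ∧ ∀ h ∈ H, h * u * h⁻¹ * u⁻¹ ∈ A} :=
  Subgroup.card_dvd_of_le (le_commSub H A B hAB)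

variable (p : ℕ) [Fact p.Prime]

theorem sup_inf_le_of_coprime (P : Sylow p G) (A B : Subgroup G) [A.Normal] (hAB : A ≤ B)
    (hcop : (A.relIndex B).Coprime p) : ((P : Subgroup G) ⊔ A) ⊓ B ≤ A := by
  intro g hg
  rw [Subgroup.mem_inf] at hg
  obtain ⟨hg1, hg2⟩ := hg
  obtain ⟨q, hq, a, ha, rfl⟩ := Subgroup.mem_sup_of_normal_right.mp hg1
  have hqB : q ∈ B := by
    have e : q = (q * a) * a⁻¹ := by group
    rw [e]
    exact mul_mem hg2 (inv_mem (hAB ha))
  have h1 : q ^ A.relIndex B ∈ A := Subgroup.pow_relIndex_mem A hqB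
  have h2 : (A.relIndex B).Coprime (orderOf q) := by
    obtain ⟨k, hk⟩ := P.isPGroup' ⟨q, hq⟩
    have hk' : q ^ p ^ k = 1 := by
      have := congrArg Subtype.val hk
      simpa using this
    have hdvd : orderOf q ∣ p ^ k := orderOf_dvd_of_pow_eq_one hk'
    exact Nat.Coprime.coprime_dvd_right hdvd (Nat.Coprime.pow_right k hcop)
  obtain ⟨m, hm⟩ := exists_pow_eq_self_of_coprime h2
  have hqA : q ∈ A := by
    rw [← hm]
    exact pow_mem h1 m
  exact mul_mem hqA ha

theorem map_conj_le_sup_iff (P : Sylow p G) (A B : Subgroup G) [hA : A.Normal] [hB : B.Normal]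
    (hAB : A ≤ B) (hcop : (A.relIndex B).Coprime p) (H' : Subgroup G)
    (hH' : H' ≤ (P : Subgroup G)) (b : G) (hb : b ∈ B) :
    H'.map (MulAut.conj b).toMonoidHom ≤ (P : Subgroup G) ⊔ A ↔
      ∀ h ∈ H', h * b * h⁻¹ * b⁻¹ ∈ A := by
  constructor
  · intro hle h hh
    have h1 : b * h * b⁻¹ ∈ (P : Subgroup G) ⊔ A := hle ⟨h, hh, rfl⟩
    have h2 : b * h * b⁻¹ * h⁻¹ ∈ ((P : Subgroup G) ⊔ A) ⊓ B := by
      rw [Subgroup.mem_inf]
      refine ⟨mul_mem h1 (inv_mem (le_sup_left (α := Subgroup G) (hH' hh))), ?_⟩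
      have e : b * h * b⁻¹ * h⁻¹ = b * (h * b⁻¹ * h⁻¹) := by group
      rw [e]
      exact mul_mem hb (hB.conj_mem b⁻¹ (inv_mem hb) h)
    have h3 := sup_inf_le_of_coprime p P A B hAB hcop h2
    have e : h * b * h⁻¹ * b⁻¹ = (b * h * b⁻¹ * h⁻¹)⁻¹ := by group
    rw [e]
    exact inv_mem h3
  · intro hall
    rintro _ ⟨h, hh, rfl⟩
    show b * h * b⁻¹ ∈ (P : Subgroup G) ⊔ A
    have e : b * h * b⁻¹ = (h * b * h⁻¹ * b⁻¹)⁻¹ * h := by group
    rw [e]
    exact mul_mem (le_sup_right (α := Subgroup G) (inv_mem (hall h hh)))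
      (le_sup_left (α := Subgroup G) (hH' hh))

theorem exists_conj_le_sylow (P : Sylow p G) (B : Subgroup G) [B.Normal] (K : Subgroup G)
    (hK : IsPGroup p K) (hKle : K ≤ (P : Subgroup G) ⊔ B) :
    ∃ b ∈ B, K.map (MulAut.conj b).toMonoidHom ≤ (P : Subgroup G) := by
  have hKY : IsPGroup p ↥(K.subgroupOf ((P : Subgroup G) ⊔ B)) := hK.comap_subtype
  obtain ⟨T, hT⟩ := hKY.exists_le_sylow
  obtain ⟨y, hy⟩ := MulAction.exists_smul_eq ↥((P : Subgroup G) ⊔ B)
    (P.subtype (le_sup_left : (P : Subgroup G) ≤ (P : Subgroup G) ⊔ B)) T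
  obtain ⟨q, hq, b, hb, hqb⟩ := Subgroup.mem_sup_of_normal_right.mp
    (inv_mem y.2 : (y : G)⁻¹ ∈ (P : Subgroup G) ⊔ B)
  refine ⟨b, hb, ?_⟩
  rintro _ ⟨k, hk, rfl⟩
  have hkY : k ∈ (P : Subgroup G) ⊔ B := hKle hk
  have h1 : (⟨k, hkY⟩ : ↥((P : Subgroup G) ⊔ B)) ∈ (T : Subgroup ↥((P : Subgroup G) ⊔ B)) :=
    hT (Subgroup.mem_subgroupOf.mpr hk)
  rw [← hy, Sylow.coe_subgroup_smul, Subgroup.mem_pointwise_smul_iff_inv_smul_mem,
    Sylow.coe_subtype, Subgroup.mem_subgroupOf] at h1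
  have h2 : (y : G)⁻¹ * k * ((y : G)⁻¹)⁻¹ ∈ (P : Subgroup G) := by
    simpa [MulAut.smul_def] using h1
  rw [← hqb] at h2
  show b * k * b⁻¹ ∈ (P : Subgroup G)
  have e : b * k * b⁻¹ = q⁻¹ * ((q * b) * k * (q * b)⁻¹) * q := by group
  rw [e]
  exact mul_mem (mul_mem (inv_mem hq) h2) hq

theorem sup_eq_of_relIndex_pow (P : Sylow p G) (A B : Subgroup G) [B.Normal] (hAB : A ≤ B)
    (h : ∃ m : ℕ, A.relIndex B = p ^ m) :
    (P : Subgroup G) ⊔ A = (P : Subgroup G) ⊔ B := by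
  apply le_antisymm (sup_le_sup_left hAB _)
  apply sup_le le_sup_left
  exact (Cfsg.Agent.Lib.helper13.le_sup_sylow_inf_of_relIndex_pow P A B h).trans
    (sup_le le_sup_right (inf_le_left.trans le_sup_left))

end Solv

section Solv2

variable {G : Type u} [Group G] [Finite G] (p : ℕ) [Fact p.Prime]

/-- The `p'`-step: passing from `P B` to `P A` when `|B : A|` is prime to `p`. -/
theorem card_step_coprime (H : Subgroup G) (hH : IsPGroup p H) (P : Sylow p G)
    (A B : Subgroup G) [hA : A.Normal] [hB : B.Normal] (hAB : A ≤ B)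
    (hcop : (A.relIndex B).Coprime p) :
    Nat.card {x : G // H.map (MulAut.conj x).toMonoidHom ≤ (P : Subgroup G) ⊔ A} * Nat.card B =
      Nat.card {x : G // H.map (MulAut.conj x).toMonoidHom ≤ (P : Subgroup G) ⊔ B} *
        Nat.card {u : G // u ∈ B ∧ ∀ h ∈ H, h * u * h⁻¹ * u⁻¹ ∈ A} := by
  have hsup : (P : Subgroup G) ⊔ A ≤ (P : Subgroup G) ⊔ B := sup_le_sup_left hAB _
  have hW1 : Nat.card {w : G × G // w.1 ∈ B ∧
      H.map (MulAut.conj w.2).toMonoidHom ≤ (P : Subgroup G) ⊔ B ∧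
      H.map (MulAut.conj (w.1 * w.2)).toMonoidHom ≤ (P : Subgroup G) ⊔ A} =
      Nat.card B * Nat.card {x : G // H.map (MulAut.conj x).toMonoidHom ≤ (P : Subgroup G) ⊔ A} := by
    rw [← Nat.card_prod]
    apply Nat.card_congr
    exact
      { toFun := fun w => (⟨w.1.1, w.2.1⟩, ⟨w.1.1 * w.1.2, w.2.2.2⟩)
        invFun := fun z => ⟨(z.1.1, z.1.1⁻¹ * z.2.1), z.1.2, by
            show H.map (MulAut.conj (z.1.1⁻¹ * z.2.1)).toMonoidHom ≤ (P : Subgroup G) ⊔ B
            rw [map_conj_mul]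
            exact map_conj_le_of_mem (z.2.2.trans hsup)
              (le_sup_right (α := Subgroup G) (inv_mem z.1.2)), by
            show H.map (MulAut.conj (z.1.1 * (z.1.1⁻¹ * z.2.1))).toMonoidHom ≤ (P : Subgroup G) ⊔ A
            rw [mul_inv_cancel_left]
            exact z.2.2⟩
        left_inv := fun w => Subtype.ext (Prod.ext rfl (inv_mul_cancel_left _ _))
        right_inv := fun z => Prod.ext (Subtype.ext rfl) (Subtype.ext (mul_inv_cancel_left _ _)) }
  have hW2 : Nat.card {w : G × G // w.1 ∈ B ∧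
      H.map (MulAut.conj w.2).toMonoidHom ≤ (P : Subgroup G) ⊔ B ∧
      H.map (MulAut.conj (w.1 * w.2)).toMonoidHom ≤ (P : Subgroup G) ⊔ A} =
      Nat.card {x : G // H.map (MulAut.conj x).toMonoidHom ≤ (P : Subgroup G) ⊔ B} *
        Nat.card {u : G // u ∈ B ∧ ∀ h ∈ H, h * u * h⁻¹ * u⁻¹ ∈ A} := by
    apply natCard_eq_mul_of_fiber
      (fun w : {w : G × G // w.1 ∈ B ∧
        H.map (MulAut.conj w.2).toMonoidHom ≤ (P : Subgroup G) ⊔ B ∧
        H.map (MulAut.conj (w.1 * w.2)).toMonoidHom ≤ (P : Subgroup G) ⊔ A} =>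
        (⟨w.1.2, w.2.2.1⟩ :
          {x : G // H.map (MulAut.conj x).toMonoidHom ≤ (P : Subgroup G) ⊔ B}))
    rintro ⟨x, hx⟩
    -- the fibre over `x`
    have e1 : {w : {w : G × G // w.1 ∈ B ∧
        H.map (MulAut.conj w.2).toMonoidHom ≤ (P : Subgroup G) ⊔ B ∧
        H.map (MulAut.conj (w.1 * w.2)).toMonoidHom ≤ (P : Subgroup G) ⊔ A} //
        (⟨w.1.2, w.2.2.1⟩ :
          {x : G // H.map (MulAut.conj x).toMonoidHom ≤ (P : Subgroup G) ⊔ B}) = ⟨x, hx⟩} ≃
        {b : G // b ∈ B ∧ H.map (MulAut.conj (b * x)).toMonoidHom ≤ (P : Subgroup G) ⊔ A} :=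
      { toFun := fun w => ⟨w.1.1.1, w.1.2.1, by
          have h := congrArg Subtype.val w.2
          have h' : w.1.1.2 = x := h
          have h3 := w.1.2.2.2
          rw [h'] at h3
          exact h3⟩
        invFun := fun b => ⟨⟨(b.1, x), b.2.1, hx, b.2.2⟩, rfl⟩
        left_inv := fun w => by
          have h := congrArg Subtype.val w.2
          have h' : w.1.1.2 = x := h
          exact Subtype.ext (Subtype.ext (Prod.ext rfl h'.symm))
        right_inv := fun b => rfl }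
    rw [Nat.card_congr e1]
    -- normalise `x` by an element of `B`
    obtain ⟨b₀, hb₀, hb₀P⟩ := exists_conj_le_sylow p P B (H.map (MulAut.conj x).toMonoidHom)
      (hH.map _) hx
    rw [← map_conj_mul] at hb₀P
    apply Nat.card_congr
    refine Equiv.subtypeEquiv
      { toFun := fun b => (b₀ * x)⁻¹ * b * x
        invFun := fun u => (b₀ * x) * u * x⁻¹
        left_inv := fun b => by group
        right_inv := fun u => by group } ?_
    intro b
    show (b ∈ B ∧ H.map (MulAut.conj (b * x)).toMonoidHom ≤ (P : Subgroup G) ⊔ A) ↔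
      ((b₀ * x)⁻¹ * b * x ∈ B ∧ ∀ h ∈ H, h * ((b₀ * x)⁻¹ * b * x) * h⁻¹ *
        ((b₀ * x)⁻¹ * b * x)⁻¹ ∈ A)
    have hmemB : (b₀ * x)⁻¹ * b * x ∈ B ↔ b ∈ B := by
      have e : (b₀ * x)⁻¹ * b * x = x⁻¹ * (b₀⁻¹ * b) * x⁻¹⁻¹ := by group
      rw [e]
      constructor
      · intro h
        have h2 := hB.conj_mem _ h x
        have e2 : x * (x⁻¹ * (b₀⁻¹ * b) * x⁻¹⁻¹) * x⁻¹ = b₀⁻¹ * b := by group
        rw [e2] at h2
        have e3 : b = b₀ * (b₀⁻¹ * b) := by group
        rw [e3]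
        exact mul_mem hb₀ h2
      · intro h
        exact hB.conj_mem _ (mul_mem (inv_mem hb₀) h) x⁻¹
    rw [hmemB]
    apply and_congr_right
    intro hb
    have hb' : b * b₀⁻¹ ∈ B := mul_mem hb (inv_mem hb₀)
    have e4 : b * x = (b * b₀⁻¹) * (b₀ * x) := by group
    rw [e4, map_conj_mul, map_conj_le_sup_iff p P A B hAB hcop _ hb₀P _ hb']
    constructor
    · intro hall h hh
      have h5 := hall ((b₀ * x) * h * (b₀ * x)⁻¹) ⟨h, hh, rfl⟩
      have e5 : h * ((b₀ * x)⁻¹ * b * x) * h⁻¹ * ((b₀ * x)⁻¹ * b * x)⁻¹ =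
          (b₀ * x)⁻¹ * ((b₀ * x) * h * (b₀ * x)⁻¹ * (b * b₀⁻¹) *
            ((b₀ * x) * h * (b₀ * x)⁻¹)⁻¹ * (b * b₀⁻¹)⁻¹) * (b₀ * x)⁻¹⁻¹ := by group
      rw [e5]
      exact hA.conj_mem _ h5 (b₀ * x)⁻¹
    · intro hall h' hh'
      obtain ⟨h, hh, rfl⟩ := hh'
      show (b₀ * x) * h * (b₀ * x)⁻¹ * (b * b₀⁻¹) * ((b₀ * x) * h * (b₀ * x)⁻¹)⁻¹ *
        (b * b₀⁻¹)⁻¹ ∈ A
      have e6 : (b₀ * x) * h * (b₀ * x)⁻¹ * (b * b₀⁻¹) * ((b₀ * x) * h * (b₀ * x)⁻¹)⁻¹ *
          (b * b₀⁻¹)⁻¹ = (b₀ * x) * (h * ((b₀ * x)⁻¹ * b * x) * h⁻¹ *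
            ((b₀ * x)⁻¹ * b * x)⁻¹) * (b₀ * x)⁻¹ := by group
      rw [e6]
      exact hA.conj_mem _ (hall h hh) (b₀ * x)
  rw [mul_comm, ← hW1, hW2]


/-- The number of `x` with `H^x ≤ P` along a normal series with `p`- or `p'`-factors. -/
theorem card_conj_le_series (H : Subgroup G) (hH : IsPGroup p H) (P : Sylow p G)
    (n : ℕ) (M : Fin (n + 1) → Subgroup G) (h0 : M 0 = ⊥) (hn : M (Fin.last n) = ⊤)
    (hmono : Monotone M) (hnormal : ∀ i, (M i).Normal)
    (hfac : ∀ i : Fin n, (∃ m : ℕ, (M i.castSucc).relIndex (M i.succ) = p ^ m) ∨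
      ((M i.castSucc).relIndex (M i.succ)).Coprime p) :
    Nat.card {x : G // H.map (MulAut.conj x).toMonoidHom ≤ (P : Subgroup G)} =
      Nat.card (P : Subgroup G) *
        ∏ i : Fin n, (if ((M i.castSucc).relIndex (M i.succ)).Coprime p then
          Nat.card {u : G // u ∈ M i.succ ∧ ∀ h ∈ H, h * u * h⁻¹ * u⁻¹ ∈ M i.castSucc} /
            Nat.card (M i.castSucc)
          else 1) := by
  classical
  have hle : ∀ i : Fin n, M i.castSucc ≤ M i.succ := fun i => hmono (Fin.castSucc_lt_succ).le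
  have hcard : ∀ i : Fin n, (M i.castSucc).relIndex (M i.succ) * Nat.card (M i.castSucc) =
      Nat.card (M i.succ) := fun i => Cfsg.Agent.Lib.helper13.relIndex_mul_card_of_le (hle i)
  -- the main telescoping identity
  have hstep : ∀ i : Fin n,
      Nat.card {x : G // H.map (MulAut.conj x).toMonoidHom ≤ (P : Subgroup G) ⊔ M i.castSucc} *
        (if ((M i.castSucc).relIndex (M i.succ)).Coprime p then
          (M i.castSucc).relIndex (M i.succ) else 1) =
      Nat.card {x : G // H.map (MulAut.conj x).toMonoidHom ≤ (P : Subgroup G) ⊔ M i.succ} *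
        (if ((M i.castSucc).relIndex (M i.succ)).Coprime p then
          Nat.card {u : G // u ∈ M i.succ ∧ ∀ h ∈ H, h * u * h⁻¹ * u⁻¹ ∈ M i.castSucc} /
            Nat.card (M i.castSucc)
          else 1) := by
    intro i
    haveI := hnormal i.castSucc
    haveI := hnormal i.succ
    by_cases hc : ((M i.castSucc).relIndex (M i.succ)).Coprime p
    · rw [if_pos hc, if_pos hc]
      have h1 := card_step_coprime p H hH P (M i.castSucc) (M i.succ) (hle i) hc
      have h3 := card_dvd_card_comm H (M i.castSucc) (M i.succ) (hle i)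
      have hpos : 0 < Nat.card (M i.castSucc) := Nat.card_pos
      apply Nat.eq_of_mul_eq_mul_right hpos
      rw [mul_assoc, hcard i, h1, mul_assoc, Nat.div_mul_cancel h3]
    · rw [if_neg hc, if_neg hc, mul_one, mul_one]
      have h1 := sup_eq_of_relIndex_pow p P (M i.castSucc) (M i.succ) (hle i)
        ((hfac i).resolve_right hc)
      rw [h1]
  have htel := telescope_prod n
    (fun i => Nat.card {x : G // H.map (MulAut.conj x).toMonoidHom ≤ (P : Subgroup G) ⊔ M i})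
    _ _ hstep
  rw [h0, hn, sup_bot_eq, sup_top_eq] at htel
  have htop : Nat.card {x : G // H.map (MulAut.conj x).toMonoidHom ≤ (⊤ : Subgroup G)} =
      Nat.card G := Nat.card_congr (Equiv.subtypeUnivEquiv (fun x => le_top))
  rw [htop] at htel
  -- the order of `G`
  have hG := telescope_prod n (fun i => Nat.card (M i))
    (fun i => (M i.castSucc).relIndex (M i.succ)) (fun _ => 1)
    (fun i => by rw [mul_one, mul_comm]; exact hcard i)
  rw [h0, hn, Subgroup.card_bot, Subgroup.card_top, one_mul, Finset.prod_const_one, mul_one] at hG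
  -- split the indices
  have hsplit : ∏ i : Fin n, (M i.castSucc).relIndex (M i.succ) =
      (∏ i : Fin n, (if ((M i.castSucc).relIndex (M i.succ)).Coprime p then
          (M i.castSucc).relIndex (M i.succ) else 1)) *
      ∏ i : Fin n, (if ((M i.castSucc).relIndex (M i.succ)).Coprime p then 1 else
          (M i.castSucc).relIndex (M i.succ)) := by
    rw [← Finset.prod_mul_distrib]
    apply Finset.prod_congr rfl
    intro i _
    by_cases hc : ((M i.castSucc).relIndex (M i.succ)).Coprime p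
    · rw [if_pos hc, if_pos hc, mul_one]
    · rw [if_neg hc, if_neg hc, one_mul]
  have hpow : ∃ k : ℕ, ∏ i : Fin n, (if ((M i.castSucc).relIndex (M i.succ)).Coprime p then 1
      else (M i.castSucc).relIndex (M i.succ)) = p ^ k := by
    have hex : ∀ i : Fin n, ∃ m : ℕ, (if ((M i.castSucc).relIndex (M i.succ)).Coprime p then 1
        else (M i.castSucc).relIndex (M i.succ)) = p ^ m := by
      intro i
      by_cases hc : ((M i.castSucc).relIndex (M i.succ)).Coprime p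
      · exact ⟨0, by rw [if_pos hc, pow_zero]⟩
      · obtain ⟨m, hm⟩ := (hfac i).resolve_right hc
        exact ⟨m, by rw [if_neg hc, hm]⟩
    choose m hm using hex
    exact ⟨∑ i, m i, by rw [Finset.prod_congr rfl (fun i _ => hm i), Finset.prod_pow_eq_pow_sum]⟩
  obtain ⟨k, hk⟩ := hpow
  have hcopT : (∏ i : Fin n, (if ((M i.castSucc).relIndex (M i.succ)).Coprime p then
      (M i.castSucc).relIndex (M i.succ) else 1)).Coprime p := by
    apply Nat.Coprime.prod_left
    intro i _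
    by_cases hc : ((M i.castSucc).relIndex (M i.succ)).Coprime p
    · rw [if_pos hc]; exact hc
    · rw [if_neg hc]; exact Nat.coprime_one_left p
  rw [hsplit, hk] at hG
  -- `|P| = p ^ k`
  have hP : Nat.card (P : Subgroup G) = p ^ k := by
    apply Nat.dvd_antisymm
    · have h1 : Nat.card (P : Subgroup G) ∣ Nat.card G := Subgroup.card_subgroup_dvd_card _
      rw [← hG] at h1
      obtain ⟨j, hj⟩ := IsPGroup.iff_card.mp P.isPGroup'
      have h2 : (Nat.card (P : Subgroup G)).Coprime (∏ i : Fin n,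
          (if ((M i.castSucc).relIndex (M i.succ)).Coprime p then
            (M i.castSucc).relIndex (M i.succ) else 1)) := by
        rw [hj]
        exact Nat.Coprime.pow_left j hcopT.symm
      exact h2.dvd_of_dvd_mul_left h1
    · exact P.pow_dvd_card_of_pow_dvd_card (by rw [← hG]; exact dvd_mul_left _ _)
  have hTpos : 0 < ∏ i : Fin n, (if ((M i.castSucc).relIndex (M i.succ)).Coprime p then
      (M i.castSucc).relIndex (M i.succ) else 1) := by
    rcases Nat.eq_zero_or_pos (∏ i : Fin n, (if ((M i.castSucc).relIndex (M i.succ)).Coprime p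
      then (M i.castSucc).relIndex (M i.succ) else 1)) with h | h
    · rw [h, zero_mul] at hG
      exact absurd hG.symm (Nat.card_pos (α := G)).ne'
    · exact h
  apply Nat.eq_of_mul_eq_mul_right hTpos
  rw [htel, ← hG, hP]
  ring

end Solv2

end Cfsg.Agent.Lib.helper71


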