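import Mathlib

set_option autoImplicit false
set_option linter.style.haveILetI false

namespace Cfsg.Agent.Lib.helper71.ThreeOrb

open Polynomial

section Lin

variable {p q : ℕ} [hp : Fact p.Prime] [hq : Fact q.Prime]
variable {V : Type*} [AddCommGroup V] [Module (ZMod p) V]

theorem aeval_cyclotomic_eq_zero (Y : Module.End (ZMod p) V) (hY : Y ^ q = 1)
    (hfix : ∀ v, Y v = v → v = 0) : aeval Y (cyclotomic q (ZMod p)) = 0 := by
  rw [cyclotomic_prime]
  have h1 : aeval Y (∑ i ∈ Finset.range q, (X : (ZMod p)[X]) ^ i)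
      = ∑ i ∈ Finset.range q, Y ^ i := by
    simp [map_sum]
  rw [h1]
  have h2 : (Y - 1) * ∑ i ∈ Finset.range q, Y ^ i = 0 := by
    rw [mul_geom_sum, hY, sub_self]
  ext v
  have h3 := congrArg (fun f => f v) h2
  simp only [Module.End.mul_apply, LinearMap.sub_apply, Module.End.one_apply,
    LinearMap.zero_apply] at h3
  exact hfix _ (sub_eq_zero.mp h3)

theorem mul_aeval_of_semiconj (A T Y : Module.End (ZMod p) V) (h : A * T = Y * A)
    (f : (ZMod p)[X]) : A * aeval T f = aeval Y f * A := by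
  induction f using Polynomial.induction_on with
  | C a => simp [Algebra.commutes]
  | add f g hf hg => simp [mul_add, add_mul, hf, hg]
  | monomial n a ih =>
    have e1 : aeval T (C a * X ^ (n + 1)) = aeval T (C a * X ^ n) * T := by
      rw [pow_succ, ← mul_assoc, map_mul, aeval_X]
    have e2 : aeval Y (C a * X ^ (n + 1)) = aeval Y (C a * X ^ n) * Y := by
      rw [pow_succ, ← mul_assoc, map_mul, aeval_X]
    rw [e1, e2, ← mul_assoc, ih, mul_assoc, h, ← mul_assoc]

/-- the `AdjoinRoot Φ`-module structure on `AEval' Y` when `Φ(Y) = 0` -/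
@[reducible] noncomputable def kmod (Φ : (ZMod p)[X]) (Y : Module.End (ZMod p) V)
    (hY : aeval Y Φ = 0) : Module (AdjoinRoot Φ) (Module.AEval' Y) :=
  Module.IsTorsionBySet.module (R := (ZMod p)[X]) (I := Ideal.span {Φ})
    ((Module.isTorsionBySet_span_singleton_iff Φ).mpr (fun x => by
      apply (Module.AEval'.of Y).symm.injective
      rw [Module.AEval.of_symm_smul, hY, zero_smul, map_zero]))

theorem kmod_root_smul (Φ : (ZMod p)[X]) (Y : Module.End (ZMod p) V)
    (hY : aeval Y Φ = 0) (m : Module.AEval' Y) :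
    letI := kmod Φ Y hY
    (AdjoinRoot.root Φ) • m = Module.AEval'.of Y (Y ((Module.AEval'.of Y).symm m)) := by
  letI := kmod Φ Y hY
  show (X : (ZMod p)[X]) • m = _
  apply (Module.AEval'.of Y).symm.injective
  rw [Module.AEval.of_symm_X_smul]
  simp

theorem irreducible_cyclotomic_of_orderOf (hpq : p ≠ q) (hord : orderOf (p : ZMod q) = q - 1) :
    Irreducible (cyclotomic q (ZMod p)) := by
  have hnd : ¬ p ∣ q := fun h => hpq ((Nat.prime_dvd_prime_iff_eq hp.out hq.out).mp h)
  refine ZMod.irreducible_of_dvd_cyclotomic_of_natDegree hnd dvd_rfl ?_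
  rw [natDegree_cyclotomic, Nat.totient_prime hq.out, ← hord, ← orderOf_units,
    ZMod.coe_unitOfCoprime]

theorem exists_equiv_of_primitive_root [Finite V] (hpq : p ≠ q)
    (hord : orderOf (p : ZMod q) = q - 1)
    (T : Module.End (ZMod p) V) (hT : T ^ q = 1)
    (hfix : ∀ j, 0 < j → j < q → ∀ v, (T ^ j) v = v → v = 0) :
    (∀ v w : V, v ≠ 0 → w ≠ 0 → ∃ A : V ≃+ V, A v = w ∧ ∀ u, A (T u) = T (A u)) ∧
    (∀ j, 0 < j → j < q → ∃ A : V ≃+ V, ∀ u, A (T u) = (T ^ j) (A u)) := by
  classical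
  set Φ := cyclotomic q (ZMod p) with hΦ
  have hirr : Irreducible Φ := irreducible_cyclotomic_of_orderOf hpq hord
  haveI : Fact (Irreducible Φ) := ⟨hirr⟩
  have hΦj : ∀ j, 0 < j → j < q → aeval (T ^ j) Φ = 0 := by
    intro j hj0 hjq
    refine aeval_cyclotomic_eq_zero (T ^ j) ?_ (hfix j hj0 hjq)
    rw [← pow_mul, mul_comm, pow_mul, hT, one_pow]
  have hq1 : 1 < q := hq.out.one_lt
  have hΦ1 : aeval T Φ = 0 := by simpa using hΦj 1 Nat.one_pos hq1
  haveI : Module.Finite (ZMod p) (AdjoinRoot Φ) := (cyclotomic.monic q (ZMod p)).finite_adjoinRoot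
  haveI : Finite (AdjoinRoot Φ) := Module.finite_of_finite (ZMod p)
  haveI hfinY : ∀ Y : Module.End (ZMod p) V, Finite (Module.AEval' Y) := fun Y =>
    Finite.of_equiv V (Module.AEval'.of Y).toEquiv
  letI i1 := kmod Φ T hΦ1
  constructor
  · intro v w hv hw
    have hv' : Module.AEval'.of T v ≠ 0 := by simpa using hv
    have hw' : Module.AEval'.of T w ≠ 0 := by simpa using hw
    let f := (LinearEquiv.toSpanNonzeroSingleton (AdjoinRoot Φ) _ _ hv').symm ≪≫ₗ
      (LinearEquiv.toSpanNonzeroSingleton (AdjoinRoot Φ) _ _ hw')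
    obtain ⟨g, hg⟩ := Submodule.exists_linearEquiv_restrict_eq f
    refine ⟨((Module.AEval'.of T).toAddEquiv.trans g.toAddEquiv).trans
      (Module.AEval'.of T).symm.toAddEquiv, ?_, fun u => ?_⟩
    · have h1 := hg ⟨_, Submodule.mem_span_singleton_self (Module.AEval'.of T v)⟩
      have h2 : f ⟨_, Submodule.mem_span_singleton_self (Module.AEval'.of T v)⟩
          = ⟨_, Submodule.mem_span_singleton_self (Module.AEval'.of T w)⟩ := by
        simp only [f, LinearEquiv.trans_apply]
        rw [← LinearEquiv.toSpanNonzeroSingleton_one (AdjoinRoot Φ) _ _ hv',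
          LinearEquiv.symm_apply_apply, LinearEquiv.toSpanNonzeroSingleton_one]
      rw [h2] at h1
      simp [← h1]
    · have h1 := g.map_smul (AdjoinRoot.root Φ) (Module.AEval'.of T u)
      rw [kmod_root_smul Φ T hΦ1, kmod_root_smul Φ T hΦ1] at h1
      simpa using congrArg (Module.AEval'.of T).symm h1
  · intro j hj0 hjq
    letI i2 := kmod Φ (T ^ j) (hΦj j hj0 hjq)
    have hc1 := Module.natCard_eq_pow_finrank (K := AdjoinRoot Φ) (V := Module.AEval' T)
    have hc2 := Module.natCard_eq_pow_finrank (K := AdjoinRoot Φ) (V := Module.AEval' (T ^ j))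
    have hcc : Nat.card (Module.AEval' T) = Nat.card (Module.AEval' (T ^ j)) :=
      Nat.card_congr ((Module.AEval'.of T).symm.toEquiv.trans (Module.AEval'.of (T ^ j)).toEquiv)
    have hK : 1 < Nat.card (AdjoinRoot Φ) := Finite.one_lt_card
    have hfr : Module.finrank (AdjoinRoot Φ) (Module.AEval' T)
        = Module.finrank (AdjoinRoot Φ) (Module.AEval' (T ^ j)) := by
      apply Nat.pow_right_injective hK
      show Nat.card (AdjoinRoot Φ) ^ _ = Nat.card (AdjoinRoot Φ) ^ _
      rw [← hc1, ← hc2, hcc]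
    let e := LinearEquiv.ofFinrankEq (Module.AEval' T) (Module.AEval' (T ^ j)) hfr
    refine ⟨((Module.AEval'.of T).toAddEquiv.trans e.toAddEquiv).trans
      (Module.AEval'.of (T ^ j)).symm.toAddEquiv, fun u => ?_⟩
    have h1 := e.map_smul (AdjoinRoot.root Φ) (Module.AEval'.of T u)
    rw [kmod_root_smul Φ T hΦ1, kmod_root_smul Φ (T ^ j) (hΦj j hj0 hjq)] at h1
    simpa using congrArg (Module.AEval'.of (T ^ j)).symm h1

theorem orderOf_eq_of_transitive [Finite V] [Nontrivial V] (hpq : p ≠ q)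
    (T : Module.End (ZMod p) V) (hT : T ^ q = 1) (hfix : ∀ v, T v = v → v = 0)
    (htrans : ∀ v w : V, v ≠ 0 → w ≠ 0 → ∃ (A : Module.End (ZMod p) V) (j : ℕ),
      Function.Injective A ∧ A v = w ∧ A * T = T ^ j * A)
    (hpow : ∀ j, 0 < j → j < q → ∃ A : Module.End (ZMod p) V,
      Function.Surjective A ∧ A * T = T ^ j * A) :
    orderOf (p : ZMod q) = q - 1 := by
  classical
  set Φ := cyclotomic q (ZMod p) with hΦ
  have hΦT : aeval T Φ = 0 := aeval_cyclotomic_eq_zero T hT hfix
  let ev : V → (ZMod p)[X] →ₗ[ZMod p] V := fun v =>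
    (LinearMap.applyₗ v).comp (aeval T).toLinearMap
  have hev : ∀ v f, ev v f = aeval T f v := fun v f => rfl
  let C : V → Submodule (ZMod p) V := fun v => LinearMap.range (ev v)
  have hcomp : ∀ (f : (ZMod p)[X]) (j : ℕ), aeval T (f.comp (X ^ j)) = aeval (T ^ j) f := by
    intro f j
    rw [aeval_comp, map_pow, aeval_X]
  have hCcard : ∀ v w, v ≠ 0 → w ≠ 0 → Nat.card (C v) ≤ Nat.card (C w) := by
    intro v w hv hw
    obtain ⟨A, j, hAinj, hAv, hAT⟩ := htrans v w hv hw
    have hmaps : ∀ u ∈ C v, A u ∈ C w := by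
      rintro u ⟨f, rfl⟩
      refine ⟨f.comp (X ^ j), ?_⟩
      show aeval T (f.comp (X ^ j)) w = A (aeval T f v)
      have h1 := mul_aeval_of_semiconj A T (T ^ j) hAT f
      rw [hcomp, ← hAv]
      exact (congrArg (fun g => g v) h1).symm
    exact Nat.card_le_card_of_injective (fun u : C v => (⟨A u, hmaps u u.2⟩ : C w))
      (fun a b hab => Subtype.ext (hAinj (Subtype.ext_iff.mp hab)))
  have hCeq : ∀ v w, v ≠ 0 → w ≠ 0 → Nat.card (C v) = Nat.card (C w) := fun v w hv hw =>
    le_antisymm (hCcard v w hv hw) (hCcard w v hw hv)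
  have hself : ∀ v, v ∈ C v := fun v => ⟨1, by simp [hev]⟩
  have hsub : ∀ v u, u ∈ C v → C u ≤ C v := by
    rintro v u ⟨f, rfl⟩ _ ⟨h, rfl⟩
    exact ⟨h * f, by simp [hev, Module.End.mul_apply]⟩
  have hncard : ∀ v, (C v : Set V).ncard = Nat.card (C v) := fun v =>
    (Nat.card_coe_set_eq _).symm
  have hCa : ∀ v u, v ≠ 0 → u ≠ 0 → u ∈ C v → C u = C v := by
    intro v u hv hu huv
    apply SetLike.coe_injective
    apply Set.eq_of_subset_of_ncard_le (hsub v u huv) _ (Set.toFinite _)
    rw [hncard, hncard, hCeq v u hv hu]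
  -- an irreducible factor with nonzero kernel
  obtain ⟨g, hgirr, hgΦ, v₀, hv₀, hgv₀⟩ : ∃ g : (ZMod p)[X], Irreducible g ∧ g ∣ Φ ∧
      ∃ v₀ : V, v₀ ≠ 0 ∧ aeval T g v₀ = 0 := by
    have hex : ∃ n, ∃ f : (ZMod p)[X], f.natDegree = n ∧ f ∣ Φ ∧
        ∃ v : V, v ≠ 0 ∧ aeval T f v = 0 := by
      obtain ⟨v, hv⟩ := exists_ne (0 : V)
      exact ⟨_, Φ, rfl, dvd_rfl, v, hv, by rw [hΦT]; rfl⟩
    obtain ⟨f, hfn, hfΦ, v, hv, hfv⟩ := Nat.find_spec hex
    have hmin := fun m hm => Nat.find_min hex (m := m) hm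
    have hf0 : f ≠ 0 := ne_zero_of_dvd_ne_zero (cyclotomic_ne_zero q _) hfΦ
    have hfu : ¬ IsUnit f := by
      intro hu
      obtain ⟨c, hc⟩ := hu.exists_right_inv
      have h1 : aeval T (c * f) v = v := by rw [mul_comm, hc]; simp
      rw [map_mul, Module.End.mul_apply, hfv, map_zero] at h1
      exact hv h1.symm
    obtain ⟨i, hi, c, rfl⟩ := WfDvdMonoid.exists_irreducible_factor hfu hf0
    by_cases hcv : aeval T c v = 0
    · exfalso
      have hdeg : c.natDegree < (i * c).natDegree := by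
        rw [natDegree_mul (left_ne_zero_of_mul hf0) (right_ne_zero_of_mul hf0)]
        have : 0 < i.natDegree := hi.natDegree_pos
        omega
      exact hmin _ (hfn ▸ hdeg) ⟨c, rfl, (Dvd.intro_left i rfl).trans hfΦ, v, hv, hcv⟩
    · refine ⟨i, hi, (Dvd.intro c rfl).trans hfΦ, aeval T c v, hcv, ?_⟩
      rw [← Module.End.mul_apply, ← map_mul]; exact hfv
  have hS3 : ∀ f : (ZMod p)[X], aeval T f v₀ = 0 → g ∣ f := by
    intro f hf
    by_contra hndvd
    have hcop : IsCoprime g f := (hgirr.coprime_iff_not_dvd).mpr hndvd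
    obtain ⟨a, b, hab⟩ := hcop
    have h1 : aeval T (a * g + b * f) v₀ = v₀ := by rw [hab]; simp
    rw [map_add, map_mul, map_mul, LinearMap.add_apply, Module.End.mul_apply,
      Module.End.mul_apply, hgv₀, hf, map_zero, map_zero, add_zero] at h1
    exact hv₀ h1.symm
  have hS4 : ∀ w, aeval T g w = 0 := by
    intro w
    by_cases hw0 : w = 0
    · rw [hw0, map_zero]
    by_cases hwC : w ∈ C v₀
    · obtain ⟨f, rfl⟩ := hwC
      show aeval T g (aeval T f v₀) = 0
      rw [← Module.End.mul_apply, ← map_mul, mul_comm, map_mul, Module.End.mul_apply, hgv₀,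
        map_zero]
    · have hint : ∀ u, u ∈ C v₀ → u ∈ C w → u = 0 := by
        intro u hu1 hu2
        by_contra hu0
        have e1 := hCa v₀ u hv₀ hu0 hu1
        have e2 := hCa w u hw0 hu0 hu2
        apply hwC
        rw [← e1, e2]
        exact hself w
      have hs0 : v₀ + w ≠ 0 := by
        intro h
        apply hwC
        have h1 : w = -v₀ := (neg_eq_of_add_eq_zero_right h).symm
        rw [h1]
        exact (C v₀).neg_mem (hself v₀)
      have hker : LinearMap.ker (ev (v₀ + w)) ≤ LinearMap.ker (ev v₀) := by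
        intro f hf
        rw [LinearMap.mem_ker] at hf ⊢
        have h0 : aeval T f v₀ + aeval T f w = 0 := by rw [← map_add]; exact hf
        have h1 : aeval T f v₀ = - aeval T f w := eq_neg_of_add_eq_zero_left h0
        refine hint _ ⟨f, rfl⟩ ?_
        show aeval T f v₀ ∈ C w
        rw [h1]
        exact (C w).neg_mem ⟨f, rfl⟩
      have hcard : Nat.card ((ZMod p)[X] ⧸ LinearMap.ker (ev (v₀ + w)))
          = Nat.card ((ZMod p)[X] ⧸ LinearMap.ker (ev v₀)) := by
        rw [Nat.card_congr (ev (v₀ + w)).quotKerEquivRange.toEquiv,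
          Nat.card_congr (ev v₀).quotKerEquivRange.toEquiv]
        exact hCeq (v₀ + w) v₀ hs0 hv₀
      haveI : Finite ((ZMod p)[X] ⧸ LinearMap.ker (ev (v₀ + w))) :=
        Finite.of_equiv _ (ev (v₀ + w)).quotKerEquivRange.symm.toEquiv
      have hbij := (Submodule.factor_surjective hker).bijective_of_nat_card_le hcard.le
      have hg_s : g ∈ LinearMap.ker (ev (v₀ + w)) := by
        have hg0 : g ∈ LinearMap.ker (ev v₀) := hgv₀
        have h1 : Submodule.factor hker (Submodule.mkQ _ g)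
            = Submodule.factor hker (Submodule.mkQ _ 0) := by
          rw [Submodule.factor_mk, Submodule.factor_mk, map_zero]
          exact (Submodule.Quotient.mk_eq_zero _).mpr hg0
        have h2 := hbij.1 h1
        rw [map_zero] at h2
        exact (Submodule.Quotient.mk_eq_zero _).mp h2
      have h3 : aeval T g (v₀ + w) = 0 := hg_s
      rw [map_add, hgv₀, zero_add] at h3
      exact h3
  have hS5 : ∀ j, 0 < j → j < q → g ∣ g.comp (X ^ j) := by
    intro j hj0 hjq
    obtain ⟨A, hAsurj, hAT⟩ := hpow j hj0 hjq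
    apply hS3
    rw [hcomp]
    obtain ⟨u, hu⟩ := hAsurj v₀
    rw [← hu]
    have h1 := mul_aeval_of_semiconj A T (T ^ j) hAT g
    have h3 := congrArg (fun f => f u) h1
    simp only [Module.End.mul_apply] at h3
    rw [← h3, hS4, map_zero]
  haveI : Fact (Irreducible g) := ⟨hgirr⟩
  set ζ := AdjoinRoot.root g with hζ
  have hzero : ∀ f : (ZMod p)[X], g ∣ f → aeval ζ f = 0 := by
    rintro f ⟨c, rfl⟩
    rw [map_mul, AdjoinRoot.aeval_eq, AdjoinRoot.mk_self, zero_mul]
  have hroot : ∀ j, 0 < j → j < q → aeval (ζ ^ j) g = 0 := by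
    intro j hj0 hjq
    have h1 := hzero _ (hS5 j hj0 hjq)
    rwa [aeval_comp, map_pow, aeval_X] at h1
  have hζq : ζ ^ q = 1 := by
    have h1 := hzero _ (hgΦ.trans (cyclotomic.dvd_X_pow_sub_one q (ZMod p)))
    simpa [sub_eq_zero] using h1
  have hnd : ¬ p ∣ q := fun h => hpq ((Nat.prime_dvd_prime_iff_eq hp.out hq.out).mp h)
  have hζ1 : ζ ≠ 1 := by
    intro h1
    have h0 := hzero _ hgΦ
    rw [h1, hΦ, cyclotomic_prime] at h0
    simp at h0
    haveI : CharP (AdjoinRoot g) p :=
      charP_of_injective_algebraMap (algebraMap (ZMod p) (AdjoinRoot g)).injective p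
    exact hnd ((CharP.cast_eq_zero_iff (AdjoinRoot g) p q).mp h0)
  have hq1 : 1 < q := hq.out.one_lt
  have hdeg : q - 1 ≤ g.natDegree := by
    have hord : orderOf ζ = q := orderOf_eq_prime hζq hζ1
    let Z : Finset (AdjoinRoot g) := (Finset.Icc 1 (q - 1)).image (fun j => ζ ^ j)
    have hZcard : Z.card = q - 1 := by
      rw [Finset.card_image_of_injOn, Nat.card_Icc]
      · omega
      intro a ha b hb hab
      simp only [Finset.coe_Icc, Set.mem_Icc] at ha hb
      exact pow_injOn_Iio_orderOf (by rw [hord, Set.mem_Iio]; omega)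
        (by rw [hord, Set.mem_Iio]; omega) hab
    have hZroots : Z.val ⊆ (g.map (algebraMap (ZMod p) (AdjoinRoot g))).roots := by
      intro z hz
      rw [Finset.mem_val, Finset.mem_image] at hz
      obtain ⟨j, hj, rfl⟩ := hz
      rw [Finset.mem_Icc] at hj
      rw [mem_roots (Polynomial.map_ne_zero hgirr.ne_zero), IsRoot.def, eval_map, ← aeval_def]
      exact hroot j (by omega) (by omega)
    have h1 := Polynomial.card_le_degree_of_subset_roots hZroots
    rw [hZcard, natDegree_map] at h1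
    exact h1
  have hcop : p.Coprime q := (Nat.coprime_primes hp.out hq.out).mpr hpq
  have hdeg2 : g.natDegree = orderOf (ZMod.unitOfCoprime _ (hcop.pow_left 1)) :=
    natDegree_of_dvd_cyclotomic_of_irreducible (K := ZMod p) (f := 1) (by simp [ZMod.card])
      hcop hgΦ hgirr
  have hord' : orderOf (p : ZMod q) = g.natDegree := by
    rw [hdeg2, ← orderOf_units, ZMod.coe_unitOfCoprime]; simp
  have hle : orderOf (p : ZMod q) ≤ q - 1 := by
    apply orderOf_le_of_pow_eq_one (by omega)
    apply ZMod.pow_card_sub_one_eq_one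
    intro h
    rw [ZMod.natCast_eq_zero_iff] at h
    exact hpq ((Nat.prime_dvd_prime_iff_eq hq.out hp.out).mp h).symm
  omega

end Lin

end Cfsg.Agent.Lib.helper71.ThreeOrb
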