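import Mathlib
import Cfsg.Agent.Lib.helper71.ThreeOrbLin

set_option autoImplicit false
set_option linter.style.haveILetI false

namespace Cfsg.Agent.Lib.helper71.ThreeOrb

open scoped IsMulCommutative

section Abstract

variable {p q : ℕ} [hp : Fact p.Prime] [hq : Fact q.Prime]
variable {P : Type*} [CommGroup P]

/-- the `ZMod p`-module structure on `Additive P` for `P` of exponent `p` -/
@[reducible] def zmodModuleOfExp (hexp : ∀ u : P, u ^ p = 1) : Module (ZMod p) (Additive P) :=
  AddCommGroup.zmodModule (fun a => by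
    apply Additive.toMul.injective
    rw [toMul_nsmul, hexp]
    rfl)

variable [Module (ZMod p) (Additive P)]

/-- linearization of a group endomorphism of `P` -/
def lin (f : P →* P) : Module.End (ZMod p) (Additive P) :=
  (MonoidHom.toAdditive f).toZModLinearMap p

theorem lin_apply (f : P →* P) (u : Additive P) :
    lin (p := p) f u = Additive.ofMul (f (Additive.toMul u)) := rfl

/-- linearization of group automorphisms of `P` -/
def linHom : MulAut P →* Module.End (ZMod p) (Additive P) where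
  toFun f := lin f.toMonoidHom
  map_one' := by ext; rfl
  map_mul' f g := by ext; rfl

theorem linHom_apply (f : MulAut P) (u : Additive P) :
    linHom (p := p) f u = Additive.ofMul (f (Additive.toMul u)) := rfl

end Abstract

section AbstractThms

variable {p q : ℕ} [hp : Fact p.Prime] [hq : Fact q.Prime]
variable {P : Type*} [CommGroup P]

theorem orderOf_eq_of_transitive_mul [Finite P] [Nontrivial P]
    (hexp : ∀ u : P, u ^ p = 1) (hpq : p ≠ q)
    (Xa : MulAut P) (hX : Xa ^ q = 1) (hfix : ∀ u, Xa u = u → u = 1)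
    (htrans : ∀ v w : P, v ≠ 1 → w ≠ 1 → ∃ (A : P →* P) (j : ℕ),
      Function.Injective A ∧ A v = w ∧ ∀ u, A (Xa u) = (Xa ^ j) (A u))
    (hpow : ∀ j, 0 < j → j < q → ∃ A : P →* P,
      Function.Injective A ∧ ∀ u, A (Xa u) = (Xa ^ j) (A u)) :
    orderOf (p : ZMod q) = q - 1 := by
  haveI : Module (ZMod p) (Additive P) := zmodModuleOfExp hexp
  haveI : Finite (Additive P) := inferInstanceAs (Finite P)
  haveI : Nontrivial (Additive P) := inferInstanceAs (Nontrivial P)
  have hT : (linHom Xa : Module.End (ZMod p) (Additive P)) ^ q = 1 := by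
    rw [← MonoidHom.map_pow, hX, MonoidHom.map_one]
  refine orderOf_eq_of_transitive (V := Additive P) hpq (linHom Xa) hT ?_ ?_ ?_
  · intro v hv
    have h1 := hfix (Additive.toMul v) (congrArg Additive.toMul hv)
    exact congrArg Additive.ofMul h1
  · intro v w hv hw
    obtain ⟨A, j, hAinj, hAv, hA⟩ := htrans (Additive.toMul v) (Additive.toMul w)
      (fun h => hv (congrArg Additive.ofMul h)) (fun h => hw (congrArg Additive.ofMul h))
    refine ⟨lin A, j, ?_, ?_, ?_⟩
    · intro a b hab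
      exact Additive.toMul.injective (hAinj (congrArg Additive.toMul hab))
    · exact congrArg Additive.ofMul hAv
    · ext u
      rw [← map_pow]
      exact congrArg Additive.ofMul (hA (Additive.toMul u))
  · intro j hj0 hjq
    obtain ⟨A, hAinj, hA⟩ := hpow j hj0 hjq
    refine ⟨lin A, ?_, ?_⟩
    · apply Finite.surjective_of_injective
      intro a b hab
      exact Additive.toMul.injective (hAinj (congrArg Additive.toMul hab))
    · ext u
      rw [← map_pow]
      exact congrArg Additive.ofMul (hA (Additive.toMul u))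

theorem exists_mulEquiv_of_primitive_root_mul [Finite P]
    (hexp : ∀ u : P, u ^ p = 1) (hpq : p ≠ q) (hord : orderOf (p : ZMod q) = q - 1)
    (Xa : MulAut P) (hX : Xa ^ q = 1)
    (hfix : ∀ j, 0 < j → j < q → ∀ u, (Xa ^ j) u = u → u = 1) :
    (∀ v w : P, v ≠ 1 → w ≠ 1 → ∃ B : P ≃* P, B v = w ∧ ∀ u, B (Xa u) = Xa (B u)) ∧
    (∀ j, 0 < j → j < q → ∃ B : P ≃* P, ∀ u, B (Xa u) = (Xa ^ j) (B u)) := by
  haveI : Module (ZMod p) (Additive P) := zmodModuleOfExp hexp
  haveI : Finite (Additive P) := inferInstanceAs (Finite P)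
  have hT : (linHom Xa : Module.End (ZMod p) (Additive P)) ^ q = 1 := by
    rw [← MonoidHom.map_pow, hX, MonoidHom.map_one]
  obtain ⟨h1, h2⟩ := exists_equiv_of_primitive_root (V := Additive P) hpq hord (linHom Xa) hT
    (by
      intro j hj0 hjq v hv
      rw [← map_pow] at hv
      have h1 := hfix j hj0 hjq (Additive.toMul v) (congrArg Additive.toMul hv)
      exact congrArg Additive.ofMul h1)
  constructor
  · intro v w hv hw
    obtain ⟨A, hAv, hA⟩ := h1 (Additive.ofMul v) (Additive.ofMul w)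
      (fun h => hv (congrArg Additive.toMul h)) (fun h => hw (congrArg Additive.toMul h))
    refine ⟨MulEquiv.toAdditive.symm A, congrArg Additive.toMul hAv, fun u => ?_⟩
    exact congrArg Additive.toMul (hA (Additive.ofMul u))
  · intro j hj0 hjq
    obtain ⟨A, hA⟩ := h2 j hj0 hjq
    refine ⟨MulEquiv.toAdditive.symm A, fun u => ?_⟩
    have h3 := hA (Additive.ofMul u)
    rw [← map_pow] at h3
    exact congrArg Additive.toMul h3

/-- no `C_q × C_q` acts fixed-point-freely -/
theorem false_of_commuting_pair_mul [Nontrivial P] (hexp : ∀ u : P, u ^ p = 1) (hpq : p ≠ q)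
    {H : Type*} [Group H] (φ : H →* MulAut P) (a z : H) (haz : Commute a z)
    (hfpf : ∀ c : H, orderOf c = q → ∀ u, φ c u = u → u = 1)
    (ho1 : ∀ k, k < q → orderOf (a * z ^ k) = q)
    (ho2 : ∀ i, 0 < i → i < q → orderOf (z ^ i) = q) : False := by
  haveI : Module (ZMod p) (Additive P) := zmodModuleOfExp hexp
  haveI : Nontrivial (Additive P) := inferInstanceAs (Nontrivial P)
  let ρ : H →* Module.End (ZMod p) (Additive P) := linHom.comp φ
  have hN : ∀ c : H, orderOf c = q → ∑ i ∈ Finset.range q, (ρ c) ^ i = 0 := by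
    intro c hc
    have h1 := aeval_cyclotomic_eq_zero (p := p) (q := q) (ρ c)
      (by rw [← map_pow, ← hc, pow_orderOf_eq_one, map_one])
      (by
        intro v hv
        have h1 := hfpf c hc (Additive.toMul v) (congrArg Additive.toMul hv)
        exact congrArg Additive.ofMul h1)
    rw [Polynomial.cyclotomic_prime] at h1
    simpa [map_sum] using h1
  have hsum : ∑ k ∈ Finset.range q, ∑ i ∈ Finset.range q, ρ (a * z ^ k) ^ i = 0 :=
    Finset.sum_eq_zero (fun k hk => hN _ (ho1 k (Finset.mem_range.mp hk)))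
  rw [Finset.sum_comm] at hsum
  have hinner : ∀ i, ∑ k ∈ Finset.range q, ρ (a * z ^ k) ^ i
      = ρ a ^ i * ∑ k ∈ Finset.range q, ρ (z ^ i) ^ k := by
    intro i
    rw [Finset.mul_sum]
    refine Finset.sum_congr rfl (fun k _ => ?_)
    rw [← map_pow, ← map_pow, ← map_pow, ← map_mul]
    congr 1
    rw [(haz.pow_right k).mul_pow, ← pow_mul, ← pow_mul, mul_comm k i]
  have hq1 : 1 < q := hq.out.one_lt
  rw [Finset.sum_eq_single 0] at hsum
  · rw [hinner 0] at hsum
    simp only [pow_zero, map_one, one_pow, one_mul, Finset.sum_const, Finset.card_range] at hsum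
    obtain ⟨v, hv⟩ := exists_ne (0 : Additive P)
    have h2 := congrArg (fun f => f v) hsum
    simp only [LinearMap.smul_apply, Module.End.one_apply, LinearMap.zero_apply] at h2
    have h3 : ((q : ZMod p)) • v = 0 := by
      rw [Nat.cast_smul_eq_nsmul]; exact h2
    rcases smul_eq_zero.mp h3 with h4 | h4
    · rw [ZMod.natCast_eq_zero_iff] at h4
      exact hpq ((Nat.prime_dvd_prime_iff_eq hp.out hq.out).mp h4)
    · exact hv h4
  · intro i hi hi0
    rw [hinner i, hN (z ^ i) (ho2 i (Nat.pos_of_ne_zero hi0) (Finset.mem_range.mp hi)), mul_zero]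
  · intro h
    exact absurd (Finset.mem_range.mpr (by omega)) h

end AbstractThms

section Subgrp

variable {p q : ℕ} [hp : Fact p.Prime] [hq : Fact q.Prime]
variable {G : Type*} [Group G]

theorem orderOf_eq_of_transitive_group (A : Subgroup G) [A.Normal] [IsMulCommutative A] [Finite A]
    (hexp : ∀ u ∈ A, u ^ p = 1) (hnt : A ≠ ⊥) (hpq : p ≠ q)
    (x : G) (hx : x ^ q = 1) (hfix : ∀ u ∈ A, x * u * x⁻¹ = u → u = 1)
    (htrans : ∀ v ∈ A, ∀ w ∈ A, v ≠ 1 → w ≠ 1 → ∃ (α : G →* G) (j : ℕ), Function.Injective α ∧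
      (∀ u ∈ A, α u ∈ A) ∧ α v = w ∧ ∀ u ∈ A, α (x * u * x⁻¹) = x ^ j * α u * (x ^ j)⁻¹)
    (hpow : ∀ j, 0 < j → j < q → ∃ α : G →* G, Function.Injective α ∧
      (∀ u ∈ A, α u ∈ A) ∧ ∀ u ∈ A, α (x * u * x⁻¹) = x ^ j * α u * (x ^ j)⁻¹) :
    orderOf (p : ZMod q) = q - 1 := by
  haveI : Nontrivial A := (Subgroup.nontrivial_iff_ne_bot A).mpr hnt
  have hXq : (MulAut.conjNormal x : MulAut A) ^ q = 1 := by
    rw [← map_pow, hx, map_one]
  refine orderOf_eq_of_transitive_mul (P := A) (fun u => Subtype.ext (hexp u u.2)) hpq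
    (MulAut.conjNormal x) hXq ?_ ?_ ?_
  · intro u hu
    exact Subtype.ext (hfix u u.2 (by rw [← MulAut.conjNormal_apply, hu]))
  · intro v w hv hw
    obtain ⟨α, j, hinj, hA, hvw, hconj⟩ := htrans v v.2 w w.2
      (fun h => hv (Subtype.ext h)) (fun h => hw (Subtype.ext h))
    refine ⟨(α.comp A.subtype).codRestrict A (fun u => hA u u.2), j, ?_, Subtype.ext hvw,
      fun u => ?_⟩
    · intro a b hab
      exact Subtype.ext (hinj (Subtype.ext_iff.mp hab))
    · apply Subtype.ext
      rw [← map_pow]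
      simp only [MulAut.conjNormal_apply]
      exact hconj u u.2
  · intro j hj0 hjq
    obtain ⟨α, hinj, hA, hconj⟩ := hpow j hj0 hjq
    refine ⟨(α.comp A.subtype).codRestrict A (fun u => hA u u.2), ?_, fun u => ?_⟩
    · intro a b hab
      exact Subtype.ext (hinj (Subtype.ext_iff.mp hab))
    · apply Subtype.ext
      rw [← map_pow]
      simp only [MulAut.conjNormal_apply]
      exact hconj u u.2

theorem exists_mulEquiv_of_primitive_root_group (A : Subgroup G) [A.Normal] [IsMulCommutative A]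
    [Finite A] (hexp : ∀ u ∈ A, u ^ p = 1) (hpq : p ≠ q) (hord : orderOf (p : ZMod q) = q - 1)
    (x : G) (hx : x ^ q = 1)
    (hfix : ∀ j, 0 < j → j < q → ∀ u ∈ A, x ^ j * u * (x ^ j)⁻¹ = u → u = 1) :
    (∀ v w : A, v ≠ 1 → w ≠ 1 → ∃ B : A ≃* A, B v = w ∧
      ∀ u : A, B (MulAut.conjNormal x u) = MulAut.conjNormal x (B u)) ∧
    (∀ j, 0 < j → j < q → ∃ B : A ≃* A,
      ∀ u : A, B (MulAut.conjNormal x u) = MulAut.conjNormal (x ^ j) (B u)) := by
  have hXq : (MulAut.conjNormal x : MulAut A) ^ q = 1 := by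
    rw [← map_pow, hx, map_one]
  obtain ⟨h1, h2⟩ := exists_mulEquiv_of_primitive_root_mul (P := A)
    (fun u => Subtype.ext (hexp u u.2)) hpq hord (MulAut.conjNormal x) hXq
    (by
      intro j hj0 hjq u hu
      rw [← map_pow] at hu
      exact Subtype.ext (hfix j hj0 hjq u u.2 (by rw [← MulAut.conjNormal_apply, hu])))
  refine ⟨h1, fun j hj0 hjq => ?_⟩
  obtain ⟨B, hB⟩ := h2 j hj0 hjq
  exact ⟨B, fun u => by rw [hB u, ← map_pow]⟩

theorem false_of_commuting_pair_group (A : Subgroup G) [A.Normal] [IsMulCommutative A]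
    (hexp : ∀ u ∈ A, u ^ p = 1) (hnt : A ≠ ⊥) (hpq : p ≠ q) (a z : G) (haz : Commute a z)
    (hfpf : ∀ c : G, orderOf c = q → ∀ u ∈ A, c * u * c⁻¹ = u → u = 1)
    (ho1 : ∀ k, k < q → orderOf (a * z ^ k) = q)
    (ho2 : ∀ i, 0 < i → i < q → orderOf (z ^ i) = q) : False := by
  haveI : Nontrivial A := (Subgroup.nontrivial_iff_ne_bot A).mpr hnt
  exact false_of_commuting_pair_mul (P := A) (p := p) (q := q)
    (fun u => Subtype.ext (hexp u u.2)) hpq
    (MulAut.conjNormal (H := A)) a z haz
    (fun c hc u hu => Subtype.ext (hfpf c hc u u.2 (by rw [← MulAut.conjNormal_apply, hu])))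
    ho1 ho2

theorem exists_conj_eq_mul (A : Subgroup G) [hA : A.Normal] [Finite A] (k : G)
    (hk : ∀ w ∈ A, k * w * k⁻¹ = w → w = 1) (u : G) (hu : u ∈ A) :
    ∃ w ∈ A, w * k * w⁻¹ = u * k := by
  have hmem : ∀ w : A, (w : G) * k * (w : G)⁻¹ * k⁻¹ ∈ A := by
    intro w
    have h1 : k * (w : G)⁻¹ * k⁻¹ ∈ A := hA.conj_mem _ (A.inv_mem w.2) k
    have h2 := A.mul_mem w.2 h1
    have e : (w : G) * k * (w : G)⁻¹ * k⁻¹ = (w : G) * (k * (w : G)⁻¹ * k⁻¹) := by group
    rw [e]; exact h2
  let f : A → A := fun w => ⟨_, hmem w⟩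
  have hinj : Function.Injective f := by
    intro w w' h
    have h1 : (w : G) * k * (w : G)⁻¹ * k⁻¹ = (w' : G) * k * (w' : G)⁻¹ * k⁻¹ :=
      congrArg Subtype.val h
    have h2 : (w : G) * k * (w : G)⁻¹ = (w' : G) * k * (w' : G)⁻¹ := mul_right_cancel h1
    have h3 : k * ((w' : G)⁻¹ * w) * k⁻¹ = (w' : G)⁻¹ * w := by
      have e : (w' : G)⁻¹ * w * k = k * ((w' : G)⁻¹ * w) := by
        calc (w' : G)⁻¹ * w * k = (w' : G)⁻¹ * ((w : G) * k * (w : G)⁻¹) * w := by group
          _ = (w' : G)⁻¹ * ((w' : G) * k * (w' : G)⁻¹) * w := by rw [h2]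
          _ = k * ((w' : G)⁻¹ * w) := by group
      rw [← e]; group
    have h4 := hk _ (A.mul_mem (A.inv_mem w'.2) w.2) h3
    exact Subtype.ext (inv_mul_eq_one.mp h4).symm
  obtain ⟨w, hw⟩ := Finite.surjective_of_injective hinj ⟨u, hu⟩
  refine ⟨w, w.2, ?_⟩
  have h1 : (w : G) * k * (w : G)⁻¹ * k⁻¹ = u := congrArg Subtype.val hw
  rw [← h1]; group

theorem exists_mulAut_of_semiconj [Finite G] (A : Subgroup G) [A.Normal] (x : G)
    (hc : A.IsComplement' (Subgroup.zpowers x)) (B : A ≃* A) (j : ℕ)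
    (hj : j.Coprime (orderOf x))
    (hB : ∀ u : A, B (MulAut.conjNormal x u) = MulAut.conjNormal (x ^ j) (B u)) :
    ∃ α : MulAut G, (∀ u : A, α u = B u) ∧ α x = x ^ j := by
  classical
  have hBpow : ∀ i : ℕ, ∀ u : A,
      B (MulAut.conjNormal (x ^ i) u) = MulAut.conjNormal ((x ^ i) ^ j) (B u) := by
    intro i
    induction i with
    | zero => intro u; simp
    | succ i ih =>
      intro u
      have e1 : (x ^ (i + 1)) ^ j = (x ^ i) ^ j * x ^ j := by
        rw [← pow_mul, ← pow_mul, ← pow_add]; congr 1; ring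
      rw [e1, pow_succ, map_mul, map_mul, MulAut.mul_apply, MulAut.mul_apply, ih, hB]
  let fgHom : Subgroup.zpowers x →* Subgroup.zpowers x := powMonoidHom j
  have hfg_bij : Function.Bijective fgHom := by
    have hcop : (Nat.card (Subgroup.zpowers x)).Coprime j := by
      rw [Nat.card_zpowers]; exact hj.symm
    exact (powCoprime hcop).bijective
  let fg : Subgroup.zpowers x ≃* Subgroup.zpowers x := MulEquiv.ofBijective fgHom hfg_bij
  have hfg : ∀ k : Subgroup.zpowers x, ((fg k : Subgroup.zpowers x) : G) = (k : G) ^ j :=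
    fun k => rfl
  let e := SemidirectProduct.mulEquivSubgroup hc
  have hcompat : ∀ k : Subgroup.zpowers x,
      (((A.normalizerMonoidHom).comp
        (Subgroup.inclusion (A.normalizer_eq_top ▸ le_top))) k).trans B
      = B.trans (((A.normalizerMonoidHom).comp
        (Subgroup.inclusion (A.normalizer_eq_top ▸ le_top))) (fg k)) := by
    intro k
    obtain ⟨i, hi⟩ := (mem_powers_iff_mem_zpowers.mpr k.2)
    have hi' : x ^ i = (k : G) := hi
    ext u
    have h1 := hBpow i u
    rw [hi'] at h1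
    have h2 := congrArg Subtype.val h1
    simp only [MulAut.conjNormal_apply] at h2
    exact h2
  let α : MulAut G := e.symm.trans ((SemidirectProduct.congr B fg hcompat).trans e)
  have hinl : ∀ u : A, e.symm (u : G) = SemidirectProduct.inl u := fun u =>
    e.symm_apply_eq.mpr (by simp [e])
  have hinr : ∀ k : Subgroup.zpowers x, e.symm (k : G) = SemidirectProduct.inr k := fun k =>
    e.symm_apply_eq.mpr (by simp [e])
  refine ⟨α, fun u => ?_, ?_⟩
  · show e (SemidirectProduct.congr B fg hcompat (e.symm (u : G))) = B u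
    rw [hinl]
    simp [e]
  · show e (SemidirectProduct.congr B fg hcompat (e.symm x)) = x ^ j
    have h2 : e.symm x = SemidirectProduct.inr ⟨x, Subgroup.mem_zpowers x⟩ :=
      hinr ⟨x, Subgroup.mem_zpowers x⟩
    rw [h2]
    simp [e, hfg]

end Subgrp

end Cfsg.Agent.Lib.helper71.ThreeOrb
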