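import Mathlib
import Cfsg.Agent.Lib.helper71.ThreeOrbGrp
import Cfsg.Agent.Lib.helper4.BurnsidePQ

set_option autoImplicit false
set_option linter.style.haveILetI false

namespace Cfsg.Agent.Lib.helper71.ThreeOrb

open scoped IsMulCommutative

section Main

variable {G : Type*} [Group G] [Finite G]

omit [Finite G] in
theorem mk_orbit_eq_iff (g h : G) :
    (Quotient.mk'' g : MulAction.orbitRel.Quotient (MulAut G) G) = Quotient.mk'' h
      ↔ ∃ α : MulAut G, α h = g := by
  rw [Quotient.eq'', MulAction.orbitRel_apply, MulAction.mem_orbit_iff]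
  simp [MulAut.smul_def]

omit [Finite G] in
theorem orderOf_eq_of_mk_orbit_eq (g h : G)
    (hgh : (Quotient.mk'' g : MulAction.orbitRel.Quotient (MulAut G) G) = Quotient.mk'' h) :
    orderOf g = orderOf h := by
  obtain ⟨α, rfl⟩ := (mk_orbit_eq_iff g h).mp hgh
  exact MulEquiv.orderOf_eq α h

theorem fwd_core (p q : ℕ) [hp : Fact p.Prime] [hq : Fact q.Prime] (hpq : p ≠ q)
    (horders : ∀ g : G, orderOf g = 1 ∨ orderOf g = p ∨ orderOf g = q)
    (htr : ∀ g h : G, orderOf g = orderOf h → ∃ α : MulAut G, α g = h)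
    (A : Subgroup G) (hAchar : ∀ α : MulAut G, ∀ g ∈ A, α g ∈ A)
    (hAcomm : ∀ u ∈ A, ∀ v ∈ A, u * v = v * u)
    (c : G) (hcA : c ∈ A) (hc : orderOf c = p) (b : G) (hb : orderOf b = q) :
    ∃ n : ℕ, 1 ≤ n ∧ Nat.card G = p ^ n * q ∧
      (∀ P : Sylow p G, (P : Subgroup G).Normal ∧
        (IsMulCommutative (P : Subgroup G) ∧ ∀ a ∈ (P : Subgroup G), a ^ p = 1)) ∧
      orderOf (p : ZMod q) = q - 1 ∧
      ∀ x y : G, orderOf x = q → orderOf y = p → x * y * x⁻¹ ≠ y := by
  classical
  have hp1 : p ≠ 1 := hp.out.ne_one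
  have hq1 : q ≠ 1 := hq.out.ne_one
  have hp2 := hp.out.two_le
  have hq2 := hq.out.two_le
  have hfpf : ∀ x y : G, orderOf x = q → orderOf y = p → x * y * x⁻¹ ≠ y := by
    intro x y hx hy h
    have hcomm : Commute x y := by
      have e : x * y = y * x := by
        calc x * y = x * y * x⁻¹ * x := by group
          _ = y * x := by rw [h]
      exact e
    have hcop : (orderOf x).Coprime (orderOf y) := by
      rw [hx, hy]; exact (Nat.coprime_primes hq.out hp.out).mpr (Ne.symm hpq)
    have ho := hcomm.orderOf_mul_eq_mul_orderOf_of_coprime hcop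
    rw [hx, hy] at ho
    rcases horders (x * y) with h1 | h1 | h1 <;> rw [h1] at ho <;> nlinarith
  have hpA : ∀ g : G, orderOf g = p → g ∈ A := by
    intro g hg
    obtain ⟨α, hα⟩ := htr c g (hc.trans hg.symm)
    rw [← hα]; exact hAchar α c hcA
  have hAq : ∀ u ∈ A, orderOf u ≠ q := by
    intro u hu huq
    refine hfpf u c huq hc ?_
    rw [hAcomm u hu c hcA]; group
  have hAexp : ∀ u ∈ A, u ^ p = 1 := by
    intro u hu
    rcases horders u with h1 | h1 | h1
    · rw [orderOf_eq_one_iff] at h1; rw [h1, one_pow]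
    · rw [← h1]; exact pow_orderOf_eq_one u
    · exact absurd h1 (hAq u hu)
  haveI hAnormal : A.Normal := ⟨fun g hg k => by
    have h1 := hAchar (MulAut.conj k) g hg
    simpa [MulAut.conj_apply] using h1⟩
  haveI : IsMulCommutative A := ⟨⟨fun a b => Subtype.ext (hAcomm a a.2 b b.2)⟩⟩
  have hAnt : A ≠ ⊥ := by
    intro h
    rw [h, Subgroup.mem_bot] at hcA
    rw [hcA, orderOf_one] at hc
    exact hp1 hc.symm
  have hApg : IsPGroup p A := by
    intro u
    refine ⟨1, ?_⟩
    rw [pow_one]; exact Subtype.ext (hAexp u u.2)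
  have hSyl : ∀ P : Sylow p G, (P : Subgroup G) = A := by
    intro P
    have hPA : (P : Subgroup G) ≤ A := by
      intro g hg
      obtain ⟨k, hk⟩ := P.isPGroup' ⟨g, hg⟩
      have hk' : g ^ p ^ k = 1 := congrArg Subtype.val hk
      rcases horders g with h1 | h1 | h1
      · rw [orderOf_eq_one_iff] at h1; rw [h1]; exact A.one_mem
      · exact hpA g h1
      · exfalso
        have hdvd : q ∣ p ^ k := h1 ▸ orderOf_dvd_of_pow_eq_one hk'
        exact hpq ((Nat.prime_dvd_prime_iff_eq hq.out hp.out).mp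
          (hq.out.dvd_of_dvd_pow hdvd)).symm
    exact (P.is_maximal' hApg hPA).symm
  have hbA : b ∉ A := fun h => hAq b h hb
  have hfpf' : ∀ c' : G, orderOf c' = q → ∀ u ∈ A, c' * u * c'⁻¹ = u → u = 1 := by
    intro c' hc' u hu h
    by_contra hu1
    exact hfpf c' u hc' (orderOf_eq_prime (hAexp u hu) hu1) h
  have hGAq : IsPGroup q (G ⧸ A) := by
    intro gbar
    obtain ⟨g, rfl⟩ := QuotientGroup.mk_surjective gbar
    refine ⟨1, ?_⟩
    rw [pow_one, ← QuotientGroup.mk_pow, QuotientGroup.eq_one_iff]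
    rcases horders g with h1 | h1 | h1
    · rw [orderOf_eq_one_iff] at h1; rw [h1, one_pow]; exact A.one_mem
    · exact A.pow_mem (hpA g h1) q
    · rw [← h1, pow_orderOf_eq_one]; exact A.one_mem
  obtain ⟨m, hm⟩ := IsPGroup.iff_card.mp hGAq
  obtain ⟨n, hn⟩ := IsPGroup.iff_card.mp hApg
  have hcardG : Nat.card G = p ^ n * q ^ m := by
    rw [← hn, ← hm, ← Subgroup.index_eq_card, Subgroup.card_mul_index]
  have hn1 : 1 ≤ n := by
    rcases Nat.eq_zero_or_pos n with h0 | h0
    · exfalso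
      rw [h0, pow_zero] at hn
      exact hAnt ((Subgroup.eq_bot_iff_card A).mpr hn)
    · exact h0
  have hm0 : m ≠ 0 := by
    intro h0
    rw [h0, pow_zero, ← Subgroup.index_eq_card, Subgroup.index_eq_one] at hm
    exact hbA (hm ▸ Subgroup.mem_top b)
  have hm1 : m = 1 := by
    by_contra hm1
    have hm2 : 2 ≤ m := by omega
    obtain ⟨Q⟩ := (inferInstance : Nonempty (Sylow q G))
    have hQcard : Nat.card Q = q ^ m := by
      rw [Sylow.card_eq_multiplicity, hcardG]
      congr 1
      rw [Nat.factorization_mul (pow_ne_zero _ hp.out.ne_zero) (pow_ne_zero _ hq.out.ne_zero),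
        Nat.Prime.factorization_pow hp.out, Nat.Prime.factorization_pow hq.out]
      simp [hpq]
    have hQpg : IsPGroup q Q := Q.isPGroup'
    haveI : Nontrivial Q := by
      rw [← Finite.one_lt_card_iff_nontrivial, hQcard]
      exact Nat.one_lt_pow (by omega) hq.out.one_lt
    haveI := hQpg.center_nontrivial
    obtain ⟨z', hz'⟩ := exists_ne (1 : Subgroup.center Q)
    have hQord : ∀ g ∈ (Q : Subgroup G), g ≠ 1 → orderOf g = q := by
      intro g hg hg1
      obtain ⟨k, hk⟩ := hQpg ⟨g, hg⟩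
      have hk' : g ^ q ^ k = 1 := congrArg Subtype.val hk
      rcases horders g with h1 | h1 | h1
      · exact absurd (orderOf_eq_one_iff.mp h1) hg1
      · exfalso
        have hdvd : p ∣ q ^ k := h1 ▸ orderOf_dvd_of_pow_eq_one hk'
        exact hpq ((Nat.prime_dvd_prime_iff_eq hp.out hq.out).mp (hp.out.dvd_of_dvd_pow hdvd))
      · exact h1
    set z : G := ((z' : Q) : G) with hz
    have hzQ : z ∈ (Q : Subgroup G) := (z' : Q).2
    have hz1 : z ≠ 1 := by
      intro h
      apply hz'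
      apply Subtype.ext
      apply Subtype.ext
      exact h
    have hzord : orderOf z = q := hQord z hzQ hz1
    obtain ⟨a, haQ, haz⟩ : ∃ a ∈ (Q : Subgroup G), a ∉ Subgroup.zpowers z := by
      by_contra hcon
      push Not at hcon
      have hle : (Q : Subgroup G) ≤ Subgroup.zpowers z := hcon
      have h1 := Subgroup.card_le_of_le hle
      rw [hQcard, Nat.card_zpowers, hzord] at h1
      have h2 : q ^ 2 ≤ q ^ m := Nat.pow_le_pow_right hq.out.pos hm2
      nlinarith
    have hcomm : Commute a z := by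
      have h1 := Subgroup.mem_center_iff.mp z'.2 ⟨a, haQ⟩
      exact congrArg Subtype.val h1
    refine false_of_commuting_pair_group (p := p) (q := q) A hAexp hAnt hpq a z hcomm hfpf' ?_ ?_
    · intro k hk
      apply hQord _ ((Q : Subgroup G).mul_mem haQ ((Q : Subgroup G).pow_mem hzQ k))
      intro h
      apply haz
      have e : a = (z ^ k)⁻¹ := eq_inv_of_mul_eq_one_left h
      rw [e]
      exact (Subgroup.zpowers z).inv_mem ((Subgroup.zpowers z).pow_mem (Subgroup.mem_zpowers z) k)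
    · intro i hi0 hiq
      apply hQord _ ((Q : Subgroup G).pow_mem hzQ i)
      intro h
      have h1 := orderOf_dvd_of_pow_eq_one h
      rw [hzord] at h1
      exact absurd (Nat.le_of_dvd hi0 h1) (by omega)
  rw [hm1, pow_one] at hcardG hm
  refine ⟨n, hn1, hcardG, ?_, ?_, hfpf⟩
  · intro P
    rw [hSyl P]
    exact ⟨hAnormal, inferInstance, hAexp⟩
  · have hbq : b ^ q = 1 := hb ▸ pow_orderOf_eq_one b
    refine orderOf_eq_of_transitive_group (p := p) (q := q) A hAexp hAnt hpq b hbq
      (hfpf' b hb) ?_ ?_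
    · intro v hv w hw hv1 hw1
      obtain ⟨α, hα⟩ := htr v w
        ((orderOf_eq_prime (hAexp v hv) hv1).trans (orderOf_eq_prime (hAexp w hw) hw1).symm)
      have hb1 : (QuotientGroup.mk b : G ⧸ A) ≠ 1 := by
        intro h
        exact hbA ((QuotientGroup.eq_one_iff b).mp h)
      have hmem : (QuotientGroup.mk (α b) : G ⧸ A) ∈ Subgroup.zpowers (QuotientGroup.mk b : G ⧸ A) :=
        mem_zpowers_of_prime_card hm hb1
      obtain ⟨j, hj⟩ := mem_powers_iff_mem_zpowers.mpr hmem
      have hj' : (QuotientGroup.mk (b ^ j) : G ⧸ A) = QuotientGroup.mk (α b) := hj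
      have hw' : (b ^ j)⁻¹ * α b ∈ A := QuotientGroup.eq.mp hj'
      refine ⟨α.toMonoidHom, j, α.injective, hAchar α, hα, ?_⟩
      intro u hu
      have e1 : α b = b ^ j * ((b ^ j)⁻¹ * α b) := by group
      have e2 := hAcomm _ hw' _ (hAchar α u hu)
      show α (b * u * b⁻¹) = b ^ j * α u * (b ^ j)⁻¹
      rw [map_mul, map_mul, map_inv]
      calc α b * α u * (α b)⁻¹
          = b ^ j * ((b ^ j)⁻¹ * α b * α u) * (α b)⁻¹ := by group
        _ = b ^ j * (α u * ((b ^ j)⁻¹ * α b)) * (α b)⁻¹ := by rw [e2]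
        _ = b ^ j * α u * (b ^ j)⁻¹ := by group
    · intro j hj0 hjq
      have hbj : orderOf (b ^ j) = q := by
        apply orderOf_eq_prime
        · rw [← pow_mul, mul_comm, pow_mul, hbq, one_pow]
        · intro h
          have h1 := orderOf_dvd_of_pow_eq_one h
          rw [hb] at h1
          exact absurd (Nat.le_of_dvd hj0 h1) (by omega)
      obtain ⟨α, hα⟩ := htr b (b ^ j) (hb.trans hbj.symm)
      refine ⟨α.toMonoidHom, α.injective, hAchar α, ?_⟩
      intro u hu
      show α (b * u * b⁻¹) = b ^ j * α u * (b ^ j)⁻¹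
      rw [map_mul, map_mul, map_inv, hα]

theorem fwd (hnpp : ¬ IsPrimePow (Nat.card G)) (hnt : Nat.card G ≠ 1)
    (h3 : Nat.card (MulAction.orbitRel.Quotient (MulAut G) G) = 3) :
    ∃ (p q n : ℕ) (_ : Fact p.Prime) (_ : Fact q.Prime), p ≠ q ∧ 1 ≤ n ∧
      Nat.card G = p ^ n * q ∧
      (∀ P : Sylow p G, (P : Subgroup G).Normal ∧
        (IsMulCommutative (P : Subgroup G) ∧ ∀ a ∈ (P : Subgroup G), a ^ p = 1)) ∧
      orderOf (p : ZMod q) = q - 1 ∧
      ∀ x y : G, orderOf x = q → orderOf y = p → x * y * x⁻¹ ≠ y := by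
  classical
  have hcard0 : Nat.card G ≠ 0 := Nat.card_pos.ne'
  obtain ⟨p, hp, hpdvd⟩ := Nat.exists_prime_and_dvd hnt
  obtain ⟨q, hq, hqdvd, hqp⟩ : ∃ q, q.Prime ∧ q ∣ Nat.card G ∧ q ≠ p := by
    by_contra hcon
    push Not at hcon
    apply hnpp
    have h1 := Nat.eq_prime_pow_of_unique_prime_dvd hcard0 (fun {d} hd hdvd => hcon d hd hdvd)
    rw [h1]
    refine hp.isPrimePow.pow ?_
    intro h0
    rw [h0, pow_zero] at h1
    exact hnt h1
  haveI : Fact p.Prime := ⟨hp⟩
  haveI : Fact q.Prime := ⟨hq⟩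
  obtain ⟨a, ha⟩ := exists_prime_orderOf_dvd_card' (G := G) p hpdvd
  obtain ⟨b, hb⟩ := exists_prime_orderOf_dvd_card' (G := G) q hqdvd
  let mk : G → MulAction.orbitRel.Quotient (MulAut G) G := Quotient.mk''
  have hmk : ∀ g h : G, mk g = mk h ↔ ∃ α : MulAut G, α h = g := mk_orbit_eq_iff
  have hmkord : ∀ g h : G, mk g = mk h → orderOf g = orderOf h := orderOf_eq_of_mk_orbit_eq
  have hp1 := hp.ne_one
  have hq1 := hq.ne_one
  haveI : Fintype (MulAction.orbitRel.Quotient (MulAut G) G) := Fintype.ofFinite _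
  have hS : ({mk 1, mk a, mk b} : Finset (MulAction.orbitRel.Quotient (MulAut G) G))
      = Finset.univ := by
    apply Finset.eq_univ_of_card
    rw [← Nat.card_eq_fintype_card, h3, Finset.card_insert_of_notMem, Finset.card_pair]
    · intro h
      have h1 := hmkord _ _ h
      rw [ha, hb] at h1
      exact hqp h1.symm
    · simp only [Finset.mem_insert, Finset.mem_singleton]
      rintro (h | h)
      · have h1 := hmkord _ _ h
        rw [orderOf_one, ha] at h1
        exact hp1 h1.symm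
      · have h1 := hmkord _ _ h
        rw [orderOf_one, hb] at h1
        exact hq1 h1.symm
  have hclass : ∀ g : G, mk g = mk 1 ∨ mk g = mk a ∨ mk g = mk b := by
    intro g
    have h1 : mk g ∈ ({mk 1, mk a, mk b} : Finset (MulAction.orbitRel.Quotient (MulAut G) G)) :=
      hS ▸ Finset.mem_univ _
    simpa using h1
  have horders : ∀ g : G, orderOf g = 1 ∨ orderOf g = p ∨ orderOf g = q := by
    intro g
    rcases hclass g with h | h | h
    · left; rw [hmkord _ _ h, orderOf_one]
    · right; left; rw [hmkord _ _ h, ha]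
    · right; right; rw [hmkord _ _ h, hb]
  have htr : ∀ g h : G, orderOf g = orderOf h → ∃ α : MulAut G, α g = h := by
    intro g h hgh
    have key : mk h = mk g := by
      rcases hclass g with h1 | h1 | h1 <;> rcases hclass h with h2 | h2 | h2 <;>
        first
        | exact h2.trans h1.symm
        | (exfalso
           have e1 := hmkord _ _ h1
           have e2 := hmkord _ _ h2
           simp only [orderOf_one, ha, hb] at e1 e2
           omega)
    exact (hmk h g).mp key
  -- solvability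
  obtain ⟨e₁, n', hn'dvd, hn'⟩ := Nat.exists_eq_pow_mul_and_not_dvd hcard0 p hp.ne_one
  have hn'0 : n' ≠ 0 := by
    rintro rfl
    rw [mul_zero] at hn'
    exact hcard0 hn'
  have hn'q : n' = q ^ n'.primeFactorsList.length := by
    apply Nat.eq_prime_pow_of_unique_prime_dvd hn'0
    intro d hd hdvd
    haveI : Fact d.Prime := ⟨hd⟩
    obtain ⟨x, hx⟩ := exists_prime_orderOf_dvd_card' (G := G) d
      (hdvd.trans (hn' ▸ Dvd.intro_left _ rfl))
    rcases horders x with h | h | h
    · rw [hx] at h; exact absurd h hd.ne_one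
    · exfalso; rw [hx] at h; exact hn'dvd (h ▸ hdvd)
    · rw [hx] at h; exact h
  have hsolv : Group.IsSolvable G :=
    Cfsg.Agent.Lib.helper4.isSolvable_of_card_eq_prime_pow_mul_prime_pow p q e₁
      n'.primeFactorsList.length hp hq (by rw [← hn'q]; exact hn')
  haveI : Nontrivial G := Finite.one_lt_card_iff_nontrivial.mp (by omega)
  obtain ⟨A, hAchar, hAcomm, hAnt⟩ : ∃ A : Subgroup G, (∀ α : MulAut G, ∀ g ∈ A, α g ∈ A) ∧
      (∀ u ∈ A, ∀ v ∈ A, u * v = v * u) ∧ A ≠ ⊥ := by
    obtain ⟨k, hk⟩ := hsolv.solvable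
    induction k with
    | zero =>
      exfalso
      rw [derivedSeries_zero] at hk
      exact top_ne_bot hk
    | succ k ih =>
      by_cases hk0 : derivedSeries G k = ⊥
      · exact ih hk0
      · refine ⟨derivedSeries G k, ?_, ?_, hk0⟩
        · intro α g hg
          have h1 := Subgroup.characteristic_iff_map_le.mp
            (derivedSeries_characteristic (G := G) k) α
          exact h1 (Subgroup.mem_map_of_mem _ hg)
        · have h0 : ⁅derivedSeries G k, derivedSeries G k⁆ = ⊥ := by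
            rw [← derivedSeries_succ]; exact hk
          have h1 := Subgroup.commutator_eq_bot_iff_le_centralizer.mp h0
          intro u hu v hv
          exact ((Subgroup.mem_centralizer_iff.mp (h1 hu)) v hv).symm
  obtain ⟨c', hc'⟩ := (Subgroup.ne_bot_iff_exists_ne_one (H := A)).mp hAnt
  have hc1 : (c' : G) ≠ 1 := fun h => hc' (Subtype.ext h)
  rcases horders (c' : G) with h | h | h
  · exact absurd (orderOf_eq_one_iff.mp h) hc1
  · obtain ⟨n, hn⟩ := fwd_core p q (Ne.symm hqp) horders htr A hAchar hAcomm c' c'.2 h b hb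
    exact ⟨p, q, n, inferInstance, inferInstance, Ne.symm hqp, hn⟩
  · obtain ⟨n, hn⟩ := fwd_core q p hqp
      (fun g => by rcases horders g with h1 | h1 | h1 <;> simp [h1])
      htr A hAchar hAcomm c' c'.2 h a ha
    exact ⟨q, p, n, inferInstance, inferInstance, hqp, hn⟩

theorem bwd (p q n : ℕ) [hp : Fact p.Prime] [hq : Fact q.Prime] (hpq : p ≠ q) (hn : 1 ≤ n)
    (hcard : Nat.card G = p ^ n * q)
    (hSyl : ∀ P : Sylow p G, (P : Subgroup G).Normal ∧
      (IsMulCommutative (P : Subgroup G) ∧ ∀ a ∈ (P : Subgroup G), a ^ p = 1))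
    (hord : orderOf (p : ZMod q) = q - 1)
    (hfpf : ∀ x y : G, orderOf x = q → orderOf y = p → x * y * x⁻¹ ≠ y) :
    Nat.card (MulAction.orbitRel.Quotient (MulAut G) G) = 3 := by
  classical
  obtain ⟨P⟩ := (inferInstance : Nonempty (Sylow p G))
  obtain ⟨hPn, hPc, hPexp⟩ := hSyl P
  have hAcard : Nat.card (P : Subgroup G) = p ^ n := by
    rw [Sylow.card_eq_multiplicity, hcard]
    congr 1
    rw [Nat.factorization_mul (pow_ne_zero _ hp.out.ne_zero) hq.out.ne_zero,
      Nat.Prime.factorization_pow hp.out, Nat.Prime.factorization hq.out]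
    simp [Ne.symm hpq]
  set A : Subgroup G := (P : Subgroup G) with hA
  haveI : A.Normal := hPn
  haveI : IsMulCommutative A := hPc
  obtain ⟨x, hx⟩ := exists_prime_orderOf_dvd_card' (G := G) q (hcard ▸ Dvd.intro_left _ rfl)
  have hKcard : Nat.card (Subgroup.zpowers x) = q := by rw [Nat.card_zpowers, hx]
  have hcop : (Nat.card A).Coprime (Nat.card (Subgroup.zpowers x)) := by
    rw [hAcard, hKcard]
    exact Nat.Coprime.pow_left n ((Nat.coprime_primes hp.out hq.out).mpr hpq)
  have hc : A.IsComplement' (Subgroup.zpowers x) :=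
    Subgroup.isComplement'_of_coprime (by rw [hAcard, hKcard, hcard]) hcop
  have hxq : x ^ q = 1 := hx ▸ pow_orderOf_eq_one x
  have hAord : ∀ u ∈ A, u ≠ 1 → orderOf u = p := fun u hu hu1 =>
    orderOf_eq_prime (hPexp u hu) hu1
  have hcopj : ∀ j, 0 < j → j < q → Nat.Coprime q j := fun j hj0 hjq =>
    (Nat.Prime.coprime_iff_not_dvd hq.out).mpr (Nat.not_dvd_of_pos_of_lt hj0 hjq)
  have hxj : ∀ j, 0 < j → j < q → orderOf (x ^ j) = q := by
    intro j hj0 hjq
    rw [Nat.Coprime.orderOf_pow (by rw [hx]; exact hcopj j hj0 hjq), hx]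
  have hfix : ∀ j, 0 < j → j < q → ∀ u ∈ A, x ^ j * u * (x ^ j)⁻¹ = u → u = 1 := by
    intro j hj0 hjq u hu h
    by_contra hu1
    exact hfpf (x ^ j) u (hxj j hj0 hjq) (hAord u hu hu1) h
  obtain ⟨hT1, hT2⟩ := exists_mulEquiv_of_primitive_root_group (p := p) (q := q) A hPexp hpq
    hord x hxq hfix
  have hAnt : A ≠ ⊥ := by
    intro h
    have h1 := (Subgroup.eq_bot_iff_card A).mp h
    rw [hAcard] at h1
    have h2 : p ^ 1 ≤ p ^ n := Nat.pow_le_pow_right hp.out.pos hn
    rw [pow_one] at h2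
    have h3 := hp.out.two_le
    omega
  obtain ⟨v', hv'⟩ := (Subgroup.ne_bot_iff_exists_ne_one (H := A)).mp hAnt
  set v₀ : G := (v' : G) with hv₀
  have hv₀A : v₀ ∈ A := v'.2
  have hv₀1 : v₀ ≠ 1 := fun h => hv' (Subtype.ext h)
  let mk : G → MulAction.orbitRel.Quotient (MulAut G) G := Quotient.mk''
  have hmk : ∀ g h : G, mk g = mk h ↔ ∃ α : MulAut G, α h = g := mk_orbit_eq_iff
  have hmkord : ∀ g h : G, mk g = mk h → orderOf g = orderOf h := orderOf_eq_of_mk_orbit_eq
  have hcl1 : ∀ g ∈ A, g ≠ 1 → mk g = mk v₀ := by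
    intro g hg hg1
    obtain ⟨B, hBv, hB⟩ := hT1 v' ⟨g, hg⟩ hv' (fun h => hg1 (congrArg Subtype.val h))
    obtain ⟨α, hα1, hα2⟩ := exists_mulAut_of_semiconj A x hc B 1 (Nat.coprime_one_left _)
      (by simpa using hB)
    rw [hmk]
    refine ⟨α, ?_⟩
    have h1 := hα1 v'
    rw [hBv] at h1
    exact h1
  have hcl2 : ∀ g, g ∉ A → mk g = mk x := by
    intro g hg
    obtain ⟨⟨u, k⟩, huk⟩ := hc.2 g
    have huk' : (u : G) * (k : G) = g := huk
    have huA : (u : G) ∈ A := u.2
    obtain ⟨i, hi⟩ := mem_powers_iff_mem_zpowers.mpr k.2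
    have hi' : x ^ i = (k : G) := hi
    have hkj : (k : G) = x ^ (i % q) := by rw [← hi', ← hx, pow_mod_orderOf]
    have hj0 : 0 < i % q := by
      rcases Nat.eq_zero_or_pos (i % q) with h0 | h0
      · exfalso
        rw [h0, pow_zero] at hkj
        apply hg
        rw [← huk', hkj, mul_one]
        exact huA
      · exact h0
    have hjq : i % q < q := Nat.mod_lt _ hq.out.pos
    obtain ⟨B, hB⟩ := hT2 (i % q) hj0 hjq
    obtain ⟨α, hα1, hα2⟩ := exists_mulAut_of_semiconj A x hc B (i % q)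
      (by rw [hx]; exact (hcopj _ hj0 hjq).symm) hB
    obtain ⟨w, hwA, hw⟩ := exists_conj_eq_mul A (x ^ (i % q)) (hfix _ hj0 hjq) u huA
    rw [hmk]
    refine ⟨MulAut.conj w * α, ?_⟩
    rw [MulAut.mul_apply, hα2, MulAut.conj_apply, hw, ← hkj, huk']
  have hxA : x ∉ A := by
    intro hxA
    have h1 := orderOf_dvd_of_pow_eq_one (hPexp x hxA)
    rw [hx] at h1
    exact hpq ((Nat.prime_dvd_prime_iff_eq hq.out hp.out).mp h1).symm
  haveI : Fintype (MulAction.orbitRel.Quotient (MulAut G) G) := Fintype.ofFinite _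
  rw [Nat.card_eq_fintype_card, ← Finset.card_univ, Finset.card_eq_three]
  refine ⟨mk 1, mk v₀, mk x, ?_, ?_, ?_, ?_⟩
  · intro h
    have h1 := hmkord _ _ h
    rw [orderOf_one, hAord v₀ hv₀A hv₀1] at h1
    exact hp.out.ne_one h1.symm
  · intro h
    have h1 := hmkord _ _ h
    rw [orderOf_one, hx] at h1
    exact hq.out.ne_one h1.symm
  · intro h
    have h1 := hmkord _ _ h
    rw [hAord v₀ hv₀A hv₀1, hx] at h1
    exact hpq h1
  · ext c
    simp only [Finset.mem_univ, Finset.mem_insert, Finset.mem_singleton, true_iff]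
    induction c using Quotient.inductionOn' with
    | _ g =>
      show mk g = mk 1 ∨ mk g = mk v₀ ∨ mk g = mk x
      by_cases hg1 : g = 1
      · left; rw [hg1]
      by_cases hgA : g ∈ A
      · right; left; exact hcl1 g hgA hg1
      · right; right; exact hcl2 g hgA

end Main

end Cfsg.Agent.Lib.helper71.ThreeOrb
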